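import Mathlib
import Cfsg.Agent.Lib.helper46.DicksonMain

/-!
# The subgroup of `SL₂(F₉)` generated by two transvections (helper18)

For a field `F` of characteristic `3` and `lam ∈ F` with `lam ^ 2 = -1`, the subgroup of `SL₂(F)`
generated by `[[1,0],[1,1]]` and `[[1,lam],[0,1]]` has exactly `120` elements.  The proof is an
explicit certificate: elements of `F₃(lam)` are coded by naturals `a + 3 b ↦ a + b * lam`.
-/

set_option autoImplicit false

namespace Cfsg.Agent.Lib.helper18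

/-- Addition of codes. -/
def f9add (m n : ℕ) : ℕ := (m % 3 + n % 3) % 3 + 3 * ((m / 3 + n / 3) % 3)

/-- Multiplication of codes. -/
def f9mul (m n : ℕ) : ℕ :=
  ((m % 3) * (n % 3) + 2 * ((m / 3) * (n / 3))) % 3 +
    3 * (((m % 3) * (n / 3) + (m / 3) * (n % 3)) % 3)

/-- Multiplication of matrix codes. -/
def m9mul (x y : ℕ × ℕ × ℕ × ℕ) : ℕ × ℕ × ℕ × ℕ :=
  (f9add (f9mul x.1 y.1) (f9mul x.2.1 y.2.2.1), f9add (f9mul x.1 y.2.1) (f9mul x.2.1 y.2.2.2),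
    f9add (f9mul x.2.2.1 y.1) (f9mul x.2.2.2 y.2.2.1),
    f9add (f9mul x.2.2.1 y.2.1) (f9mul x.2.2.2 y.2.2.2))

/-- The codes of the 120 elements. -/
def f9codes : List (ℕ × ℕ × ℕ × ℕ) := [
  (1, 0, 0, 1), (1, 0, 1, 1), (1, 3, 0, 1), (1, 0, 2, 1), (1, 3, 1, 4), (4, 3, 1, 1),
  (1, 6, 0, 1), (1, 3, 2, 7), (4, 3, 5, 4), (1, 6, 1, 7), (7, 3, 2, 1), (4, 8, 1, 4),
  (7, 6, 1, 1), (4, 3, 6, 7), (1, 6, 2, 4), (7, 3, 6, 4), (4, 8, 5, 0), (7, 6, 8, 7),
  (7, 7, 2, 7), (0, 8, 5, 4), (4, 1, 1, 7), (4, 6, 2, 1), (7, 1, 1, 4), (7, 3, 4, 7),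
  (4, 8, 6, 8), (7, 6, 3, 4), (7, 7, 6, 5), (0, 8, 5, 0), (4, 1, 5, 8), (4, 6, 3, 7),
  (7, 1, 8, 5), (5, 7, 6, 7), (7, 2, 2, 4), (8, 8, 6, 4), (5, 1, 8, 7), (4, 2, 2, 7),
  (8, 1, 5, 4), (7, 5, 1, 7), (7, 7, 4, 0), (0, 8, 5, 8), (4, 1, 6, 6), (4, 6, 7, 4),
  (7, 1, 3, 3), (5, 7, 2, 5), (7, 2, 6, 3), (8, 8, 5, 0), (5, 1, 1, 8), (4, 2, 3, 6),
  (8, 1, 1, 5), (7, 5, 8, 0), (0, 7, 4, 7), (5, 3, 6, 8), (6, 2, 3, 4), (8, 3, 6, 5),
  (3, 1, 3, 7), (5, 6, 8, 5), (3, 2, 6, 7), (4, 4, 2, 4), (6, 1, 6, 4), (0, 5, 8, 7),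
  (5, 7, 4, 0), (7, 2, 4, 5), (8, 8, 1, 8), (5, 1, 3, 6), (4, 2, 7, 8), (8, 1, 6, 3),
  (7, 5, 3, 5), (0, 7, 4, 5), (5, 3, 2, 2), (6, 2, 0, 3), (8, 3, 5, 8), (3, 1, 6, 8),
  (5, 6, 1, 2), (3, 2, 0, 6), (4, 4, 3, 8), (6, 1, 3, 5), (0, 5, 8, 0), (0, 7, 4, 0),
  (5, 2, 6, 6), (8, 2, 7, 4), (6, 0, 3, 3), (2, 3, 2, 5), (3, 0, 3, 6), (2, 6, 1, 5),
  (5, 5, 8, 0), (5, 2, 4, 7), (8, 4, 3, 4), (6, 2, 6, 5), (5, 5, 3, 7), (0, 5, 8, 5),
  (5, 3, 4, 5), (8, 3, 1, 2), (3, 1, 0, 6), (5, 6, 3, 8), (3, 2, 3, 8), (4, 4, 7, 0),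
  (6, 1, 0, 3), (5, 2, 2, 8), (8, 2, 3, 3), (6, 0, 0, 3), (2, 3, 1, 8), (3, 0, 6, 6),
  (2, 6, 0, 2), (5, 5, 1, 5), (8, 4, 2, 8), (8, 6, 7, 8), (6, 0, 6, 3), (2, 0, 2, 2),
  (3, 0, 0, 6), (8, 6, 3, 5), (0, 4, 7, 4), (8, 2, 2, 5), (2, 3, 0, 2), (2, 6, 2, 8),
  (8, 4, 7, 0), (2, 0, 1, 2), (8, 6, 2, 2), (0, 4, 7, 8), (2, 0, 0, 2), (0, 4, 7, 0)]

/-- Parent indices of a breadth-first enumeration. -/
def f9par : List ℕ := [
  0, 0, 0, 1, 1, 2, 2, 3, 4, 4, 5, 5, 6, 7, 7, 8, 8, 9, 10, 11,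
  11, 12, 12, 13, 13, 14, 15, 16, 16, 17, 17, 18, 18, 19, 20, 21, 22, 22, 23, 24,
  24, 25, 25, 26, 26, 27, 28, 29, 30, 30, 31, 31, 32, 33, 34, 34, 35, 35, 36, 37,
  38, 38, 39, 40, 41, 42, 42, 43, 43, 44, 45, 46, 46, 47, 47, 48, 49, 50, 51, 52,
  52, 53, 54, 55, 55, 56, 57, 58, 59, 59, 60, 62, 63, 63, 64, 64, 65, 68, 69, 69,
  70, 71, 72, 72, 74, 79, 80, 81, 82, 83, 86, 87, 91, 93, 95, 100, 102, 104, 112, 114]

/-- Generator used at each step (`true` for the lower one). -/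
def f9gen : List Bool := [
  true, true, false, true, false, true, false, false, true, false, true, false, true, true, false, true, false, true, false, true,
  false, true, false, true, false, true, false, true, false, true, false, true, false, true, true, false, true, false, false, true,
  false, true, false, true, false, true, true, false, true, false, true, false, true, false, true, false, true, false, true, true,
  true, false, true, true, false, true, false, true, false, true, false, true, false, true, false, true, true, false, false, true,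
  false, true, false, true, false, true, true, false, true, false, false, false, true, false, true, false, true, false, true, false,
  true, false, true, false, true, false, true, false, true, true, true, true, true, true, true, false, true, true, false, true]

set_option maxRecDepth 100000 in
theorem f9codes_length : f9codes.length = 120 := by decide +kernel

set_option maxRecDepth 100000 in
theorem f9codes_nodup : f9codes.Nodup := by decide +kernel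

set_option maxRecDepth 100000 in
theorem f9codes_closed : ∀ x ∈ f9codes,
    m9mul x (1, 0, 1, 1) ∈ f9codes ∧ m9mul x (1, 3, 0, 1) ∈ f9codes := by decide +kernel

set_option maxRecDepth 100000 in
theorem f9codes_lt : ∀ x ∈ f9codes, x.1 < 9 ∧ x.2.1 < 9 ∧ x.2.2.1 < 9 ∧ x.2.2.2 < 9 := by
  decide +kernel

set_option maxRecDepth 100000 in
theorem f9codes_reach : ∀ k ∈ List.range 120, k = 0 ∨ (f9par.getD k 0 < k ∧
    f9codes.getD k (0, 0, 0, 0) = m9mul (f9codes.getD (f9par.getD k 0) (0, 0, 0, 0))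
      (if f9gen.getD k false then (1, 0, 1, 1) else (1, 3, 0, 1))) := by decide +kernel

theorem f9codes_head : f9codes.getD 0 (0, 0, 0, 0) = (1, 0, 0, 1) := by decide +kernel

set_option maxRecDepth 100000 in
theorem f9codes_not_mem : (1, 1, 0, 1) ∉ f9codes := by decide +kernel

end Cfsg.Agent.Lib.helper18
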