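import Mathlib
import Cfsg.Agent.Lib.helper18.F9Cert

/-!
# The subgroup of `SL₂(F₉)` generated by two transvections: algebraic part (helper18)
-/

set_option autoImplicit false

namespace Cfsg.Agent.Lib.helper18

open Cfsg.Agent.Lib.helper46

section Val

variable {F : Type*} [Field F]

/-- The value of a code: `a + 3 b ↦ a + b * lam`. -/
def f9val (lam : F) (n : ℕ) : F := ((n % 3 : ℕ) : F) + ((n / 3 : ℕ) : F) * lam

lemma cast_mod_three (h3 : (3 : F) = 0) (k : ℕ) : ((k % 3 : ℕ) : F) = (k : F) := by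
  conv_rhs => rw [← Nat.mod_add_div k 3]
  push_cast
  rw [h3, zero_mul, add_zero]

lemma f9add_mod (m n : ℕ) : f9add m n % 3 = (m % 3 + n % 3) % 3 := by unfold f9add; omega

lemma f9add_div (m n : ℕ) : f9add m n / 3 = (m / 3 + n / 3) % 3 := by unfold f9add; omega

lemma f9mul_mod (m n : ℕ) :
    f9mul m n % 3 = ((m % 3) * (n % 3) + 2 * ((m / 3) * (n / 3))) % 3 := by
  unfold f9mul; omega

lemma f9mul_div (m n : ℕ) :
    f9mul m n / 3 = ((m % 3) * (n / 3) + (m / 3) * (n % 3)) % 3 := by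
  unfold f9mul; omega

lemma f9add_lt (m n : ℕ) : f9add m n < 9 := by unfold f9add; omega

lemma f9mul_lt (m n : ℕ) : f9mul m n < 9 := by unfold f9mul; omega

lemma f9val_add (lam : F) (h3 : (3 : F) = 0) (m n : ℕ) :
    f9val lam (f9add m n) = f9val lam m + f9val lam n := by
  unfold f9val
  rw [f9add_mod, f9add_div, cast_mod_three h3, cast_mod_three h3]
  push_cast
  ring

lemma f9val_mul (lam : F) (h3 : (3 : F) = 0) (hl : lam ^ 2 = -1) (m n : ℕ) :
    f9val lam (f9mul m n) = f9val lam m * f9val lam n := by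
  unfold f9val
  rw [f9mul_mod, f9mul_div, cast_mod_three h3, cast_mod_three h3]
  push_cast
  linear_combination (((m / 3 : ℕ) : F) * ((n / 3 : ℕ) : F)) * h3 -
    (((m / 3 : ℕ) : F) * ((n / 3 : ℕ) : F)) * hl

lemma sq_add_sq_mod_three (a b c d : ℕ) (ha : a < 3) (hb : b < 3) (hc : c < 3) (hd : d < 3)
    (h : (3 : ℤ) ∣ ((a : ℤ) - c) ^ 2 + ((b : ℤ) - d) ^ 2) : a = c ∧ b = d := by
  interval_cases a <;> interval_cases b <;> interval_cases c <;> interval_cases d <;>
    first
    | exact ⟨rfl, rfl⟩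
    | (exfalso; revert h; decide)

lemma f9_key (lam : F) [CharP F 3] (hl : lam ^ 2 = -1) (a b c d : ℕ)
    (h : (a : F) + (b : F) * lam = (c : F) + (d : F) * lam) :
    (3 : ℤ) ∣ ((a : ℤ) - c) ^ 2 + ((b : ℤ) - d) ^ 2 := by
  have h' : (a : F) - c + ((b : F) - d) * lam = 0 := by linear_combination h
  have hF : ((((a : ℤ) - c) ^ 2 + ((b : ℤ) - d) ^ 2 : ℤ) : F) = 0 := by
    push_cast
    linear_combination ((a : F) - c - ((b : F) - d) * lam) * h' + ((b : F) - d) ^ 2 * hl
  exact (CharP.intCast_eq_zero_iff F 3 _).mp hF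

lemma f9val_inj (lam : F) [CharP F 3] (hl : lam ^ 2 = -1) (m n : ℕ) (hm : m < 9) (hn : n < 9)
    (h : f9val lam m = f9val lam n) : m = n := by
  unfold f9val at h
  have hdvd := f9_key lam hl _ _ _ _ h
  have := sq_add_sq_mod_three (m % 3) (m / 3) (n % 3) (n / 3) (Nat.mod_lt _ (by norm_num))
    (by omega) (Nat.mod_lt _ (by norm_num)) (by omega) hdvd
  omega

/-- The matrix of a matrix code. -/
def m9val (lam : F) (x : ℕ × ℕ × ℕ × ℕ) : Matrix (Fin 2) (Fin 2) F :=
  !![f9val lam x.1, f9val lam x.2.1; f9val lam x.2.2.1, f9val lam x.2.2.2]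

lemma m9val_mul (lam : F) (h3 : (3 : F) = 0) (hl : lam ^ 2 = -1) (x y : ℕ × ℕ × ℕ × ℕ) :
    m9val lam (m9mul x y) = m9val lam x * m9val lam y := by
  unfold m9val m9mul
  rw [Matrix.mul_fin_two]
  simp only [f9val_add lam h3, f9val_mul lam h3 hl]

lemma m9val_inj (lam : F) [CharP F 3] (hl : lam ^ 2 = -1) (x y : ℕ × ℕ × ℕ × ℕ)
    (hx : x.1 < 9 ∧ x.2.1 < 9 ∧ x.2.2.1 < 9 ∧ x.2.2.2 < 9)
    (hy : y.1 < 9 ∧ y.2.1 < 9 ∧ y.2.2.1 < 9 ∧ y.2.2.2 < 9)
    (h : m9val lam x = m9val lam y) : x = y := by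
  unfold m9val at h
  have h00 := congrFun (congrFun h 0) 0
  have h01 := congrFun (congrFun h 0) 1
  have h10 := congrFun (congrFun h 1) 0
  have h11 := congrFun (congrFun h 1) 1
  simp only [Matrix.of_apply, Matrix.cons_val_zero, Matrix.cons_val_one, Matrix.cons_val',
    Matrix.cons_val_fin_one] at h00 h01 h10 h11
  obtain ⟨a, b, c, d⟩ := x
  obtain ⟨a', b', c', d'⟩ := y
  simp only [Prod.mk.injEq]
  exact ⟨f9val_inj lam hl _ _ hx.1 hy.1 h00, f9val_inj lam hl _ _ hx.2.1 hy.2.1 h01,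
    f9val_inj lam hl _ _ hx.2.2.1 hy.2.2.1 h10, f9val_inj lam hl _ _ hx.2.2.2 hy.2.2.2 h11⟩

lemma f9val_zero (lam : F) : f9val lam 0 = 0 := by simp [f9val]

lemma f9val_one (lam : F) : f9val lam 1 = 1 := by simp [f9val]

lemma f9val_three (lam : F) : f9val lam 3 = lam := by simp [f9val]

end Val

section Group

set_option linter.unusedSectionVars false

variable {F : Type*} [Field F] [Fintype F]

/-- The set of generators. -/
def f9gens (lam : F) : Set (Matrix.SpecialLinearGroup (Fin 2) F) :=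
  {g | (g : Matrix (Fin 2) (Fin 2) F) = !![1, 0; 1, 1] ∨
    (g : Matrix (Fin 2) (Fin 2) F) = !![1, lam; 0, 1]}

lemma m9val_A (lam : F) : m9val lam (1, 0, 1, 1) = !![1, 0; 1, 1] := by
  simp [m9val, f9val_zero, f9val_one]

lemma m9val_B (lam : F) : m9val lam (1, 3, 0, 1) = !![1, lam; 0, 1] := by
  simp [m9val, f9val_zero, f9val_one, f9val_three]

lemma m9val_I (lam : F) : m9val lam (1, 0, 0, 1) = 1 := by
  simp [m9val, f9val_zero, f9val_one, Matrix.one_fin_two]

lemma m9val_X (lam : F) : m9val lam (1, 1, 0, 1) = !![1, 1; 0, 1] := by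
  simp [m9val, f9val_zero, f9val_one]

set_option maxRecDepth 100000 in
lemma f9codes_one_mem : (1, 0, 0, 1) ∈ f9codes := by decide +kernel

/-- Every element of the subgroup is the value of a code in the list. -/
lemma f9_closure_sub [CharP F 3] (lam : F) (hl : lam ^ 2 = -1)
    (g : Matrix.SpecialLinearGroup (Fin 2) F) (hg : g ∈ Subgroup.closure (f9gens lam)) :
    ∃ c ∈ f9codes, (g : Matrix (Fin 2) (Fin 2) F) = m9val lam c := by
  have h3 : (3 : F) = 0 := by exact_mod_cast CharP.cast_eq_zero F 3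
  have hg' : g ∈ Submonoid.closure (f9gens lam) := by
    rw [← Subgroup.closure_toSubmonoid_of_finite]; exact hg
  induction hg' using Submonoid.closure_induction_right with
  | one => exact ⟨(1, 0, 0, 1), f9codes_one_mem, by rw [m9val_I]; rfl⟩
  | mul_right x hx y hy ih =>
    obtain ⟨c, hc, hxc⟩ := ih (by
      rw [← Subgroup.mem_toSubmonoid, Subgroup.closure_toSubmonoid_of_finite]; exact hx)
    rcases hy with hy | hy
    · refine ⟨m9mul c (1, 0, 1, 1), (f9codes_closed c hc).1, ?_⟩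
      rw [Matrix.SpecialLinearGroup.coe_mul, hxc, hy, m9val_mul lam h3 hl, m9val_A]
    · refine ⟨m9mul c (1, 3, 0, 1), (f9codes_closed c hc).2, ?_⟩
      rw [Matrix.SpecialLinearGroup.coe_mul, hxc, hy, m9val_mul lam h3 hl, m9val_B]

/-- Every code in the list is the value of an element of the subgroup. -/
lemma f9_closure_reach [CharP F 3] (lam : F) (hl : lam ^ 2 = -1) (k : ℕ) (hk : k < 120) :
    ∃ g ∈ Subgroup.closure (f9gens lam),
      (g : Matrix (Fin 2) (Fin 2) F) = m9val lam (f9codes.getD k (0, 0, 0, 0)) := by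
  classical
  have h3 : (3 : F) = 0 := by exact_mod_cast CharP.cast_eq_zero F 3
  induction k using Nat.strong_induction_on with
  | _ k ih =>
    rcases f9codes_reach k (List.mem_range.mpr hk) with rfl | ⟨hlt, heq⟩
    · exact ⟨1, Subgroup.one_mem _, by rw [f9codes_head, m9val_I]; rfl⟩
    · obtain ⟨g, hg, hgc⟩ := ih _ hlt (lt_trans hlt hk)
      by_cases hgen : f9gen.getD k false = true
      · rw [if_pos hgen] at heq
        refine ⟨g * dkY 1, Subgroup.mul_mem _ hg (Subgroup.subset_closure (Or.inl (dkY_coe 1))),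
          ?_⟩
        rw [Matrix.SpecialLinearGroup.coe_mul, hgc, heq, m9val_mul lam h3 hl, m9val_A]
        rfl
      · rw [if_neg hgen] at heq
        refine ⟨g * dkX lam,
          Subgroup.mul_mem _ hg (Subgroup.subset_closure (Or.inr (dkX_coe lam))), ?_⟩
        rw [Matrix.SpecialLinearGroup.coe_mul, hgc, heq, m9val_mul lam h3 hl, m9val_B]
        rfl

/-- The subgroup of `SL₂(F)` generated by `[[1,0],[1,1]]` and `[[1,lam],[0,1]]`, where
`lam ^ 2 = -1` and `F` has characteristic `3`, has order `120`. -/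
theorem f9_closure_card [CharP F 3] (lam : F) (hl : lam ^ 2 = -1) :
    Nat.card ↥(Subgroup.closure (f9gens lam)) = 120 := by
  classical
  obtain ⟨L, hL⟩ : ∃ L : Subgroup (Matrix.SpecialLinearGroup (Fin 2) F),
    L = Subgroup.closure (f9gens lam) := ⟨_, rfl⟩
  rw [← hL]
  have himg : (fun g : Matrix.SpecialLinearGroup (Fin 2) F => (g : Matrix (Fin 2) (Fin 2) F)) ''
      (L : Set (Matrix.SpecialLinearGroup (Fin 2) F)) =
      m9val lam '' (↑f9codes.toFinset : Set (ℕ × ℕ × ℕ × ℕ)) := by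
    ext M
    constructor
    · rintro ⟨g, hg, rfl⟩
      obtain ⟨c, hc, hgc⟩ := f9_closure_sub lam hl g (hL ▸ hg)
      exact ⟨c, by simpa using hc, hgc.symm⟩
    · rintro ⟨c, hc, rfl⟩
      have hc' : c ∈ f9codes := by simpa using hc
      obtain ⟨k, hk, rfl⟩ := List.mem_iff_getElem.mp hc'
      have hk' : k < 120 := by rw [← f9codes_length]; exact hk
      obtain ⟨g, hg, hgc⟩ := f9_closure_reach lam hl k hk'
      refine ⟨g, hL ▸ hg, ?_⟩
      change (g : Matrix (Fin 2) (Fin 2) F) = _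
      rw [hgc, List.getD_eq_getElem _ _ hk]
  have h1 : Set.ncard ((fun g : Matrix.SpecialLinearGroup (Fin 2) F =>
      (g : Matrix (Fin 2) (Fin 2) F)) '' (L : Set (Matrix.SpecialLinearGroup (Fin 2) F))) =
      Set.ncard (L : Set (Matrix.SpecialLinearGroup (Fin 2) F)) :=
    Set.ncard_image_of_injective _ Subtype.val_injective
  have h2 : Set.ncard (m9val lam '' (↑f9codes.toFinset : Set (ℕ × ℕ × ℕ × ℕ))) =
      Set.ncard (↑f9codes.toFinset : Set (ℕ × ℕ × ℕ × ℕ)) := by
    apply Set.InjOn.ncard_image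
    intro x hx y hy hxy
    have hx' : x ∈ f9codes := by simpa using hx
    have hy' : y ∈ f9codes := by simpa using hy
    exact m9val_inj lam hl x y (f9codes_lt x hx') (f9codes_lt y hy') hxy
  have h3 : Set.ncard (↑f9codes.toFinset : Set (ℕ × ℕ × ℕ × ℕ)) = 120 := by
    rw [Set.ncard_coe_finset, List.toFinset_card_of_nodup f9codes_nodup, f9codes_length]
  have h4 : Nat.card L = Set.ncard (L : Set (Matrix.SpecialLinearGroup (Fin 2) F)) := rfl
  rw [h4, ← h1, himg, h2, h3]

/-- The subgroup generated by `[[1,0],[1,1]]` and `[[1,lam],[0,1]]` is proper. -/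
theorem f9_closure_ne_top [CharP F 3] (lam : F) (hl : lam ^ 2 = -1) :
    Subgroup.closure (f9gens lam) ≠ ⊤ := by
  classical
  intro htop
  have hmem : dkX (1 : F) ∈ Subgroup.closure (f9gens lam) := by rw [htop]; trivial
  obtain ⟨c, hc, hgc⟩ := f9_closure_sub lam hl _ hmem
  have hX : ((dkX (1 : F) : Matrix.SpecialLinearGroup (Fin 2) F) : Matrix (Fin 2) (Fin 2) F) =
      m9val lam (1, 1, 0, 1) := by rw [m9val_X]; rfl
  rw [hX] at hgc
  have := m9val_inj lam hl _ _ (by norm_num) (f9codes_lt c hc) hgc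
  rw [← this] at hc
  exact f9codes_not_mem hc

set_option maxRecDepth 100000 in
lemma f9_inv_code : ∀ m ∈ List.range 9, m = 0 ∨ ∃ n ∈ List.range 9, f9mul m n = 1 := by
  decide +kernel

/-- A field of characteristic `3` generated by a square root of `-1` has `9` elements. -/
theorem card_eq_nine_of_sq_eq_neg_one [CharP F 3] (lam : F) (hl : lam ^ 2 = -1)
    (hgen : Subfield.closure ({lam} : Set F) = ⊤) : Fintype.card F = 9 := by
  classical
  have h3 : (3 : F) = 0 := by exact_mod_cast CharP.cast_eq_zero F 3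
  have hmem : ∀ x : F, x ∈ Set.range (fun k : Fin 9 => f9val lam k) ↔
      ∃ m : ℕ, m < 9 ∧ f9val lam m = x := by
    intro x
    constructor
    · rintro ⟨k, rfl⟩
      exact ⟨k, k.2, rfl⟩
    · rintro ⟨m, hm, rfl⟩
      exact ⟨⟨m, hm⟩, rfl⟩
  let K : Subfield F :=
    { carrier := Set.range (fun k : Fin 9 => f9val lam k)
      mul_mem' := by
        intro a b ha hb
        rw [hmem] at ha hb ⊢
        obtain ⟨m, -, rfl⟩ := ha
        obtain ⟨n, -, rfl⟩ := hb
        exact ⟨f9mul m n, f9mul_lt m n, f9val_mul lam h3 hl m n⟩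
      one_mem' := (hmem 1).mpr ⟨1, by norm_num, f9val_one lam⟩
      add_mem' := by
        intro a b ha hb
        rw [hmem] at ha hb ⊢
        obtain ⟨m, -, rfl⟩ := ha
        obtain ⟨n, -, rfl⟩ := hb
        exact ⟨f9add m n, f9add_lt m n, f9val_add lam h3 m n⟩
      zero_mem' := (hmem 0).mpr ⟨0, by norm_num, f9val_zero lam⟩
      neg_mem' := by
        intro a ha
        rw [hmem] at ha ⊢
        obtain ⟨m, -, rfl⟩ := ha
        refine ⟨f9mul 2 m, f9mul_lt 2 m, ?_⟩
        rw [f9val_mul lam h3 hl]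
        have h2 : f9val lam 2 = 2 := by simp [f9val]
        rw [h2]
        linear_combination (f9val lam m) * h3
      inv_mem' := by
        intro a ha
        rw [hmem] at ha ⊢
        obtain ⟨m, hm, rfl⟩ := ha
        rcases f9_inv_code m (List.mem_range.mpr hm) with rfl | ⟨n, hn, hmn⟩
        · exact ⟨0, by norm_num, by rw [f9val_zero, inv_zero]⟩
        · refine ⟨n, List.mem_range.mp hn, ?_⟩
          have h1 : f9val lam m * f9val lam n = 1 := by
            rw [← f9val_mul lam h3 hl, hmn, f9val_one]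
          exact (inv_eq_of_mul_eq_one_right h1).symm }
  have hlamK : lam ∈ K := (hmem lam).mpr ⟨3, by norm_num, f9val_three lam⟩
  have hK : K = ⊤ := by
    apply top_le_iff.mp
    rw [← hgen]
    exact Subfield.closure_le.mpr (Set.singleton_subset_iff.mpr hlamK)
  have hsurj : Function.Surjective (fun k : Fin 9 => f9val lam k) := by
    intro x
    have hx : x ∈ K := by rw [hK]; trivial
    exact hx
  have hinj : Function.Injective (fun k : Fin 9 => f9val lam k) := by
    intro a b hab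
    exact Fin.ext (f9val_inj lam hl a b a.2 b.2 hab)
  have := Fintype.card_of_bijective ⟨hinj, hsurj⟩
  rw [← this, Fintype.card_fin]

end Group

end Cfsg.Agent.Lib.helper18
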