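import Cfsg.Agent.Lib.helper74.TBGroup

/-!
# Piece MK of sub-project SP-B of S4441 / S0960 (Mackey)

`tb_mackey_of`: the Mackey decomposition over `G ⧸ C_G(P)`, from the statement of piece MK2
(equivariant families over a `G`-set) for this one `G`-set, taken as a hypothesis.
-/

set_option autoImplicit false

namespace Cfsg.Agent.Lib.helper18

open Cfsg.Agent.Lib.helper84 Cfsg.Agent.Lib.helper74.TB

variable {G : Type*} [Group G] [Fintype G] (p : ℕ) [Fact p.Prime] (P : Sylow p G)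
  (hP : Nat.card P = p) {L : Type*} [AddCommGroup L] (ρ : Representation ℤ G L)

include hP

/-- Piece MK, from the statement of MK2 for the `G`-set `G ⧸ C_G(P)`. -/
theorem tb_mackey_of
    (hMK2 : ∀ (inst : Fintype (G ⧸ Subgroup.centralizer ((P : Subgroup G) : Set G)))
      (H : G ⧸ Subgroup.centralizer ((P : Subgroup G) : Set G) → (L →ₗ[ℤ] L)),
      (∀ (g : G) (q : G ⧸ Subgroup.centralizer ((P : Subgroup G) : Set G)),
        H (g • q) = ρ g ∘ₗ H q ∘ₗ ρ g⁻¹) →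
      ∀ Fix : Finset (G ⧸ Subgroup.centralizer ((P : Subgroup G) : Set G)),
      (∀ q, q ∈ Fix ↔ ∀ y ∈ (P : Subgroup G), y • q = q) →
      (∀ g : G, (∑ q, H q) ∘ₗ ρ g = ρ g ∘ₗ (∑ q, H q)) ∧
      (∀ v ∈ d1FixC ρ (P : Subgroup G),
        (∑ q, H q) v - (∑ q ∈ Fix, H q) v ∈ tbSA p ρ (P : Subgroup G)) ∧
      (∀ v ∈ tbB p ρ (P : Subgroup G),
        (∑ q, H q) v - (∑ q ∈ Fix, H q) v ∈ d1Aug p ρ (P : Subgroup G))) :
    ∃ R : Finset G, (∀ n ∈ R, n ∈ Subgroup.normalizer ((P : Subgroup G) : Set G)) ∧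
      ¬ p ∣ R.card ∧
      ∀ F : L →ₗ[ℤ] L,
        (∀ c ∈ Subgroup.centralizer ((P : Subgroup G) : Set G), F ∘ₗ ρ c = ρ c ∘ₗ F) →
        ∃ δ : L →ₗ[ℤ] L, (∀ g : G, δ ∘ₗ ρ g = ρ g ∘ₗ δ) ∧
          (∀ v ∈ d1FixC ρ (P : Subgroup G),
            δ v - ∑ n ∈ R, ρ n (F (ρ n⁻¹ v)) ∈ tbSA p ρ (P : Subgroup G)) ∧
          (∀ v ∈ tbB p ρ (P : Subgroup G),
            δ v - ∑ n ∈ R, ρ n (F (ρ n⁻¹ v)) ∈ d1Aug p ρ (P : Subgroup G)) := by
  classical
  have hp : p.Prime := Fact.out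
  obtain ⟨K, -, -, hPC, -⟩ := tb_centralizer_structure p P hP
  obtain ⟨x, hxP, hx1, -, -⟩ := Cfsg.Agent.Lib.helper46.d1_sylow_gen p P hP
  generalize hC : Subgroup.centralizer ((P : Subgroup G) : Set G) = C at hMK2 hPC ⊢
  have inst : Fintype (G ⧸ C) := Fintype.ofFinite _
  let Fix : Finset (G ⧸ C) := Finset.univ.filter (fun q => ∀ y ∈ (P : Subgroup G), y • q = q)
  have hFix : ∀ q, q ∈ Fix ↔ ∀ y ∈ (P : Subgroup G), y • q = q := by
    intro q
    simp [Fix]
  have hout : ∀ q ∈ Fix,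
      (Quotient.out q : G) ∈ Subgroup.normalizer ((P : Subgroup G) : Set G) := by
    intro q hq
    rw [hFix] at hq
    have hqn : ((Quotient.out q : G) : G ⧸ C) = q := QuotientGroup.out_eq' q
    generalize (Quotient.out q : G) = n at hqn
    have h1 : ∀ y ∈ (P : Subgroup G), n⁻¹ * y * n ∈ C := by
      intro y hy
      have h2 := hq y⁻¹ (inv_mem hy)
      rw [← hqn] at h2
      have h3 : ((y⁻¹ * n : G) : G ⧸ C) = ((n : G) : G ⧸ C) := h2
      rw [QuotientGroup.eq] at h3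
      have h4 : (y⁻¹ * n)⁻¹ * n = n⁻¹ * y * n := by group
      rwa [h4] at h3
    have h5 : n⁻¹ * x * n⁻¹⁻¹ ∈ (P : Subgroup G) := by
      rw [inv_inv]
      exact Cfsg.Agent.Lib.helper46.d1_conj_mem_P p P hP x hxP (n⁻¹ * x * n)
        (isConj_iff.mpr ⟨n⁻¹, by rw [inv_inv]⟩) (by rw [hC]; exact h1 x hxP)
    have h6 := Cfsg.Agent.Lib.helper46.d1gs_mem_normalizer p P hP n⁻¹ x hxP hx1 h5
    exact inv_mem_iff.mp h6
  have hcardFix : ¬ p ∣ Fix.card := by
    have h1 := (P.isPGroup').card_modEq_card_fixedPoints (G ⧸ C)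
    have h2 : Nat.card (MulAction.fixedPoints (P : Subgroup G) (G ⧸ C)) = Fix.card := by
      rw [Nat.card_eq_fintype_card]
      apply Fintype.card_of_subtype
      intro q
      rw [hFix, MulAction.mem_fixedPoints]
      constructor
      · intro h y
        exact h y.1 y.2
      · intro h y hy
        exact h ⟨y, hy⟩
    rw [h2] at h1
    have h3 : Nat.card (G ⧸ C) = C.index := (Subgroup.index_eq_card C).symm
    rw [h3] at h1
    intro hd
    have h4 : p ∣ C.index := (h1.dvd_iff (dvd_refl p)).mpr hd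
    have h5 : C.index ∣ (P : Subgroup G).index := Subgroup.index_dvd_of_le hPC
    exact P.not_dvd_index (h4.trans h5)
  refine ⟨Fix.image (fun q => (Quotient.out q : G)), ?_, ?_, ?_⟩
  · intro n hn
    obtain ⟨q, hq, rfl⟩ := Finset.mem_image.mp hn
    exact hout q hq
  · rw [Finset.card_image_of_injective _ Quotient.out_injective]
    exact hcardFix
  · intro F hF
    let H : G ⧸ C → (L →ₗ[ℤ] L) :=
      fun q => ρ (Quotient.out q) ∘ₗ F ∘ₗ ρ (Quotient.out q)⁻¹
    have hH : ∀ (g : G) (q : G ⧸ C), H (g • q) = ρ g ∘ₗ H q ∘ₗ ρ g⁻¹ := by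
      intro g q
      show ρ (Quotient.out (g • q)) ∘ₗ F ∘ₗ ρ (Quotient.out (g • q))⁻¹
        = ρ g ∘ₗ (ρ (Quotient.out q) ∘ₗ F ∘ₗ ρ (Quotient.out q)⁻¹) ∘ₗ ρ g⁻¹
      have hqn : ((Quotient.out q : G) : G ⧸ C) = q := QuotientGroup.out_eq' q
      have hqn' : ((Quotient.out (g • q) : G) : G ⧸ C) = g • q := QuotientGroup.out_eq' (g • q)
      generalize (Quotient.out (g • q) : G) = n' at hqn'
      generalize (Quotient.out q : G) = n at hqn
      have h1 : ((g * n : G) : G ⧸ C) = ((n' : G) : G ⧸ C) := by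
        rw [hqn', ← hqn]
        rfl
      rw [QuotientGroup.eq] at h1
      have hn'c : n' = g * n * ((g * n)⁻¹ * n') := by group
      generalize (g * n)⁻¹ * n' = c at h1 hn'c
      subst hn'c
      have hFc : ∀ w : L, F (ρ c w) = ρ c (F w) := fun w => LinearMap.congr_fun (hF c h1) w
      apply LinearMap.ext
      intro v
      simp only [LinearMap.comp_apply, mul_inv_rev, map_mul, Module.End.mul_apply]
      rw [← hFc, ρ.self_inv_apply]
    obtain ⟨hδ, hW0, hW1⟩ := hMK2 inst H hH Fix hFix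
    have hsum : ∀ v : L, (∑ q ∈ Fix, H q) v
        = ∑ n ∈ Fix.image (fun q => (Quotient.out q : G)), ρ n (F (ρ n⁻¹ v)) := by
      intro v
      rw [LinearMap.sum_apply, Finset.sum_image (fun a _ b _ h => Quotient.out_injective h)]
      rfl
    refine ⟨∑ q, H q, hδ, ?_, ?_⟩
    · intro v hv
      rw [← hsum]
      exact hW0 v hv
    · intro v hv
      rw [← hsum]
      exact hW1 v hv

end Cfsg.Agent.Lib.helper18
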