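import Mathlib
import Cfsg.Agent.Lib.helper24.SffDefs
import Cfsg.Agent.Lib.helper63.Elusive2

/-!
# S5965 piece C3B (helper18): an element of order dividing `r` with exact fixed space
-/

set_option autoImplicit false

namespace Cfsg.Agent.Lib.helper24

open Module Matrix

/-- Powers of a block map `g × id`. -/
theorem h18_prodMap_pow {F : Type*} [Field F] {V₁ V₂ : Type*} [AddCommGroup V₁] [Module F V₁]
    [AddCommGroup V₂] [Module F V₂] (g : V₁ →ₗ[F] V₁) (k : ℕ) :
    (g.prodMap (LinearMap.id : V₂ →ₗ[F] V₂)) ^ k = (g ^ k).prodMap LinearMap.id := by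
  induction k with
  | zero =>
    apply LinearMap.ext
    intro x
    simp
  | succ k ih =>
    rw [pow_succ, ih, pow_succ]
    apply LinearMap.ext
    intro x
    simp [Module.End.mul_apply]

/-- Powers of a conjugated endomorphism. -/
theorem h18_conj_pow {F : Type*} [Field F] {V W : Type*} [AddCommGroup V] [Module F V]
    [AddCommGroup W] [Module F W] (e : V ≃ₗ[F] W) (h : W →ₗ[F] W) (k : ℕ) :
    (e.symm.toLinearMap ∘ₗ h ∘ₗ e.toLinearMap) ^ k = e.symm.toLinearMap ∘ₗ (h ^ k) ∘ₗ e.toLinearMap := by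
  induction k with
  | zero =>
    apply LinearMap.ext
    intro x
    simp
  | succ k ih =>
    rw [pow_succ, ih, pow_succ]
    apply LinearMap.ext
    intro x
    simp [Module.End.mul_apply]

/-- C3B -/
theorem sff_exists_fix {F : Type*} [Field F] [Fintype F] {n : ℕ} (r : ℕ) [Fact r.Prime]
    (hrF : (r : F) ≠ 0) (hi : orderOf ((Fintype.card F : ℕ) : ZMod r) ≤ n) :
    ∃ y : Matrix (Fin n) (Fin n) F, y ^ r = 1 ∧
      Module.finrank F (LinearMap.ker (Matrix.toLin' y - 1)) =
        n - orderOf ((Fintype.card F : ℕ) : ZMod r) := by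
  classical
  have hr : r.Prime := Fact.out
  obtain ⟨i, hidef⟩ : ∃ i, i = orderOf ((Fintype.card F : ℕ) : ZMod r) := ⟨_, rfl⟩
  rw [← hidef] at hi ⊢
  have hq : ((Fintype.card F : ℕ) : ZMod r) ≠ 0 := by
    intro h0
    rw [ZMod.natCast_eq_zero_iff] at h0
    obtain ⟨p, hchar⟩ := CharP.exists F
    obtain ⟨k, hp, hc⟩ := FiniteField.card F p
    rw [hc] at h0
    have h1 : r ∣ p := hr.dvd_of_dvd_pow h0
    have h2 : r = p := (Nat.prime_dvd_prime_iff_eq hr hp).mp h1
    apply hrF
    rw [h2]
    exact CharP.cast_eq_zero F p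
  have hi1 : 1 ≤ i := by
    rw [hidef]
    apply orderOf_pos_iff.mpr
    rw [isOfFinOrder_iff_pow_eq_one]
    exact ⟨r - 1, by have := hr.two_le; omega, ZMod.pow_card_sub_one_eq_one hq⟩
  obtain ⟨g, hg, hker⟩ :=
    Cfsg.Agent.Lib.helper63.Elusive.exists_block (F := F) r hq i hidef hi1
  obtain ⟨e⟩ : Nonempty ((Fin n → F) ≃ₗ[F] ((Fin i → F) × (Fin (n - i) → F))) := by
    refine ⟨LinearEquiv.ofFinrankEq _ _ ?_⟩
    rw [Module.finrank_prod, Module.finrank_fin_fun, Module.finrank_fin_fun,
      Module.finrank_fin_fun]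
    omega
  obtain ⟨h, hhdef⟩ : ∃ h : ((Fin i → F) × (Fin (n - i) → F)) →ₗ[F]
      ((Fin i → F) × (Fin (n - i) → F)), h = g.prodMap LinearMap.id := ⟨_, rfl⟩
  have hh : h ^ r = 1 := by
    rw [hhdef, h18_prodMap_pow, hg]
    apply LinearMap.ext
    intro x
    simp
  obtain ⟨f', hf'⟩ : ∃ f' : (Fin n → F) →ₗ[F] (Fin n → F),
      f' = e.symm.toLinearMap ∘ₗ h ∘ₗ e.toLinearMap := ⟨_, rfl⟩
  have hf'r : f' ^ r = 1 := by
    rw [hf', h18_conj_pow, hh]
    apply LinearMap.ext
    intro x
    simp
  refine ⟨LinearMap.toMatrix' f', ?_, ?_⟩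
  · have h1 : LinearMap.toMatrix' (f' ^ r) = (LinearMap.toMatrix' f') ^ r := by
      have := map_pow (LinearMap.toMatrixAlgEquiv' (R := F) (n := Fin n)) f' r
      exact this
    rw [← h1, hf'r]
    exact LinearMap.toMatrix'_one
  · rw [Matrix.toLin'_toMatrix']
    have hkereq : LinearMap.ker (f' - 1) =
        LinearMap.ker ((LinearMap.fst F (Fin i → F) (Fin (n - i) → F)) ∘ₗ e.toLinearMap) := by
      ext x
      simp only [LinearMap.mem_ker, LinearMap.sub_apply, Module.End.one_apply,
        LinearMap.comp_apply, LinearEquiv.coe_coe, LinearMap.fst_apply]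
      rw [hf', hhdef]
      simp only [LinearMap.comp_apply, LinearEquiv.coe_coe]
      constructor
      · intro hx
        have h2 : e (e.symm ((g.prodMap LinearMap.id) (e x)) - x) = 0 := by rw [hx, map_zero]
        rw [map_sub, LinearEquiv.apply_symm_apply] at h2
        have h3 := congrArg Prod.fst h2
        simp only [Prod.fst_sub, LinearMap.prodMap_apply, Prod.fst_zero] at h3
        have h4 : (e x).1 ∈ LinearMap.ker (g - 1) := by
          rw [LinearMap.mem_ker, LinearMap.sub_apply, Module.End.one_apply]; exact h3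
        rw [hker, Submodule.mem_bot] at h4
        exact h4
      · intro hx
        have h2 : (g.prodMap LinearMap.id) (e x) = e x := by
          apply Prod.ext
          · simp [LinearMap.prodMap_apply, hx]
          · simp [LinearMap.prodMap_apply]
        rw [h2, LinearEquiv.symm_apply_apply, sub_self]
    rw [hkereq]
    have hsurj : Function.Surjective
        ((LinearMap.fst F (Fin i → F) (Fin (n - i) → F)) ∘ₗ e.toLinearMap) := by
      intro a
      refine ⟨e.symm (a, 0), ?_⟩
      simp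
    have hrn := LinearMap.finrank_range_add_finrank_ker
      ((LinearMap.fst F (Fin i → F) (Fin (n - i) → F)) ∘ₗ e.toLinearMap)
    rw [LinearMap.range_eq_top.mpr hsurj, finrank_top, Module.finrank_fin_fun,
      Module.finrank_fin_fun] at hrn
    omega

end Cfsg.Agent.Lib.helper24
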