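import Mathlib
import Cfsg.Agent.Lib.helper42.AICDefs

set_option autoImplicit false

open Cfsg.Agent.Lib.helper42.AIC

namespace Cfsg.Agent.Lib.helper18.AIC

theorem qb2_mem_smul {G : Type*} [Group G] (P : Sylow 2 G) (g x : G) :
    x ∈ ((g • P : Sylow 2 G) : Subgroup G) ↔ g⁻¹ * x * g ∈ (P : Subgroup G) := by
  rw [Sylow.coe_subgroup_smul, Subgroup.mem_pointwise_smul_iff_inv_smul_mem, MulAut.smul_def,
    MulAut.conj_inv_apply]

/-- an element of odd order killed by a power of two is trivial. -/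
theorem qb2_odd_two {G : Type*} [Group G] (z : G) (hz : Odd (orderOf z)) (k : ℕ)
    (hk : z ^ (2 ^ k) = 1) : z = 1 := by
  have h1 : orderOf z ∣ 2 ^ k := orderOf_dvd_of_pow_eq_one hk
  obtain ⟨j, -, hj⟩ := (Nat.dvd_prime_pow Nat.prime_two).mp h1
  rw [hj] at hz
  have hj0 : j = 0 := by
    by_contra hj0
    have : Even (2 ^ j) := (Nat.even_pow.mpr ⟨even_two, hj0⟩)
    exact (Nat.not_even_iff_odd.mpr hz) this
  rw [hj0, pow_zero] at hj
  exact orderOf_eq_one_iff.mp hj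

theorem qb2_two_pow {G : Type*} [Group G] (P : Sylow 2 G) (x : G) (hx : x ∈ (P : Subgroup G)) :
    ∃ k : ℕ, x ^ (2 ^ k) = 1 := by
  obtain ⟨k, hk⟩ := P.isPGroup' ⟨x, hx⟩
  refine ⟨k, ?_⟩
  have := congrArg Subtype.val hk
  simpa using this

/-- QB2 : Sylow correspondence -/
theorem sylow_quot {G : Type*} [Group G] [Finite G] (Z : Subgroup G) [Z.Normal]
    (hZo : ∀ z ∈ Z, Odd (orderOf z)) (hZc : ∀ z ∈ Z, ∀ P : Sylow 2 G, z ∈ CP P) :
    ∃ φ : Sylow 2 G → Sylow 2 (G ⧸ Z), Function.Bijective φ ∧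
      (∀ P : Sylow 2 G, ((φ P : Sylow 2 (G ⧸ Z)) : Subgroup (G ⧸ Z)) =
        (P : Subgroup G).map (QuotientGroup.mk' Z)) ∧
      (∀ (g : G) (P : Sylow 2 G), φ (g • P) = (QuotientGroup.mk' Z g) • φ P) ∧
      (∀ P : Sylow 2 G, Nat.card ((φ P : Sylow 2 (G ⧸ Z)) : Subgroup (G ⧸ Z)) =
        Nat.card (P : Subgroup G)) ∧
      (∀ P : Sylow 2 G, IsCyclic ↥((φ P : Sylow 2 (G ⧸ Z)) : Subgroup (G ⧸ Z)) →
        IsCyclic ↥(P : Subgroup G)) := by
  classical
  have hp2 : Fact (Nat.Prime 2) := ⟨Nat.prime_two⟩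
  have hsurj : Function.Surjective (QuotientGroup.mk' Z) := QuotientGroup.mk'_surjective Z
  have hPZ : ∀ P : Sylow 2 G, ∀ x ∈ (P : Subgroup G), x ∈ Z → x = 1 := by
    intro P x hxP hxZ
    obtain ⟨k, hk⟩ := qb2_two_pow P x hxP
    exact qb2_odd_two x (hZo x hxZ) k hk
  -- the isomorphism P ≃* image of P
  have hinj : ∀ P : Sylow 2 G,
      Function.Injective ((QuotientGroup.mk' Z).subgroupMap (P : Subgroup G)) := by
    intro P
    rw [injective_iff_map_eq_one]
    intro a ha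
    have h1 : QuotientGroup.mk' Z (a : G) = 1 := by
      have := congrArg Subtype.val ha
      simpa using this
    have h2 : (a : G) ∈ Z := by
      rw [← QuotientGroup.ker_mk' Z]
      exact h1
    exact Subtype.ext (hPZ P a.1 a.2 h2)
  have hcoe : ∀ P : Sylow 2 G, ((Sylow.mapSurjective hsurj P : Sylow 2 (G ⧸ Z)) : Subgroup (G ⧸ Z)) =
      (P : Subgroup G).map (QuotientGroup.mk' Z) := fun P => Sylow.coe_mapSurjective hsurj P
  refine ⟨Sylow.mapSurjective hsurj, ⟨?_, Sylow.mapSurjective_surjective hsurj 2⟩, hcoe, ?_, ?_, ?_⟩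
  · intro P Q hPQ
    have h1 : (P : Subgroup G).map (QuotientGroup.mk' Z) =
        (Q : Subgroup G).map (QuotientGroup.mk' Z) := by
      rw [← hcoe P, ← hcoe Q, hPQ]
    have hle : (Q : Subgroup G) ≤ (P : Subgroup G) := by
      intro x hxQ
      have hx1 : QuotientGroup.mk' Z x ∈ (P : Subgroup G).map (QuotientGroup.mk' Z) := by
        rw [h1]
        exact Subgroup.mem_map_of_mem _ hxQ
      obtain ⟨p, hpP, hpx⟩ := Subgroup.mem_map.mp hx1
      have hz : p⁻¹ * x ∈ Z := by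
        rw [← QuotientGroup.ker_mk' Z, MonoidHom.mem_ker, map_mul, map_inv, hpx, inv_mul_cancel]
      have hxpz : x = p * (p⁻¹ * x) := by group
      have hcomm : p * (p⁻¹ * x) = (p⁻¹ * x) * p :=
        (Subgroup.mem_centralizer_iff.mp (hZc _ hz P)) p hpP
      obtain ⟨k, hxk⟩ := qb2_two_pow Q x hxQ
      obtain ⟨j, hpj⟩ := qb2_two_pow P p hpP
      have hzpow : (p⁻¹ * x) ^ (2 ^ (k + j)) = 1 := by
        have hc : Commute p (p⁻¹ * x) := hcomm
        have h2 : (p * (p⁻¹ * x)) ^ (2 ^ (k + j)) =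
            p ^ (2 ^ (k + j)) * (p⁻¹ * x) ^ (2 ^ (k + j)) := hc.mul_pow _
        rw [← hxpz] at h2
        have h3 : x ^ (2 ^ (k + j)) = 1 := by rw [pow_add, pow_mul, hxk, one_pow]
        have h4 : p ^ (2 ^ (k + j)) = 1 := by rw [pow_add, mul_comm, pow_mul, hpj, one_pow]
        rw [h3, h4, one_mul] at h2
        exact h2.symm
      have hz1 := qb2_odd_two _ (hZo _ hz) _ hzpow
      rw [hxpz, hz1, mul_one]
      exact hpP
    exact Sylow.ext (Q.is_maximal' P.isPGroup' hle)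
  · intro g P
    apply Sylow.ext
    ext y
    rw [hcoe, qb2_mem_smul, hcoe]
    constructor
    · rintro ⟨x, hx, rfl⟩
      have hx' : g⁻¹ * x * g ∈ (P : Subgroup G) := (qb2_mem_smul P g x).mp hx
      refine ⟨g⁻¹ * x * g, hx', ?_⟩
      rw [map_mul, map_mul, map_inv]
    · rintro ⟨p, hp, hpy⟩
      refine ⟨g * p * g⁻¹, ?_, ?_⟩
      · change g * p * g⁻¹ ∈ ((g • P : Sylow 2 G) : Subgroup G)
        rw [qb2_mem_smul]
        have : g⁻¹ * (g * p * g⁻¹) * g = p := by group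
        rw [this]
        exact hp
      · rw [map_mul, map_mul, map_inv, hpy]
        group
  · intro P
    rw [hcoe]
    exact (Nat.card_congr (Equiv.ofBijective _
      ⟨hinj P, (QuotientGroup.mk' Z).subgroupMap_surjective (P : Subgroup G)⟩)).symm
  · intro P hcyc
    rw [hcoe] at hcyc
    let e : ↥(P : Subgroup G) ≃* ↥((P : Subgroup G).map (QuotientGroup.mk' Z)) :=
      MulEquiv.ofBijective _ ⟨hinj P, (QuotientGroup.mk' Z).subgroupMap_surjective (P : Subgroup G)⟩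
    exact isCyclic_of_surjective e.symm e.symm.surjective

end Cfsg.Agent.Lib.helper18.AIC
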