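import Mathlib
import Cfsg.Agent.Lib.helper42.AICDefs
import Cfsg.Agent.Lib.helper26.Fix2a
import Cfsg.Agent.Lib.helper18.AIC_QB2

set_option autoImplicit false

open Cfsg.Agent.Lib.helper42.AIC

namespace Cfsg.Agent.Lib.helper18.AIC

theorem b2_mem_np {G : Type*} [Group G] (P : Sylow 2 G) (d : G) : d ∈ NP P ↔ d • P = P :=
  Sylow.smul_eq_iff_mem_normalizer.symm

/-- conjugation moves the centralizer of a Sylow subgroup. -/
theorem b2_conj_cp {G : Type*} [Group G] (P : Sylow 2 G) (g y : G) (hy : y ∈ CP P) :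
    g * y * g⁻¹ ∈ CP (g • P) := by
  rw [Subgroup.mem_centralizer_iff]
  intro q hq
  have hq' : g⁻¹ * q * g ∈ (P : Subgroup G) := (qb2_mem_smul P g q).mp hq
  have h := Subgroup.mem_centralizer_iff.mp hy _ hq'
  calc q * (g * y * g⁻¹) = g * ((g⁻¹ * q * g) * y) * g⁻¹ := by group
    _ = g * (y * (g⁻¹ * q * g)) * g⁻¹ := by rw [h]
    _ = g * y * g⁻¹ * q := by group

theorem b2_inv_of_order_two {G : Type*} [Group G] (w : G) (hw : orderOf w = 2) :
    w * w = 1 ∧ w⁻¹ = w ∧ w ≠ 1 := by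
  have h1 : w * w = 1 := by rw [← pow_two, ← hw, pow_orderOf_eq_one]
  refine ⟨h1, inv_eq_of_mul_eq_one_right h1, ?_⟩
  intro h
  rw [h, orderOf_one] at hw
  omega

theorem b2_order_two {G : Type*} [Group G] (i : G) (h1 : i * i = 1) (h2 : i ≠ 1) : orderOf i = 2 := by
  have : Fact (Nat.Prime 2) := ⟨Nat.prime_two⟩
  exact orderOf_eq_prime (by rw [pow_two]; exact h1) h2

/-- B2 core: `C(P) ∩ N(Q) = 1` for `P ≠ Q`, from the Wave 1 facts. -/
theorem cp_inf_np_core {G : Type*} [Group G] [Finite G] (hK : KTI G) (P Q : Sylow 2 G) (hPQ : P ≠ Q)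
    (hA2 : ∀ (R : Sylow 2 G) (t : G), orderOf t = 2 → t ∈ (R : Subgroup G) →
      Subgroup.centralizer ({t} : Set G) = CP R)
    (hA3 : ∀ (R S : Sylow 2 G) (x : G), x ∈ (R : Subgroup G) → x ∈ (S : Subgroup G) → x ≠ 1 → R = S)
    (hA4 : ∀ (R : Sylow 2 G) (x : G), x ∈ NP R → ∀ k : ℕ, x ^ (2 ^ k) = 1 → x ∈ (R : Subgroup G))
    (hA5 : ∀ (R S : Sylow 2 G), R ≠ S → ∀ x : G, x ∈ CP R → x ∈ NP S → Odd (orderOf x))
    (hA7 : Nat.card {i : G // orderOf i = 2 ∧ i • P = Q} =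
      Nat.card {t : G // orderOf t = 2 ∧ t ∈ (P : Subgroup G)})
    (hA10 : ∀ t : G, orderOf t = 2 →
      ∃ R : Sylow 2 G, t ∈ (R : Subgroup G) ∧ Subgroup.centralizer ({t} : Set G) = CP R)
    (hA12 : 3 ≤ Nat.card {t : G // orderOf t = 2 ∧ t ∈ (P : Subgroup G)})
    (hO1 : ∀ (D : Subgroup G), Odd (Nat.card D) → ∀ w : G, w * w = 1 → (∀ d ∈ D, w * d * w⁻¹ ∈ D) →
      Nat.card {d : G // d ∈ D ∧ w * d * w⁻¹ = d⁻¹} * Nat.card {d : G // d ∈ D ∧ w * d = d * w} =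
        Nat.card D)
    (hB1 : ∀ (R : Sylow 2 G) (x : G), Odd (orderOf x) → x ∈ CP R → x ≠ 1 →
      ∀ h : G, h * x = x * h → h ∈ NP R)
    {x : G} (hxP : x ∈ CP P) (hxQ : x ∈ NP Q) : x = 1 := by
  classical
  have hp2 : Fact (Nat.Prime 2) := ⟨Nat.prime_two⟩
  -- the involution w swapping P and Q
  have hne : Nonempty {i : G // orderOf i = 2 ∧ i • P = Q} := by
    have hpos : 0 < Nat.card {i : G // orderOf i = 2 ∧ i • P = Q} := by rw [hA7]; omega
    exact (Nat.card_pos_iff.mp hpos).1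
  obtain ⟨w, hw2, hwP⟩ := hne
  obtain ⟨hww, hwinv, hw1⟩ := b2_inv_of_order_two w hw2
  have hwQ : w • Q = P := by rw [← hwP, smul_smul, hww, one_smul]
  -- an involution t of P
  have hneT : Nonempty {t : G // orderOf t = 2 ∧ t ∈ (P : Subgroup G)} := by
    have hpos : 0 < Nat.card {t : G // orderOf t = 2 ∧ t ∈ (P : Subgroup G)} := by omega
    exact (Nat.card_pos_iff.mp hpos).1
  obtain ⟨t, ht2, htP⟩ := hneT
  -- D and its basic properties
  have hDmem : ∀ d : G, d ∈ NP P ⊓ NP Q ↔ d • P = P ∧ d • Q = Q := by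
    intro d
    rw [Subgroup.mem_inf, b2_mem_np, b2_mem_np]
  have hwD : ∀ d ∈ NP P ⊓ NP Q, w * d * w⁻¹ ∈ NP P ⊓ NP Q := by
    intro d hd
    obtain ⟨h1, h2⟩ := (hDmem d).mp hd
    rw [hDmem, hwinv]
    constructor
    · rw [← smul_smul, ← smul_smul, hwP, h2, hwQ]
    · rw [← smul_smul, ← smul_smul, hwQ, h1, hwP]
  have hDodd : Odd (Nat.card ↥(NP P ⊓ NP Q)) := by
    rw [← Nat.not_even_iff_odd, even_iff_two_dvd]
    intro h2
    obtain ⟨i, hi⟩ := exists_prime_orderOf_dvd_card' 2 h2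
    have hi' : orderOf (i : G) = 2 := by rw [Subgroup.orderOf_coe, hi]
    obtain ⟨hii, -, hi1⟩ := b2_inv_of_order_two (i : G) hi'
    have hik : (i : G) ^ (2 ^ 1) = 1 := by rw [pow_one, pow_two]; exact hii
    have hiP := hA4 P i (Subgroup.mem_inf.mp i.2).1 1 hik
    have hiQ := hA4 Q i (Subgroup.mem_inf.mp i.2).2 1 hik
    exact hPQ (hA3 P Q i hiP hiQ hi1)
  have hDo : ∀ d ∈ NP P ⊓ NP Q, Odd (orderOf d) := fun d hd =>
    Odd.of_dvd_nat hDodd (Subgroup.orderOf_dvd_natCard _ hd)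
  have hCPNP : ∀ R : Sylow 2 G, CP R ≤ NP R := fun R => Subgroup.centralizer_le_normalizer _
  -- N(P) normalizes C(P)
  have hnc : ∀ (R : Sylow 2 G) (n c : G), n ∈ NP R → c ∈ CP R → n * c * n⁻¹ ∈ CP R := by
    intro R n c hn hc
    have h := b2_conj_cp R n c hc
    rw [(b2_mem_np R n).mp hn] at h
    exact h
  -- KTI on D
  have hkti : ∀ e : G, e ∈ NP P ⊓ NP Q → e ∈ CP P → e ∈ CP Q → e = 1 := fun e he h1 h2 =>
    hK P Q hPQ e (hDo e he) h1 h2
  -- (i) the involutions swapping P and Q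
  have hcount1 : Nat.card {d : G // d ∈ NP P ⊓ NP Q ∧ w * d * w⁻¹ = d⁻¹} =
      Nat.card {i : G // orderOf i = 2 ∧ i • P = Q} := by
    apply Nat.card_congr
    refine
      { toFun := fun d => ⟨d.1 * w, ?_, ?_⟩
        invFun := fun i => ⟨i.1 * w, ?_, ?_⟩
        left_inv := ?_
        right_inv := ?_ }
    · obtain ⟨d, hd, hdw⟩ := d
      apply b2_order_two
      · change d * w * (d * w) = 1
        have : d * w * (d * w) = d * (w * d * w⁻¹) * (w * w) := by group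
        rw [this, hdw, hww, mul_inv_cancel, mul_one]
      · change d * w ≠ 1
        intro h
        have hdw' : d = w := by
          rw [← hwinv]
          exact eq_inv_of_mul_eq_one_left h
        have := ((hDmem d).mp hd).1
        rw [hdw', hwP] at this
        exact hPQ this.symm
    · obtain ⟨d, hd, hdw⟩ := d
      change (d * w) • P = Q
      rw [← smul_smul, hwP, ((hDmem d).mp hd).2]
    · obtain ⟨i, hi2, hiP⟩ := i
      obtain ⟨hii, hiinv, -⟩ := b2_inv_of_order_two i hi2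
      have hiQ : i • Q = P := by rw [← hiP, smul_smul, hii, one_smul]
      change i * w ∈ NP P ⊓ NP Q
      rw [hDmem]
      constructor
      · rw [← smul_smul, hwP, hiQ]
      · rw [← smul_smul, hwQ, hiP]
    · obtain ⟨i, hi2, hiP⟩ := i
      obtain ⟨hii, hiinv, -⟩ := b2_inv_of_order_two i hi2
      change w * (i * w) * w⁻¹ = (i * w)⁻¹
      rw [mul_inv_rev, hwinv, hiinv]
      have : w * (i * w) * w = w * i * (w * w) := by group
      rw [this, hww, mul_one]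
    · rintro ⟨d, hd, hdw⟩
      apply Subtype.ext
      change d * w * w = d
      rw [mul_assoc, hww, mul_one]
    · rintro ⟨i, hi2, hiP⟩
      apply Subtype.ext
      change i * w * w = i
      rw [mul_assoc, hww, mul_one]
  have hcardD : Nat.card {t : G // orderOf t = 2 ∧ t ∈ (P : Subgroup G)} *
      Nat.card {d : G // d ∈ NP P ⊓ NP Q ∧ w * d = d * w} = Nat.card ↥(NP P ⊓ NP Q) := by
    rw [← hA7, ← hcount1]
    exact hO1 _ hDodd w hww hwD
  -- (ii) the conjugation action of D on the involutions of P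
  have hcardD2 : Nat.card ↥(NP P ⊓ NP Q) ≤ Nat.card ↥(NP P ⊓ NP Q ⊓ CP P) *
      Nat.card {t : G // orderOf t = 2 ∧ t ∈ (P : Subgroup G)} := by
    have h := Cfsg.Agent.Lib.helper26.Fix2.card_le_of_fibers ((NP P ⊓ NP Q : Subgroup G) : Set G)
      {t' : G | orderOf t' = 2 ∧ t' ∈ (P : Subgroup G)} (fun d => d⁻¹ * t * d)
      (NP P ⊓ NP Q ⊓ CP P) ?_ ?_
    · rw [← Nat.card_coe_set_eq, ← Nat.card_coe_set_eq] at h
      exact h
    · intro d hd
      have hdN : d ∈ NP P := (Subgroup.mem_inf.mp hd).1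
      constructor
      · have : d⁻¹ * t * d = MulAut.conj d⁻¹ t := by rw [MulAut.conj_apply, inv_inv]
        change orderOf (d⁻¹ * t * d) = 2
        rw [this, MulEquiv.orderOf_eq, ht2]
      · have h1 : d⁻¹ ∈ NP P := Subgroup.inv_mem _ hdN
        have h2 := (Subgroup.mem_normalizer_iff.mp h1 t).mp htP
        rw [inv_inv] at h2
        exact h2
    · intro a ha b hb hab
      have hab' : a⁻¹ * t * a = b⁻¹ * t * b := hab
      have hD : a * b⁻¹ ∈ NP P ⊓ NP Q := Subgroup.mul_mem _ ha (Subgroup.inv_mem _ hb)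
      refine Subgroup.mem_inf.mpr ⟨hD, ?_⟩
      rw [← hA2 P t ht2 htP, Subgroup.mem_centralizer_iff]
      intro s hs
      rw [Set.mem_singleton_iff] at hs
      rw [hs]
      have h1 : t = a * (b⁻¹ * t * b) * a⁻¹ := by rw [← hab']; group
      calc t * (a * b⁻¹) = a * (b⁻¹ * t * b) * a⁻¹ * (a * b⁻¹) := by rw [← h1]
        _ = a * b⁻¹ * t := by group
  -- (iii) A and its w-conjugate commute
  have hAw : ∀ y ∈ NP P ⊓ NP Q ⊓ CP P, w * y * w⁻¹ ∈ NP P ⊓ NP Q ∧ w * y * w⁻¹ ∈ CP Q := by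
    intro y hy
    obtain ⟨hyD, hyC⟩ := Subgroup.mem_inf.mp hy
    refine ⟨hwD y hyD, ?_⟩
    have h := b2_conj_cp P w y hyC
    rw [hwP] at h
    exact h
  have hcommAB : ∀ a ∈ NP P ⊓ NP Q ⊓ CP P, ∀ b : G, b ∈ NP P ⊓ NP Q → b ∈ CP Q → a * b = b * a := by
    intro a ha b hbD hbC
    obtain ⟨haD, haC⟩ := Subgroup.mem_inf.mp ha
    have hc1 : a * b * a⁻¹ * b⁻¹ ∈ CP P := by
      have h1 : b * a⁻¹ * b⁻¹ ∈ CP P :=
        hnc P b a⁻¹ (Subgroup.mem_inf.mp hbD).1 (Subgroup.inv_mem _ haC)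
      have h2 : a * b * a⁻¹ * b⁻¹ = a * (b * a⁻¹ * b⁻¹) := by group
      rw [h2]
      exact Subgroup.mul_mem _ haC h1
    have hc2 : a * b * a⁻¹ * b⁻¹ ∈ CP Q := by
      have h1 : a * b * a⁻¹ ∈ CP Q := hnc Q a b (Subgroup.mem_inf.mp haD).2 hbC
      exact Subgroup.mul_mem _ h1 (Subgroup.inv_mem _ hbC)
    have hc3 : a * b * a⁻¹ * b⁻¹ ∈ NP P ⊓ NP Q :=
      Subgroup.mul_mem _ (Subgroup.mul_mem _ (Subgroup.mul_mem _ haD hbD) (Subgroup.inv_mem _ haD))
        (Subgroup.inv_mem _ hbD)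
    have h1 := hkti _ hc3 hc1 hc2
    calc a * b = (a * b * a⁻¹ * b⁻¹) * (b * a) := by group
      _ = b * a := by rw [h1, one_mul]
  have hself : ∀ y ∈ NP P ⊓ NP Q ⊓ CP P, y * (w * y * w⁻¹) = (w * y * w⁻¹) * y := by
    intro y hy
    exact hcommAB y hy _ (hAw y hy).1 (hAw y hy).2
  -- the map A → C_D(w)
  let gmap : ↥(NP P ⊓ NP Q ⊓ CP P) → {d : G // d ∈ NP P ⊓ NP Q ∧ w * d = d * w} := fun y =>
    ⟨y.1 * (w * y.1 * w⁻¹), Subgroup.mul_mem _ (Subgroup.mem_inf.mp y.2).1 (hAw y.1 y.2).1, by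
      have h := hself y.1 y.2
      calc w * (y.1 * (w * y.1 * w⁻¹)) = w * ((w * y.1 * w⁻¹) * y.1) := by rw [h]
        _ = (w * w) * y.1 * w⁻¹ * y.1 := by group
        _ = y.1 * w * y.1 := by rw [hww, one_mul, hwinv]
        _ = y.1 * (w * y.1 * w⁻¹) * w := by group⟩
  have hginj : Function.Injective gmap := by
    intro y y' hyy
    have h := congrArg Subtype.val hyy
    change y.1 * (w * y.1 * w⁻¹) = y'.1 * (w * y'.1 * w⁻¹) at h
    have he : y'.1⁻¹ * y.1 = w * (y'.1 * y.1⁻¹) * w⁻¹ := by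
      have h1 : y'.1⁻¹ * y.1 = (w * y'.1 * w⁻¹) * (w * y.1 * w⁻¹)⁻¹ := by
        rw [eq_mul_inv_iff_mul_eq, mul_assoc, h]
        group
      rw [h1]
      group
    have hyA : y'.1⁻¹ * y.1 ∈ NP P ⊓ NP Q ⊓ CP P := Subgroup.mul_mem _ (Subgroup.inv_mem _ y'.2) y.2
    have hyA' : y'.1 * y.1⁻¹ ∈ NP P ⊓ NP Q ⊓ CP P := Subgroup.mul_mem _ y'.2 (Subgroup.inv_mem _ y.2)
    have h2 : y'.1⁻¹ * y.1 ∈ CP Q := by
      rw [he]
      exact (hAw _ hyA').2
    have h3 := hkti _ (Subgroup.mem_inf.mp hyA).1 (Subgroup.mem_inf.mp hyA).2 h2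
    apply Subtype.ext
    exact (inv_mul_eq_one.mp h3).symm
  have hcardle : Nat.card {d : G // d ∈ NP P ⊓ NP Q ∧ w * d = d * w} ≤
      Nat.card ↥(NP P ⊓ NP Q ⊓ CP P) := by
    have hm : 0 < Nat.card {t : G // orderOf t = 2 ∧ t ∈ (P : Subgroup G)} := by omega
    have h1 : Nat.card {t : G // orderOf t = 2 ∧ t ∈ (P : Subgroup G)} *
        Nat.card {d : G // d ∈ NP P ⊓ NP Q ∧ w * d = d * w} ≤
        Nat.card {t : G // orderOf t = 2 ∧ t ∈ (P : Subgroup G)} *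
          Nat.card ↥(NP P ⊓ NP Q ⊓ CP P) := by
      rw [hcardD, mul_comm]
      exact hcardD2
    exact Nat.le_of_mul_le_mul_left h1 hm
  have hgbij : Function.Bijective gmap := hginj.bijective_of_nat_card_le hcardle
  -- (iv)
  have hxo : Odd (orderOf x) := hA5 P Q hPQ x hxP hxQ
  have hxD : x ∈ NP P ⊓ NP Q := Subgroup.mem_inf.mpr ⟨hCPNP P hxP, hxQ⟩
  have hxA : x ∈ NP P ⊓ NP Q ⊓ CP P := Subgroup.mem_inf.mpr ⟨hxD, hxP⟩
  have hfin : ∀ y ∈ NP P ⊓ NP Q ⊓ CP P, y * (w * y * w⁻¹) = 1 → y = 1 := by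
    intro y hy h
    have h1 : y⁻¹ = w * y * w⁻¹ := inv_eq_of_mul_eq_one_right h
    have h2 : y⁻¹ ∈ CP Q := by rw [h1]; exact (hAw y hy).2
    have h3 := hkti y⁻¹ (Subgroup.inv_mem _ (Subgroup.mem_inf.mp hy).1)
      (Subgroup.inv_mem _ (Subgroup.mem_inf.mp hy).2) h2
    exact inv_eq_one.mp h3
  by_cases hg1 : x * (w * x * w⁻¹) = 1
  · exact hfin x hxA hg1
  · obtain ⟨R, hwR, hCR⟩ := hA10 w hw2
    have hgD : x * (w * x * w⁻¹) ∈ NP P ⊓ NP Q := (gmap ⟨x, hxA⟩).2.1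
    have hgw : w * (x * (w * x * w⁻¹)) = x * (w * x * w⁻¹) * w := (gmap ⟨x, hxA⟩).2.2
    have hgR : x * (w * x * w⁻¹) ∈ CP R := by
      rw [← hCR, Subgroup.mem_centralizer_iff]
      intro s hs
      rw [Set.mem_singleton_iff] at hs
      rw [hs]
      exact hgw
    have hxg : x * (x * (w * x * w⁻¹)) = x * (w * x * w⁻¹) * x := by
      have h := hself x hxA
      calc x * (x * (w * x * w⁻¹)) = x * ((w * x * w⁻¹) * x) := by rw [h]
        _ = x * (w * x * w⁻¹) * x := by group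
    have hxR : x ∈ NP R := hB1 R _ (hDo _ hgD) hgR hg1 x hxg
    have hxwR : x * w * x⁻¹ ∈ (R : Subgroup G) := (Subgroup.mem_normalizer_iff.mp hxR w).mp hwR
    have huR : w * (x * w * x⁻¹) ∈ (R : Subgroup G) := Subgroup.mul_mem _ hwR hxwR
    have hxPfix : x • P = P := (b2_mem_np P x).mp (hCPNP P hxP)
    have hxQfix : x • Q = Q := (b2_mem_np Q x).mp hxQ
    have hxinvP : x⁻¹ • P = P := by
      conv_lhs => rw [← hxPfix]
      rw [smul_smul, inv_mul_cancel, one_smul]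
    have huP : w * (x * w * x⁻¹) ∈ NP P := by
      rw [b2_mem_np, ← smul_smul, ← smul_smul, ← smul_smul, hxinvP, hwP, hxQfix, hwQ]
    obtain ⟨k, hk⟩ := qb2_two_pow R _ huR
    have huP' := hA4 P _ huP k hk
    have hu1 : w * (x * w * x⁻¹) = 1 := by
      by_contra hne1
      have hRP := hA3 R P _ huR huP' hne1
      rw [hRP] at hwR
      have hwNP : w ∈ NP P := Subgroup.le_normalizer hwR
      rw [b2_mem_np, hwP] at hwNP
      exact hPQ hwNP.symm
    have hxw : w * x = x * w := by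
      have h1 : x * w * x⁻¹ = w := by
        have := eq_inv_of_mul_eq_one_right hu1
        rw [this, hwinv]
      calc w * x = (x * w * x⁻¹) * x := by rw [h1]
        _ = x * w := by group
    obtain ⟨⟨y, hyA⟩, hy⟩ := hgbij.2 ⟨x, hxD, hxw⟩
    have hy' : y * (w * y * w⁻¹) = x := congrArg Subtype.val hy
    have h1 : y⁻¹ * x = w * y * w⁻¹ := by rw [← hy']; group
    have h2 : y⁻¹ * x ∈ NP P ⊓ NP Q ⊓ CP P := Subgroup.mul_mem _ (Subgroup.inv_mem _ hyA) hxA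
    have h3 : y⁻¹ * x ∈ CP Q := by rw [h1]; exact (hAw y hyA).2
    have h4 := hkti _ (Subgroup.mem_inf.mp h2).1 (Subgroup.mem_inf.mp h2).2 h3
    have h5 : w * y * w⁻¹ = 1 := by rw [← h1, h4]
    have h6 : y = 1 := by
      have : y = w⁻¹ * (w * y * w⁻¹) * w := by group
      rw [this, h5]
      group
    rw [← hy', h6]
    group

end Cfsg.Agent.Lib.helper18.AIC
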