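import Mathlib

set_option autoImplicit false

namespace Cfsg.Agent.Lib.helper18

/-- orbit-stabilizer count for a linear representation, `Nat.card` form. -/
theorem hta_orbit_mul_stab {q : ℕ} {V : Type*} [AddCommGroup V] [Module (ZMod q) V] [Finite V]
    {G : Type*} [Group G] [Finite G] (ρ : G →* (V ≃ₗ[ZMod q] V)) (v : V) :
    Nat.card {g : G // ρ g v = v} * Nat.card {u : V | ∃ g : G, ρ g v = u} = Nat.card G := by
  classical
  let _ : MulAction G V := MulAction.compHom V ρ
  have hsm : ∀ (g : G) (w : V), g • w = ρ g w := fun g w => rfl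
  have h1 := Subgroup.card_mul_index (MulAction.stabilizer G v)
  rw [MulAction.index_stabilizer] at h1
  have e1 : Nat.card (MulAction.stabilizer G v) = Nat.card {g : G // ρ g v = v} := by
    apply Nat.card_congr
    exact Equiv.subtypeEquivRight (fun g => by rw [MulAction.mem_stabilizer_iff, hsm])
  have e2 : (MulAction.orbit G v).ncard = Nat.card {u : V | ∃ g : G, ρ g v = u} := by
    rw [← Nat.card_coe_set_eq]
    apply Nat.card_congr
    apply Equiv.setCongr
    ext u
    simp only [MulAction.mem_orbit_iff, hsm]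
    rfl
  rw [e1, e2] at h1
  exact h1

/-- PIECE A -/
theorem ht_stab_card {q : ℕ} [Fact q.Prime] {V : Type*} [AddCommGroup V] [Module (ZMod q) V] [Finite V]
    {G : Type*} [Group G] [Finite G] (ρ : G →* (V ≃ₗ[ZMod q] V))
    (hhalf : ∀ v w : V, v ≠ 0 → w ≠ 0 →
      Nat.card {u : V | ∃ g : G, ρ g v = u} = Nat.card {u : V | ∃ g : G, ρ g w = u}) :
    ∀ v w : V, v ≠ 0 → w ≠ 0 → Nat.card {g : G // ρ g v = v} = Nat.card {g : G // ρ g w = w} := by
  intro v w hv hw
  have h1 := hta_orbit_mul_stab ρ v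
  have h2 := hta_orbit_mul_stab ρ w
  rw [hhalf v w hv hw] at h1
  have hpos : 0 < Nat.card {u : V | ∃ g : G, ρ g w = u} := by
    rcases Nat.eq_zero_or_pos (Nat.card {u : V | ∃ g : G, ρ g w = u}) with h0 | h0
    · rw [h0, Nat.mul_zero] at h2
      exact absurd h2.symm (Nat.card_pos (α := G)).ne'
    · exact h0
  exact Nat.eq_of_mul_eq_mul_right hpos (h1.trans h2.symm)

end Cfsg.Agent.Lib.helper18
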