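import Mathlib

set_option autoImplicit false

namespace Cfsg.Agent.Lib.helper18

/-- a subtype of a finite type with full cardinality is everything. -/
theorem htd_all_of_card {G : Type*} [Finite G] (P : G → Prop)
    (h : Nat.card {g : G // P g} = Nat.card G) : ∀ g : G, P g := by
  classical
  intro g
  have hinj : Function.Injective (Subtype.val : {g : G // P g} → G) := Subtype.val_injective
  have hbij : Function.Bijective (Subtype.val : {g : G // P g} → G) :=
    (Nat.bijective_iff_injective_and_card _).mpr ⟨hinj, h⟩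
  obtain ⟨⟨g', hg'⟩, rfl⟩ := hbij.2 g
  exact hg'

/-- PIECE D -/
theorem ht_same_char {q : ℕ} [Fact q.Prime] {V : Type*} [AddCommGroup V] [Module (ZMod q) V] [Finite V]
    [Nontrivial V] {G : Type*} [Group G] [Finite G] (hG : IsPGroup q G)
    (ρ : G →* (V ≃ₗ[ZMod q] V)) (hρ : Function.Injective ρ)
    (hst : ∀ v w : V, v ≠ 0 → w ≠ 0 → Nat.card {g : G // ρ g v = v} = Nat.card {g : G // ρ g w = w}) :
    ∀ g : G, g = 1 := by
  classical
  have hq : q.Prime := Fact.out
  let _ : MulAction G V := MulAction.compHom V ρ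
  have hsm : ∀ (g : G) (w : V), g • w = ρ g w := fun g w => rfl
  -- q divides card V
  have hqV : q ∣ Nat.card V := by
    obtain ⟨v, hv⟩ := exists_ne (0 : V)
    have h1 : addOrderOf v ∣ q := by
      apply addOrderOf_dvd_of_nsmul_eq_zero
      have : (q : ZMod q) • v = 0 := by rw [ZMod.natCast_self, zero_smul]
      rwa [Nat.cast_smul_eq_nsmul] at this
    have h2 : addOrderOf v = q := by
      rcases (Nat.dvd_prime hq).mp h1 with h | h
      · exact absurd (AddMonoid.addOrderOf_eq_one_iff.mp h) hv
      · exact h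
    rw [← h2]
    exact addOrderOf_dvd_natCard v
  have h0 : (0 : V) ∈ MulAction.fixedPoints G V := by
    intro g
    rw [hsm, map_zero]
  obtain ⟨v₀, hv₀, hne⟩ := hG.exists_fixed_point_of_prime_dvd_card_of_fixed_point V hqV h0
  have hv₀0 : v₀ ≠ 0 := fun h => hne h.symm
  have hall : Nat.card {g : G // ρ g v₀ = v₀} = Nat.card G := by
    apply Nat.card_congr
    exact Equiv.subtypeUnivEquiv (fun g => by rw [← hsm]; exact hv₀ g)
  intro g
  apply hρ
  rw [map_one]
  ext w
  rw [LinearEquiv.coe_one, id_eq]
  by_cases hw : w = 0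
  · rw [hw, map_zero]
  · have := hst w v₀ hw hv₀0
    rw [hall] at this
    exact htd_all_of_card (fun g => ρ g w = w) this g

end Cfsg.Agent.Lib.helper18
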