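import Mathlib

set_option autoImplicit false

namespace Cfsg.Agent.Lib.helper18

open DihedralGroup

theorem htdih_comm_one : ∀ a b : DihedralGroup 1, a * b = b * a := by decide

theorem htdih_comm_two : ∀ a b : DihedralGroup 2, a * b = b * a := by decide

/-- PIECE DIH0 -/
theorem ht_dih_small {G : Type*} [Group G] [Finite G] {p : ℕ} [Fact p.Prime] (hG : IsPGroup p G)
    (n : ℕ) (e : G ≃* DihedralGroup n) :
    (∀ a b : G, a * b = b * a) ∨ (p = 2 ∧ ∃ k : ℕ, 2 ≤ k ∧ n = 2 ^ k) := by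
  have hp : p.Prime := Fact.out
  have hcard : Nat.card G = 2 * n := by
    rw [Nat.card_congr e.toEquiv, DihedralGroup.nat_card]
  have hn0 : n ≠ 0 := by
    intro h
    rw [h, Nat.mul_zero] at hcard
    exact (Nat.card_pos (α := G)).ne' hcard
  obtain ⟨m, hm⟩ := (IsPGroup.iff_card.mp hG)
  rw [hcard] at hm
  have h2p : 2 ∣ p ^ m := ⟨n, hm.symm⟩
  have hp2 : p = 2 := ((Nat.prime_dvd_prime_iff_eq Nat.prime_two hp).mp
    (Nat.prime_two.dvd_of_dvd_pow h2p)).symm
  subst hp2
  have hm0 : m ≠ 0 := by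
    intro h
    rw [h, pow_zero] at hm
    omega
  obtain ⟨k, rfl⟩ := Nat.exists_eq_succ_of_ne_zero hm0
  have hnk : n = 2 ^ k := by
    rw [pow_succ] at hm
    omega
  by_cases hk : 2 ≤ k
  · exact Or.inr ⟨rfl, k, hk, hnk⟩
  · left
    have hk' : k = 0 ∨ k = 1 := by omega
    intro a b
    apply e.injective
    rw [map_mul, map_mul]
    rcases hk' with h | h
    · subst h
      have : n = 1 := by rw [hnk]; rfl
      subst this
      exact htdih_comm_one _ _
    · subst h
      have : n = 2 := by rw [hnk]; rfl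
      subst this
      exact htdih_comm_two _ _

/-- in `ZMod (2^k)`, `i + i = 0` forces `i = 0` or `i = 2^(k-1)`. -/
theorem htdih_double_zero (k : ℕ) (hk : 1 ≤ k) (i : ZMod (2 ^ k)) (h : i + i = 0) :
    i = 0 ∨ i = ((2 ^ (k - 1) : ℕ) : ZMod (2 ^ k)) := by
  have hpos : 0 < 2 ^ k := by positivity
  have : NeZero (2 ^ k) := ⟨hpos.ne'⟩
  have hlt : i.val < 2 ^ k := ZMod.val_lt i
  have hi : ((i.val + i.val : ℕ) : ZMod (2 ^ k)) = 0 := by
    rw [Nat.cast_add, ZMod.natCast_zmod_val, h]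
  rw [ZMod.natCast_eq_zero_iff] at hi
  have hsplit : 2 ^ k = 2 * 2 ^ (k - 1) := by
    rw [← pow_succ']
    congr 1
    omega
  obtain ⟨c, hc⟩ := hi
  have hlt' : i.val < 2 * 2 ^ (k - 1) := by rw [← hsplit]; exact hlt
  have hc2 : i.val + i.val = 2 * 2 ^ (k - 1) * c := by rw [← hsplit]; exact hc
  have hc' : i.val = 2 ^ (k - 1) * c := by
    have : 2 * i.val = 2 * (2 ^ (k - 1) * c) := by rw [← mul_assoc, ← hc2]; ring
    omega
  have hcl : c < 2 := by
    by_contra hcon
    have h2c : 2 ≤ c := by omega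
    have : 2 ^ (k - 1) * 2 ≤ 2 ^ (k - 1) * c := Nat.mul_le_mul_left _ h2c
    omega
  have hc01 : c = 0 ∨ c = 1 := by omega
  rcases hc01 with h0 | h1
  · left
    rw [h0, Nat.mul_zero] at hc'
    exact (ZMod.val_eq_zero i).mp hc'
  · right
    rw [h1, Nat.mul_one] at hc'
    rw [← hc', ZMod.natCast_zmod_val]

/-- PIECE DIH -/
theorem ht_dih {G : Type*} [Group G] [Finite G] (k : ℕ) (hk : 2 ≤ k) (e : G ≃* DihedralGroup (2 ^ k)) :
    ∃ x : G, orderOf x = 2 ^ k ∧
      (∀ t : G, t ^ 2 = 1 → t ≠ 1 → t ≠ x ^ (2 ^ (k - 1)) →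
        ∃ u : G, t * u * t⁻¹ = u * x ^ (2 ^ (k - 1))) ∧
      Nat.card {t : G // t ^ 2 = 1 ∧ t ≠ 1 ∧ t ≠ x ^ (2 ^ (k - 1))} = 2 ^ k := by
  classical
  have hpos : 0 < 2 ^ k := by positivity
  have : NeZero (2 ^ k) := ⟨hpos.ne'⟩
  have hex : e (e.symm (r 1) ^ (2 ^ (k - 1))) = r ((2 ^ (k - 1) : ℕ) : ZMod (2 ^ k)) := by
    rw [map_pow, MulEquiv.apply_symm_apply, DihedralGroup.r_one_pow]
  -- classification of the relevant involutions
  have hcls : ∀ d : DihedralGroup (2 ^ k), d ^ 2 = 1 → d ≠ 1 →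
      d ≠ r ((2 ^ (k - 1) : ℕ) : ZMod (2 ^ k)) → ∃ i, d = sr i := by
    intro d hd2 hd1 hdz
    rcases d with i | i
    · exfalso
      rw [pow_two, DihedralGroup.r_mul_r, DihedralGroup.one_def] at hd2
      have hii : i + i = 0 := by
        injection hd2
      rcases htdih_double_zero k (by omega) i hii with h | h
      · exact hd1 (by rw [h, DihedralGroup.one_def])
      · exact hdz (by rw [h])
    · exact ⟨i, rfl⟩
  have hsr_ne_r : ∀ (i j : ZMod (2 ^ k)), (sr i : DihedralGroup (2 ^ k)) ≠ r j := by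
    intro i j h
    cases h
  refine ⟨e.symm (r 1), ?_, ?_, ?_⟩
  · rw [MulEquiv.orderOf_eq e.symm, DihedralGroup.orderOf_r_one]
  · intro t ht2 ht1 htz
    have h1 : e t ^ 2 = 1 := by rw [← map_pow, ht2, map_one]
    have h2 : e t ≠ 1 := fun h => ht1 (e.injective (by rw [h, map_one]))
    have h3 : e t ≠ r ((2 ^ (k - 1) : ℕ) : ZMod (2 ^ k)) := by
      intro h
      apply htz
      apply e.injective
      rw [h, hex]
    obtain ⟨i, hi⟩ := hcls (e t) h1 h2 h3
    refine ⟨e.symm (r ((2 ^ (k - 2) : ℕ) : ZMod (2 ^ k))), ?_⟩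
    apply e.injective
    rw [map_mul, map_mul, map_mul, map_inv, hi, MulEquiv.apply_symm_apply, hex,
      DihedralGroup.sr_mul_r, DihedralGroup.r_mul_r]
    have hinv : (sr i : DihedralGroup (2 ^ k))⁻¹ = sr i := by
      rw [inv_eq_iff_mul_eq_one, DihedralGroup.sr_mul_sr, sub_self, DihedralGroup.one_def]
    rw [hinv, DihedralGroup.sr_mul_sr]
    congr 1
    have hsum : ((2 ^ (k - 2) : ℕ) : ZMod (2 ^ k)) + ((2 ^ (k - 2) : ℕ) : ZMod (2 ^ k))
        + ((2 ^ (k - 1) : ℕ) : ZMod (2 ^ k)) = 0 := by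
      rw [← Nat.cast_add, ← Nat.cast_add, ZMod.natCast_eq_zero_iff]
      have e1 : 2 ^ (k - 2) + 2 ^ (k - 2) = 2 ^ (k - 1) := by
        rw [← two_mul, ← pow_succ']
        congr 1
        omega
      have e2 : 2 ^ (k - 1) + 2 ^ (k - 1) = 2 ^ k := by
        rw [← two_mul, ← pow_succ']
        congr 1
        omega
      rw [e1, e2]
    linear_combination (-1 : ZMod (2 ^ k)) * hsum
  · have eq1 : {t : G // t ^ 2 = 1 ∧ t ≠ 1 ∧ t ≠ e.symm (r 1) ^ (2 ^ (k - 1))} ≃
        {d : DihedralGroup (2 ^ k) // d ^ 2 = 1 ∧ d ≠ 1 ∧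
          d ≠ r ((2 ^ (k - 1) : ℕ) : ZMod (2 ^ k))} := by
      refine e.toEquiv.subtypeEquiv ?_
      intro t
      constructor
      · rintro ⟨a, b, c⟩
        refine ⟨?_, ?_, ?_⟩
        · change e t ^ 2 = 1
          rw [← map_pow, a, map_one]
        · intro h
          exact b (e.injective (by rw [map_one]; exact h))
        · intro h
          apply c
          apply e.injective
          rw [hex]
          exact h
      · rintro ⟨a, b, c⟩
        refine ⟨?_, ?_, ?_⟩
        · apply e.injective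
          rw [map_pow, map_one]
          exact a
        · intro h
          apply b
          change e t = 1
          rw [h, map_one]
        · intro h
          apply c
          change e t = _
          rw [h, hex]
    have eq2 : ZMod (2 ^ k) ≃ {d : DihedralGroup (2 ^ k) // d ^ 2 = 1 ∧ d ≠ 1 ∧
          d ≠ r ((2 ^ (k - 1) : ℕ) : ZMod (2 ^ k))} := by
      refine Equiv.ofBijective (fun i => ⟨sr i, ?_, ?_, ?_⟩) ⟨?_, ?_⟩
      · rw [pow_two, DihedralGroup.sr_mul_sr, sub_self, DihedralGroup.one_def]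
      · rw [DihedralGroup.one_def]
        exact hsr_ne_r i 0
      · exact hsr_ne_r i _
      · intro i j hij
        have := congrArg Subtype.val hij
        simp only at this
        injection this
      · rintro ⟨d, hd2, hd1, hdz⟩
        obtain ⟨i, rfl⟩ := hcls d hd2 hd1 hdz
        exact ⟨i, rfl⟩
    rw [Nat.card_congr eq1, ← Nat.card_congr eq2, Nat.card_zmod]

end Cfsg.Agent.Lib.helper18
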