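import Mathlib

/-!
Pieces K1, K2 of the S3371 split (architect helper14): pure arithmetic.
-/

set_option autoImplicit false

namespace Cfsg.Agent.Lib.helper18

/-- `((r+1)^(2e+1) + 1) / (r + 2)` -/
def htkMinus (r : ℕ) : ℕ → ℕ
  | 0 => 1
  | (e + 1) => htkMinus r e + (r + 1) ^ (2 * e + 1) * r

/-- `((r+1)^(2e+1) - 1) / r` -/
def htkPlus (r : ℕ) : ℕ → ℕ
  | 0 => 1
  | (e + 1) => htkPlus r e + (r + 1) ^ (2 * e + 1) * (r + 2)

theorem htkMinus_mul (r e : ℕ) : (r + 2) * htkMinus r e = (r + 1) ^ (2 * e + 1) + 1 := by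
  induction e with
  | zero => simp [htkMinus]
  | succ e ih =>
    have h1 : htkMinus r (e + 1) = htkMinus r e + (r + 1) ^ (2 * e + 1) * r := rfl
    have h2 : (r + 1) ^ (2 * (e + 1) + 1) = (r + 1) ^ (2 * e + 1) * ((r + 1) * (r + 1)) := by
      rw [show 2 * (e + 1) + 1 = (2 * e + 1) + 2 by ring, pow_add]
      ring
    rw [h1, mul_add, ih, h2]
    ring

theorem htkPlus_mul (r e : ℕ) : htkPlus r e * r + 1 = (r + 1) ^ (2 * e + 1) := by
  induction e with
  | zero => simp [htkPlus]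
  | succ e ih =>
    have h1 : htkPlus r (e + 1) = htkPlus r e + (r + 1) ^ (2 * e + 1) * (r + 2) := rfl
    have h2 : (r + 1) ^ (2 * (e + 1) + 1) = (r + 1) ^ (2 * e + 1) * ((r + 1) * (r + 1)) := by
      rw [show 2 * (e + 1) + 1 = (2 * e + 1) + 2 by ring, pow_add]
      ring
    rw [h1, h2, ← ih]
    ring

theorem htkMinus_odd (r e : ℕ) (hr : Even r) : Odd (htkMinus r e) := by
  induction e with
  | zero => exact ⟨0, rfl⟩
  | succ e ih =>
    have h1 : htkMinus r (e + 1) = htkMinus r e + (r + 1) ^ (2 * e + 1) * r := rfl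
    rw [h1]
    exact ih.add_even (hr.mul_left _)

theorem htkPlus_odd (r e : ℕ) (hr : Even r) : Odd (htkPlus r e) := by
  induction e with
  | zero => exact ⟨0, rfl⟩
  | succ e ih =>
    have h1 : htkPlus r (e + 1) = htkPlus r e + (r + 1) ^ (2 * e + 1) * (r + 2) := rfl
    rw [h1]
    have h2 : Even (r + 2) := hr.add even_two
    exact ih.add_even (h2.mul_left _)

theorem htk_odd_dvd_two_pow {s m : ℕ} (hs : Odd s) (h : s ∣ 2 ^ m) : s = 1 := by
  obtain ⟨j, -, rfl⟩ := (Nat.dvd_prime_pow Nat.prime_two).mp h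
  rcases j with _ | j
  · simp
  · exfalso
    rw [pow_succ] at hs
    exact (Nat.not_even_iff_odd.mpr hs) (even_two.mul_left _)

/-- PIECE K1 -/
theorem ht_arith_minus {q d k : ℕ} (hq : q.Prime) (hk : 2 ≤ k) (h : q ^ d + 1 = 2 ^ k) : d = 1 := by
  have h4 : 4 ∣ 2 ^ k := by
    have : (2 : ℕ) ^ 2 ∣ 2 ^ k := pow_dvd_pow 2 hk
    simpa using this
  rcases Nat.eq_zero_or_pos d with hd0 | hdpos
  · exfalso
    subst hd0
    rw [pow_zero] at h
    obtain ⟨c, hc⟩ := h4
    omega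
  rcases hq.eq_two_or_odd' with hq2 | hqodd
  · exfalso
    subst hq2
    have he : Even (2 ^ d) := (Nat.even_pow' (by omega)).mpr even_two
    obtain ⟨c, hc⟩ := h4
    obtain ⟨a, ha⟩ := he
    omega
  obtain ⟨r, rfl⟩ : ∃ r, q = r + 1 := ⟨q - 1, by have := hq.two_le; omega⟩
  have hreven : Even r := by
    rcases hqodd with ⟨a, ha⟩
    exact ⟨a, by omega⟩
  rcases Nat.even_or_odd' d with ⟨e, he | he⟩
  · exfalso
    subst he
    have hx : Odd ((r + 1) ^ e) := hqodd.pow
    obtain ⟨y, hy⟩ := hx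
    have h5 : (r + 1) ^ (2 * e) = ((r + 1) ^ e) * ((r + 1) ^ e) := by
      rw [two_mul, pow_add]
    rw [h5, hy] at h
    have h6 : (2 * y + 1) * (2 * y + 1) = 4 * (y * y + y) + 1 := by ring
    rw [h6] at h
    obtain ⟨c, hc⟩ := h4
    omega
  · subst he
    have h1 := htkMinus_mul r e
    rw [h] at h1
    have hdv : htkMinus r e ∣ 2 ^ k := ⟨r + 2, by rw [← h1]; ring⟩
    have hone := htk_odd_dvd_two_pow (htkMinus_odd r e hreven) hdv
    rw [hone, mul_one] at h1
    have h7 : (r + 1) ^ (2 * e + 1) = (r + 1) ^ 1 := by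
      rw [pow_one]
      omega
    exact Nat.pow_right_injective hq.two_le h7

/-- PIECE K2 -/
theorem ht_arith_plus {q d m : ℕ} (hq : q.Prime) (h : q ^ d = 2 ^ m + 1) :
    d = 1 ∨ (q = 3 ∧ d = 2) := by
  have hpos : 0 < 2 ^ m := pow_pos (by norm_num) m
  rcases Nat.eq_zero_or_pos d with hd0 | hdpos
  · exfalso
    subst hd0
    rw [pow_zero] at h
    omega
  rcases hq.eq_two_or_odd' with hq2 | hqodd
  · left
    subst hq2
    rcases Nat.eq_zero_or_pos m with hm0 | hmpos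
    · subst hm0
      have h7 : 2 ^ d = 2 ^ 1 := by
        rw [h]
        norm_num
      exact Nat.pow_right_injective (le_refl 2) h7
    · exfalso
      have he : Even (2 ^ d) := (Nat.even_pow' (by omega)).mpr even_two
      have he' : Even (2 ^ m) := (Nat.even_pow' (by omega)).mpr even_two
      obtain ⟨a, ha⟩ := he
      obtain ⟨b, hb⟩ := he'
      omega
  obtain ⟨r, rfl⟩ : ∃ r, q = r + 1 := ⟨q - 1, by have := hq.two_le; omega⟩
  have hreven : Even r := by
    rcases hqodd with ⟨a, ha⟩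
    exact ⟨a, by omega⟩
  rcases Nat.even_or_odd' d with ⟨e, he | he⟩
  · right
    subst he
    have he1 : 1 ≤ e := by omega
    have hx : Odd ((r + 1) ^ e) := hqodd.pow
    have hx3 : 3 ≤ (r + 1) ^ e := by
      have h1 : (r + 1) ^ 1 ≤ (r + 1) ^ e := Nat.pow_le_pow_right (by omega) he1
      have h2 := hq.two_le
      rw [pow_one] at h1
      obtain ⟨y, hy⟩ := hx
      obtain ⟨a, ha⟩ := hreven
      omega
    obtain ⟨y, hy⟩ : ∃ y, (r + 1) ^ e = y + 1 := ⟨(r + 1) ^ e - 1, by omega⟩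
    have h5 : (r + 1) ^ (2 * e) = ((r + 1) ^ e) * ((r + 1) ^ e) := by
      rw [two_mul, pow_add]
    rw [h5, hy] at h
    have h6 : (y + 1) * (y + 1) = y * (y + 2) + 1 := by ring
    rw [h6] at h
    have hprod : y * (y + 2) = 2 ^ m := by omega
    have hd1 : y ∣ 2 ^ m := ⟨y + 2, hprod.symm⟩
    have hd2 : y + 2 ∣ 2 ^ m := ⟨y, by rw [← hprod]; ring⟩
    obtain ⟨a, -, ha⟩ := (Nat.dvd_prime_pow Nat.prime_two).mp hd1
    obtain ⟨b, -, hb⟩ := (Nat.dvd_prime_pow Nat.prime_two).mp hd2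
    have hab : a < b := by
      by_contra hcon
      have : 2 ^ b ≤ 2 ^ a := Nat.pow_le_pow_right (by norm_num) (by omega)
      omega
    have hdvd : y ∣ y + 2 := by
      rw [hb, ha]
      exact pow_dvd_pow 2 hab.le
    have hy2 : y ∣ 2 := (Nat.dvd_add_right (dvd_refl y)).mp hdvd
    have hyle : y ≤ 2 := Nat.le_of_dvd (by norm_num) hy2
    have hy2' : y = 2 := by omega
    subst hy2'
    have hq3 : r + 1 = 3 := by
      have hdq : r + 1 ∣ 3 := by
        have : r + 1 ∣ (r + 1) ^ e := dvd_pow_self _ (by omega)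
        rw [hy] at this
        exact this
      exact (Nat.prime_dvd_prime_iff_eq hq Nat.prime_three).mp hdq
    refine ⟨hq3, ?_⟩
    rw [hq3] at hy
    have h7 : 3 ^ e = 3 ^ 1 := by
      rw [hy]
      norm_num
    have := Nat.pow_right_injective (show 2 ≤ 3 by norm_num) h7
    omega
  · left
    subst he
    have h1 := htkPlus_mul r e
    rw [h] at h1
    have hprod : htkPlus r e * r = 2 ^ m := by omega
    have hdv : htkPlus r e ∣ 2 ^ m := ⟨r, hprod.symm⟩
    have hone := htk_odd_dvd_two_pow (htkPlus_odd r e hreven) hdv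
    rw [hone, one_mul] at hprod
    have h7 : (r + 1) ^ (2 * e + 1) = (r + 1) ^ 1 := by
      rw [pow_one, h, hprod]
    exact Nat.pow_right_injective hq.two_le h7

end Cfsg.Agent.Lib.helper18
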