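import Mathlib
import Cfsg.Agent.Lib.helper2.BFDefs

set_option autoImplicit false

open Cfsg Cfsg.Agent.Lib.helper20.D1E

namespace Cfsg.Agent.Lib.helper18

theorem h18_zeta_prim (p : ℕ) [Fact p.Prime] : IsPrimitiveRoot (zeta p) p := by
  have hp : p.Prime := Fact.out
  exact Complex.isPrimitiveRoot_exp p hp.pos.ne'

theorem h18_zeta_int (p : ℕ) [Fact p.Prime] : IsIntegral ℤ (zeta p) := by
  have hp : p.Prime := Fact.out
  exact (h18_zeta_prim p).isIntegral hp.pos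

theorem h18_zeta_pow_p (p : ℕ) [Fact p.Prime] : zeta p ^ p = 1 := (h18_zeta_prim p).pow_eq_one

theorem h18_zeta_ne_one (p : ℕ) [Fact p.Prime] : zeta p ≠ 1 := by
  have hp : p.Prime := Fact.out
  exact (h18_zeta_prim p).ne_one hp.one_lt

/-- exponents of `ζ` only matter modulo `p`. -/
theorem h18_zeta_pow_mod (p : ℕ) [Fact p.Prime] (n : ℕ) : zeta p ^ (n % p) = zeta p ^ n := by
  conv_rhs => rw [← Nat.mod_add_div n p]
  rw [pow_add, pow_mul, h18_zeta_pow_p, one_pow, mul_one]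

theorem h18_zeta_pow_val (p : ℕ) [Fact p.Prime] (n : ℕ) :
    zeta p ^ ((n : ZMod p).val) = zeta p ^ n := by
  rw [ZMod.val_natCast, h18_zeta_pow_mod]

/-- `ζ^k - 1 = (ζ - 1) u` with `u` a unit of the ring of algebraic integers, for `k` prime to `p`. -/
theorem h18_zeta_pow_sub_one (p : ℕ) [Fact p.Prime] (k : ZMod p) (hk : k ≠ 0) :
    ∃ u v : ℂ, IsIntegral ℤ u ∧ IsIntegral ℤ v ∧ u * v = 1 ∧
      zeta p ^ k.val - 1 = (zeta p - 1) * u := by
  have hp : p.Prime := Fact.out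
  have hz := h18_zeta_int p
  refine ⟨∑ i ∈ Finset.range k.val, zeta p ^ i,
    ∑ j ∈ Finset.range (k⁻¹).val, (zeta p ^ k.val) ^ j, ?_, ?_, ?_, ?_⟩
  · exact IsIntegral.sum _ (fun i _ => hz.pow i)
  · exact IsIntegral.sum _ (fun j _ => (hz.pow _).pow j)
  · have h1 : (∑ i ∈ Finset.range k.val, zeta p ^ i) * (zeta p - 1) = zeta p ^ k.val - 1 :=
      geom_sum_mul (zeta p) k.val
    have h2 : (∑ j ∈ Finset.range (k⁻¹).val, (zeta p ^ k.val) ^ j) * (zeta p ^ k.val - 1) =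
        (zeta p ^ k.val) ^ (k⁻¹).val - 1 := geom_sum_mul (zeta p ^ k.val) (k⁻¹).val
    have h3 : (zeta p ^ k.val) ^ (k⁻¹).val = zeta p := by
      rw [← pow_mul, ← h18_zeta_pow_val, Nat.cast_mul, ZMod.natCast_zmod_val, ZMod.natCast_zmod_val,
        mul_inv_cancel₀ hk, ZMod.val_one, pow_one]
    rw [h3] at h2
    have hne : zeta p - 1 ≠ 0 := sub_ne_zero.mpr (h18_zeta_ne_one p)
    apply mul_right_cancel₀ hne
    rw [one_mul]
    calc (∑ i ∈ Finset.range k.val, zeta p ^ i) *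
          (∑ j ∈ Finset.range (k⁻¹).val, (zeta p ^ k.val) ^ j) * (zeta p - 1)
        = (∑ j ∈ Finset.range (k⁻¹).val, (zeta p ^ k.val) ^ j) *
          ((∑ i ∈ Finset.range k.val, zeta p ^ i) * (zeta p - 1)) := by ring
      _ = zeta p - 1 := by rw [h1, h2]
  · rw [mul_comm]
    exact (geom_sum_mul (zeta p) k.val).symm

end Cfsg.Agent.Lib.helper18

namespace Cfsg.Agent.Lib.helper2.BF

open Cfsg.Agent.Lib.helper18

/-- A2b. -/
theorem zeta_sub_unit (p : ℕ) [Fact p.Prime] (a b : ZMod p) (hab : a ≠ b) :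
    ∃ u v : ℂ, IsIntegral ℤ u ∧ IsIntegral ℤ v ∧ u * v = 1 ∧
      zeta p ^ a.val - zeta p ^ b.val = (zeta p - 1) * u := by
  have hp : p.Prime := Fact.out
  have hk : a - b ≠ 0 := sub_ne_zero.mpr hab
  obtain ⟨u, v, hu, hv, huv, h⟩ := h18_zeta_pow_sub_one p (a - b) hk
  have hz := h18_zeta_int p
  have hzb : zeta p ^ b.val * zeta p ^ (p - b.val) = 1 := by
    rw [← pow_add, Nat.add_sub_cancel' (ZMod.val_lt b).le, h18_zeta_pow_p]
  refine ⟨zeta p ^ b.val * u, zeta p ^ (p - b.val) * v, (hz.pow _).mul hu, (hz.pow _).mul hv, ?_, ?_⟩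
  · calc zeta p ^ b.val * u * (zeta p ^ (p - b.val) * v)
        = (zeta p ^ b.val * zeta p ^ (p - b.val)) * (u * v) := by ring
      _ = 1 := by rw [hzb, huv, mul_one]
  · have h1 : zeta p ^ a.val = zeta p ^ b.val * zeta p ^ (a - b).val := by
      rw [← pow_add, ← h18_zeta_pow_val p (b.val + (a - b).val), Nat.cast_add, ZMod.natCast_zmod_val,
        ZMod.natCast_zmod_val]
      congr 2
      ring
    rw [h1]
    calc zeta p ^ b.val * zeta p ^ (a - b).val - zeta p ^ b.val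
        = zeta p ^ b.val * (zeta p ^ (a - b).val - 1) := by ring
      _ = (zeta p - 1) * (zeta p ^ b.val * u) := by rw [h]; ring

/-- A2b'. -/
theorem p_eq_unit (p : ℕ) [Fact p.Prime] :
    ∃ u v : ℂ, IsIntegral ℤ u ∧ IsIntegral ℤ v ∧ u * v = 1 ∧
      (p : ℂ) = (zeta p - 1) ^ (p - 1) * u := by
  classical
  have hp : p.Prime := Fact.out
  have hprim : IsPrimitiveRoot (zeta p) (p - 1 + 1) := by
    rw [Nat.sub_add_cancel hp.pos]
    exact h18_zeta_prim p
  have hprod := hprim.prod_one_sub_pow_eq_order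
  have hcast : ((p - 1 : ℕ) : ℂ) + 1 = (p : ℂ) := by
    have h1 : p - 1 + 1 = p := Nat.sub_add_cancel hp.pos
    have h2 : (((p - 1 + 1 : ℕ)) : ℂ) = (p : ℂ) := by rw [h1]
    rw [← h2, Nat.cast_add, Nat.cast_one]
  rw [hcast] at hprod
  have hkey : ∀ k ∈ Finset.range (p - 1), ∃ uv : ℂ × ℂ, IsIntegral ℤ uv.1 ∧ IsIntegral ℤ uv.2 ∧
      uv.1 * uv.2 = 1 ∧ 1 - zeta p ^ (k + 1) = (zeta p - 1) * uv.1 := by
    intro k hk
    rw [Finset.mem_range] at hk
    have hlt : k + 1 < p := by omega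
    have hne : ((k + 1 : ℕ) : ZMod p) ≠ 0 := by
      rw [Ne, ZMod.natCast_eq_zero_iff]
      intro hdvd
      have := Nat.le_of_dvd (by omega) hdvd
      omega
    obtain ⟨u, v, hu, hv, huv, h⟩ := h18_zeta_pow_sub_one p ((k + 1 : ℕ) : ZMod p) hne
    rw [ZMod.val_natCast_of_lt hlt] at h
    refine ⟨(-u, -v), hu.neg, hv.neg, ?_, ?_⟩
    · change -u * -v = 1
      rw [neg_mul_neg, huv]
    · change 1 - zeta p ^ (k + 1) = (zeta p - 1) * -u
      rw [mul_neg, ← h]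
      ring
  choose! f hf using hkey
  refine ⟨∏ k ∈ Finset.range (p - 1), (f k).1, ∏ k ∈ Finset.range (p - 1), (f k).2, ?_, ?_, ?_, ?_⟩
  · exact IsIntegral.prod _ (fun k hk => (hf k hk).1)
  · exact IsIntegral.prod _ (fun k hk => (hf k hk).2.1)
  · rw [← Finset.prod_mul_distrib]
    exact Finset.prod_eq_one (fun k hk => (hf k hk).2.2.1)
  · rw [← hprod]
    have : ∀ k ∈ Finset.range (p - 1), 1 - zeta p ^ (k + 1) = (zeta p - 1) * (f k).1 :=
      fun k hk => (hf k hk).2.2.2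
    rw [Finset.prod_congr rfl this, Finset.prod_mul_distrib, Finset.prod_const, Finset.card_range]

end Cfsg.Agent.Lib.helper2.BF
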