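import Mathlib
import Cfsg.Agent.Lib.helper2.BFDefs
import Cfsg.Agent.Lib.helper18.BFA2b

set_option autoImplicit false

open Cfsg Cfsg.Agent.Lib.helper20.D1E

namespace Cfsg.Agent.Lib.helper18

/-- power sums over a finite subgroup of the units of `ZMod p` vanish in the middle range. -/
theorem h18_powsum_zero (p : ℕ) [Fact p.Prime] (H : Subgroup (ZMod p)ˣ) (Hf : Finset (ZMod p)ˣ)
    (hHf : ∀ h, h ∈ Hf ↔ h ∈ H) (l : ℕ) (hl0 : 0 < l) (hl : l < Hf.card) :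
    ∑ h ∈ Hf, ((h : (ZMod p)ˣ) : ZMod p) ^ l = 0 := by
  classical
  have hex : ∃ g ∈ Hf, ((g : (ZMod p)ˣ) : ZMod p) ^ l ≠ 1 := by
    by_contra hcon
    have hall : ∀ g ∈ Hf, ((g : (ZMod p)ˣ) : ZMod p) ^ l = 1 := fun g hg =>
      by_contra (fun h => hcon ⟨g, hg, h⟩)
    have hsub : Hf.image (fun h : (ZMod p)ˣ => (h : ZMod p)) ⊆
        (Polynomial.nthRoots l (1 : ZMod p)).toFinset := by
      intro x hx
      obtain ⟨g, hg, rfl⟩ := Finset.mem_image.mp hx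
      rw [Multiset.mem_toFinset, Polynomial.mem_nthRoots hl0]
      exact hall g hg
    have h1 := Finset.card_le_card hsub
    rw [Finset.card_image_of_injective _ (fun a b hab => Units.ext hab)] at h1
    have h2 : (Polynomial.nthRoots l (1 : ZMod p)).toFinset.card ≤ l :=
      (Multiset.toFinset_card_le _).trans (Polynomial.card_nthRoots l 1)
    omega
  obtain ⟨g, hg, hgl⟩ := hex
  have hgH : g ∈ H := (hHf g).mp hg
  have hre : ∑ h ∈ Hf, ((h : (ZMod p)ˣ) : ZMod p) ^ l =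
      ∑ h ∈ Hf, (((g * h : (ZMod p)ˣ)) : ZMod p) ^ l := by
    refine Finset.sum_bij' (fun h _ => g⁻¹ * h) (fun h _ => g * h) ?_ ?_ ?_ ?_ ?_
    · intro h hh
      exact (hHf _).mpr (H.mul_mem (H.inv_mem hgH) ((hHf h).mp hh))
    · intro h hh
      exact (hHf _).mpr (H.mul_mem hgH ((hHf h).mp hh))
    · intro h _
      simp
    · intro h _
      simp
    · intro h _
      simp
  have h3 : ∑ h ∈ Hf, (((g * h : (ZMod p)ˣ)) : ZMod p) ^ l =
      ((g : (ZMod p)ˣ) : ZMod p) ^ l * ∑ h ∈ Hf, ((h : (ZMod p)ˣ) : ZMod p) ^ l := by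
    rw [Finset.mul_sum]
    apply Finset.sum_congr rfl
    intro h _
    rw [Units.val_mul, mul_pow]
  rw [h3] at hre
  have h4 : (((g : (ZMod p)ˣ) : ZMod p) ^ l - 1) * ∑ h ∈ Hf, ((h : (ZMod p)ˣ) : ZMod p) ^ l = 0 := by
    rw [sub_mul, one_mul, ← hre, sub_self]
  rcases mul_eq_zero.mp h4 with h5 | h5
  · exact absurd (sub_eq_zero.mp h5) hgl
  · exact h5

/-- the full power sum. -/
theorem h18_powsum_card (p : ℕ) [Fact p.Prime] (H : Subgroup (ZMod p)ˣ) (Hf : Finset (ZMod p)ˣ)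
    (hHf : ∀ h, h ∈ Hf ↔ h ∈ H) (hcard : Hf.card = Nat.card H) :
    ∑ h ∈ Hf, ((h : (ZMod p)ˣ) : ZMod p) ^ Hf.card = (Hf.card : ZMod p) := by
  have h1 : ∀ h ∈ Hf, ((h : (ZMod p)ˣ) : ZMod p) ^ Hf.card = 1 := by
    intro h hh
    have h2 : (⟨h, (hHf h).mp hh⟩ : H) ^ Nat.card H = 1 := pow_card_eq_one'
    have h3 : h ^ Nat.card H = 1 := by
      have h4 := congrArg Subtype.val h2
      rw [Subgroup.coe_pow, Subgroup.coe_one] at h4
      exact h4
    rw [hcard, ← Units.val_pow_eq_pow_val, h3, Units.val_one]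
  rw [Finset.sum_congr rfl h1, Finset.sum_const, nsmul_eq_mul, mul_one]

/-- the sum of a polynomial of degree at most `e = |H|` over a coset `a H`. -/
theorem h18_poly_sum (p : ℕ) [Fact p.Prime] (H : Subgroup (ZMod p)ˣ) (Hf : Finset (ZMod p)ˣ)
    (hHf : ∀ h, h ∈ Hf ↔ h ∈ H) (hcard : Hf.card = Nat.card H) (P : Polynomial (ZMod p))
    (hP : P.natDegree ≤ Hf.card) (a : ZMod p) :
    ∑ h ∈ Hf, P.eval (a * ((h : (ZMod p)ˣ) : ZMod p)) =
      (Hf.card : ZMod p) * P.coeff 0 + (Hf.card : ZMod p) * (P.coeff Hf.card * a ^ Hf.card) := by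
  classical
  have he1 : 1 ≤ Hf.card := Finset.card_pos.mpr ⟨1, (hHf 1).mpr H.one_mem⟩
  have h1 : ∀ h ∈ Hf, P.eval (a * ((h : (ZMod p)ˣ) : ZMod p)) =
      ∑ l ∈ Finset.range (Hf.card + 1), P.coeff l * a ^ l * ((h : (ZMod p)ˣ) : ZMod p) ^ l := by
    intro h _
    rw [Polynomial.eval_eq_sum_range' (Nat.lt_succ_of_le hP)]
    apply Finset.sum_congr rfl
    intro l _
    rw [mul_pow, mul_assoc]
  rw [Finset.sum_congr rfl h1, Finset.sum_comm]
  have h2 : ∀ l ∈ Finset.range (Hf.card + 1),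
      ∑ h ∈ Hf, P.coeff l * a ^ l * ((h : (ZMod p)ˣ) : ZMod p) ^ l =
      P.coeff l * a ^ l * ∑ h ∈ Hf, ((h : (ZMod p)ˣ) : ZMod p) ^ l := by
    intro l _
    rw [Finset.mul_sum]
  rw [Finset.sum_congr rfl h2, Finset.sum_range_succ, h18_powsum_card p H Hf hHf hcard]
  obtain ⟨e', he'⟩ : ∃ e', Hf.card = e' + 1 := ⟨Hf.card - 1, by omega⟩
  have h3 : ∑ l ∈ Finset.range Hf.card,
      P.coeff l * a ^ l * ∑ h ∈ Hf, ((h : (ZMod p)ˣ) : ZMod p) ^ l =
      (Hf.card : ZMod p) * P.coeff 0 := by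
    conv_lhs => rw [he', Finset.sum_range_succ']
    have h4 : ∀ l ∈ Finset.range e',
        P.coeff (l + 1) * a ^ (l + 1) * ∑ h ∈ Hf, ((h : (ZMod p)ˣ) : ZMod p) ^ (l + 1) = 0 := by
      intro l hl
      rw [Finset.mem_range] at hl
      rw [h18_powsum_zero p H Hf hHf (l + 1) (by omega) (by omega), mul_zero]
    rw [Finset.sum_eq_zero h4, zero_add, pow_zero, mul_one]
    simp only [pow_zero, Finset.sum_const, nsmul_eq_mul, mul_one]
    rw [mul_comm]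
  rw [h3]
  ring

end Cfsg.Agent.Lib.helper18
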