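import Mathlib
import Cfsg.Agent.Lib.helper2.BFDefs
import Cfsg.Agent.Lib.helper18.BFA2b
import Cfsg.Agent.Lib.helper18.BFA3a

set_option autoImplicit false

open Cfsg Cfsg.Agent.Lib.helper20.D1E

namespace Cfsg.Agent.Lib.helper18

/-- the binomial coefficient sums over a coset. -/
def h18T (p : ℕ) (Hf : Finset (ZMod p)ˣ) (a : ZMod p) (m : ℕ) : ℤ :=
  ∑ h ∈ Hf, ((Nat.choose (a * ((h : (ZMod p)ˣ) : ZMod p)).val m : ℕ) : ℤ)

/-- `m! * T a m` modulo `p`. -/
theorem h18T_mod (p : ℕ) [Fact p.Prime] (H : Subgroup (ZMod p)ˣ) (Hf : Finset (ZMod p)ˣ)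
    (hHf : ∀ h, h ∈ Hf ↔ h ∈ H) (hcard : Hf.card = Nat.card H) (a : ZMod p) (m : ℕ)
    (hm : m ≤ Hf.card) :
    ((m.factorial : ℕ) : ZMod p) * ((h18T p Hf a m : ℤ) : ZMod p) =
      (Hf.card : ZMod p) * (descPochhammer (ZMod p) m).coeff 0 +
        (Hf.card : ZMod p) * ((descPochhammer (ZMod p) m).coeff Hf.card * a ^ Hf.card) := by
  have hdeg : (descPochhammer (ZMod p) m).natDegree ≤ Hf.card := by
    rw [descPochhammer_natDegree]
    exact hm
  rw [← h18_poly_sum p H Hf hHf hcard _ hdeg a]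
  unfold h18T
  rw [Int.cast_sum, Finset.mul_sum]
  apply Finset.sum_congr rfl
  intro h _
  have h1 := descPochhammer_eval_eq_descFactorial (ZMod p) (a * ((h : (ZMod p)ˣ) : ZMod p)).val m
  rw [ZMod.natCast_zmod_val] at h1
  rw [h1, Nat.descFactorial_eq_factorial_mul_choose, Nat.cast_mul, Int.cast_natCast]

theorem h18_fact_ne (p : ℕ) [Fact p.Prime] (m : ℕ) (hm : m < p) :
    ((m.factorial : ℕ) : ZMod p) ≠ 0 := by
  have hp : p.Prime := Fact.out
  rw [Ne, ZMod.natCast_eq_zero_iff, hp.dvd_factorial]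
  omega

/-- low coefficients are divisible by `p`. -/
theorem h18T_low (p : ℕ) [Fact p.Prime] (H : Subgroup (ZMod p)ˣ) (Hf : Finset (ZMod p)ˣ)
    (hHf : ∀ h, h ∈ Hf ↔ h ∈ H) (hcard : Hf.card = Nat.card H) (hep : Hf.card < p)
    (a a' : ZMod p) (m : ℕ) (hm : m < Hf.card) :
    (p : ℤ) ∣ h18T p Hf a m - h18T p Hf a' m := by
  have h1 := h18T_mod p H Hf hHf hcard a m hm.le
  have h2 := h18T_mod p H Hf hHf hcard a' m hm.le
  have hc : (descPochhammer (ZMod p) m).coeff Hf.card = 0 := by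
    apply Polynomial.coeff_eq_zero_of_natDegree_lt
    rw [descPochhammer_natDegree]
    exact hm
  rw [hc, zero_mul, mul_zero, add_zero] at h1 h2
  have h3 : ((m.factorial : ℕ) : ZMod p) *
      (((h18T p Hf a m - h18T p Hf a' m : ℤ)) : ZMod p) = 0 := by
    rw [Int.cast_sub, mul_sub, h1, h2, sub_self]
  rcases mul_eq_zero.mp h3 with h4 | h4
  · exact absurd h4 (h18_fact_ne p m (by omega))
  · exact (ZMod.intCast_zmod_eq_zero_iff_dvd _ p).mp h4

/-- the critical coefficient is not divisible by `p`. -/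
theorem h18T_crit (p : ℕ) [Fact p.Prime] (H : Subgroup (ZMod p)ˣ) (Hf : Finset (ZMod p)ˣ)
    (hHf : ∀ h, h ∈ Hf ↔ h ∈ H) (hcard : Hf.card = Nat.card H) (hep : Hf.card < p)
    (a a' : ZMod p) (hne : a ^ Hf.card ≠ a' ^ Hf.card) :
    ¬ (p : ℤ) ∣ h18T p Hf a Hf.card - h18T p Hf a' Hf.card := by
  have hp : p.Prime := Fact.out
  have he1 : 1 ≤ Hf.card := Finset.card_pos.mpr ⟨1, (hHf 1).mpr H.one_mem⟩
  have h1 := h18T_mod p H Hf hHf hcard a Hf.card le_rfl
  have h2 := h18T_mod p H Hf hHf hcard a' Hf.card le_rfl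
  have hc : (descPochhammer (ZMod p) Hf.card).coeff Hf.card = 1 := by
    have hmon := monic_descPochhammer (ZMod p) Hf.card
    have hdeg := descPochhammer_natDegree (ZMod p) Hf.card
    have := hmon.leadingCoeff
    rw [Polynomial.leadingCoeff, hdeg] at this
    exact this
  rw [hc, one_mul] at h1 h2
  intro hdvd
  have h3 := (ZMod.intCast_zmod_eq_zero_iff_dvd _ p).mpr hdvd
  have h4 : ((Hf.card.factorial : ℕ) : ZMod p) *
      (((h18T p Hf a Hf.card - h18T p Hf a' Hf.card : ℤ)) : ZMod p) =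
      (Hf.card : ZMod p) * (a ^ Hf.card - a' ^ Hf.card) := by
    rw [Int.cast_sub, mul_sub, h1, h2]
    ring
  rw [h3, mul_zero] at h4
  rcases mul_eq_zero.mp h4.symm with h5 | h5
  · rw [ZMod.natCast_eq_zero_iff] at h5
    have := Nat.le_of_dvd (by omega) h5
    omega
  · exact hne (sub_eq_zero.mp h5)

/-- binomial expansion of a power of `ζ` in powers of `ζ - 1`. -/
theorem h18_zeta_expand (p : ℕ) (j : ℕ) (hj : j < p) :
    zeta p ^ j = ∑ m ∈ Finset.range p, ((Nat.choose j m : ℕ) : ℂ) * (zeta p - 1) ^ m := by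
  have h1 : zeta p ^ j = ((zeta p - 1) + 1) ^ j := by rw [sub_add_cancel]
  rw [h1, add_pow]
  have hsub : Finset.range (j + 1) ⊆ Finset.range p := by
    intro m hm
    rw [Finset.mem_range] at hm ⊢
    omega
  rw [← Finset.sum_subset hsub]
  · apply Finset.sum_congr rfl
    intro m _
    rw [one_pow, mul_one, mul_comm]
  · intro m _ hm
    rw [Finset.mem_range] at hm
    rw [Nat.choose_eq_zero_of_lt (by omega), Nat.cast_zero, zero_mul]

/-- expansion of a Gaussian period. -/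
theorem h18_gper_expand (p : ℕ) [Fact p.Prime] (H : Subgroup (ZMod p)ˣ) (a : ZMod p) :
    Cfsg.Agent.Lib.helper2.BF.gper p H a =
      ∑ m ∈ Finset.range p,
        ((h18T p (Set.toFinite (H : Set (ZMod p)ˣ)).toFinset a m : ℤ) : ℂ) * (zeta p - 1) ^ m := by
  unfold Cfsg.Agent.Lib.helper2.BF.gper
  rw [finsum_mem_eq_finite_toFinset_sum _ (Set.toFinite (H : Set (ZMod p)ˣ))]
  have h1 : ∀ h ∈ (Set.toFinite (H : Set (ZMod p)ˣ)).toFinset,
      zeta p ^ (a * ((h : (ZMod p)ˣ) : ZMod p)).val =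
      ∑ m ∈ Finset.range p,
        ((Nat.choose (a * ((h : (ZMod p)ˣ) : ZMod p)).val m : ℕ) : ℂ) * (zeta p - 1) ^ m :=
    fun h _ => h18_zeta_expand p _ (ZMod.val_lt _)
  rw [Finset.sum_congr rfl h1, Finset.sum_comm]
  apply Finset.sum_congr rfl
  intro m _
  unfold h18T
  rw [Int.cast_sum, Finset.sum_mul]
  apply Finset.sum_congr rfl
  intro h _
  rw [Int.cast_natCast]

end Cfsg.Agent.Lib.helper18
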