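import Mathlib
import Cfsg.Agent.Lib.helper2.BFDefs
import Cfsg.Agent.Lib.helper18.BFA2b
import Cfsg.Agent.Lib.helper18.BFA3a
import Cfsg.Agent.Lib.helper18.BFA3b

set_option autoImplicit false

open Cfsg Cfsg.Agent.Lib.helper20.D1E

namespace Cfsg.Agent.Lib.helper18

/-- an integer divisible by `π = ζ - 1` in the ring of algebraic integers is divisible by `p`. -/
theorem h18_int_dvd_of_pi (p : ℕ) [Fact p.Prime] (c : ℤ) (W : ℂ) (hW : IsIntegral ℤ W)
    (h : (c : ℂ) = (zeta p - 1) * W) : (p : ℤ) ∣ c := by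
  have hp : p.Prime := Fact.out
  obtain ⟨u, v, hu, hv, huv, hpu⟩ := Cfsg.Agent.Lib.helper2.BF.p_eq_unit p
  have h1 : (c : ℂ) ^ (p - 1) = (p : ℂ) * (W ^ (p - 1) * v) := by
    rw [h, mul_pow, hpu]
    calc (zeta p - 1) ^ (p - 1) * W ^ (p - 1)
        = (zeta p - 1) ^ (p - 1) * (u * v) * W ^ (p - 1) := by rw [huv, mul_one]
      _ = (zeta p - 1) ^ (p - 1) * u * (W ^ (p - 1) * v) := by ring
  have hz : IsIntegral ℤ (W ^ (p - 1) * v) := (hW.pow _).mul hv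
  have hpne : (p : ℂ) ≠ 0 := Nat.cast_ne_zero.mpr hp.pos.ne'
  have h2 : W ^ (p - 1) * v = ((((c ^ (p - 1) : ℤ) : ℚ) / (p : ℚ) : ℚ) : ℂ) := by
    rw [Rat.cast_div, Rat.cast_intCast, Rat.cast_natCast, Int.cast_pow, h1]
    field_simp
  rw [h2] at hz
  have h3 : IsIntegral ℤ ((((c ^ (p - 1) : ℤ) : ℚ) / (p : ℚ) : ℚ)) :=
    (isIntegral_algebraMap_iff (R := ℤ) (A := ℚ) (B := ℂ) (algebraMap ℚ ℂ).injective).mp hz
  obtain ⟨n, hn⟩ := IsIntegrallyClosed.isIntegral_iff.mp h3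
  have h4 : c ^ (p - 1) = (p : ℤ) * n := by
    have hpq : (p : ℚ) ≠ 0 := Nat.cast_ne_zero.mpr hp.pos.ne'
    have hn' : (n : ℚ) = ((c ^ (p - 1) : ℤ) : ℚ) / (p : ℚ) := hn
    have h5 : ((c ^ (p - 1) : ℤ) : ℚ) = (((p : ℤ) * n : ℤ) : ℚ) := by
      rw [Int.cast_mul, hn', Int.cast_natCast]
      field_simp
    exact_mod_cast h5
  exact Int.Prime.dvd_pow' hp ⟨n, h4⟩

theorem h18_dvd_sum (x : ℂ) (s : Finset ℕ) (f : ℕ → ℂ)
    (hf : ∀ m ∈ s, ∃ W : ℂ, IsIntegral ℤ W ∧ f m = x * W) :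
    ∃ W : ℂ, IsIntegral ℤ W ∧ ∑ m ∈ s, f m = x * W := by
  classical
  choose! g hg using hf
  refine ⟨∑ m ∈ s, g m, IsIntegral.sum _ (fun m hm => (hg m hm).1), ?_⟩
  rw [Finset.mul_sum]
  exact Finset.sum_congr rfl (fun m hm => (hg m hm).2)

end Cfsg.Agent.Lib.helper18

namespace Cfsg.Agent.Lib.helper2.BF

open Cfsg.Agent.Lib.helper18

/-- A3 (valuation of a difference of Gaussian periods). -/
theorem gper_val (p : ℕ) [Fact p.Prime] (H : Subgroup (ZMod p)ˣ) (he : Nat.card H + 2 ≤ p)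
    (a a' : ZMod p) (hne : a ^ Nat.card H ≠ a' ^ Nat.card H) (k : ℕ) (w : ℂ)
    (hw : IsIntegral ℤ w) (h : gper p H a - gper p H a' = (zeta p - 1) ^ k * w) :
    k ≤ Nat.card H := by
  classical
  by_contra hk
  have hp : p.Prime := Fact.out
  obtain ⟨Hf, hHfeq⟩ : ∃ Hf : Finset (ZMod p)ˣ, Hf = (Set.toFinite (H : Set (ZMod p)ˣ)).toFinset :=
    ⟨_, rfl⟩
  have hHf : ∀ h, h ∈ Hf ↔ h ∈ H := fun h => by
    rw [hHfeq, Set.Finite.mem_toFinset]
    rfl
  have hcard : Hf.card = Nat.card H := by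
    rw [hHfeq]
    exact (Nat.card_eq_card_finite_toFinset _).symm
  have hgp : ∀ b : ZMod p, gper p H b =
      ∑ m ∈ Finset.range p, ((h18T p Hf b m : ℤ) : ℂ) * (zeta p - 1) ^ m := by
    intro b
    rw [hHfeq]
    exact h18_gper_expand p H b
  rw [← hcard] at he hne hk
  have hep : Hf.card < p := by omega
  have hk' : Hf.card + 1 ≤ k := by omega
  have hπ : IsIntegral ℤ (zeta p - 1) := (h18_zeta_int p).sub isIntegral_one
  have hπne : zeta p - 1 ≠ 0 := sub_ne_zero.mpr (h18_zeta_ne_one p)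
  obtain ⟨u, v, hu, hv, huv, hpu⟩ := p_eq_unit p
  -- the expansion of the difference
  have hsum : ∑ m ∈ Finset.range p,
      (((h18T p Hf a m - h18T p Hf a' m : ℤ)) : ℂ) * (zeta p - 1) ^ m = (zeta p - 1) ^ k * w := by
    rw [← h, hgp a, hgp a', ← Finset.sum_sub_distrib]
    apply Finset.sum_congr rfl
    intro m _
    rw [Int.cast_sub, sub_mul]
  -- split the sum
  have hsplit : ∑ m ∈ Finset.range p,
      (((h18T p Hf a m - h18T p Hf a' m : ℤ)) : ℂ) * (zeta p - 1) ^ m =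
      ∑ m ∈ Finset.range Hf.card,
        (((h18T p Hf a m - h18T p Hf a' m : ℤ)) : ℂ) * (zeta p - 1) ^ m +
      (((h18T p Hf a Hf.card - h18T p Hf a' Hf.card : ℤ)) : ℂ) * (zeta p - 1) ^ Hf.card +
      ∑ m ∈ Finset.Ico (Hf.card + 1) p,
        (((h18T p Hf a m - h18T p Hf a' m : ℤ)) : ℂ) * (zeta p - 1) ^ m := by
    rw [← Finset.sum_range_succ, Finset.range_eq_Ico p, Finset.range_eq_Ico (Hf.card + 1)]
    exact (Finset.sum_Ico_consecutive _ (Nat.zero_le _) (by omega)).symm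
  -- the low part
  obtain ⟨W1, hW1, hlow⟩ := h18_dvd_sum ((zeta p - 1) ^ (Hf.card + 1)) (Finset.range Hf.card)
    (fun m => (((h18T p Hf a m - h18T p Hf a' m : ℤ)) : ℂ) * (zeta p - 1) ^ m) (by
      intro m hm
      rw [Finset.mem_range] at hm
      obtain ⟨d, hd⟩ := h18T_low p H Hf hHf hcard hep a a' m hm
      refine ⟨(zeta p - 1) ^ (p - 1 - (Hf.card + 1)) * u * (d : ℂ) * (zeta p - 1) ^ m,
        (((hπ.pow _).mul hu).mul isIntegral_algebraMap).mul (hπ.pow _), ?_⟩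
      rw [hd, Int.cast_mul, Int.cast_natCast, hpu]
      have hpow : (zeta p - 1) ^ (p - 1) =
          (zeta p - 1) ^ (Hf.card + 1) * (zeta p - 1) ^ (p - 1 - (Hf.card + 1)) := by
        rw [← pow_add]
        congr 1
        omega
      rw [hpow]
      ring)
  -- the high part
  obtain ⟨W2, hW2, hhigh⟩ := h18_dvd_sum ((zeta p - 1) ^ (Hf.card + 1)) (Finset.Ico (Hf.card + 1) p)
    (fun m => (((h18T p Hf a m - h18T p Hf a' m : ℤ)) : ℂ) * (zeta p - 1) ^ m) (by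
      intro m hm
      rw [Finset.mem_Ico] at hm
      refine ⟨(((h18T p Hf a m - h18T p Hf a' m : ℤ)) : ℂ) * (zeta p - 1) ^ (m - (Hf.card + 1)),
        isIntegral_algebraMap.mul (hπ.pow _), ?_⟩
      have hpow : (zeta p - 1) ^ m =
          (zeta p - 1) ^ (Hf.card + 1) * (zeta p - 1) ^ (m - (Hf.card + 1)) := by
        rw [← pow_add]
        congr 1
        omega
      rw [hpow]
      ring)
  have hpowk : (zeta p - 1) ^ k =
      (zeta p - 1) ^ (Hf.card + 1) * (zeta p - 1) ^ (k - (Hf.card + 1)) := by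
    rw [← pow_add]
    congr 1
    omega
  -- isolate the critical coefficient
  have hcrit : (((h18T p Hf a Hf.card - h18T p Hf a' Hf.card : ℤ)) : ℂ) =
      (zeta p - 1) * ((zeta p - 1) ^ (k - (Hf.card + 1)) * w - W1 - W2) := by
    have h1 : (((h18T p Hf a Hf.card - h18T p Hf a' Hf.card : ℤ)) : ℂ) * (zeta p - 1) ^ Hf.card =
        (zeta p - 1) ^ (Hf.card + 1) * ((zeta p - 1) ^ (k - (Hf.card + 1)) * w - W1 - W2) := by
      have h2 := hsum
      rw [hsplit, hlow, hhigh, hpowk] at h2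
      linear_combination h2
    have hne0 : (zeta p - 1) ^ Hf.card ≠ 0 := pow_ne_zero _ hπne
    apply mul_right_cancel₀ hne0
    rw [h1, pow_succ]
    ring
  have hW : IsIntegral ℤ ((zeta p - 1) ^ (k - (Hf.card + 1)) * w - W1 - W2) :=
    (((hπ.pow _).mul hw).sub hW1).sub hW2
  exact h18T_crit p H Hf hHf hcard hep a a' hne (h18_int_dvd_of_pi p _ _ hW hcrit)

end Cfsg.Agent.Lib.helper2.BF
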