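import Mathlib

set_option autoImplicit false

namespace Cfsg.Agent.Lib.helper18

theorem bfb4a_aux : True := trivial

end Cfsg.Agent.Lib.helper18

namespace Cfsg.Agent.Lib.helper2.BF

variable {G : Type*} [Group G] [Fintype G]

/-- B4a. -/
theorem exists_pconj (p : ℕ) [Fact p.Prime] (hdiv : p ∣ Nat.card G)
    (hsq : ¬ p ^ 2 ∣ Nat.card G) (c : (ZMod p)ˣ) :
    ∃ m : ℕ, m.Coprime (Nat.card G) ∧ (m : ZMod p) = (c : ZMod p) ∧
      ∀ g : G, ¬ p ∣ orderOf g → g ^ m = g := by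
  have hp : p.Prime := Fact.out
  obtain ⟨n', hn'⟩ := hdiv
  have hcop : Nat.Coprime p n' := by
    rw [Nat.Prime.coprime_iff_not_dvd hp]
    rintro ⟨n'', hn''⟩
    apply hsq
    rw [hn', hn'']
    exact ⟨n'', by ring⟩
  obtain ⟨m, hm1, hm2⟩ := Nat.chineseRemainder hcop ((c : ZMod p).val) 1
  refine ⟨m, ?_, ?_, ?_⟩
  · rw [hn']
    apply Nat.Coprime.mul_right
    · have h1 := hm1.gcd_eq
      have h2 : Nat.gcd (c : ZMod p).val p = 1 := ZMod.val_coe_unit_coprime c
      rw [h2] at h1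
      exact h1
    · have h1 := hm2.gcd_eq
      rw [Nat.gcd_one_left] at h1
      exact h1
  · have h1 := (ZMod.natCast_eq_natCast_iff _ _ _).mpr hm1
    rw [h1, ZMod.natCast_zmod_val]
  · intro g hg
    have h1 : orderOf g ∣ p * n' := by
      rw [← hn']
      exact orderOf_dvd_natCard g
    have h2 : Nat.Coprime (orderOf g) p := ((Nat.Prime.coprime_iff_not_dvd hp).mpr hg).symm
    have h3 : orderOf g ∣ n' := h2.dvd_of_dvd_mul_left h1
    have h4 : m ≡ 1 [MOD orderOf g] := hm2.of_dvd h3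
    have h5 := pow_eq_pow_iff_modEq.mpr h4
    rw [pow_one] at h5
    exact h5

end Cfsg.Agent.Lib.helper2.BF
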