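import Mathlib
import Cfsg.Agent.Lib.helper75.SimpleOrdA

/-!
Generic counting lemmas used for simple groups of order 504.
-/

set_option autoImplicit false

namespace Cfsg.Agent.Lib.helper18

open MulAction

/-- the order of a Sylow subgroup of a group of order `p ^ k * m`, `p ∤ m` -/
theorem sylow_card_pow {G : Type*} [Group G] [Finite G] (p k m : ℕ) [hp : Fact p.Prime]
    (hpm : ¬ p ∣ m) (hn : Nat.card G = p ^ k * m) (P : Sylow p G) : Nat.card P = p ^ k := by
  have hm0 : m ≠ 0 := by
    rintro rfl
    exact hpm (dvd_zero p)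
  rw [P.card_eq_multiplicity, hn, Nat.factorization_mul (pow_ne_zero k hp.out.ne_zero) hm0]
  simp [hp.out.factorization_pow, Nat.factorization_eq_zero_of_not_dvd hpm]

/-- a Sylow subgroup normalising another one is equal to it -/
theorem sylow_eq_of_le_normalizer {G : Type*} [Group G] {p : ℕ} (P R : Sylow p G)
    (h : (R : Subgroup G) ≤ Subgroup.normalizer ((P : Subgroup G) : Set G)) : R = P := by
  have hpg : IsPGroup p ((R : Subgroup G) ⊔ (P : Subgroup G) : Subgroup G) :=
    IsPGroup.to_sup_of_normal_right' R.isPGroup' P.isPGroup' h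
  have h1 : (R : Subgroup G) ⊔ (P : Subgroup G) = (P : Subgroup G) := P.3 hpg le_sup_right
  have h2 : (R : Subgroup G) ≤ (P : Subgroup G) := by
    rw [← h1]; exact le_sup_left
  exact Sylow.ext (R.3 P.isPGroup' h2).symm

/-- class equation for one class -/
theorem conj_class_card {G : Type*} [Group G] [Finite G] (z : G) :
    (MulAction.orbit (ConjAct G) z).ncard * Nat.card (Subgroup.centralizer ({z} : Set G)) =
      Nat.card G := by
  have h1 := Subgroup.card_mul_index (MulAction.stabilizer (ConjAct G) z)
  rw [MulAction.index_stabilizer] at h1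
  have h2 : Nat.card (Subgroup.centralizer ({z} : Set G)) =
      Nat.card (MulAction.stabilizer (ConjAct G) z) :=
    Nat.card_congr (Equiv.subtypeEquiv ConjAct.toConjAct.toEquiv (fun g => by
      rw [Subgroup.centralizer_eq_comap_stabilizer]; rfl))
  have h3 : Nat.card (ConjAct G) = Nat.card G := rfl
  rw [h2, mul_comm, h1, h3]

/-- number of nontrivial elements of the Sylow subgroups when they intersect trivially -/
theorem card_union_sylow_TI {G : Type*} [Group G] [Finite G] (p : ℕ) [Fact p.Prime] (k : ℕ)
    (hk : ∀ P : Sylow p G, Nat.card P = k)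
    (hTI : ∀ P R : Sylow p G, P ≠ R → ∀ x, x ∈ P → x ∈ R → x = 1) :
    Set.ncard {g : G | g ≠ 1 ∧ ∃ P : Sylow p G, g ∈ P} = Nat.card (Sylow p G) * (k - 1) := by
  classical
  have := Fintype.ofFinite G
  have := Fintype.ofFinite (Sylow p G)
  have hset : {g : G | g ≠ 1 ∧ ∃ P : Sylow p G, g ∈ P} =
      ((Finset.univ : Finset (Sylow p G)).biUnion
        (fun P => (Finset.univ.filter (fun g : G => g ∈ (P : Subgroup G))).erase 1) :
          Finset G) := by
    ext g
    simp only [Set.mem_ofPred_eq, Finset.coe_biUnion, Finset.coe_univ, Set.mem_univ,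
      Set.iUnion_true, Set.mem_iUnion, Finset.mem_coe, Finset.mem_erase, Finset.mem_filter,
      Finset.mem_univ, true_and]
    constructor
    · rintro ⟨h1, P, hP⟩
      exact ⟨P, h1, hP⟩
    · rintro ⟨P, h1, hP⟩
      exact ⟨h1, P, hP⟩
  have hdisj : ((Finset.univ : Finset (Sylow p G)) : Set (Sylow p G)).PairwiseDisjoint
      (fun P => (Finset.univ.filter (fun g : G => g ∈ (P : Subgroup G))).erase 1) := by
    intro P _ R _ hne
    rw [Function.onFun, Finset.disjoint_left]
    intro g hgP hgR
    simp only [Finset.mem_erase, Finset.mem_filter, Finset.mem_univ, true_and] at hgP hgR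
    exact hgP.1 (hTI P R hne g hgP.2 hgR.2)
  have hcard : ∀ P : Sylow p G,
      ((Finset.univ.filter (fun g : G => g ∈ (P : Subgroup G))).erase 1).card = k - 1 := by
    intro P
    rw [Finset.card_erase_of_mem (by simp [one_mem])]
    congr 1
    rw [← hk P, Nat.card_eq_fintype_card, Fintype.card_subtype]
  rw [hset, Set.ncard_coe_finset, Finset.card_biUnion hdisj,
    Finset.sum_congr rfl (fun P _ => hcard P), Finset.sum_const, Finset.card_univ, smul_eq_mul,
    Nat.card_eq_fintype_card]

end Cfsg.Agent.Lib.helper18
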