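import Mathlib
import Cfsg.Agent.Lib.helper18.Ord504a
import Cfsg.Agent.Lib.helper6.PSLPerm

/-!
Simple groups of order 360: subgroups of small index and Sylow 5-subgroups.
-/

set_option autoImplicit false

namespace Cfsg.Agent.Lib.helper18

open MulAction
open Cfsg.Agent.Lib.helper75

section Ord360

variable {G : Type*} [Group G] [Finite G] [IsSimpleGroup G]

/-- a proper subgroup of a simple group of order 360 has index at least 6 -/
theorem o360_index (hG : Nat.card G = 360) (H : Subgroup G) (hH : H ≠ ⊤) : 6 ≤ H.index := by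
  have hfaith := coset_faithful H hH
  have hinj : Function.Injective (MulAction.toPermHom G (G ⧸ H)) := by
    rw [injective_iff_map_eq_one]
    intro s hs
    apply hfaith s
    intro ω
    exact congrArg (fun σ : Equiv.Perm (G ⧸ H) => σ ω) hs
  have h1 := Subgroup.card_dvd_of_injective _ hinj
  rw [Nat.card_perm, hG, ← Subgroup.index_eq_card] at h1
  by_contra hlt
  have hpos : 0 < H.index := Nat.pos_of_ne_zero Subgroup.index_ne_zero_of_finite
  obtain ⟨k, hk⟩ : ∃ k, k = H.index := ⟨_, rfl⟩
  rw [← hk] at h1 hlt hpos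
  have hk5 : k ≤ 5 := by omega
  interval_cases k <;> revert h1 <;> decide

theorem o360_no_index_five (hG : Nat.card G = 360) (H : Subgroup G) (hH : H.index = 5) :
    False := by
  have hHtop : H ≠ ⊤ := by
    intro h
    rw [h, Subgroup.index_top] at hH
    omega
  have := o360_index hG H hHtop
  omega

/-- Sylow 5-subgroups of a simple group of order 360 -/
theorem o360_five (hG : Nat.card G = 360) (Q : Sylow 5 G) :
    Nat.card Q = 5 ∧ (Nat.card (Sylow 5 G) = 6 ∨
      (Nat.card (Sylow 5 G) = 36 ∧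
        Nat.card (Subgroup.centralizer ((Q : Subgroup G) : Set G)) = 5)) := by
  have h5 : Fact (Nat.Prime 5) := ⟨by norm_num⟩
  obtain ⟨hQ, hn1, hmod, ⟨k, hk, hnk⟩, e, he, he1, hCe⟩ :=
    sylow_setup (p := 5) 72 (by rw [hG]) (by norm_num) (by norm_num) Q
  obtain ⟨n, hn⟩ : ∃ n, n = Nat.card (Sylow 5 G) := ⟨_, rfl⟩
  rw [← hn] at hmod hnk hn1 ⊢
  have hnd : n ∣ 72 := Dvd.intro _ hnk
  have hnle : n ≤ 72 := Nat.le_of_dvd (by norm_num) hnd
  have hcases : n = 6 ∨ n = 36 := by
    clear hnk hn
    interval_cases n <;> omega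
  refine ⟨hQ, ?_⟩
  rcases hcases with rfl | rfl
  · left; rfl
  · right
    refine ⟨rfl, ?_⟩
    have hk2 : k = 2 := by omega
    rw [hk2] at hk
    rw [hk] at hCe
    have he' : e = 2 ∨ e = 4 := by
      have hle : e ≤ 4 := Nat.le_of_dvd (by norm_num) he
      have hpos : 0 < e := Nat.pos_of_dvd_of_pos he (by norm_num)
      interval_cases e <;> omega
    rcases he' with rfl | rfl <;> omega

/-- if there are six Sylow 5-subgroups the group is the alternating group of degree 6 -/
theorem o360_of_six (hG : Nat.card G = 360) (h6 : Nat.card (Sylow 5 G) = 6) :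
    Nonempty (G ≃* alternatingGroup (Fin 6)) := by
  have h5 : Fact (Nat.Prime 5) := ⟨by norm_num⟩
  have hfaith : ∀ s : G, (∀ Q : Sylow 5 G, s • Q = Q) → s = 1 :=
    fun s hs => sylow_faithful (p := 5) (by rw [h6]; norm_num) s hs
  let e : Sylow 5 G ≃ Fin 6 := Finite.equivFinOfCardEq h6
  let θ : G →* Equiv.Perm (Fin 6) :=
    (e.permCongrHom : Equiv.Perm (Sylow 5 G) →* Equiv.Perm (Fin 6)).comp
      (MulAction.toPermHom G (Sylow 5 G))
  have hθ : Function.Injective θ := by
    rw [injective_iff_map_eq_one]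
    intro s hs
    apply hfaith s
    intro Q
    have h1 : e.permCongrHom (MulAction.toPermHom G (Sylow 5 G) s) = 1 := hs
    have h2 : MulAction.toPermHom G (Sylow 5 G) s = 1 := by
      apply e.permCongrHom.injective
      rw [h1, map_one]
    exact congrArg (fun σ : Equiv.Perm (Sylow 5 G) => σ Q) h2
  exact Cfsg.Agent.Lib.helper6.nonempty_mulEquiv_alternatingGroup_of_injective_of_card θ hθ
    (by rw [hG]; rfl)

/-- an element commuting with an element of order 5 is a power of it -/
theorem o360_comm_five (hG : Nat.card G = 360) (h36 : Nat.card (Sylow 5 G) = 36) (g y : G)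
    (hg : orderOf g = 5) (hc : g * y = y * g) : y ∈ Subgroup.zpowers g := by
  have h5 : Fact (Nat.Prime 5) := ⟨by norm_num⟩
  have hpg : IsPGroup 5 (Subgroup.zpowers g) :=
    IsPGroup.of_card (n := 1) (by rw [Nat.card_zpowers, hg, pow_one])
  obtain ⟨Q, hQ⟩ := hpg.exists_le_sylow
  obtain ⟨hQ5, hcase⟩ := o360_five hG Q
  have hC5 : Nat.card (Subgroup.centralizer ((Q : Subgroup G) : Set G)) = 5 := by
    rcases hcase with h | ⟨-, h⟩
    · rw [h36] at h
      omega
    · exact h
  have hQ5' : Nat.card (Q : Subgroup G) = 5 := hQ5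
  have hQeq : Subgroup.zpowers g = (Q : Subgroup G) := by
    apply Subgroup.eq_of_le_of_card_ge hQ
    rw [Nat.card_zpowers, hg, hQ5']
  have hyC : y ∈ Subgroup.centralizer ((Q : Subgroup G) : Set G) := by
    rw [← hQeq, Subgroup.mem_centralizer_iff]
    intro h hh
    obtain ⟨k, rfl⟩ := Subgroup.mem_zpowers_iff.mp hh
    exact (Commute.zpow_left (show Commute g y from hc) k).eq
  have hQC : (Q : Subgroup G) ≤ Subgroup.centralizer ((Q : Subgroup G) : Set G) := by
    rw [← hQeq]
    intro a ha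
    rw [Subgroup.mem_centralizer_iff]
    intro b hb
    obtain ⟨i, rfl⟩ := Subgroup.mem_zpowers_iff.mp ha
    obtain ⟨j, rfl⟩ := Subgroup.mem_zpowers_iff.mp hb
    exact (Commute.zpow_zpow_self g j i).eq
  have hCeq : (Q : Subgroup G) = Subgroup.centralizer ((Q : Subgroup G) : Set G) :=
    Subgroup.eq_of_le_of_card_ge hQC (by rw [hC5, hQ5'])
  rw [hQeq, hCeq]
  exact hyC

theorem o360_five_TI (hG : Nat.card G = 360) (P R : Sylow 5 G) (hPR : P ≠ R) (x : G)
    (hxP : x ∈ P) (hxR : x ∈ R) : x = 1 := by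
  by_contra hx1
  have h5 : Fact (Nat.Prime 5) := ⟨by norm_num⟩
  have h1 := zpowers_eq_of_card_prime P (o360_five hG P).1 x hxP hx1
  have h2 := zpowers_eq_of_card_prime R (o360_five hG R).1 x hxR hx1
  exact hPR (Sylow.ext (h1.symm.trans h2))

end Ord360

end Cfsg.Agent.Lib.helper18
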