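import Mathlib
import Cfsg.Agent.Lib.helper18.Ord360b

/-!
Simple groups of order 360 with 36 Sylow 5-subgroups: involutions do not commute with elements
of order 3, centralizers of involutions, and the elements of 2-power order.
-/

set_option autoImplicit false

namespace Cfsg.Agent.Lib.helper18

open MulAction
open Cfsg.Agent.Lib.helper75

/-- nontrivial elements of Sylow subgroups for distinct primes form disjoint sets -/
theorem disjoint_sylow_sets {G : Type*} [Group G] (p q : ℕ) [Fact p.Prime] [Fact q.Prime]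
    (hpq : p ≠ q) :
    Disjoint {g : G | g ≠ 1 ∧ ∃ P : Sylow p G, g ∈ P} {g : G | g ≠ 1 ∧ ∃ P : Sylow q G, g ∈ P} := by
  rw [Set.disjoint_left]
  rintro g ⟨hg1, P, hP⟩ ⟨-, Q, hQ⟩
  apply hg1
  have hd := IsPGroup.disjoint_of_ne p q hpq (P : Subgroup G) (Q : Subgroup G) P.isPGroup'
    Q.isPGroup'
  exact Subgroup.disjoint_def.mp hd hP hQ

section Ord360

variable {G : Type*} [Group G] [Finite G] [IsSimpleGroup G]

/-- an involution does not commute with an element of order 3 -/
theorem o360_no_six (hG : Nat.card G = 360) (h36 : Nat.card (Sylow 5 G) = 36) (z x : G)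
    (hz : orderOf z = 2) (hx : orderOf x = 3) (hc : z * x = x * z) : False := by
  classical
  have hp3 : Fact (Nat.Prime 3) := ⟨by norm_num⟩
  have hpg : IsPGroup 3 (Subgroup.zpowers x) :=
    IsPGroup.of_card (n := 1) (by rw [Nat.card_zpowers, hx, pow_one])
  obtain ⟨P, hP⟩ := hpg.exists_le_sylow
  have hxP : x ∈ (P : Subgroup G) := hP (Subgroup.mem_zpowers x)
  have hx1 : x ≠ 1 := by
    rintro rfl
    rw [orderOf_one] at hx
    omega
  obtain ⟨hn10, hN36⟩ := o360_three hG P
  have hn1 : Nat.card (Sylow 3 G) ≠ 1 := by rw [hn10]; norm_num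
  have hfaith : ∀ s : G, (∀ Q : Sylow 3 G, s • Q = Q) → s = 1 :=
    fun s hs => sylow_faithful (p := 3) hn1 s hs
  have hmod := involution_fixed_modEq_four_of_faithful hfaith (by rw [hG]; norm_num) z hz
  have hz1 : z ≠ 1 := by
    rintro rfl
    rw [orderOf_one] at hz
    omega
  have hlt := fixed_lt_of_faithful hfaith z hz1
  rw [hn10] at hmod hlt
  -- the only Sylow 3-subgroup fixed by x is P
  have hfixx : ∀ Q : Sylow 3 G, x • Q = Q → Q = P := by
    intro Q hQ
    by_contra hne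
    have hxQ : x ∈ (Q : Subgroup G) :=
      mem_sylow_of_orderOf_pow Q x 1 (by rw [hx, pow_one]) hQ
    exact hx1 (o360_three_TI hG h36 Q P hne x hxQ hxP)
  have hxPfix : x • P = P :=
    Sylow.smul_eq_iff_mem_normalizer.mpr (Subgroup.le_normalizer hxP)
  have hzP : z • P = P := by
    by_contra hne
    apply hx1
    apply o360_three_TI hG h36 (z • P) P hne x _ hxP
    show x ∈ ((z • P : Sylow 3 G) : Subgroup G)
    rw [sylow_mem_smul_iff]
    have h1 : z⁻¹ * x * z = x := by
      rw [mul_assoc, ← hc, inv_mul_cancel_left]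
    rw [h1]
    exact hxP
  -- the map induced by x on the fixed points of z
  have hwd : ∀ ω : {ω : Sylow 3 G // z • ω = ω}, z • (x • ω.1) = x • ω.1 := by
    intro ω
    rw [← mul_smul, hc, mul_smul, ω.2]
  have hx3 : x * x * x = 1 := by
    have h : x ^ 3 = 1 := by rw [← hx]; exact pow_orderOf_eq_one x
    rw [← h, pow_succ, pow_two]
  have := Fintype.ofFinite (Sylow 3 G)
  let f : Function.End {ω : Sylow 3 G // z • ω = ω} := fun ω => ⟨x • ω.1, hwd ω⟩
  have hf3 : f ^ 3 ^ 1 = 1 := by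
    funext ω
    apply Subtype.ext
    show x • x • x • ω.1 = ω.1
    rw [← mul_smul, ← mul_smul, hx3, one_smul]
  have hcard := Equiv.Perm.card_fixedPoints_modEq (p := 3) (n := 1) hf3
  have hone : Fintype.card (Function.fixedPoints f) = 1 := by
    rw [Fintype.card_eq_one_iff]
    refine ⟨⟨⟨P, hzP⟩, Subtype.ext hxPfix⟩, ?_⟩
    intro y
    apply Subtype.ext
    apply Subtype.ext
    have hy : f y.1 = y.1 := y.2
    have hy' : x • (y.1).1 = (y.1).1 := congrArg Subtype.val hy
    exact hfixx _ hy'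
  rw [hone, ← Nat.card_eq_fintype_card] at hcard
  obtain ⟨c, hc'⟩ : ∃ c, c = Nat.card {ω : Sylow 3 G // z • ω = ω} := ⟨_, rfl⟩
  rw [← hc'] at hcard hmod hlt
  unfold Nat.ModEq at hcard hmod
  omega

/-- the centralizer of an involution has order dividing 8 -/
theorem o360_invol_cent (hG : Nat.card G = 360) (h36 : Nat.card (Sylow 5 G) = 36) (z : G)
    (hz : orderOf z = 2) : Nat.card (Subgroup.centralizer ({z} : Set G)) ∣ 8 := by
  have hp3 : Fact (Nat.Prime 3) := ⟨by norm_num⟩
  have hp5 : Fact (Nat.Prime 5) := ⟨by norm_num⟩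
  have hCdvd : Nat.card (Subgroup.centralizer ({z} : Set G)) ∣ 360 := by
    rw [← hG]
    exact Subgroup.card_subgroup_dvd_card _
  have hC3 : ¬ 3 ∣ Nat.card (Subgroup.centralizer ({z} : Set G)) := by
    intro h
    obtain ⟨x, hxC, hx⟩ := exists_mem_orderOf_prime _ 3 h
    rw [Subgroup.mem_centralizer_singleton_iff] at hxC
    exact o360_no_six hG h36 z x hz hx hxC.symm
  have hC5 : ¬ 5 ∣ Nat.card (Subgroup.centralizer ({z} : Set G)) := by
    intro h
    obtain ⟨g, hgC, hg⟩ := exists_mem_orderOf_prime _ 5 h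
    rw [Subgroup.mem_centralizer_singleton_iff] at hgC
    have hmem := o360_comm_five hG h36 g z hg hgC
    have h1 := Subgroup.orderOf_dvd_natCard _ hmem
    rw [Nat.card_zpowers, hg, hz] at h1
    omega
  have hco : Nat.Coprime (Nat.card (Subgroup.centralizer ({z} : Set G))) 45 := by
    have h45 : (45 : ℕ) = 3 ^ 2 * 5 := by norm_num
    rw [h45]
    apply Nat.Coprime.mul_right
    · apply Nat.Coprime.pow_right
      exact ((Nat.Prime.coprime_iff_not_dvd (by norm_num : Nat.Prime 3)).mpr hC3).symm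
    · exact ((Nat.Prime.coprime_iff_not_dvd (by norm_num : Nat.Prime 5)).mpr hC5).symm
  have h360 : (360 : ℕ) = 45 * 8 := by norm_num
  rw [h360] at hCdvd
  exact hco.dvd_of_dvd_mul_left hCdvd

/-- an element outside the Sylow 3- and 5-subgroups lies in a Sylow 2-subgroup -/
theorem o360_two_elt (hG : Nat.card G = 360) (h36 : Nat.card (Sylow 5 G) = 36) (g : G)
    (h3 : ∀ P : Sylow 3 G, g ∉ P) (h5 : ∀ Q : Sylow 5 G, g ∉ Q) : ∃ T : Sylow 2 G, g ∈ T := by
  have hp2 : Fact (Nat.Prime 2) := ⟨Nat.prime_two⟩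
  have hp3 : Fact (Nat.Prime 3) := ⟨by norm_num⟩
  have hp5 : Fact (Nat.Prime 5) := ⟨by norm_num⟩
  have ho0 : orderOf g ≠ 0 := (orderOf_pos g).ne'
  have hodvd : orderOf g ∣ 360 := by
    rw [← hG]
    exact orderOf_dvd_natCard g
  have hn5 : ¬ 5 ∣ orderOf g := by
    intro h
    have ho := orderOf_pow_orderOf_div ho0 h
    have hcm : g ^ (orderOf g / 5) * g = g * g ^ (orderOf g / 5) := (Commute.pow_self g _).eq
    have hmem := o360_comm_five hG h36 _ g ho hcm
    have h1 := Subgroup.orderOf_dvd_natCard _ hmem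
    rw [Nat.card_zpowers, ho] at h1
    have ho5 : orderOf g = 5 := Nat.dvd_antisymm h1 h
    have hpg : IsPGroup 5 (Subgroup.zpowers g) :=
      IsPGroup.of_card (n := 1) (by rw [Nat.card_zpowers, ho5, pow_one])
    obtain ⟨Q, hQ⟩ := hpg.exists_le_sylow
    exact h5 Q (hQ (Subgroup.mem_zpowers g))
  have hn3 : ¬ 3 ∣ orderOf g := by
    intro h
    have ho := orderOf_pow_orderOf_div ho0 h
    obtain ⟨a, ha⟩ : ∃ a, a = g ^ (orderOf g / 3) := ⟨_, rfl⟩
    rw [← ha] at ho
    have hga : g * a = a * g := by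
      rw [ha]
      exact (Commute.self_pow g _).eq
    have hCdvd : Nat.card (Subgroup.centralizer ({a} : Set G)) ∣ 360 := by
      rw [← hG]
      exact Subgroup.card_subgroup_dvd_card _
    have hC2 : ¬ 2 ∣ Nat.card (Subgroup.centralizer ({a} : Set G)) := by
      intro h2
      obtain ⟨z, hzC, hz⟩ := exists_mem_orderOf_prime _ 2 h2
      rw [Subgroup.mem_centralizer_singleton_iff] at hzC
      exact o360_no_six hG h36 z a hz ho hzC
    have hC5 : ¬ 5 ∣ Nat.card (Subgroup.centralizer ({a} : Set G)) := by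
      intro h2
      obtain ⟨b, hbC, hb⟩ := exists_mem_orderOf_prime _ 5 h2
      rw [Subgroup.mem_centralizer_singleton_iff] at hbC
      have hmem := o360_comm_five hG h36 b a hb hbC
      have h1 := Subgroup.orderOf_dvd_natCard _ hmem
      rw [Nat.card_zpowers, hb, ho] at h1
      omega
    have hC9 : Nat.card (Subgroup.centralizer ({a} : Set G)) ∣ 3 ^ 2 := by
      have hco : Nat.Coprime (Nat.card (Subgroup.centralizer ({a} : Set G))) 40 := by
        have h40 : (40 : ℕ) = 2 ^ 3 * 5 := by norm_num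
        rw [h40]
        apply Nat.Coprime.mul_right
        · apply Nat.Coprime.pow_right
          exact ((Nat.Prime.coprime_iff_not_dvd Nat.prime_two).mpr hC2).symm
        · exact ((Nat.Prime.coprime_iff_not_dvd (by norm_num : Nat.Prime 5)).mpr hC5).symm
      have h360 : (360 : ℕ) = 40 * 3 ^ 2 := by norm_num
      rw [h360] at hCdvd
      exact hco.dvd_of_dvd_mul_left hCdvd
    have hgC : g ∈ Subgroup.centralizer ({a} : Set G) :=
      Subgroup.mem_centralizer_singleton_iff.mpr hga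
    have h1 := (Subgroup.orderOf_dvd_natCard _ hgC).trans hC9
    obtain ⟨k, -, hk⟩ := (Nat.dvd_prime_pow (by norm_num : Nat.Prime 3)).mp h1
    have hpg : IsPGroup 3 (Subgroup.zpowers g) :=
      IsPGroup.of_card (n := k) (by rw [Nat.card_zpowers, hk])
    obtain ⟨P, hP⟩ := hpg.exists_le_sylow
    exact h3 P (hP (Subgroup.mem_zpowers g))
  have h8 : orderOf g ∣ 2 ^ 3 := by
    have hco : Nat.Coprime (orderOf g) 45 := by
      have h45 : (45 : ℕ) = 3 ^ 2 * 5 := by norm_num
      rw [h45]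
      apply Nat.Coprime.mul_right
      · apply Nat.Coprime.pow_right
        exact ((Nat.Prime.coprime_iff_not_dvd (by norm_num : Nat.Prime 3)).mpr hn3).symm
      · exact ((Nat.Prime.coprime_iff_not_dvd (by norm_num : Nat.Prime 5)).mpr hn5).symm
    have h360 : (360 : ℕ) = 45 * 2 ^ 3 := by norm_num
    rw [h360] at hodvd
    exact hco.dvd_of_dvd_mul_left hodvd
  obtain ⟨k, -, hk⟩ := (Nat.dvd_prime_pow Nat.prime_two).mp h8
  have hpg : IsPGroup 2 (Subgroup.zpowers g) :=
    IsPGroup.of_card (n := k) (by rw [Nat.card_zpowers, hk])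
  obtain ⟨T, hT⟩ := hpg.exists_le_sylow
  exact ⟨T, hT (Subgroup.mem_zpowers g)⟩

/-- two distinct Sylow 2-subgroups with a nontrivial common element -/
theorem o360_two_not_TI (hG : Nat.card G = 360) (h36 : Nat.card (Sylow 5 G) = 36) :
    ∃ T T' : Sylow 2 G, T ≠ T' ∧ ∃ x : G, x ≠ 1 ∧ x ∈ T ∧ x ∈ T' := by
  by_contra hcon
  have hp2 : Fact (Nat.Prime 2) := ⟨Nat.prime_two⟩
  have hp3 : Fact (Nat.Prime 3) := ⟨by norm_num⟩
  have hp5 : Fact (Nat.Prime 5) := ⟨by norm_num⟩
  have hTI : ∀ T T' : Sylow 2 G, T ≠ T' → ∀ x, x ∈ T → x ∈ T' → x = 1 := by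
    intro T T' hne x hxT hxT'
    by_contra hx1
    exact hcon ⟨T, T', hne, x, hx1, hxT, hxT'⟩
  have A2 := card_union_sylow_TI 2 8 (fun T => o360_card_two hG T) hTI
  have A3 := card_union_sylow_TI 3 9 (fun P => o360_card_three hG P) (o360_three_TI hG h36)
  have A5 := card_union_sylow_TI 5 5 (fun Q => (o360_five hG Q).1) (o360_five_TI hG)
  obtain ⟨P⟩ : Nonempty (Sylow 3 G) := inferInstance
  rw [(o360_three hG P).1] at A3
  rw [h36] at A5
  have hd23 := disjoint_sylow_sets (G := G) 2 3 (by norm_num)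
  have hd25 := disjoint_sylow_sets (G := G) 2 5 (by norm_num)
  have hd35 := disjoint_sylow_sets (G := G) 3 5 (by norm_num)
  obtain ⟨U2, hU2⟩ : ∃ U : Set G, U = {g : G | g ≠ 1 ∧ ∃ P : Sylow 2 G, g ∈ P} := ⟨_, rfl⟩
  obtain ⟨U3, hU3⟩ : ∃ U : Set G, U = {g : G | g ≠ 1 ∧ ∃ P : Sylow 3 G, g ∈ P} := ⟨_, rfl⟩
  obtain ⟨U5, hU5⟩ : ∃ U : Set G, U = {g : G | g ≠ 1 ∧ ∃ P : Sylow 5 G, g ∈ P} := ⟨_, rfl⟩
  rw [← hU2] at A2 hd23 hd25
  rw [← hU3] at A3 hd23 hd35
  rw [← hU5] at A5 hd25 hd35
  have hd5 : Disjoint (U2 ∪ U3) U5 := Set.disjoint_union_left.mpr ⟨hd25, hd35⟩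
  have hd1 : Disjoint ((U2 ∪ U3) ∪ U5) ({1} : Set G) := by
    rw [Set.disjoint_singleton_right]
    rintro ((h | h) | h)
    · rw [hU2] at h
      exact h.1 rfl
    · rw [hU3] at h
      exact h.1 rfl
    · rw [hU5] at h
      exact h.1 rfl
  have hcover : ((U2 ∪ U3) ∪ U5) ∪ ({1} : Set G) = Set.univ := by
    ext g
    simp only [Set.mem_univ, iff_true]
    by_cases hg1 : g = 1
    · right
      exact hg1
    by_cases hg3 : ∃ P : Sylow 3 G, g ∈ P
    · left; left; right
      rw [hU3]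
      exact ⟨hg1, hg3⟩
    by_cases hg5 : ∃ Q : Sylow 5 G, g ∈ Q
    · left; right
      rw [hU5]
      exact ⟨hg1, hg5⟩
    · left; left; left
      rw [hU2]
      exact ⟨hg1, o360_two_elt hG h36 g (fun P hP => hg3 ⟨P, hP⟩) (fun Q hQ => hg5 ⟨Q, hQ⟩)⟩
  have hcount := congrArg Set.ncard hcover
  rw [Set.ncard_univ, hG, Set.ncard_union_eq hd1 (Set.toFinite _) (Set.toFinite _),
    Set.ncard_union_eq hd5 (Set.toFinite _) (Set.toFinite _),
    Set.ncard_union_eq hd23 (Set.toFinite _) (Set.toFinite _), A2, A3, A5,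
    Set.ncard_singleton] at hcount
  omega

/-- a Sylow 2-subgroup with an involution that is not central in it -/
theorem o360_exists_noncentral (hG : Nat.card G = 360) (h36 : Nat.card (Sylow 5 G) = 36) :
    ∃ (T : Sylow 2 G) (u σ : G), u ∈ T ∧ σ ∈ T ∧ u * u = 1 ∧ u * σ ≠ σ * u := by
  have hp2 : Fact (Nat.Prime 2) := ⟨Nat.prime_two⟩
  obtain ⟨T, T', hne, x, hx1, hxT, hxT'⟩ := o360_two_not_TI hG h36
  have hT8 := o360_card_two hG T
  have hT'8 := o360_card_two hG T'
  have hox : orderOf x ∣ 2 ^ 3 := by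
    have h := Subgroup.orderOf_dvd_natCard _ (show x ∈ (T : Subgroup G) from hxT)
    rw [hT8] at h
    exact h
  have h2x : 2 ∣ orderOf x := by
    obtain ⟨k, -, hk⟩ := (Nat.dvd_prime_pow Nat.prime_two).mp hox
    rcases k with _ | k
    · exfalso
      rw [pow_zero] at hk
      exact hx1 (orderOf_eq_one_iff.mp hk)
    · rw [hk, pow_succ]
      exact Dvd.intro_left _ rfl
  have hou := orderOf_pow_orderOf_div (orderOf_pos x).ne' h2x
  obtain ⟨u, hu⟩ : ∃ u, u = x ^ (orderOf x / 2) := ⟨_, rfl⟩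
  rw [← hu] at hou
  have huT : u ∈ (T : Subgroup G) := by
    rw [hu]
    exact Subgroup.pow_mem _ hxT _
  have huT' : u ∈ (T' : Subgroup G) := by
    rw [hu]
    exact Subgroup.pow_mem _ hxT' _
  have huu : u * u = 1 := by
    rw [← pow_two, ← hou]
    exact pow_orderOf_eq_one u
  by_contra hcon
  have hcomm : ∀ S : Sylow 2 G, u ∈ (S : Subgroup G) →
      (S : Subgroup G) = Subgroup.centralizer ({u} : Set G) := by
    intro S huS
    have hle : (S : Subgroup G) ≤ Subgroup.centralizer ({u} : Set G) := by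
      intro s hs
      rw [Subgroup.mem_centralizer_singleton_iff]
      by_contra hsu
      exact hcon ⟨S, u, s, huS, hs, huu, fun h => hsu h.symm⟩
    apply Subgroup.eq_of_le_of_card_ge hle
    rw [o360_card_two hG S]
    exact Nat.le_of_dvd (by norm_num) (o360_invol_cent hG h36 u hou)
  exact hne (Sylow.ext ((hcomm T huT).trans (hcomm T' huT').symm))

end Ord360

end Cfsg.Agent.Lib.helper18
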