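import Mathlib
import Cfsg.Agent.Lib.helper18.Ord504a

/-!
Simple groups of order 504: Sylow 7-subgroups and subgroups of index 7.
-/

set_option autoImplicit false

namespace Cfsg.Agent.Lib.helper18

open MulAction
open Cfsg.Agent.Lib.helper75

section Ord504

variable {G : Type*} [Group G] [Finite G] [IsSimpleGroup G]

/-- basic facts on Sylow 7-subgroups in a simple group of order 504 -/
theorem o504_seven (hG : Nat.card G = 504) (Q : Sylow 7 G) :
    Nat.card Q = 7 ∧ Nat.card (Sylow 7 G) = 36 ∧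
    Nat.card (Subgroup.centralizer ((Q : Subgroup G) : Set G)) = 7 ∧
    Nat.card (stabilizer G Q) = 14 := by
  have h7 : Fact (Nat.Prime 7) := ⟨by norm_num⟩
  obtain ⟨hQ, hn1, hmod, ⟨k, hk, hnk⟩, e, he, he1, hCe⟩ :=
    sylow_setup (p := 7) 72 (by rw [hG]) (by norm_num) (by norm_num) Q
  obtain ⟨n, hn⟩ : ∃ n, n = Nat.card (Sylow 7 G) := ⟨_, rfl⟩
  rw [← hn] at hmod hnk hn1
  have hnd : n ∣ 72 := Dvd.intro _ hnk
  have hnle : n ≤ 72 := Nat.le_of_dvd (by norm_num) hnd
  have hcases : n = 8 ∨ n = 36 := by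
    clear hnk hn
    interval_cases n <;> omega
  have he' : e = 2 ∨ e = 3 ∨ e = 6 := by
    have hle : e ≤ 6 := Nat.le_of_dvd (by norm_num) he
    have hpos : 0 < e := Nat.pos_of_dvd_of_pos he (by norm_num)
    interval_cases e <;> omega
  rcases hcases with rfl | rfl
  · exfalso
    have hk9 : k = 9 := by omega
    rw [hk9] at hk
    rw [hk] at hCe
    have h3C : 3 ∣ Nat.card (Subgroup.centralizer ((Q : Subgroup G) : Set G)) := by
      rcases he' with rfl | rfl | rfl
      · omega
      · exact ⟨7, by omega⟩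
      · omega
    have h3 : Fact (Nat.Prime 3) := ⟨by norm_num⟩
    exact no_sylow_seven_eight Q hn.symm 3 (by norm_num) h3C
  · have hk2 : k = 2 := by omega
    rw [hk2] at hk
    rw [hk] at hCe
    refine ⟨hQ, hn.symm, ?_, hk⟩
    rcases he' with rfl | rfl | rfl <;> omega

/-- an element commuting with an element of order 7 is a power of it -/
theorem o504_comm_seven (hG : Nat.card G = 504) (g y : G) (hg : orderOf g = 7)
    (hc : g * y = y * g) : y ∈ Subgroup.zpowers g := by
  have h7 : Fact (Nat.Prime 7) := ⟨by norm_num⟩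
  have hpg : IsPGroup 7 (Subgroup.zpowers g) :=
    IsPGroup.of_card (n := 1) (by rw [Nat.card_zpowers, hg, pow_one])
  obtain ⟨Q, hQ⟩ := hpg.exists_le_sylow
  obtain ⟨hQ7, -, hC7, -⟩ := o504_seven hG Q
  have hQ7' : Nat.card (Q : Subgroup G) = 7 := hQ7
  have hQeq : Subgroup.zpowers g = (Q : Subgroup G) := by
    apply Subgroup.eq_of_le_of_card_ge hQ
    rw [Nat.card_zpowers, hg, hQ7']
  have hyC : y ∈ Subgroup.centralizer ((Q : Subgroup G) : Set G) := by
    rw [← hQeq, Subgroup.mem_centralizer_iff]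
    intro h hh
    obtain ⟨k, rfl⟩ := Subgroup.mem_zpowers_iff.mp hh
    exact (Commute.zpow_left (show Commute g y from hc) k).eq
  have hQC : (Q : Subgroup G) ≤ Subgroup.centralizer ((Q : Subgroup G) : Set G) := by
    rw [← hQeq]
    intro a ha
    rw [Subgroup.mem_centralizer_iff]
    intro b hb
    obtain ⟨i, rfl⟩ := Subgroup.mem_zpowers_iff.mp ha
    obtain ⟨j, rfl⟩ := Subgroup.mem_zpowers_iff.mp hb
    exact (Commute.zpow_zpow_self g j i).eq
  have hCeq : (Q : Subgroup G) = Subgroup.centralizer ((Q : Subgroup G) : Set G) :=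
    Subgroup.eq_of_le_of_card_ge hQC (by rw [hC7, hQ7'])
  rw [hQeq, hCeq]
  exact hyC

/-- an involution inverting an element of order 7 -/
theorem o504_inverting (hG : Nat.card G = 504) :
    ∃ g t : G, orderOf g = 7 ∧ orderOf t = 2 ∧ t * g * t⁻¹ = g⁻¹ := by
  have h7 : Fact (Nat.Prime 7) := ⟨by norm_num⟩
  have h2 : Fact (Nat.Prime 2) := ⟨Nat.prime_two⟩
  obtain ⟨Q⟩ : Nonempty (Sylow 7 G) := inferInstance
  obtain ⟨hQ7, hn, hC7, hN⟩ := o504_seven hG Q
  have hQ7' : Nat.card (Q : Subgroup G) = 7 := hQ7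
  obtain ⟨t, htN, ht⟩ := exists_mem_orderOf_prime (stabilizer G Q) 2 (by rw [hN]; norm_num)
  obtain ⟨g, hgQ, hg⟩ := exists_mem_orderOf_prime (Q : Subgroup G) 7 (by rw [hQ7'])
  have htC : t ∉ Subgroup.centralizer ((Q : Subgroup G) : Set G) := by
    intro h
    have h1 := Subgroup.orderOf_dvd_natCard _ h
    rw [ht, hC7] at h1
    omega
  have ht2 : t * t = 1 := by
    rw [← pow_two, ← ht]
    exact pow_orderOf_eq_one t
  have hinv := inverts_of_involution Q hQ7 t ht2 (mem_stabilizer_iff.mp htN) htC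
  exact ⟨g, t, hg, ht, hinv g hgQ⟩

/-- a simple group of order 504 has no subgroup of index 7 -/
theorem o504_no_index_seven (hG : Nat.card G = 504) (H : Subgroup G) (hH : H.index = 7) :
    False := by
  obtain ⟨g, t, hg, ht, hinv⟩ := o504_inverting hG
  have hHtop : H ≠ ⊤ := by
    intro h
    rw [h, Subgroup.index_top] at hH
    omega
  have hfaith := coset_faithful H hHtop
  have hcard : Nat.card (G ⧸ H) = 7 := by
    rw [← Subgroup.index_eq_card]
    exact hH
  have hfin : Finite (G ⧸ H) := Nat.finite_of_card_ne_zero (by omega)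
  have hf := involution_fixed_modEq_four_of_faithful hfaith (by omega) t ht
  have ht1 : t ≠ 1 := by
    rintro rfl
    rw [orderOf_one] at ht
    omega
  have hlt := fixed_lt_of_faithful hfaith t ht1
  rw [hcard] at hf hlt
  have h3 : Nat.card {ω : G ⧸ H // t • ω = ω} = 3 := by
    unfold Nat.ModEq at hf
    omega
  have hsub : ∀ ω₁ ω₂ : G ⧸ H, t • ω₁ = ω₁ → t • ω₂ = ω₂ → ω₁ = ω₂ := by
    intro ω₁ ω₂ h1 h2
    have hstab : Nat.card (stabilizer G ω₁) = 72 := by
      have h4 := Subgroup.card_mul_index (stabilizer G ω₁)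
      rw [MulAction.index_stabilizer_of_transitive, hcard, hG] at h4
      omega
    have hfree : ∀ i : ℕ, g ^ i • ω₁ = ω₁ → g ^ i = 1 := by
      intro i hi
      by_contra hne
      have ho : orderOf (g ^ i) = 7 := by
        have hd : orderOf (g ^ i) ∣ 7 := by
          rw [← hg]
          exact orderOf_pow_dvd i
        rcases (Nat.dvd_prime (by norm_num : Nat.Prime 7)).mp hd with h | h
        · exact absurd (orderOf_eq_one_iff.mp h) hne
        · exact h
      have h5 := Subgroup.orderOf_dvd_natCard (stabilizer G ω₁) (mem_stabilizer_iff.mpr hi)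
      rw [ho, hstab] at h5
      omega
    have hle : ∀ a b : ℕ, a ≤ b → a < 7 → b < 7 → g ^ a • ω₁ = g ^ b • ω₁ → a = b := by
      intro a b hab ha hb h
      have h6 : g ^ (b - a) • ω₁ = ω₁ := by
        have h7' : g ^ b = g ^ a * g ^ (b - a) := by
          rw [← pow_add]
          congr 1
          omega
        rw [h7', mul_smul] at h
        exact (smul_left_cancel _ h).symm
      have h8 := hfree _ h6
      have h9 : 7 ∣ b - a := by
        rw [← hg]
        exact orderOf_dvd_of_pow_eq_one h8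
      omega
    have hinj : Function.Injective (fun i : Fin 7 => g ^ (i : ℕ) • ω₁) := by
      intro i j hij
      rcases le_total (i : ℕ) (j : ℕ) with h | h
      · exact Fin.ext (hle _ _ h i.2 j.2 hij)
      · exact Fin.ext (hle _ _ h j.2 i.2 hij.symm).symm
    have hsurj : Function.Surjective (fun i : Fin 7 => g ^ (i : ℕ) • ω₁) :=
      (hinj.bijective_of_nat_card_le (by rw [hcard, Nat.card_fin])).2
    obtain ⟨i, hi⟩ := hsurj ω₂
    have hi' : g ^ (i : ℕ) • ω₁ = ω₂ := hi
    have h4 : t * g ^ (i : ℕ) = (g ^ (i : ℕ))⁻¹ * t := by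
      have h5 : t * g ^ (i : ℕ) * t⁻¹ = (g ^ (i : ℕ))⁻¹ := by
        rw [← conj_pow, hinv, inv_pow]
      rw [← h5]
      group
    have h5 : (g ^ (i : ℕ))⁻¹ • ω₁ = g ^ (i : ℕ) • ω₁ := by
      have h6 := h2
      rw [← hi', ← mul_smul, h4, mul_smul, h1] at h6
      exact h6
    have h6 : g ^ (2 * (i : ℕ)) • ω₁ = ω₁ := by
      rw [two_mul, pow_add, mul_smul, ← h5, smul_inv_smul]
    have h7' := hfree _ h6
    have h8 : orderOf g ∣ 2 * (i : ℕ) := orderOf_dvd_of_pow_eq_one h7'
    rw [hg] at h8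
    have h9 : (i : ℕ) = 0 := by
      have := i.2
      omega
    rw [← hi', h9, pow_zero, one_smul]
  have hnt : Nontrivial {ω : G ⧸ H // t • ω = ω} := by
    rw [← Finite.one_lt_card_iff_nontrivial, h3]
    norm_num
  obtain ⟨a, b, hab⟩ := exists_pair_ne {ω : G ⧸ H // t • ω = ω}
  exact hab (Subtype.ext (hsub a.1 b.1 a.2 b.2))

end Ord504

end Cfsg.Agent.Lib.helper18
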