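import Mathlib
import Cfsg.Agent.Lib.helper18.Ord504b

/-!
Simple groups of order 504: the Sylow 3-subgroups intersect trivially.
-/

set_option autoImplicit false

namespace Cfsg.Agent.Lib.helper18

open MulAction
open Cfsg.Agent.Lib.helper75

section Ord504

variable {G : Type*} [Group G] [Finite G] [IsSimpleGroup G]

omit [IsSimpleGroup G] in
theorem o504_card_three (hG : Nat.card G = 504) (S : Sylow 3 G) :
    Nat.card (S : Subgroup G) = 9 := by
  have h3 : Fact (Nat.Prime 3) := ⟨by norm_num⟩
  have := sylow_card_pow 3 2 56 (by norm_num) (by rw [hG]; norm_num) S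
  simpa using this

omit [IsSimpleGroup G] in
theorem o504_card_two (hG : Nat.card G = 504) (S : Sylow 2 G) :
    Nat.card (S : Subgroup G) = 8 := by
  have h2 : Fact (Nat.Prime 2) := ⟨Nat.prime_two⟩
  have := sylow_card_pow 2 3 63 (by norm_num) (by rw [hG]; norm_num) S
  simpa using this

omit [IsSimpleGroup G] in
theorem o504_three_comm (hG : Nat.card G = 504) (P : Sylow 3 G) (a b : G)
    (ha : a ∈ (P : Subgroup G)) (hb : b ∈ (P : Subgroup G)) : a * b = b * a := by
  have h3 : Fact (Nat.Prime 3) := ⟨by norm_num⟩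
  have hcomm := IsPGroup.commutative_of_card_eq_prime_sq (p := 3) (G := (P : Subgroup G))
    (by rw [o504_card_three hG P]; norm_num)
  exact congrArg Subtype.val (hcomm ⟨a, ha⟩ ⟨b, hb⟩)

/-- two distinct Sylow 3-subgroups of a simple group of order 504 intersect trivially -/
theorem o504_three_TI (hG : Nat.card G = 504) (P R : Sylow 3 G) (hPR : P ≠ R) (x : G)
    (hxP : x ∈ P) (hxR : x ∈ R) : x = 1 := by
  by_contra hx1
  have h3 : Fact (Nat.Prime 3) := ⟨by norm_num⟩
  have h2 : Fact (Nat.Prime 2) := ⟨Nat.prime_two⟩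
  have hP9 := o504_card_three hG P
  have hR9 := o504_card_three hG R
  have hxP' : x ∈ (P : Subgroup G) := hxP
  have hxR' : x ∈ (R : Subgroup G) := hxR
  have hox9 : orderOf x ∣ 9 := by
    have h := Subgroup.orderOf_dvd_natCard _ hxP'
    rwa [hP9] at h
  have hox3 : 3 ∣ orderOf x := by
    have h1 : orderOf x ≠ 1 := fun h => hx1 (orderOf_eq_one_iff.mp h)
    have hle : orderOf x ≤ 9 := Nat.le_of_dvd (by norm_num) hox9
    obtain ⟨o, ho⟩ : ∃ o, o = orderOf x := ⟨_, rfl⟩
    rw [← ho] at hox9 h1 hle ⊢
    interval_cases o <;> omega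
  obtain ⟨C, hC⟩ : ∃ C : Subgroup G, C = Subgroup.centralizer ({x} : Set G) := ⟨_, rfl⟩
  have hmemC : ∀ y : G, y ∈ C ↔ x * y = y * x := by
    intro y
    rw [hC, Subgroup.mem_centralizer_iff]
    constructor
    · intro h
      exact h x rfl
    · rintro h _ rfl
      exact h
  have hPC : (P : Subgroup G) ≤ C := fun a ha =>
    (hmemC a).mpr (o504_three_comm hG P x a hxP' ha)
  have hRC : (R : Subgroup G) ≤ C := fun a ha =>
    (hmemC a).mpr (o504_three_comm hG R x a hxR' ha)
  have h7C : ¬ 7 ∣ Nat.card C := by
    intro h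
    have h7 : Fact (Nat.Prime 7) := ⟨by norm_num⟩
    obtain ⟨g, hgC, hg⟩ := exists_mem_orderOf_prime C 7 h
    have hgx : g * x = x * g := ((hmemC g).mp hgC).symm
    have hxz := o504_comm_seven hG g x hg hgx
    have h1 : orderOf x ∣ 7 := by
      have h := Subgroup.orderOf_dvd_natCard _ hxz
      rwa [Nat.card_zpowers, hg] at h
    have h4 : orderOf x ∣ Nat.gcd 7 9 := Nat.dvd_gcd h1 hox9
    norm_num at h4
    exact hx1 h4
  have hCdvd : Nat.card C ∣ 504 := by
    rw [← hG]
    exact Subgroup.card_subgroup_dvd_card C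
  have h9C : 9 ∣ Nat.card C := by
    rw [← hP9]
    exact Subgroup.card_dvd_of_le hPC
  have hCcases : Nat.card C = 9 ∨ Nat.card C = 18 ∨ Nat.card C = 36 ∨ Nat.card C = 72 := by
    obtain ⟨k, hk⟩ := h9C
    rw [hk] at hCdvd h7C ⊢
    have hk56 : k ∣ 56 := by
      have : 9 * k ∣ 9 * 56 := hCdvd
      exact Nat.dvd_of_mul_dvd_mul_left (by norm_num) this
    have hkle : k ≤ 56 := Nat.le_of_dvd (by norm_num) hk56
    have h7k : ¬ 7 ∣ k := fun h => h7C (Dvd.dvd.mul_left h 9)
    interval_cases k <;> omega
  have hnotle : ¬ C ≤ Subgroup.normalizer ((P : Subgroup G) : Set G) := by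
    intro h
    exact hPR (sylow_eq_of_le_normalizer P R (hRC.trans h)).symm
  have hPsub : Nat.card ((P : Subgroup G).subgroupOf C) = 9 := by
    rw [Nat.card_congr (Subgroup.subgroupOfEquivOfLe hPC).toEquiv]
    exact hP9
  have hidx := Subgroup.card_mul_index ((P : Subgroup G).subgroupOf C)
  rw [hPsub] at hidx
  have hC36 : Nat.card C = 36 := by
    rcases hCcases with h | h | h | h
    · exfalso
      apply hnotle
      rw [h] at hidx
      have h1 : ((P : Subgroup G).subgroupOf C).index = 1 := by omega
      have h4 := Subgroup.index_eq_one.mp h1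
      rw [Subgroup.subgroupOf_eq_top] at h4
      have h5 : C = (P : Subgroup G) := le_antisymm h4 hPC
      rw [h5]
      exact Subgroup.le_normalizer
    · exfalso
      apply hnotle
      rw [h] at hidx
      have h1 : ((P : Subgroup G).subgroupOf C).index = 2 := by omega
      have h4 := Subgroup.normal_of_index_eq_two h1
      exact (Subgroup.normal_subgroupOf_iff_le_normalizer hPC).mp h4
    · exact h
    · exfalso
      have h1 := Subgroup.card_mul_index C
      rw [h, hG] at h1
      exact o504_no_index_seven hG C (by omega)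
  -- a Sylow 2-subgroup of C
  obtain ⟨V⟩ : Nonempty (Sylow 2 C) := inferInstance
  have hV4 : Nat.card (V : Subgroup C) = 4 := by
    have := sylow_card_pow 2 2 9 (by norm_num) (by rw [hC36]; norm_num) V
    simpa using this
  have hxC : x ∈ C := (hmemC x).mpr rfl
  have hx'c : ∀ c : C, (⟨x, hxC⟩ : C) * c = c * ⟨x, hxC⟩ := by
    intro c
    apply Subtype.ext
    exact (hmemC c).mp c.2
  have hNC : ¬ (Subgroup.normalizer ((V : Subgroup C) : Set C) ≤
      Subgroup.centralizer ((V : Subgroup C) : Set C)) := by
    intro hle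
    have hcompl := MonoidHom.ker_transferSylow_isComplement' V hle
    have hKcard : Nat.card (MonoidHom.transferSylow V hle).ker = 9 := by
      have h1 := hcompl.card_mul_card
      rw [hV4, hC36] at h1
      omega
    have key : ∀ S : Sylow 3 G, (S : Subgroup G) ≤ C →
        (S : Subgroup G).subgroupOf C = (MonoidHom.transferSylow V hle).ker := by
      intro S hSC
      have hSpg : IsPGroup 3 ((S : Subgroup G).subgroupOf C) := S.isPGroup'.comap_subtype
      have hKpg : IsPGroup 3 (MonoidHom.transferSylow V hle).ker :=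
        IsPGroup.of_card (n := 2) (by rw [hKcard]; norm_num)
      have hsup : IsPGroup 3 (((S : Subgroup G).subgroupOf C) ⊔
          (MonoidHom.transferSylow V hle).ker : Subgroup C) :=
        IsPGroup.to_sup_of_normal_right hSpg hKpg
      obtain ⟨n, hn⟩ := IsPGroup.iff_card.mp hsup
      have hdvd : Nat.card (((S : Subgroup G).subgroupOf C) ⊔
          (MonoidHom.transferSylow V hle).ker : Subgroup C) ∣ 36 := by
        rw [← hC36]
        exact Subgroup.card_subgroup_dvd_card _
      have hle9 : Nat.card (((S : Subgroup G).subgroupOf C) ⊔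
          (MonoidHom.transferSylow V hle).ker : Subgroup C) ≤ 9 := by
        rw [hn] at hdvd ⊢
        rcases n with _ | _ | _ | n
        · norm_num
        · norm_num
        · norm_num
        · exfalso
          have h27 : 27 ∣ 36 := (Dvd.intro (3 ^ n) (by ring)).trans hdvd
          omega
      have hS9 : Nat.card ((S : Subgroup G).subgroupOf C) = 9 := by
        rw [Nat.card_congr (Subgroup.subgroupOfEquivOfLe hSC).toEquiv]
        exact o504_card_three hG S
      have e1 : (MonoidHom.transferSylow V hle).ker = ((S : Subgroup G).subgroupOf C) ⊔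
          (MonoidHom.transferSylow V hle).ker :=
        Subgroup.eq_of_le_of_card_ge le_sup_right (by rw [hKcard]; exact hle9)
      have e2 : (S : Subgroup G).subgroupOf C = ((S : Subgroup G).subgroupOf C) ⊔
          (MonoidHom.transferSylow V hle).ker :=
        Subgroup.eq_of_le_of_card_ge le_sup_left (by rw [hS9]; exact hle9)
      exact e2.trans e1.symm
    have h1 := key P hPC
    have h4 := key R hRC
    apply hPR
    apply Sylow.ext
    have h5 : (P : Subgroup G).subgroupOf C = (R : Subgroup G).subgroupOf C := h1.trans h4.symm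
    rw [Subgroup.subgroupOf_inj, inf_eq_left.mpr hPC, inf_eq_left.mpr hRC] at h5
    exact h5
  have hVnormal : Subgroup.normalizer ((V : Subgroup C) : Set C) = ⊤ := by
    have hVab := IsPGroup.commutative_of_card_eq_prime_sq (p := 2) (G := (V : Subgroup C))
      (by rw [hV4]; norm_num)
    have hVle : (V : Subgroup C) ≤ Subgroup.centralizer ((V : Subgroup C) : Set C) := by
      intro a ha
      rw [Subgroup.mem_centralizer_iff]
      intro b hb
      exact congrArg Subtype.val (hVab ⟨b, hb⟩ ⟨a, ha⟩)
    have hx'cent : (⟨x, hxC⟩ : C) ∈ Subgroup.centralizer ((V : Subgroup C) : Set C) := by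
      rw [Subgroup.mem_centralizer_iff]
      intro b _
      exact (hx'c b).symm
    have h4 : 4 ∣ Nat.card (Subgroup.centralizer ((V : Subgroup C) : Set C)) := by
      rw [← hV4]
      exact Subgroup.card_dvd_of_le hVle
    have h3' : 3 ∣ Nat.card (Subgroup.centralizer ((V : Subgroup C) : Set C)) := by
      have ho : orderOf (⟨x, hxC⟩ : C) = orderOf x := Subgroup.orderOf_mk x hxC
      have h5 := Subgroup.orderOf_dvd_natCard _ hx'cent
      rw [ho] at h5
      exact hox3.trans h5
    have h12 : 12 ∣ Nat.card (Subgroup.centralizer ((V : Subgroup C) : Set C)) :=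
      Nat.Coprime.mul_dvd_of_dvd_of_dvd (by norm_num : Nat.Coprime 4 3) h4 h3'
    have hcn : Subgroup.centralizer ((V : Subgroup C) : Set C) ≤
        Subgroup.normalizer ((V : Subgroup C) : Set C) := Subgroup.centralizer_le_normalizer _
    have hd1 : Nat.card (Subgroup.centralizer ((V : Subgroup C) : Set C)) ∣
        Nat.card (Subgroup.normalizer ((V : Subgroup C) : Set C)) := Subgroup.card_dvd_of_le hcn
    have hne : Nat.card (Subgroup.centralizer ((V : Subgroup C) : Set C)) ≠
        Nat.card (Subgroup.normalizer ((V : Subgroup C) : Set C)) := by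
      intro h
      apply hNC
      rw [Subgroup.eq_of_le_of_card_ge hcn h.ge]
    have hd2 : Nat.card (Subgroup.normalizer ((V : Subgroup C) : Set C)) ∣ 36 := by
      rw [← hC36]
      exact Subgroup.card_subgroup_dvd_card _
    have h36 : Nat.card (Subgroup.normalizer ((V : Subgroup C) : Set C)) = 36 := by
      obtain ⟨m, hm⟩ := h12.trans hd1
      rw [hm] at hd2 hne hd1 ⊢
      have hm3 : m ∣ 3 := by
        have : 12 * m ∣ 12 * 3 := hd2
        exact Nat.dvd_of_mul_dvd_mul_left (by norm_num) this
      have hmle : m ≤ 3 := Nat.le_of_dvd (by norm_num) hm3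
      interval_cases m
      · omega
      · exfalso
        apply hne
        exact Nat.dvd_antisymm hd1 h12
      · omega
      · rfl
    exact Subgroup.eq_top_of_card_eq _ (h36.trans hC36.symm)
  -- the image of V in G
  have hV0card : Nat.card ((V : Subgroup C).map C.subtype) = 4 := by
    rw [Subgroup.card_map_of_injective (Subgroup.subtype_injective C)]
    exact hV4
  have hCN : C ≤ Subgroup.normalizer (((V : Subgroup C).map C.subtype : Subgroup G) : Set G) := by
    have h1 := Subgroup.le_normalizer_map (H := (V : Subgroup C)) C.subtype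
    rw [hVnormal, ← MonoidHom.range_eq_map, Subgroup.range_subtype] at h1
    exact h1
  have hV0pg : IsPGroup 2 ((V : Subgroup C).map C.subtype) :=
    IsPGroup.of_card (n := 2) (by rw [hV0card]; norm_num)
  obtain ⟨T, hT⟩ := hV0pg.exists_le_sylow
  have hT8 := o504_card_two hG T
  have hTN : (T : Subgroup G) ≤
      Subgroup.normalizer (((V : Subgroup C).map C.subtype : Subgroup G) : Set G) := by
    have h1 : Nat.card (((V : Subgroup C).map C.subtype).subgroupOf (T : Subgroup G)) = 4 := by
      rw [Nat.card_congr (Subgroup.subgroupOfEquivOfLe hT).toEquiv]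
      exact hV0card
    have h4 := Subgroup.card_mul_index
      (((V : Subgroup C).map C.subtype).subgroupOf (T : Subgroup G))
    rw [h1, hT8] at h4
    have h5 : (((V : Subgroup C).map C.subtype).subgroupOf (T : Subgroup G)).index = 2 := by
      omega
    exact (Subgroup.normal_subgroupOf_iff_le_normalizer hT).mp
      (Subgroup.normal_of_index_eq_two h5)
  have h36N : 36 ∣ Nat.card
      (Subgroup.normalizer (((V : Subgroup C).map C.subtype : Subgroup G) : Set G)) := by
    rw [← hC36]
    exact Subgroup.card_dvd_of_le hCN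
  have h8N : 8 ∣ Nat.card
      (Subgroup.normalizer (((V : Subgroup C).map C.subtype : Subgroup G) : Set G)) := by
    rw [← hT8]
    exact Subgroup.card_dvd_of_le hTN
  have hNdvd : Nat.card
      (Subgroup.normalizer (((V : Subgroup C).map C.subtype : Subgroup G) : Set G)) ∣ 504 := by
    rw [← hG]
    exact Subgroup.card_subgroup_dvd_card _
  have hNidx := Subgroup.card_mul_index
    (Subgroup.normalizer (((V : Subgroup C).map C.subtype : Subgroup G) : Set G))
  rw [hG] at hNidx
  obtain ⟨N, hN⟩ : ∃ N, N = Nat.card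
      (Subgroup.normalizer (((V : Subgroup C).map C.subtype : Subgroup G) : Set G)) := ⟨_, rfl⟩
  rw [← hN] at h36N h8N hNdvd hNidx
  have hNcases : N = 72 ∨ N = 504 := by
    have h9N : 9 ∣ N := Dvd.dvd.trans ⟨4, rfl⟩ h36N
    have h72 : 72 ∣ N :=
      Nat.Coprime.mul_dvd_of_dvd_of_dvd (by norm_num : Nat.Coprime 8 9) h8N h9N
    obtain ⟨m, rfl⟩ := h72
    have hm7 : m ∣ 7 := by
      have : 72 * m ∣ 72 * 7 := hNdvd
      exact Nat.dvd_of_mul_dvd_mul_left (by norm_num) this
    have hmle : m ≤ 7 := Nat.le_of_dvd (by norm_num) hm7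
    interval_cases m <;> omega
  rcases hNcases with h | h
  · rw [h] at hNidx
    have hi7 : (Subgroup.normalizer
        (((V : Subgroup C).map C.subtype : Subgroup G) : Set G)).index = 7 := by omega
    exact o504_no_index_seven hG _ hi7
  · have htop : Subgroup.normalizer (((V : Subgroup C).map C.subtype : Subgroup G) : Set G) = ⊤ :=
      Subgroup.eq_top_of_card_eq _ (by rw [← hN, h, hG])
    have hnorm : ((V : Subgroup C).map C.subtype).Normal :=
      Subgroup.normalizer_eq_top_iff.mp htop
    rcases hnorm.eq_bot_or_eq_top with hb | ht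
    · rw [hb, Subgroup.card_bot] at hV0card
      omega
    · rw [ht, Subgroup.card_top, hG] at hV0card
      omega

/-- the Sylow 3-subgroups of a simple group of order 504 -/
theorem o504_three (hG : Nat.card G = 504) (P : Sylow 3 G) :
    Nat.card (Sylow 3 G) = 28 ∧
      Nat.card (Subgroup.normalizer ((P : Subgroup G) : Set G)) = 18 := by
  have h3 : Fact (Nat.Prime 3) := ⟨by norm_num⟩
  have hP9 := o504_card_three hG P
  have hn1 : Nat.card (Sylow 3 G) ≠ 1 :=
    sylow_card_ne_one P (by rw [show Nat.card P = 9 from hP9]; norm_num)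
      (by rw [show Nat.card P = 9 from hP9, hG]; norm_num)
  have hmod := card_sylow_modEq_one 3 G
  have hdvd := P.card_dvd_index
  have hidx : (P : Subgroup G).index = 56 := by
    have h1 := (P : Subgroup G).card_mul_index
    rw [hP9, hG] at h1
    omega
  rw [hidx] at hdvd
  have hfact := card_dvd_factorial_sylow (p := 3) hn1
  have hNidx := P.card_eq_index_normalizer
  have hNcard := Subgroup.card_mul_index (Subgroup.normalizer ((P : Subgroup G) : Set G))
  obtain ⟨M, hM⟩ : ∃ M, M = Nat.card (Subgroup.normalizer ((P : Subgroup G) : Set G)) :=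
    ⟨_, rfl⟩
  obtain ⟨I, hI⟩ : ∃ I, I = (Subgroup.normalizer ((P : Subgroup G) : Set G)).index :=
    ⟨_, rfl⟩
  have hNidx' : Nat.card (Sylow 3 G) = I := by rw [hI]; exact hNidx
  rw [← hM, ← hI, hG] at hNcard
  rw [← hM]
  clear hNidx
  obtain ⟨n, hn⟩ : ∃ n, n = Nat.card (Sylow 3 G) := ⟨_, rfl⟩
  rw [← hn] at hn1 hmod hdvd hfact hNidx' ⊢
  have hnle : n ≤ 56 := Nat.le_of_dvd (by norm_num) hdvd
  have hmod' : n % 3 = 1 := by
    have : n % 3 = 1 % 3 := hmod
    omega
  have hcases : n = 4 ∨ n = 7 ∨ n = 28 := by
    clear hfact hNidx' hn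
    interval_cases n <;> omega
  rcases hcases with rfl | rfl | rfl
  · exfalso
    rw [hG] at hfact
    revert hfact
    decide
  · exfalso
    exact o504_no_index_seven hG _ (hI.symm.trans hNidx'.symm)
  · refine ⟨rfl, ?_⟩
    rw [← hNidx'] at hNcard
    omega

end Ord504

end Cfsg.Agent.Lib.helper18
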