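import Mathlib
import Cfsg.Agent.Lib.helper18.Ord504c
import Cfsg.Agent.S1230

/-!
Simple groups of order 504: involution centralizers are elementary abelian, hence the group is
`PSL(2, F)` for a field `F` with 8 elements.
-/

set_option autoImplicit false

namespace Cfsg.Agent.Lib.helper18

open MulAction
open Cfsg.Agent.Lib.helper75

/-- conjugate elements have the same order -/
theorem orderOf_of_mem_conj_orbit {G : Type*} [Group G] (z y : G)
    (hy : y ∈ MulAction.orbit (ConjAct G) z) : orderOf y = orderOf z := by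
  obtain ⟨g, rfl⟩ := hy
  have h1 : g • z = MulAut.conj (ConjAct.ofConjAct g) z := by
    rw [ConjAct.smul_def, MulAut.conj_apply]
  show orderOf (g • z) = orderOf z
  rw [h1]
  exact MulEquiv.orderOf_eq _ z

/-- an element of a subgroup of order `n` whose order is coprime to `n` is trivial -/
theorem eq_one_of_mem_of_coprime {G : Type*} [Group G] (H : Subgroup G) (n : ℕ)
    (hH : Nat.card H = n) (x : G) (hx : x ∈ H) (hco : Nat.Coprime (orderOf x) n) : x = 1 := by
  have h1 : orderOf x ∣ n := by
    rw [← hH]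
    exact Subgroup.orderOf_dvd_natCard _ hx
  have h2 : orderOf x ∣ Nat.gcd (orderOf x) n := Nat.dvd_gcd dvd_rfl h1
  rw [hco] at h2
  exact orderOf_eq_one_iff.mp (Nat.dvd_one.mp h2)

section Ord504

variable {G : Type*} [Group G] [Finite G] [IsSimpleGroup G]

theorem o504_seven_TI (hG : Nat.card G = 504) (P R : Sylow 7 G) (hPR : P ≠ R) (x : G)
    (hxP : x ∈ P) (hxR : x ∈ R) : x = 1 := by
  by_contra hx1
  have h7 : Fact (Nat.Prime 7) := ⟨by norm_num⟩
  have h1 := zpowers_eq_of_card_prime P (o504_seven hG P).1 x hxP hx1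
  have h2 := zpowers_eq_of_card_prime R (o504_seven hG R).1 x hxR hx1
  exact hPR (Sylow.ext (h1.symm.trans h2))

/-- at most 63 nontrivial elements lie outside the Sylow 3- and 7-subgroups -/
theorem o504_count (hG : Nat.card G = 504) (S : Set G) (h1 : (1 : G) ∉ S)
    (h3 : ∀ g ∈ S, ∀ P : Sylow 3 G, g ∉ P) (h7 : ∀ g ∈ S, ∀ Q : Sylow 7 G, g ∉ Q) :
    S.ncard ≤ 63 := by
  have hp3 : Fact (Nat.Prime 3) := ⟨by norm_num⟩
  have hp7 : Fact (Nat.Prime 7) := ⟨by norm_num⟩
  have A3 := card_union_sylow_TI 3 9 (fun P => o504_card_three hG P) (o504_three_TI hG)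
  have A7 := card_union_sylow_TI 7 7 (fun Q => (o504_seven hG Q).1) (o504_seven_TI hG)
  obtain ⟨P⟩ : Nonempty (Sylow 3 G) := inferInstance
  obtain ⟨Q⟩ : Nonempty (Sylow 7 G) := inferInstance
  rw [(o504_three hG P).1] at A3
  rw [(o504_seven hG Q).2.1] at A7
  obtain ⟨U3, hU3⟩ : ∃ U : Set G, U = {g : G | g ≠ 1 ∧ ∃ P : Sylow 3 G, g ∈ P} := ⟨_, rfl⟩
  obtain ⟨U7, hU7⟩ : ∃ U : Set G, U = {g : G | g ≠ 1 ∧ ∃ P : Sylow 7 G, g ∈ P} := ⟨_, rfl⟩
  rw [← hU3] at A3
  rw [← hU7] at A7
  have hd37 : Disjoint U3 U7 := by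
    rw [Set.disjoint_left]
    intro g hg3 hg7
    rw [hU3] at hg3
    rw [hU7] at hg7
    obtain ⟨hg1, P', hP'⟩ := hg3
    obtain ⟨-, Q', hQ'⟩ := hg7
    apply hg1
    have hd : orderOf g ∣ 9 := by
      have h := Subgroup.orderOf_dvd_natCard _ (show g ∈ (P' : Subgroup G) from hP')
      rwa [o504_card_three hG P'] at h
    have hd7 : orderOf g ∣ 7 := by
      have h := Subgroup.orderOf_dvd_natCard _ (show g ∈ (Q' : Subgroup G) from hQ')
      rwa [show Nat.card (Q' : Subgroup G) = 7 from (o504_seven hG Q').1] at h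
    have h4 : orderOf g ∣ Nat.gcd 9 7 := Nat.dvd_gcd hd hd7
    norm_num at h4
    exact h4
  have hdS : Disjoint S (U3 ∪ U7) := by
    rw [Set.disjoint_left]
    intro g hgS hg
    rcases hg with hg | hg
    · rw [hU3] at hg
      obtain ⟨-, P', hP'⟩ := hg
      exact h3 g hgS P' hP'
    · rw [hU7] at hg
      obtain ⟨-, Q', hQ'⟩ := hg
      exact h7 g hgS Q' hQ'
  have hd1 : Disjoint (S ∪ (U3 ∪ U7)) ({1} : Set G) := by
    rw [Set.disjoint_singleton_right]
    rintro (h | h | h)
    · exact h1 h
    · rw [hU3] at h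
      exact h.1 rfl
    · rw [hU7] at h
      exact h.1 rfl
  have hle := Set.ncard_le_card ((S ∪ (U3 ∪ U7)) ∪ ({1} : Set G))
  rw [Set.ncard_union_eq hd1 (Set.toFinite _) (Set.toFinite _),
    Set.ncard_union_eq hdS (Set.toFinite _) (Set.toFinite _),
    Set.ncard_union_eq hd37 (Set.toFinite _) (Set.toFinite _), A3, A7, Set.ncard_singleton,
    hG] at hle
  omega

/-- a simple group of order 504 has no element of order 6 -/
theorem o504_no_six (hG : Nat.card G = 504) (z : G) (hz : orderOf z = 6) : False := by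
  have hp3 : Fact (Nat.Prime 3) := ⟨by norm_num⟩
  have hp7 : Fact (Nat.Prime 7) := ⟨by norm_num⟩
  have hcls : (MulAction.orbit (ConjAct G) z).ncard ≤ 63 := by
    apply o504_count hG
    · intro h
      have h1 := orderOf_of_mem_conj_orbit z 1 h
      rw [orderOf_one, hz] at h1
      omega
    · intro g hg P hgP
      have h1 := orderOf_of_mem_conj_orbit z g hg
      have h := Subgroup.orderOf_dvd_natCard _ (show g ∈ (P : Subgroup G) from hgP)
      rw [o504_card_three hG P, h1, hz] at h
      omega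
    · intro g hg Q hgQ
      have h1 := orderOf_of_mem_conj_orbit z g hg
      have h := Subgroup.orderOf_dvd_natCard _ (show g ∈ (Q : Subgroup G) from hgQ)
      rw [show Nat.card (Q : Subgroup G) = 7 from (o504_seven hG Q).1, h1, hz] at h
      omega
  have hcc := conj_class_card z
  rw [hG] at hcc
  have hC8 : 8 ≤ Nat.card (Subgroup.centralizer ({z} : Set G)) := by
    by_contra hlt
    have h7 : Nat.card (Subgroup.centralizer ({z} : Set G)) ≤ 7 := by omega
    have := Nat.mul_le_mul hcls h7
    omega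
  -- the Sylow 3-subgroup containing z ^ 2
  have ho2 : orderOf (z ^ 2) = 3 := by
    rw [orderOf_pow' z (by norm_num), hz]
    norm_num
  have hpg : IsPGroup 3 (Subgroup.zpowers (z ^ 2)) :=
    IsPGroup.of_card (n := 1) (by rw [Nat.card_zpowers, ho2, pow_one])
  obtain ⟨P, hP⟩ := hpg.exists_le_sylow
  have hz2P : z ^ 2 ∈ (P : Subgroup G) := hP (Subgroup.mem_zpowers _)
  have hz2ne : z ^ 2 ≠ 1 := by
    intro h
    rw [h, orderOf_one] at ho2
    omega
  have hCN : Subgroup.centralizer ({z} : Set G) ≤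
      Subgroup.normalizer ((P : Subgroup G) : Set G) := by
    intro c hc
    rw [Subgroup.mem_centralizer_singleton_iff] at hc
    apply Sylow.smul_eq_iff_mem_normalizer.mp
    by_contra hne
    apply hz2ne
    apply o504_three_TI hG (c • P) P hne (z ^ 2) _ hz2P
    show z ^ 2 ∈ ((c • P : Sylow 3 G) : Subgroup G)
    rw [sylow_mem_smul_iff]
    have hcz : Commute c z := hc
    have h1 : c⁻¹ * z ^ 2 * c = z ^ 2 := by
      have h2 : Commute c (z ^ 2) := hcz.pow_right 2
      rw [mul_assoc, ← h2.eq, inv_mul_cancel_left]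
    rw [h1]
    exact hz2P
  have hN18 := (o504_three hG P).2
  have hP9 := o504_card_three hG P
  -- the centralizer of P has order 18
  have hPC : (P : Subgroup G) ≤ Subgroup.centralizer ((P : Subgroup G) : Set G) := by
    intro a ha
    rw [Subgroup.mem_centralizer_iff]
    intro b hb
    exact o504_three_comm hG P b a hb ha
  have hCeq : Subgroup.centralizer ({z} : Set G) =
      Subgroup.normalizer ((P : Subgroup G) : Set G) := by
    apply Subgroup.eq_of_le_of_card_ge hCN
    have hd := Subgroup.card_dvd_of_le hCN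
    have hzC : z ∈ Subgroup.centralizer ({z} : Set G) :=
      Subgroup.mem_centralizer_singleton_iff.mpr rfl
    have h6 := Subgroup.orderOf_dvd_natCard _ hzC
    rw [hz] at h6
    rw [hN18] at hd ⊢
    obtain ⟨m, hm⟩ := h6
    rw [hm] at hd hC8 ⊢
    have hm3 : m ∣ 3 := by
      have : 6 * m ∣ 6 * 3 := hd
      exact Nat.dvd_of_mul_dvd_mul_left (by norm_num) this
    have hmle : m ≤ 3 := Nat.le_of_dvd (by norm_num) hm3
    interval_cases m <;> omega
  have hzCP : z ∈ Subgroup.centralizer ((P : Subgroup G) : Set G) := by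
    rw [Subgroup.mem_centralizer_iff]
    intro b hb
    have hbN : b ∈ Subgroup.normalizer ((P : Subgroup G) : Set G) := Subgroup.le_normalizer hb
    rw [← hCeq, Subgroup.mem_centralizer_singleton_iff] at hbN
    exact hbN
  have hCPN : Subgroup.centralizer ((P : Subgroup G) : Set G) ≤
      Subgroup.normalizer ((P : Subgroup G) : Set G) := Subgroup.centralizer_le_normalizer _
  have hNC : Subgroup.normalizer ((P : Subgroup G) : Set G) ≤
      Subgroup.centralizer ((P : Subgroup G) : Set G) := by
    have h9 : 9 ∣ Nat.card (Subgroup.centralizer ((P : Subgroup G) : Set G)) := by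
      rw [← hP9]
      exact Subgroup.card_dvd_of_le hPC
    have h6 := Subgroup.orderOf_dvd_natCard _ hzCP
    rw [hz] at h6
    have h2 : 2 ∣ Nat.card (Subgroup.centralizer ((P : Subgroup G) : Set G)) :=
      Dvd.dvd.trans ⟨3, rfl⟩ h6
    have h18 : 18 ∣ Nat.card (Subgroup.centralizer ((P : Subgroup G) : Set G)) :=
      Nat.Coprime.mul_dvd_of_dvd_of_dvd (by norm_num : Nat.Coprime 2 9) h2 h9
    have hle : Nat.card (Subgroup.normalizer ((P : Subgroup G) : Set G)) ≤
        Nat.card (Subgroup.centralizer ((P : Subgroup G) : Set G)) := by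
      rw [hN18]
      exact Nat.le_of_dvd Nat.card_pos h18
    exact (Subgroup.eq_of_le_of_card_ge hCPN hle).ge
  exact not_simple_of_sylow_central 3 P hNC
    (by rw [show Nat.card P = 9 from hP9]; norm_num)
    (by rw [show Nat.card P = 9 from hP9, hG]; norm_num)

/-- the order of an element commuting with an involution is prime to 3 and 7 -/
theorem o504_invol_cent_order (hG : Nat.card G = 504) (t : G) (ht : orderOf t = 2) (c : G)
    (hc : t * c = c * t) : ¬ 3 ∣ orderOf c ∧ ¬ 7 ∣ orderOf c := by
  have hc0 : orderOf c ≠ 0 := (orderOf_pos c).ne'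
  have hcomm : Commute t c := hc
  constructor
  · intro h
    have ho := orderOf_pow_orderOf_div hc0 h
    have hcm : Commute t (c ^ (orderOf c / 3)) := hcomm.pow_right _
    have h6 := hcm.orderOf_mul_eq_mul_orderOf_of_coprime (by rw [ht, ho]; norm_num)
    rw [ht, ho] at h6
    exact o504_no_six hG _ h6
  · intro h
    have ho := orderOf_pow_orderOf_div hc0 h
    have hcm : Commute t (c ^ (orderOf c / 7)) := hcomm.pow_right _
    have hmem := o504_comm_seven hG _ t ho hcm.symm.eq
    have h1 := Subgroup.orderOf_dvd_natCard _ hmem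
    rw [Nat.card_zpowers, ho, ht] at h1
    omega

/-- if there is an involution, every nontrivial element outside the Sylow 3- and 7-subgroups is
an involution -/
theorem o504_invol_class (hG : Nat.card G = 504) (t : G) (ht : orderOf t = 2) (y : G)
    (hy1 : y ≠ 1) (hy3 : ∀ P : Sylow 3 G, y ∉ P) (hy7 : ∀ Q : Sylow 7 G, y ∉ Q) :
    orderOf y = 2 := by
  have hp3 : Fact (Nat.Prime 3) := ⟨by norm_num⟩
  have hp7 : Fact (Nat.Prime 7) := ⟨by norm_num⟩
  obtain ⟨Y, hY⟩ : ∃ Y : Set G, Y = {y : G | y ≠ 1 ∧ (∀ P : Sylow 3 G, y ∉ P) ∧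
      (∀ Q : Sylow 7 G, y ∉ Q)} := ⟨_, rfl⟩
  have hYle : Y.ncard ≤ 63 := by
    apply o504_count hG
    · intro h
      rw [hY] at h
      exact h.1 rfl
    · intro g hg
      rw [hY] at hg
      exact hg.2.1
    · intro g hg
      rw [hY] at hg
      exact hg.2.2
  have hsub : MulAction.orbit (ConjAct G) t ⊆ Y := by
    intro g hg
    have ho := orderOf_of_mem_conj_orbit t g hg
    rw [ht] at ho
    rw [hY]
    refine ⟨?_, ?_, ?_⟩
    · rintro rfl
      rw [orderOf_one] at ho
      omega
    · intro P hgP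
      have h := Subgroup.orderOf_dvd_natCard _ (show g ∈ (P : Subgroup G) from hgP)
      rw [o504_card_three hG P, ho] at h
      omega
    · intro Q hgQ
      have h := Subgroup.orderOf_dvd_natCard _ (show g ∈ (Q : Subgroup G) from hgQ)
      rw [show Nat.card (Q : Subgroup G) = 7 from (o504_seven hG Q).1, ho] at h
      omega
  have hcc := conj_class_card t
  rw [hG] at hcc
  have hCdvd : Nat.card (Subgroup.centralizer ({t} : Set G)) ∣ 504 := by
    rw [← hG]
    exact Subgroup.card_subgroup_dvd_card _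
  have hC3 : ¬ 3 ∣ Nat.card (Subgroup.centralizer ({t} : Set G)) := by
    intro h
    obtain ⟨x, hxC, hx⟩ := exists_mem_orderOf_prime _ 3 h
    rw [Subgroup.mem_centralizer_singleton_iff] at hxC
    have := (o504_invol_cent_order hG t ht x hxC.symm).1
    rw [hx] at this
    exact this dvd_rfl
  have hC7 : ¬ 7 ∣ Nat.card (Subgroup.centralizer ({t} : Set G)) := by
    intro h
    obtain ⟨x, hxC, hx⟩ := exists_mem_orderOf_prime _ 7 h
    rw [Subgroup.mem_centralizer_singleton_iff] at hxC
    have := (o504_invol_cent_order hG t ht x hxC.symm).2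
    rw [hx] at this
    exact this dvd_rfl
  have hC8 : Nat.card (Subgroup.centralizer ({t} : Set G)) ≤ 8 := by
    have hco : Nat.Coprime (Nat.card (Subgroup.centralizer ({t} : Set G))) 63 := by
      have h63 : (63 : ℕ) = 3 ^ 2 * 7 := by norm_num
      rw [h63]
      apply Nat.Coprime.mul_right
      · apply Nat.Coprime.pow_right
        exact ((Nat.Prime.coprime_iff_not_dvd (by norm_num : Nat.Prime 3)).mpr hC3).symm
      · exact ((Nat.Prime.coprime_iff_not_dvd (by norm_num : Nat.Prime 7)).mpr hC7).symm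
    have h8 : Nat.card (Subgroup.centralizer ({t} : Set G)) ∣ 8 := by
      have h504 : (504 : ℕ) = 63 * 8 := by norm_num
      rw [h504] at hCdvd
      exact hco.dvd_of_dvd_mul_left hCdvd
    exact Nat.le_of_dvd (by norm_num) h8
  have hcls : 63 ≤ (MulAction.orbit (ConjAct G) t).ncard := by
    by_contra hlt
    have h62 : (MulAction.orbit (ConjAct G) t).ncard ≤ 62 := by omega
    have := Nat.mul_le_mul h62 hC8
    omega
  have heq : MulAction.orbit (ConjAct G) t = Y :=
    Set.eq_of_subset_of_ncard_le hsub (hYle.trans hcls) (Set.toFinite _)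
  have hyY : y ∈ Y := by
    rw [hY]
    exact ⟨hy1, hy3, hy7⟩
  rw [← heq] at hyY
  rw [orderOf_of_mem_conj_orbit t y hyY, ht]

/-- an element commuting with an involution has square one -/
theorem o504_invol_cent_sq (hG : Nat.card G = 504) (t : G) (ht : orderOf t = 2) (c : G)
    (hc : t * c = c * t) : c ^ 2 = 1 := by
  by_cases hc1 : c = 1
  · rw [hc1, one_pow]
  obtain ⟨h3, h7⟩ := o504_invol_cent_order hG t ht c hc
  have ho : orderOf c = 2 := by
    apply o504_invol_class hG t ht c hc1
    · intro P hcP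
      apply hc1
      apply eq_one_of_mem_of_coprime (P : Subgroup G) 9 (o504_card_three hG P) c hcP
      have h9 : (9 : ℕ) = 3 ^ 2 := by norm_num
      rw [h9]
      apply Nat.Coprime.pow_right
      exact ((Nat.Prime.coprime_iff_not_dvd (by norm_num : Nat.Prime 3)).mpr h3).symm
    · intro Q hcQ
      apply hc1
      apply eq_one_of_mem_of_coprime (Q : Subgroup G) 7 (o504_seven hG Q).1 c hcQ
      exact ((Nat.Prime.coprime_iff_not_dvd (by norm_num : Nat.Prime 7)).mpr h7).symm
  rw [← ho]
  exact pow_orderOf_eq_one c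

/-- a simple group of order 504 is `PSL(2, F)` for a field `F` with 8 elements -/
theorem o504_psl (hG : Nat.card G = 504) :
    ∃ (F : Type) (_ : Field F) (_ : Fintype F), Fintype.card F = 8 ∧
      Nonempty (G ≃* Matrix.ProjectiveSpecialLinearGroup (Fin 2) F) := by
  have hp2 : Fact (Nat.Prime 2) := ⟨Nat.prime_two⟩
  have hp3 : Fact (Nat.Prime 3) := ⟨by norm_num⟩
  have hp7 : Fact (Nat.Prime 7) := ⟨by norm_num⟩
  obtain ⟨T⟩ : Nonempty (Sylow 2 G) := inferInstance
  have hT8 := o504_card_two hG T
  obtain ⟨t₀, -, ht₀⟩ := exists_mem_orderOf_prime (T : Subgroup G) 2 (by rw [hT8]; norm_num)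
  have hnc : ¬ IsCyclic (T : Subgroup G) := by
    intro hcyc
    obtain ⟨g, hg⟩ := IsCyclic.exists_generator (α := (T : Subgroup G))
    have hog := orderOf_eq_card_of_forall_mem_zpowers hg
    rw [hT8] at hog
    have hog' : orderOf (g : G) = 8 := by
      rw [Subgroup.orderOf_coe]
      exact hog
    have ho4 : orderOf ((g : G) ^ 2) = 4 := by
      rw [orderOf_pow' (g : G) (by norm_num), hog']
      norm_num
    have h2 : orderOf ((g : G) ^ 2) = 2 := by
      apply o504_invol_class hG t₀ ht₀
      · intro h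
        rw [h, orderOf_one] at ho4
        omega
      · intro P hP
        have h := Subgroup.orderOf_dvd_natCard _ (show (g : G) ^ 2 ∈ (P : Subgroup G) from hP)
        rw [o504_card_three hG P, ho4] at h
        omega
      · intro Q hQ
        have h := Subgroup.orderOf_dvd_natCard _ (show (g : G) ^ 2 ∈ (Q : Subgroup G) from hQ)
        rw [show Nat.card (Q : Subgroup G) = 7 from (o504_seven hG Q).1, ho4] at h
        omega
    omega
  have hnn : ¬ (T : Subgroup G).Normal := by
    intro hn
    rcases hn.eq_bot_or_eq_top with hb | ht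
    · rw [hb, Subgroup.card_bot] at hT8
      omega
    · rw [ht, Subgroup.card_top, hG] at hT8
      omega
  have hC : ∀ t : G, orderOf t = 2 →
      IsMulCommutative (Subgroup.centralizer ({t} : Set G)) ∧
        ∀ c ∈ Subgroup.centralizer ({t} : Set G), c ^ 2 = 1 := by
    intro t ht
    have hsq : ∀ c ∈ Subgroup.centralizer ({t} : Set G), c ^ 2 = 1 := by
      intro c hc
      rw [Subgroup.mem_centralizer_singleton_iff] at hc
      exact o504_invol_cent_sq hG t ht c hc.symm
    refine ⟨⟨⟨fun a b => ?_⟩⟩, hsq⟩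
    apply Subtype.ext
    have ha := hsq a a.2
    have hb := hsq b b.2
    have hab := hsq (a * b) (Subgroup.mul_mem _ a.2 b.2)
    show (a : G) * b = b * a
    have h1 : (a : G) * b * (a * b) = 1 := by rw [← pow_two]; exact hab
    have h2 : (a : G) * a = 1 := by rw [← pow_two]; exact ha
    have h3 : (b : G) * b = 1 := by rw [← pow_two]; exact hb
    have ha' : (a : G)⁻¹ = a := inv_eq_of_mul_eq_one_left h2
    have hb' : (b : G)⁻¹ = b := inv_eq_of_mul_eq_one_left h3
    have hab' : ((a : G) * b)⁻¹ = a * b := inv_eq_of_mul_eq_one_left h1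
    rw [← hab', mul_inv_rev, ha', hb']
  obtain ⟨F, hF1, hF2, hFc, hiso⟩ := Cfsg.Agent.S1230.result T hnc hnn hC
  exact ⟨F, hF1, hF2, hFc.trans hT8, hiso⟩

end Ord504

end Cfsg.Agent.Lib.helper18
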