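import Mathlib
import Cfsg.Agent.Lib.helper18.Ord504d
import Cfsg.Agent.Lib.helper18.Ord360c

/-!
Generic counting lemmas for Sylow subgroups of prime order, and the Sylow 17-, 5- and
3-subgroups of a simple group of order 4080.
-/

set_option autoImplicit false

namespace Cfsg.Agent.Lib.helper18

open MulAction
open Cfsg.Agent.Lib.helper75

/-- in the centralizer of a Sylow subgroup `P` of prime order `q`, the elements of order
divisible by `q` are numerous -/
theorem card_cent_div_ge {G : Type*} [Group G] [Finite G] (q : ℕ) [Fact q.Prime] (c : ℕ)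
    (P : Sylow q G) (hP : Nat.card P = q)
    (hc : c * q ≤ Nat.card (Subgroup.centralizer ((P : Subgroup G) : Set G))) :
    c * (q - 1) ≤ Set.ncard {y : G | y ∈ Subgroup.centralizer ((P : Subgroup G) : Set G) ∧
      q ∣ orderOf y} := by
  classical
  have := Fintype.ofFinite G
  have hq : q.Prime := Fact.out
  obtain ⟨C, hC⟩ : ∃ C : Subgroup G, C = Subgroup.centralizer ((P : Subgroup G) : Set G) :=
    ⟨_, rfl⟩
  rw [← hC] at hc ⊢
  obtain ⟨Cf, hCfdef⟩ : ∃ Cf : Finset G, Cf = Finset.univ.filter (fun y => y ∈ C) := ⟨_, rfl⟩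
  obtain ⟨K0, hK0def⟩ : ∃ K0 : Finset G, K0 = Cf.filter (fun y => ¬ q ∣ orderOf y) := ⟨_, rfl⟩
  obtain ⟨B, hBdef⟩ : ∃ B : Finset G, B = Cf.filter (fun y => q ∣ orderOf y) := ⟨_, rfl⟩
  obtain ⟨Pf, hPfdef⟩ : ∃ Pf : Finset G, Pf = Finset.univ.filter (fun y => y ∈ (P : Subgroup G)) :=
    ⟨_, rfl⟩
  have hCf : Cf.card = Nat.card C := by
    rw [hCfdef, Nat.card_eq_fintype_card, Fintype.card_subtype]
  have hPq : Nat.card (P : Subgroup G) = q := hP
  have hPf : Pf.card = q := by
    have h1 : Pf.card = Nat.card (P : Subgroup G) := by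
      rw [hPfdef, Nat.card_eq_fintype_card, Fintype.card_subtype]
    rw [h1, hPq]
  have hsplit : B.card + K0.card = Cf.card := by
    rw [hBdef, hK0def]
    exact Finset.card_filter_add_card_filter_not _
  have hinj : (K0 ×ˢ Pf).card ≤ Cf.card := by
    apply Finset.card_le_card_of_injOn (fun x => x.1 * x.2)
    · intro x hx
      rw [Finset.mem_coe, Finset.mem_product] at hx
      obtain ⟨h1, h2⟩ := hx
      rw [hK0def, Finset.mem_filter, hCfdef, Finset.mem_filter] at h1
      rw [hPfdef, Finset.mem_filter] at h2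
      rw [Finset.mem_coe, hCfdef, Finset.mem_filter]
      refine ⟨Finset.mem_univ _, Subgroup.mul_mem _ h1.1.2 ?_⟩
      rw [hC, Subgroup.mem_centralizer_iff]
      intro h hh
      have hcyc : IsCyclic (P : Subgroup G) := isCyclic_of_prime_card hPq
      have hcm := hcyc.isMulCommutative
      have h3 := hcm.is_comm.comm (⟨h, hh⟩ : (P : Subgroup G)) ⟨x.2, h2.2⟩
      exact congrArg Subtype.val h3
    · intro x hx x' hx' heq
      rw [Finset.mem_coe, Finset.mem_product] at hx hx'
      obtain ⟨h1, h2⟩ := hx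
      obtain ⟨h1', h2'⟩ := hx'
      rw [hK0def, Finset.mem_filter, hCfdef, Finset.mem_filter] at h1 h1'
      rw [hPfdef, Finset.mem_filter] at h2 h2'
      have heq' : x.1 * x.2 = x'.1 * x'.2 := heq
      have hbP : x.2 * x'.2⁻¹ ∈ (P : Subgroup G) :=
        Subgroup.mul_mem _ h2.2 (Subgroup.inv_mem _ h2'.2)
      have hx'1 : x'.1 = x.1 * (x.2 * x'.2⁻¹) := by
        rw [← mul_assoc, heq', mul_assoc, mul_inv_cancel, mul_one]
      have hb1 : x.2 * x'.2⁻¹ = 1 := by
        by_contra hne
        have hcomm : Commute x.1 (x.2 * x'.2⁻¹) := by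
          have h3 := h1.1.2
          rw [hC, Subgroup.mem_centralizer_iff] at h3
          exact (h3 _ hbP).symm
        have hob : orderOf (x.2 * x'.2⁻¹) = q := by
          have hd := Subgroup.orderOf_dvd_natCard _ hbP
          rw [hPq] at hd
          rcases (Nat.dvd_prime hq).mp hd with h | h
          · exact absurd (orderOf_eq_one_iff.mp h) hne
          · exact h
        have hco : Nat.Coprime (orderOf x.1) (orderOf (x.2 * x'.2⁻¹)) := by
          rw [hob]
          exact ((Nat.Prime.coprime_iff_not_dvd hq).mpr h1.2).symm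
        have ho := hcomm.orderOf_mul_eq_mul_orderOf_of_coprime hco
        rw [← hx'1, hob] at ho
        exact h1'.2 (Dvd.intro_left _ ho.symm)
      have h22 : x.2 = x'.2 := by
        rw [mul_inv_eq_one] at hb1
        exact hb1
      have h11 : x.1 = x'.1 := by
        rw [hx'1, hb1, mul_one]
      exact Prod.ext h11 h22
  rw [Finset.card_product, hPf] at hinj
  have hset : {y : G | y ∈ C ∧ q ∣ orderOf y} = (B : Set G) := by
    ext y
    rw [hBdef, hCfdef]
    simp
  rw [hset, Set.ncard_coe_finset]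
  rw [hCf] at hsplit hinj
  obtain ⟨q', rfl⟩ : ∃ q', q = q' + 1 := ⟨q - 1, by have := hq.pos; omega⟩
  rw [Nat.add_sub_cancel]
  obtain ⟨N, hN⟩ : ∃ N, N = Nat.card C := ⟨_, rfl⟩
  rw [← hN] at hsplit hinj hc
  obtain ⟨b, hb⟩ : ∃ b, b = B.card := ⟨_, rfl⟩
  obtain ⟨k, hk⟩ : ∃ k, k = K0.card := ⟨_, rfl⟩
  rw [← hb, ← hk] at hsplit
  rw [← hk] at hinj
  rw [← hb]
  by_contra hlt
  have h1 : b + 1 ≤ c * q' := by omega
  have h2 : k * q' ≤ b := by
    have : k * (q' + 1) = k * q' + k := by ring
    omega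
  have h3 : c * q' * (q' + 1) ≤ (b + k) * q' := by
    have : c * (q' + 1) ≤ b + k := by omega
    calc c * q' * (q' + 1) = c * (q' + 1) * q' := by ring
      _ ≤ (b + k) * q' := Nat.mul_le_mul_right _ this
  have h4 : (b + 1) * (q' + 1) ≤ c * q' * (q' + 1) := Nat.mul_le_mul_right _ h1
  have h5 : (b + k) * q' = b * q' + k * q' := by ring
  have h6 : (b + 1) * (q' + 1) = b * q' + b + q' + 1 := by ring
  omega

/-- lower bound for the number of elements of order divisible by `q` -/
theorem card_div_elts_ge {G : Type*} [Group G] [Finite G] (q : ℕ) [Fact q.Prime] (c : ℕ)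
    (hq : ∀ P : Sylow q G, Nat.card P = q)
    (hc : ∀ P : Sylow q G,
      c * q ≤ Nat.card (Subgroup.centralizer ((P : Subgroup G) : Set G))) :
    Nat.card (Sylow q G) * (c * (q - 1)) ≤ Set.ncard {y : G | q ∣ orderOf y} := by
  classical
  have := Fintype.ofFinite G
  have := Fintype.ofFinite (Sylow q G)
  obtain ⟨Bf, hBf⟩ : ∃ Bf : Sylow q G → Finset G, Bf = fun P : Sylow q G => Finset.univ.filter
      (fun y => y ∈ Subgroup.centralizer ((P : Subgroup G) : Set G) ∧ q ∣ orderOf y) := ⟨_, rfl⟩
  have hB : ∀ P, c * (q - 1) ≤ (Bf P).card := by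
    intro P
    have h := card_cent_div_ge q c P (hq P) (hc P)
    have hset : {y : G | y ∈ Subgroup.centralizer ((P : Subgroup G) : Set G) ∧
        q ∣ orderOf y} = (Bf P : Set G) := by
      ext y
      rw [hBf]
      simp
    rwa [hset, Set.ncard_coe_finset] at h
  have hdisj : ((Finset.univ : Finset (Sylow q G)) : Set (Sylow q G)).PairwiseDisjoint Bf := by
    intro P _ R _ hne
    rw [Function.onFun, Finset.disjoint_left]
    intro y hyP hyR
    rw [hBf] at hyP hyR
    simp only [Finset.mem_filter, Finset.mem_univ, true_and] at hyP hyR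
    have hy0 : orderOf y ≠ 0 := (orderOf_pos y).ne'
    have hz := orderOf_pow_orderOf_div hy0 hyP.2
    have hzP : y ^ (orderOf y / q) ∈ (P : Subgroup G) := by
      apply mem_sylow_of_orderOf_pow P _ 1 (by rw [hz, pow_one])
      exact Sylow.smul_eq_iff_mem_normalizer.mpr
        (Subgroup.centralizer_le_normalizer _ (Subgroup.pow_mem _ hyP.1 _))
    have hzR : y ^ (orderOf y / q) ∈ (R : Subgroup G) := by
      apply mem_sylow_of_orderOf_pow R _ 1 (by rw [hz, pow_one])
      exact Sylow.smul_eq_iff_mem_normalizer.mpr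
        (Subgroup.centralizer_le_normalizer _ (Subgroup.pow_mem _ hyR.1 _))
    have hz1 : y ^ (orderOf y / q) ≠ 1 := by
      intro h
      rw [h, orderOf_one] at hz
      exact (Fact.out : q.Prime).one_lt.ne hz
    have h1 := zpowers_eq_of_card_prime P (hq P) _ hzP hz1
    have h2 := zpowers_eq_of_card_prime R (hq R) _ hzR hz1
    exact hne (Sylow.ext (h1.symm.trans h2))
  have hsub : (Finset.univ.biUnion Bf : Finset G) ⊆
      Finset.univ.filter (fun y => q ∣ orderOf y) := by
    intro y hy
    rw [hBf] at hy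
    simp only [Finset.mem_biUnion, Finset.mem_univ, true_and, Finset.mem_filter] at hy ⊢
    obtain ⟨P, -, h⟩ := hy
    exact h
  have hset : {y : G | q ∣ orderOf y} =
      ((Finset.univ.filter (fun y => q ∣ orderOf y) : Finset G) : Set G) := by
    ext y
    simp
  rw [hset, Set.ncard_coe_finset]
  refine le_trans ?_ (Finset.card_le_card hsub)
  rw [Finset.card_biUnion hdisj]
  calc Nat.card (Sylow q G) * (c * (q - 1)) = ∑ _P : Sylow q G, c * (q - 1) := by
        rw [Finset.sum_const, Finset.card_univ, smul_eq_mul, Nat.card_eq_fintype_card]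
    _ ≤ ∑ P : Sylow q G, (Bf P).card := Finset.sum_le_sum (fun P _ => hB P)

/-- an element normalising a Sylow subgroup of order `p`, of order prime to `p - 1`,
centralises it -/
theorem mem_centralizer_of_smul_eq {G : Type*} [Group G] [Finite G] {p : ℕ} [Fact p.Prime]
    (P : Sylow p G) (hP : Nat.card P = p) (b : G) (hb : b • P = P)
    (hco : Nat.Coprime (orderOf b) (p - 1)) :
    b ∈ Subgroup.centralizer ((P : Subgroup G) : Set G) := by
  have hbN : b ∈ Subgroup.normalizer ((P : Subgroup G) : Set G) :=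
    Sylow.smul_eq_iff_mem_normalizer.mp hb
  have hrel := relIndex_dvd_pred P hP
  obtain ⟨e, he⟩ : ∃ e, e = (Subgroup.centralizer ((P : Subgroup G) : Set G)).relIndex
      (Subgroup.normalizer ((P : Subgroup G) : Set G)) := ⟨_, rfl⟩
  rw [← he] at hrel
  have h1 : (⟨b, hbN⟩ : Subgroup.normalizer ((P : Subgroup G) : Set G)) ^ e ∈
      (Subgroup.centralizer ((P : Subgroup G) : Set G)).subgroupOf
        (Subgroup.normalizer ((P : Subgroup G) : Set G)) := by
    rw [he]
    exact Subgroup.pow_index_mem _ _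
  have h2 : b ^ e ∈ Subgroup.centralizer ((P : Subgroup G) : Set G) := by
    rw [Subgroup.mem_subgroupOf] at h1
    exact h1
  have hco' : Nat.Coprime (orderOf b) e := Nat.Coprime.coprime_dvd_right hrel hco
  obtain ⟨m, hm⟩ := exists_pow_eq_self_of_coprime hco'.symm
  rw [← hm]
  exact Subgroup.pow_mem _ h2 m

end Cfsg.Agent.Lib.helper18
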