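import Mathlib
import Cfsg.Agent.Lib.helper18.Ord4080a

/-!
Simple groups of order 4080: Sylow 17-, 5- and 3-subgroups.
-/

set_option autoImplicit false

namespace Cfsg.Agent.Lib.helper18

open MulAction
open Cfsg.Agent.Lib.helper75

/-- Sylow subgroups of prime order intersect trivially -/
theorem sylow_prime_TI {G : Type*} [Group G] [Finite G] (p : ℕ) [Fact p.Prime]
    (hp : ∀ P : Sylow p G, Nat.card P = p) (P R : Sylow p G) (hPR : P ≠ R) (x : G)
    (hxP : x ∈ P) (hxR : x ∈ R) : x = 1 := by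
  by_contra hx1
  have h1 := zpowers_eq_of_card_prime P (hp P) x hxP hx1
  have h2 := zpowers_eq_of_card_prime R (hp R) x hxR hx1
  exact hPR (Sylow.ext (h1.symm.trans h2))

/-- an element commuting with an element `g` of prime order `p` lies in the centralizer of the
Sylow subgroup generated by `g` -/
theorem exists_sylow_of_orderOf_prime {G : Type*} [Group G] [Finite G] (p : ℕ) [Fact p.Prime]
    (hp : ∀ P : Sylow p G, Nat.card P = p) (g : G) (hg : orderOf g = p) :
    ∃ P : Sylow p G, Subgroup.zpowers g = (P : Subgroup G) ∧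
      ∀ y : G, g * y = y * g → y ∈ Subgroup.centralizer ((P : Subgroup G) : Set G) := by
  have hpg : IsPGroup p (Subgroup.zpowers g) :=
    IsPGroup.of_card (n := 1) (by rw [Nat.card_zpowers, hg, pow_one])
  obtain ⟨Q, hQ⟩ := hpg.exists_le_sylow
  have hQp : Nat.card (Q : Subgroup G) = p := hp Q
  have hQeq : Subgroup.zpowers g = (Q : Subgroup G) := by
    apply Subgroup.eq_of_le_of_card_ge hQ
    rw [Nat.card_zpowers, hg, hQp]
  refine ⟨Q, hQeq, ?_⟩
  intro y hc
  rw [← hQeq, Subgroup.mem_centralizer_iff]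
  intro h hh
  obtain ⟨k, rfl⟩ := Subgroup.mem_zpowers_iff.mp hh
  exact (Commute.zpow_left (show Commute g y from hc) k).eq

section Ord4080

variable {G : Type*} [Group G] [Finite G] [IsSimpleGroup G]

/-- Sylow 17-subgroups of a simple group of order 4080 -/
theorem o4080_seventeen (hG : Nat.card G = 4080) (Q : Sylow 17 G) :
    Nat.card Q = 17 ∧ Nat.card (Sylow 17 G) = 120 ∧
      Nat.card (Subgroup.centralizer ((Q : Subgroup G) : Set G)) = 17 := by
  have h17 : Fact (Nat.Prime 17) := ⟨by norm_num⟩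
  obtain ⟨hQ, hn1, hmod, ⟨k, hk, hnk⟩, e, he, he1, hCe⟩ :=
    sylow_setup (p := 17) 240 (by rw [hG]) (by norm_num) (by norm_num) Q
  obtain ⟨n, hn⟩ : ∃ n, n = Nat.card (Sylow 17 G) := ⟨_, rfl⟩
  rw [← hn] at hmod hnk hn1 ⊢
  have hnd : n ∣ 240 := Dvd.intro _ hnk
  have hnle : n ≤ 240 := Nat.le_of_dvd (by norm_num) hnd
  have hcases : n = 120 := by
    clear hnk hn
    interval_cases n <;> omega
  subst hcases
  refine ⟨hQ, rfl, ?_⟩
  have hk2 : k = 2 := by omega
  rw [hk2] at hk
  rw [hk] at hCe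
  have hle : e ≤ 16 := Nat.le_of_dvd (by norm_num) he
  have hpos : 0 < e := Nat.pos_of_dvd_of_pos he (by norm_num)
  interval_cases e <;> omega

/-- Sylow 5-subgroups of a simple group of order 4080 -/
theorem o4080_five (hG : Nat.card G = 4080) (Q : Sylow 5 G) :
    Nat.card Q = 5 ∧ ((Nat.card (Sylow 5 G) = 51 ∧
        (Nat.card (Subgroup.centralizer ((Q : Subgroup G) : Set G)) = 20 ∨
          Nat.card (Subgroup.centralizer ((Q : Subgroup G) : Set G)) = 40)) ∨
      (Nat.card (Sylow 5 G) = 136 ∧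
        Nat.card (Subgroup.centralizer ((Q : Subgroup G) : Set G)) = 15)) := by
  have h5 : Fact (Nat.Prime 5) := ⟨by norm_num⟩
  obtain ⟨hQ, hn1, hmod, ⟨k, hk, hnk⟩, e, he, he1, hCe⟩ :=
    sylow_setup (p := 5) 816 (by rw [hG]) (by norm_num) (by norm_num) Q
  have hfac := card_dvd_factorial_sylow (p := 5) hn1
  rw [hG] at hfac
  obtain ⟨n, hn⟩ : ∃ n, n = Nat.card (Sylow 5 G) := ⟨_, rfl⟩
  rw [← hn] at hmod hnk hn1 hfac ⊢
  have hnd : n ∣ 816 := Dvd.intro _ hnk
  have hnle : n ≤ 816 := Nat.le_of_dvd (by norm_num) hnd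
  have he' : e = 2 ∨ e = 4 := by
    have hle : e ≤ 4 := Nat.le_of_dvd (by norm_num) he
    have hpos : 0 < e := Nat.pos_of_dvd_of_pos he (by norm_num)
    interval_cases e <;> omega
  have hcases : n = 6 ∨ n = 16 ∨ n = 51 ∨ n = 136 ∨ n = 816 := by
    clear hnk hn hfac
    interval_cases n <;> omega
  refine ⟨hQ, ?_⟩
  rcases hcases with rfl | rfl | rfl | rfl | rfl
  · exfalso
    revert hfac
    decide
  · exfalso
    have h17 : (17 : ℕ) ∣ Nat.factorial 16 := Dvd.dvd.trans ⟨240, by norm_num⟩ hfac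
    have := (Nat.Prime.dvd_factorial (by norm_num : Nat.Prime 17)).mp h17
    omega
  · left
    refine ⟨rfl, ?_⟩
    have hk2 : k = 16 := by omega
    rw [hk2] at hk
    rw [hk] at hCe
    rcases he' with rfl | rfl <;> omega
  · right
    refine ⟨rfl, ?_⟩
    have hk2 : k = 6 := by omega
    rw [hk2] at hk
    rw [hk] at hCe
    rcases he' with rfl | rfl <;> omega
  · exfalso
    have hk2 : k = 1 := by omega
    rw [hk2] at hk
    rw [hk] at hCe
    rcases he' with rfl | rfl <;> omega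

/-- Sylow 3-subgroups of a simple group of order 4080 -/
theorem o4080_three (hG : Nat.card G = 4080) (P : Sylow 3 G) :
    Nat.card P = 3 ∧ ∃ k, Nat.card (Subgroup.centralizer ((P : Subgroup G) : Set G)) = 3 * k ∧
      Nat.card (Sylow 3 G) * k = 680 := by
  have h3 : Fact (Nat.Prime 3) := ⟨by norm_num⟩
  obtain ⟨hQ, hn1, hmod, ⟨k, hk, hnk⟩, e, he, he1, hCe⟩ :=
    sylow_setup (p := 3) 1360 (by rw [hG]) (by norm_num) (by norm_num) P
  have he' : e = 2 := by
    have hle : e ≤ 2 := Nat.le_of_dvd (by norm_num) he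
    have hpos : 0 < e := Nat.pos_of_dvd_of_pos he (by norm_num)
    interval_cases e <;> omega
  subst he'
  rw [hk] at hCe
  refine ⟨hQ, ?_⟩
  obtain ⟨c, hc⟩ : ∃ c, c = Nat.card (Subgroup.centralizer ((P : Subgroup G) : Set G)) :=
    ⟨_, rfl⟩
  rw [← hc] at hCe ⊢
  obtain ⟨k', rfl⟩ : ∃ k', k = 2 * k' := ⟨k / 2, by omega⟩
  refine ⟨k', by omega, ?_⟩
  have : Nat.card (Sylow 3 G) * (2 * k') = 2 * (Nat.card (Sylow 3 G) * k') := by ring
  omega

theorem o4080_card_seventeen (hG : Nat.card G = 4080) (Q : Sylow 17 G) : Nat.card Q = 17 :=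
  (o4080_seventeen hG Q).1

theorem o4080_card_five (hG : Nat.card G = 4080) (Q : Sylow 5 G) : Nat.card Q = 5 :=
  (o4080_five hG Q).1

theorem o4080_card_three (hG : Nat.card G = 4080) (Q : Sylow 3 G) : Nat.card Q = 3 :=
  (o4080_three hG Q).1

/-- an element commuting with an element of order 17 is a power of it -/
theorem o4080_comm_seventeen (hG : Nat.card G = 4080) (g y : G) (hg : orderOf g = 17)
    (hc : g * y = y * g) : y ∈ Subgroup.zpowers g := by
  have h17 : Fact (Nat.Prime 17) := ⟨by norm_num⟩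
  obtain ⟨Q, hQeq, hQ⟩ := exists_sylow_of_orderOf_prime 17 (o4080_card_seventeen hG) g hg
  have hyC := hQ y hc
  have hgC := hQ g rfl
  have hQ17 : Nat.card (Q : Subgroup G) = 17 := o4080_card_seventeen hG Q
  have hC17 := (o4080_seventeen hG Q).2.2
  have hle : Subgroup.zpowers g ≤ Subgroup.centralizer ((Q : Subgroup G) : Set G) :=
    Subgroup.zpowers_le.mpr hgC
  have hCeq : Subgroup.zpowers g = Subgroup.centralizer ((Q : Subgroup G) : Set G) :=
    Subgroup.eq_of_le_of_card_ge hle (by rw [hC17, Nat.card_zpowers, hg])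
  rw [hCeq]
  exact hyC

/-- an element of order divisible by 17 has order 17 -/
theorem o4080_orderOf_seventeen (hG : Nat.card G = 4080) (y : G) (h : 17 ∣ orderOf y) :
    orderOf y = 17 := by
  have hy0 : orderOf y ≠ 0 := (orderOf_pos y).ne'
  have hz := orderOf_pow_orderOf_div hy0 h
  have hc : y ^ (orderOf y / 17) * y = y * y ^ (orderOf y / 17) :=
    ((Commute.refl y).pow_left _).eq
  have hmem := o4080_comm_seventeen hG _ y hz hc
  have h1 := Subgroup.orderOf_dvd_natCard _ hmem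
  rw [Nat.card_zpowers, hz] at h1
  exact Nat.dvd_antisymm h1 h

end Ord4080

end Cfsg.Agent.Lib.helper18
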