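import Mathlib

/-!
A verified arithmetic sieve for the Sylow data of a finite simple group at the primes dividing
its order exactly once.  For such a prime `r` the data are `n r` (number of Sylow subgroups),
`c r` (order of the centralizer of a Sylow subgroup) and `e r` (index of the centralizer in the
normalizer).  `SylSpec` lists the arithmetic constraints; `sieve_sound` shows that they are
contradictory as soon as a finite check succeeds.
-/

set_option autoImplicit false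

namespace Cfsg.Agent.Lib.helper18

/-- the arithmetic constraints on the Sylow data at the primes of `L` -/
structure SylSpec (N : ℕ) (L : List ℕ) (n e c : ℕ → ℕ) : Prop where
  basic : ∀ r ∈ L, n r ≠ 1 ∧ n r % r = 1 ∧ n r * (e r * c r) = N ∧ e r ∣ r - 1 ∧ e r ≠ 1 ∧
    r ∣ c r
  symm : ∀ r ∈ L, ∀ s ∈ L, r ≠ s → s ∣ c r → r ∣ c s
  normal : ∀ r ∈ L, ∀ s ∈ L, r ≠ s → s ∣ c r →
    (∀ d, d ∣ c r / (r * s) → d % s = 1 → d = 1) → e r * c r ∣ e s * c s
  count : ∀ I : List ℕ, I.Nodup → (∀ r ∈ I, r ∈ L) → (∀ r ∈ I, ∀ s ∈ I, r ≠ s → ¬ s ∣ c r) →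
    (I.map fun r => n r * ((r - 1) * (c r / r))).sum ≤ N - 1
  sign : ∀ r ∈ L, n r = r + 1 → r % 4 = 3 → ¬ 2 ∣ e r * c r

/-- entries `(r, n, e, c)` -/
abbrev SEntry := ℕ × ℕ × ℕ × ℕ

/-- the possible entries at the prime `r` -/
def sOpts (N r : ℕ) : List SEntry :=
  (List.range (N / (r * r) + 1)).flatMap fun k =>
    if 0 < k ∧ N % (1 + r * k) = 0 then
      (List.range r).filterMap fun e =>
        if (r - 1) % e = 0 ∧ e ≠ 1 ∧ N % ((1 + r * k) * e) = 0 ∧
            (N / ((1 + r * k) * e)) % r = 0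
        then some (r, 1 + r * k, e, N / ((1 + r * k) * e)) else none
    else []

/-- symmetric compatibility of two entries -/
def sCompat (x y : SEntry) : Prop :=
  (y.1 ∣ x.2.2.2 → x.1 ∣ y.2.2.2) ∧ (x.1 ∣ y.2.2.2 → y.1 ∣ x.2.2.2)

instance (x y : SEntry) : Decidable (sCompat x y) := by
  unfold sCompat; infer_instance

/-- the candidate tuples, pruned by the symmetric compatibility -/
def sCands (N : ℕ) : List ℕ → List (List SEntry)
  | [] => [[]]
  | r :: L => (sOpts N r).flatMap fun x =>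
      ((sCands N L).filter (fun t => ∀ y ∈ t, sCompat x y)).map (fun t => x :: t)

/-- violation of the unique-Sylow-subgroup-of-the-centralizer principle -/
def sBadNormal (t : List SEntry) : Prop :=
  ∃ x ∈ t, ∃ y ∈ t, x.1 ≠ y.1 ∧ y.1 ∣ x.2.2.2 ∧ 0 < x.2.2.2 / (x.1 * y.1) ∧
    (∀ d ∈ List.range (x.2.2.2 / (x.1 * y.1) + 1),
      d ∣ x.2.2.2 / (x.1 * y.1) → d % y.1 = 1 → d = 1) ∧
    ¬ (x.2.2.1 * x.2.2.2 ∣ y.2.2.1 * y.2.2.2)

instance (t : List SEntry) : Decidable (sBadNormal t) := by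
  unfold sBadNormal; infer_instance

/-- violation of the element count -/
def sBadCount (N : ℕ) (t : List SEntry) : Prop :=
  ∃ I ∈ t.sublists, (∀ x ∈ I, ∀ y ∈ I, x.1 ≠ y.1 → ¬ y.1 ∣ x.2.2.2) ∧
    N - 1 < (I.map fun x => x.2.1 * ((x.1 - 1) * (x.2.2.2 / x.1))).sum

instance (N : ℕ) (t : List SEntry) : Decidable (sBadCount N t) := by
  unfold sBadCount; infer_instance

/-- violation of the parity constraint -/
def sBadSign (t : List SEntry) : Prop :=
  ∃ x ∈ t, x.2.1 = x.1 + 1 ∧ x.1 % 4 = 3 ∧ 2 ∣ x.2.2.1 * x.2.2.2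

instance (t : List SEntry) : Decidable (sBadSign t) := by
  unfold sBadSign; infer_instance

/-- a tuple is bad when it violates one of the constraints -/
def sBad (N : ℕ) (t : List SEntry) : Prop := sBadNormal t ∨ sBadCount N t ∨ sBadSign t

instance (N : ℕ) (t : List SEntry) : Decidable (sBad N t) := by
  unfold sBad; infer_instance

theorem mem_sOpts (N r n e c : ℕ) (hN : 0 < N) (hr : 2 ≤ r) (h0 : n ≠ 1) (h1 : n % r = 1)
    (h2 : n * (e * c) = N) (h3 : e ∣ r - 1) (h4 : e ≠ 1) (h5 : r ∣ c) :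
    (r, n, e, c) ∈ sOpts N r := by
  have he0 : e ≠ 0 := by
    rintro rfl
    rw [zero_dvd_iff] at h3
    omega
  have hc0 : c ≠ 0 := by
    rintro rfl
    rw [mul_zero, mul_zero] at h2
    omega
  have hn0 : n ≠ 0 := by
    rintro rfl
    rw [zero_mul] at h2
    omega
  obtain ⟨k, hk⟩ : ∃ k, n = 1 + r * k := ⟨n / r, by have := Nat.div_add_mod n r; omega⟩
  have hrc : r ≤ c := Nat.le_of_dvd (Nat.pos_of_ne_zero hc0) h5
  have hle : n * r ≤ N := by
    rw [← h2]
    apply Nat.mul_le_mul_left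
    calc r ≤ c := hrc
      _ = 1 * c := (one_mul c).symm
      _ ≤ e * c := Nat.mul_le_mul_right c (Nat.pos_of_ne_zero he0)
  have hkle : k ≤ N / (r * r) := by
    rw [Nat.le_div_iff_mul_le (by positivity)]
    have h6 : k * (r * r) = (r * k) * r := by ring
    rw [h6]
    refine le_trans (Nat.mul_le_mul_right r ?_) hle
    omega
  have hne : n * e ≠ 0 := mul_ne_zero hn0 he0
  have hdiv : N / (n * e) = c := by
    apply Nat.div_eq_of_eq_mul_right (Nat.pos_of_ne_zero hne)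
    rw [← h2]; ring
  have helt : e < r := by
    have := Nat.le_of_dvd (by omega) h3
    omega
  unfold sOpts
  rw [List.mem_flatMap]
  refine ⟨k, List.mem_range.mpr (by omega), ?_⟩
  have hnN : N % (1 + r * k) = 0 := by
    rw [← hk]
    exact Nat.mod_eq_zero_of_dvd ⟨e * c, h2.symm⟩
  have hk0 : 0 < k := by
    rcases Nat.eq_zero_or_pos k with h | h
    · rw [h, mul_zero] at hk
      omega
    · exact h
  rw [if_pos ⟨hk0, hnN⟩, List.mem_filterMap]
  refine ⟨e, List.mem_range.mpr helt, ?_⟩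
  rw [← hk, hdiv]
  rw [if_pos]
  refine ⟨Nat.mod_eq_zero_of_dvd h3, h4, Nat.mod_eq_zero_of_dvd ⟨c, by rw [← h2]; ring⟩,
    Nat.mod_eq_zero_of_dvd h5⟩

theorem mem_sCands (N : ℕ) (hN : 0 < N) (n e c : ℕ → ℕ) (L : List ℕ) (hL : L.Nodup)
    (hL2 : ∀ r ∈ L, 2 ≤ r)
    (hb : ∀ r ∈ L, n r ≠ 1 ∧ n r % r = 1 ∧ n r * (e r * c r) = N ∧ e r ∣ r - 1 ∧ e r ≠ 1 ∧
      r ∣ c r)
    (hs : ∀ r ∈ L, ∀ s ∈ L, r ≠ s → s ∣ c r → r ∣ c s) :
    L.map (fun r => ((r, n r, e r, c r) : SEntry)) ∈ sCands N L := by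
  induction L with
  | nil => simp [sCands]
  | cons r L ih =>
    rw [List.nodup_cons] at hL
    have ih' := ih hL.2 (fun s hs' => hL2 s (List.mem_cons_of_mem _ hs'))
      (fun s hs' => hb s (List.mem_cons_of_mem _ hs'))
      (fun s hs' u hu => hs s (List.mem_cons_of_mem _ hs') u (List.mem_cons_of_mem _ hu))
    obtain ⟨b0, b1, b2, b3, b4, b5⟩ := hb r List.mem_cons_self
    rw [List.map_cons]
    unfold sCands
    rw [List.mem_flatMap]
    refine ⟨(r, n r, e r, c r), mem_sOpts N r _ _ _ hN (hL2 r List.mem_cons_self) b0 b1 b2 b3 b4 b5,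
      ?_⟩
    rw [List.mem_map]
    refine ⟨_, ?_, rfl⟩
    rw [List.mem_filter]
    refine ⟨ih', ?_⟩
    rw [decide_eq_true_eq]
    intro y hy
    rw [List.mem_map] at hy
    obtain ⟨s, hsL, rfl⟩ := hy
    have hne : r ≠ s := by
      rintro rfl
      exact hL.1 hsL
    exact ⟨hs r List.mem_cons_self s (List.mem_cons_of_mem _ hsL) hne,
      hs s (List.mem_cons_of_mem _ hsL) r List.mem_cons_self hne.symm⟩

/-- soundness of the sieve -/
theorem sieve_sound (N : ℕ) (hN : 0 < N) (L : List ℕ) (hL : L.Nodup) (hL2 : ∀ r ∈ L, 2 ≤ r)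
    (h : ∀ t ∈ sCands N L, sBad N t) (n e c : ℕ → ℕ) (hs : SylSpec N L n e c) : False := by
  have hmem := mem_sCands N hN n e c L hL hL2 hs.basic hs.symm
  rcases h _ hmem with hb | hb | hb
  · obtain ⟨x, hx, y, hy, hne, hdvd, hpos, hd, hnd⟩ := hb
    rw [List.mem_map] at hx hy
    obtain ⟨r, hr, rfl⟩ := hx
    obtain ⟨s, hs', rfl⟩ := hy
    apply hnd
    apply hs.normal r hr s hs' hne hdvd
    intro d hd1 hd2
    apply hd d _ hd1 hd2
    rw [List.mem_range]
    have := Nat.le_of_dvd hpos hd1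
    omega
  · obtain ⟨I, hI, hpair, hlt⟩ := hb
    rw [List.mem_sublists, List.sublist_map_iff] at hI
    obtain ⟨I0, hI0, rfl⟩ := hI
    have hc := hs.count I0 (hL.sublist hI0) (fun r hr => hI0.subset hr) (by
      intro r hr s hs' hne
      exact hpair _ (List.mem_map_of_mem hr) _ (List.mem_map_of_mem hs') hne)
    rw [List.map_map] at hlt
    have heq : ((fun x : SEntry => x.2.1 * ((x.1 - 1) * (x.2.2.2 / x.1))) ∘
        fun r => ((r, n r, e r, c r) : SEntry)) = fun r => n r * ((r - 1) * (c r / r)) := rfl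
    rw [heq] at hlt
    omega
  · obtain ⟨x, hx, h1, h2, h3⟩ := hb
    rw [List.mem_map] at hx
    obtain ⟨r, hr, rfl⟩ := hx
    exact hs.sign r hr h1 h2 h3

end Cfsg.Agent.Lib.helper18
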