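import Mathlib
import Cfsg.Agent.Lib.helper75.SimpleOrd
import Cfsg.Agent.Lib.helper75.SylowPrime
import Cfsg.Agent.Lib.helper18.Ord4080b
import Cfsg.Agent.Lib.helper18.Ord4080a
import Cfsg.Agent.Lib.helper18.SylSieve

/-!
The Sylow data of a finite simple group at the primes dividing its order exactly once satisfy
the arithmetic constraints `SylSpec` of the sieve.
-/

set_option autoImplicit false

namespace Cfsg.Agent.Lib.helper18

open MulAction
open Cfsg.Agent.Lib.helper75

/-- number of Sylow `r`-subgroups -/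
noncomputable def sylN (S : Type*) [Group S] (r : ℕ) : ℕ := Nat.card (Sylow r S)

/-- order of the centralizer of a Sylow `r`-subgroup -/
noncomputable def sylC (S : Type*) [Group S] (r : ℕ) : ℕ :=
  Nat.card (Subgroup.centralizer ((Classical.arbitrary (Sylow r S) : Subgroup S) : Set S))

/-- index of the centralizer of a Sylow `r`-subgroup in its normalizer -/
noncomputable def sylE (S : Type*) [Group S] (r : ℕ) : ℕ :=
  (Subgroup.centralizer ((Classical.arbitrary (Sylow r S) : Subgroup S) : Set S)).relIndex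
    (Subgroup.normalizer ((Classical.arbitrary (Sylow r S) : Subgroup S) : Set S))

theorem mem_smul_sylow' {G : Type*} [Group G] {p : ℕ} (c : G) (Q : Sylow p G) (y : G) :
    y ∈ ((c • Q : Sylow p G) : Subgroup G) ↔ c⁻¹ * y * c ∈ (Q : Subgroup G) := by
  rw [Sylow.coe_subgroup_smul, Subgroup.mem_pointwise_smul_iff_inv_smul_mem, MulAut.smul_def,
    MulAut.conj_inv_apply]

theorem card_centralizer_smul {S : Type*} [Group S] {p : ℕ} (g : S) (P : Sylow p S) :
    Nat.card (Subgroup.centralizer (((g • P : Sylow p S) : Subgroup S) : Set S)) =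
      Nat.card (Subgroup.centralizer ((P : Subgroup S) : Set S)) := by
  symm
  refine Nat.card_congr (Equiv.subtypeEquiv (MulAut.conj g).toEquiv (fun x => ?_))
  simp only [MulEquiv.toEquiv_eq_coe, EquivLike.coe_coe, MulAut.conj_apply]
  rw [Subgroup.mem_centralizer_iff, Subgroup.mem_centralizer_iff]
  constructor
  · intro h y hy
    have hy' : g⁻¹ * y * g ∈ (P : Subgroup S) := (mem_smul_sylow' g P y).mp hy
    have h1 := h _ hy'
    calc y * (g * x * g⁻¹) = g * ((g⁻¹ * y * g) * x) * g⁻¹ := by group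
      _ = g * (x * (g⁻¹ * y * g)) * g⁻¹ := by rw [h1]
      _ = g * x * g⁻¹ * y := by group
  · intro h y hy
    have hy' : g * y * g⁻¹ ∈ ((g • P : Sylow p S) : Subgroup S) := by
      rw [mem_smul_sylow']
      have h0 : g⁻¹ * (g * y * g⁻¹) * g = y := by group
      rw [h0]
      exact hy
    have h1 := h _ hy'
    have h2 : g * (y * x) * g⁻¹ = g * (x * y) * g⁻¹ := by
      calc g * (y * x) * g⁻¹ = (g * y * g⁻¹) * (g * x * g⁻¹) := by group
        _ = (g * x * g⁻¹) * (g * y * g⁻¹) := h1
        _ = g * (x * y) * g⁻¹ := by group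
    exact mul_left_cancel (mul_right_cancel h2)

section

variable {S : Type*} [Group S] [Finite S]

theorem sylC_eq (r : ℕ) [Fact r.Prime] (P : Sylow r S) :
    Nat.card (Subgroup.centralizer ((P : Subgroup S) : Set S)) = sylC S r := by
  obtain ⟨g, hg⟩ := MulAction.exists_smul_eq S (Classical.arbitrary (Sylow r S)) P
  rw [← hg, card_centralizer_smul]
  rfl

theorem card_normalizer_mul (r : ℕ) [Fact r.Prime] (P : Sylow r S) :
    Nat.card (Subgroup.normalizer ((P : Subgroup S) : Set S)) * sylN S r = Nat.card S := by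
  have h := card_stabilizer_mul_card_sylow P
  have hstab : Nat.card (stabilizer S P) =
      Nat.card (Subgroup.normalizer ((P : Subgroup S) : Set S)) := by
    rw [Sylow.stabilizer_eq_normalizer]
    rfl
  rw [hstab] at h
  exact h

theorem sylE_mul_sylC (r : ℕ) [Fact r.Prime] (P : Sylow r S) :
    sylE S r * sylC S r = Nat.card (Subgroup.normalizer ((P : Subgroup S) : Set S)) := by
  have h1 := card_centralizer_mul_relIndex (Classical.arbitrary (Sylow r S))
  have hstab : Nat.card (stabilizer S (Classical.arbitrary (Sylow r S))) =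
      Nat.card (Subgroup.normalizer
        (((Classical.arbitrary (Sylow r S) : Sylow r S) : Subgroup S) : Set S)) := by
    rw [Sylow.stabilizer_eq_normalizer]
    rfl
  have h2 := card_normalizer_mul r (Classical.arbitrary (Sylow r S))
  have h3 := card_normalizer_mul r P
  have hn : 0 < sylN S r := Nat.card_pos
  have h4 : Nat.card (Subgroup.normalizer
      (((Classical.arbitrary (Sylow r S) : Sylow r S) : Subgroup S) : Set S)) =
      Nat.card (Subgroup.normalizer ((P : Subgroup S) : Set S)) :=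
    Nat.eq_of_mul_eq_mul_right hn (h2.trans h3.symm)
  rw [← h4, ← hstab, ← h1, mul_comm]
  rfl

omit [Finite S] in
theorem sylow_le_centralizer_self (r : ℕ) [Fact r.Prime] (P : Sylow r S)
    (hP : Nat.card P = r) :
    (P : Subgroup S) ≤ Subgroup.centralizer ((P : Subgroup S) : Set S) := by
  intro x hx
  rw [Subgroup.mem_centralizer_iff]
  intro y hy
  by_cases hx1 : x = 1
  · rw [hx1, mul_one, one_mul]
  · have hz := zpowers_eq_of_card_prime P hP x hx hx1
    have hy' : y ∈ Subgroup.zpowers x := by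
      rw [hz]
      exact hy
    obtain ⟨k, rfl⟩ := Subgroup.mem_zpowers_iff.mp hy'
    exact ((Commute.refl x).zpow_left k).eq

omit [Finite S] in
theorem sylC_dvd (r : ℕ) [Fact r.Prime] (hP : ∀ P : Sylow r S, Nat.card P = r) :
    r ∣ sylC S r := by
  have h := Subgroup.card_dvd_of_le
    (sylow_le_centralizer_self r (Classical.arbitrary (Sylow r S)) (hP _))
  rw [hP] at h
  exact h

/-- the basic constraints -/
theorem syl_basic [IsSimpleGroup S] (r : ℕ) [Fact r.Prime] (h1 : r ∣ Nat.card S)
    (h2 : ¬ r ^ 2 ∣ Nat.card S) (h3 : r ≠ Nat.card S) :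
    sylN S r ≠ 1 ∧ sylN S r % r = 1 ∧ sylN S r * (sylE S r * sylC S r) = Nat.card S ∧
      sylE S r ∣ r - 1 ∧ sylE S r ≠ 1 ∧ r ∣ sylC S r := by
  have hr : r.Prime := Fact.out
  have hP : ∀ P : Sylow r S, Nat.card P = r := fun P => sylow_card_eq_prime h1 h2 P
  refine ⟨?_, ?_, ?_, ?_, ?_, sylC_dvd r hP⟩
  · exact sylow_card_ne_one (Classical.arbitrary (Sylow r S))
      (by rw [hP]; exact hr.one_lt.ne') (by rw [hP]; exact h3)
  · have h := card_sylow_modEq_one r S
    unfold Nat.ModEq at h
    unfold sylN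
    rw [h]
    exact Nat.mod_eq_of_lt hr.one_lt
  · rw [sylE_mul_sylC r (Classical.arbitrary (Sylow r S)), mul_comm]
    exact card_normalizer_mul r _
  · exact relIndex_dvd_pred (Classical.arbitrary (Sylow r S)) (hP _)
  · intro he
    exact not_simple_of_sylow_central r (Classical.arbitrary (Sylow r S))
      (Subgroup.relIndex_eq_one.mp he) (by rw [hP]; exact hr.one_lt.ne')
      (by rw [hP]; exact h3)

/-- the symmetry constraint -/
theorem syl_symm (r s : ℕ) [Fact r.Prime] [Fact s.Prime]
    (hr : ∀ P : Sylow r S, Nat.card P = r) (hs : ∀ P : Sylow s S, Nat.card P = s)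
    (h : s ∣ sylC S r) : r ∣ sylC S s := by
  obtain ⟨w, hwC, hw⟩ := exists_mem_orderOf_prime
    (Subgroup.centralizer ((Classical.arbitrary (Sylow r S) : Subgroup S) : Set S)) s h
  obtain ⟨Q, hQ, hQc⟩ := exists_sylow_of_orderOf_prime s hs w hw
  have hle : ((Classical.arbitrary (Sylow r S) : Sylow r S) : Subgroup S) ≤
      Subgroup.centralizer ((Q : Subgroup S) : Set S) := by
    intro x hx
    apply hQc
    exact (Subgroup.mem_centralizer_iff.mp hwC x hx).symm
  have h1 := Subgroup.card_dvd_of_le hle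
  rw [hr, sylC_eq s Q] at h1
  exact h1

/-- the unique-Sylow-subgroup-of-the-centralizer principle -/
theorem syl_normal (r s : ℕ) [Fact r.Prime] [Fact s.Prime] (hrs : r ≠ s)
    (hr : ∀ P : Sylow r S, Nat.card P = r) (hs : ∀ P : Sylow s S, Nat.card P = s)
    (hs2 : ¬ s ^ 2 ∣ Nat.card S) (h : s ∣ sylC S r)
    (hd : ∀ d, d ∣ sylC S r / (r * s) → d % s = 1 → d = 1) :
    sylE S r * sylC S r ∣ sylE S s * sylC S s := by
  have hrp : r.Prime := Fact.out
  have hsp : s.Prime := Fact.out
  obtain ⟨P0, hP0⟩ : ∃ P0 : Sylow r S, P0 = Classical.arbitrary (Sylow r S) := ⟨_, rfl⟩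
  obtain ⟨C, hC⟩ : ∃ C : Subgroup S, C = Subgroup.centralizer ((P0 : Subgroup S) : Set S) :=
    ⟨_, rfl⟩
  have hCcard : Nat.card C = sylC S r := by
    rw [hC, hP0]
    rfl
  have hsC : s ∣ Nat.card C := by rw [hCcard]; exact h
  have hs2C : ¬ s ^ 2 ∣ Nat.card C := fun h' => hs2 (h'.trans (Subgroup.card_subgroup_dvd_card C))
  have hQ' : ∀ Q' : Sylow s C, Nat.card Q' = s := fun Q' => sylow_card_eq_prime hsC hs2C Q'
  -- the number of Sylow `s`-subgroups of `C`
  have hn1 : Nat.card (Sylow s C) = 1 := by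
    apply hd
    · obtain ⟨Q', -⟩ : ∃ Q' : Sylow s C, Q' = Classical.arbitrary (Sylow s C) := ⟨_, rfl⟩
      rw [Sylow.card_eq_index_normalizer Q']
      have hmul := Subgroup.card_mul_index (Subgroup.normalizer ((Q' : Subgroup C) : Set C))
      have hsdvd : s ∣ Nat.card (Subgroup.normalizer ((Q' : Subgroup C) : Set C)) := by
        have h1 := Subgroup.card_dvd_of_le (Subgroup.le_normalizer (H := (Q' : Subgroup C)))
        rw [hQ' Q'] at h1
        exact h1
      have hrdvd : r ∣ Nat.card (Subgroup.normalizer ((Q' : Subgroup C) : Set C)) := by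
        have hle : (P0 : Subgroup S) ≤ C := by
          rw [hC]
          exact sylow_le_centralizer_self r P0 (hr P0)
        have hle2 : (P0 : Subgroup S).subgroupOf C ≤
            Subgroup.normalizer ((Q' : Subgroup C) : Set C) := by
          intro x hx
          apply Subgroup.center_le_normalizer
          rw [Subgroup.mem_center_iff]
          intro y
          apply Subtype.ext
          have hy : (y : S) ∈ Subgroup.centralizer ((P0 : Subgroup S) : Set S) := by
            rw [← hC]
            exact y.2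
          exact (Subgroup.mem_centralizer_iff.mp hy (x : S) (Subgroup.mem_subgroupOf.mp hx)).symm
        have h1 := Subgroup.card_dvd_of_le hle2
        rw [Nat.card_congr (Subgroup.subgroupOfEquivOfLe hle).toEquiv, hr P0] at h1
        exact h1
      have hcop : Nat.Coprime r s := (Nat.coprime_primes hrp hsp).mpr hrs
      obtain ⟨j, hj⟩ := hcop.mul_dvd_of_dvd_of_dvd hrdvd hsdvd
      rw [← hCcard, ← hmul, hj, mul_assoc,
        Nat.mul_div_cancel_left _ (Nat.mul_pos hrp.pos hsp.pos)]
      exact Dvd.intro_left _ rfl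
    · have h1 := card_sylow_modEq_one s C
      unfold Nat.ModEq at h1
      rw [h1]
      exact Nat.mod_eq_of_lt hsp.one_lt
  have hsub : Subsingleton (Sylow s C) := (Nat.card_eq_one_iff_unique.mp hn1).1
  obtain ⟨w, hwC, hw⟩ := exists_mem_orderOf_prime C s hsC
  obtain ⟨Q, hQ, -⟩ := exists_sylow_of_orderOf_prime s hs w hw
  -- conjugates of `w` under the normalizer of `P0` are powers of `w`
  have key : ∀ g ∈ Subgroup.normalizer ((P0 : Subgroup S) : Set S),
      g * w * g⁻¹ ∈ Subgroup.zpowers w := by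
    intro g hg
    have huC : g * w * g⁻¹ ∈ C := by
      rw [hC, Subgroup.mem_centralizer_iff]
      intro x hx
      have hx' : g⁻¹ * x * g ∈ (P0 : Subgroup S) := by
        have h1 := (Subgroup.mem_normalizer_iff.mp (inv_mem hg) x).mp hx
        rwa [inv_inv] at h1
      have hwc : w ∈ Subgroup.centralizer ((P0 : Subgroup S) : Set S) := by
        rw [← hC]; exact hwC
      have h2 := Subgroup.mem_centralizer_iff.mp hwc _ hx'
      calc x * (g * w * g⁻¹) = g * ((g⁻¹ * x * g) * w) * g⁻¹ := by group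
        _ = g * (w * (g⁻¹ * x * g)) * g⁻¹ := by rw [h2]
        _ = g * w * g⁻¹ * x := by group
    have huo : orderOf (g * w * g⁻¹) = s := by
      rw [← MulAut.conj_apply, MulEquiv.orderOf_eq, hw]
    have hw' : orderOf (⟨w, hwC⟩ : C) = s := by
      rw [Subgroup.orderOf_mk]; exact hw
    have hu' : orderOf (⟨g * w * g⁻¹, huC⟩ : C) = s := by
      rw [Subgroup.orderOf_mk]; exact huo
    obtain ⟨Q1, hQ1, -⟩ := exists_sylow_of_orderOf_prime s hQ' (⟨w, hwC⟩ : C) hw'
    obtain ⟨Q2, hQ2, -⟩ := exists_sylow_of_orderOf_prime s hQ' (⟨g * w * g⁻¹, huC⟩ : C) hu'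
    have hQQ : Q2 = Q1 := Subsingleton.elim _ _
    have hmem : (⟨g * w * g⁻¹, huC⟩ : C) ∈ Subgroup.zpowers (⟨w, hwC⟩ : C) := by
      rw [hQ1, ← hQQ, ← hQ2]
      exact Subgroup.mem_zpowers _
    obtain ⟨k, hk⟩ := Subgroup.mem_zpowers_iff.mp hmem
    rw [Subgroup.mem_zpowers_iff]
    refine ⟨k, ?_⟩
    have := congrArg (Subtype.val) hk
    simpa using this
  have hle : Subgroup.normalizer ((P0 : Subgroup S) : Set S) ≤
      Subgroup.normalizer ((Q : Subgroup S) : Set S) := by
    have half : ∀ g ∈ Subgroup.normalizer ((P0 : Subgroup S) : Set S),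
        ∀ x ∈ (Q : Subgroup S), g * x * g⁻¹ ∈ (Q : Subgroup S) := by
      intro g hg x hx
      rw [← hQ] at hx ⊢
      obtain ⟨k, rfl⟩ := Subgroup.mem_zpowers_iff.mp hx
      have h1 : g * w ^ k * g⁻¹ = (g * w * g⁻¹) ^ k := by
        rw [← MulAut.conj_apply, ← MulAut.conj_apply, map_zpow]
      rw [h1]
      exact Subgroup.zpow_mem _ (key g hg) k
    intro g hg
    rw [Subgroup.mem_normalizer_iff]
    intro x
    constructor
    · exact half g hg x
    · intro hx
      have h1 := half g⁻¹ (inv_mem hg) _ hx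
      have h2 : g⁻¹ * (g * x * g⁻¹) * g⁻¹⁻¹ = x := by group
      rwa [h2] at h1
  have hfin := Subgroup.card_dvd_of_le hle
  rw [← sylE_mul_sylC r P0, ← sylE_mul_sylC s Q] at hfin
  exact hfin

/-- the counting constraint -/
theorem syl_count (N : ℕ) (hN : Nat.card S = N) (I : List ℕ) (hI : I.Nodup)
    (hI1 : ∀ r ∈ I, r.Prime ∧ ∀ P : Sylow r S, Nat.card P = r)
    (hI2 : ∀ r ∈ I, ∀ s ∈ I, r ≠ s → ¬ s ∣ sylC S r) :
    (I.map fun r => sylN S r * ((r - 1) * (sylC S r / r))).sum ≤ N - 1 := by
  have main : ∀ I : List ℕ, I.Nodup → (∀ r ∈ I, r.Prime ∧ ∀ P : Sylow r S, Nat.card P = r) →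
      (∀ r ∈ I, ∀ s ∈ I, r ≠ s → ¬ s ∣ sylC S r) →
      (I.map fun r => sylN S r * ((r - 1) * (sylC S r / r))).sum ≤
        Set.ncard {y : S | ∃ r ∈ I, r ∣ orderOf y} := by
    intro I
    induction I with
    | nil => intro _ _ _; simp
    | cons r I ih =>
      intro hI hI1 hI2
      rw [List.nodup_cons] at hI
      have ih' := ih hI.2 (fun q hq => hI1 q (List.mem_cons_of_mem _ hq))
        (fun q hq u hu => hI2 q (List.mem_cons_of_mem _ hq) u (List.mem_cons_of_mem _ hu))
      obtain ⟨hrp, hrP⟩ := hI1 r List.mem_cons_self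
      have : Fact r.Prime := ⟨hrp⟩
      have hset : {y : S | ∃ q ∈ r :: I, q ∣ orderOf y} =
          {y : S | r ∣ orderOf y} ∪ {y : S | ∃ q ∈ I, q ∣ orderOf y} := by
        ext y
        simp
      have hdisj : Disjoint {y : S | r ∣ orderOf y} {y : S | ∃ q ∈ I, q ∣ orderOf y} := by
        rw [Set.disjoint_left]
        rintro y hy ⟨q, hq, hqy⟩
        have hy' : r ∣ orderOf y := hy
        have hne : r ≠ q := by
          rintro rfl
          exact hI.1 hq
        obtain ⟨hqp, -⟩ := hI1 q (List.mem_cons_of_mem _ hq)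
        apply hI2 r List.mem_cons_self q (List.mem_cons_of_mem _ hq) hne
        have hy0 : orderOf y ≠ 0 := (orderOf_pos y).ne'
        have ho1 := orderOf_pow_orderOf_div hy0 hy'
        have ho2 := orderOf_pow_orderOf_div hy0 hqy
        obtain ⟨P, -, hPc⟩ := exists_sylow_of_orderOf_prime r hrP _ ho1
        have hcomm : y ^ (orderOf y / r) * y ^ (orderOf y / q) =
            y ^ (orderOf y / q) * y ^ (orderOf y / r) :=
          ((Commute.refl y).pow_pow _ _).eq
        have hmem := hPc _ hcomm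
        have hdvd := Subgroup.orderOf_dvd_natCard _ hmem
        rw [ho2, sylC_eq r P] at hdvd
        exact hdvd
      rw [List.map_cons, List.sum_cons, hset, Set.ncard_union_eq hdisj]
      apply Nat.add_le_add _ ih'
      have hge := card_div_elts_ge r (sylC S r / r) hrP (fun P => by
        rw [sylC_eq r P]
        exact Nat.div_mul_le_self _ _)
      have heq : sylN S r * ((r - 1) * (sylC S r / r)) =
          Nat.card (Sylow r S) * (sylC S r / r * (r - 1)) := by
        unfold sylN
        ring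
      rw [heq]
      exact hge
  refine le_trans (main I hI hI1 hI2) ?_
  have hsub : {y : S | ∃ r ∈ I, r ∣ orderOf y} ⊆ ({1} : Set S)ᶜ := by
    rintro y ⟨r, hr, hy⟩ hy1
    rw [Set.mem_singleton_iff] at hy1
    rw [hy1, orderOf_one, Nat.dvd_one] at hy
    exact (hI1 r hr).1.one_lt.ne' hy
  refine le_trans (Set.ncard_le_ncard hsub) ?_
  rw [Set.ncard_compl, Set.ncard_singleton, hN]

/-- the parity constraint -/
theorem syl_sign [IsSimpleGroup S] (r : ℕ) [Fact r.Prime] (hP : ∀ P : Sylow r S, Nat.card P = r)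
    (hn : sylN S r = r + 1) (h4 : r % 4 = 3) : ¬ 2 ∣ sylE S r * sylC S r := by
  intro h2
  have hrp : r.Prime := Fact.out
  have : Fact (Nat.Prime 2) := ⟨Nat.prime_two⟩
  obtain ⟨P0, -⟩ : ∃ P0 : Sylow r S, P0 = Classical.arbitrary (Sylow r S) := ⟨_, rfl⟩
  rw [sylE_mul_sylC r P0] at h2
  obtain ⟨t, htN, ht⟩ := exists_mem_orderOf_prime
    (Subgroup.normalizer ((P0 : Subgroup S) : Set S)) 2 h2
  have htP : t • P0 = P0 := Sylow.smul_eq_iff_mem_normalizer.mpr htN
  have hn' : Nat.card (Sylow r S) = r + 1 := hn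
  have hn1 : Nat.card (Sylow r S) ≠ 1 := by omega
  have hS3 : 2 < Nat.card S := by
    have h1 := card_normalizer_mul r P0
    have h5 : 0 < Nat.card (Subgroup.normalizer ((P0 : Subgroup S) : Set S)) := Nat.card_pos
    have h6 : sylN S r ≤ Nat.card S := by
      rw [← h1]
      exact Nat.le_mul_of_pos_left _ h5
    omega
  have ht1 : t ≠ 1 := by
    rintro rfl
    rw [orderOf_one] at ht
    omega
  have hf4 := involution_fixed_modEq_four hn1 hS3 t ht
  unfold Nat.ModEq at hf4
  have hfpos : 0 < Nat.card {ω : Sylow r S // t • ω = ω} := by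
    have : Nonempty {ω : Sylow r S // t • ω = ω} := ⟨⟨P0, htP⟩⟩
    exact Nat.card_pos
  by_cases hC : t ∈ Subgroup.centralizer ((P0 : Subgroup S) : Set S)
  · have hf := card_fixed_centralizer_modEq P0 t hC
    unfold Nat.ModEq at hf
    have hlt := sylow_fixed_lt hn1 t ht1
    have h1r : 1 % r = 1 := Nat.mod_eq_of_lt hrp.one_lt
    rw [h1r] at hf
    have hfr : Nat.card {ω : Sylow r S // t • ω = ω} ≠ r := by
      intro h
      rw [h, Nat.mod_self] at hf
      omega
    have hflt : Nat.card {ω : Sylow r S // t • ω = ω} < r := by omega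
    rw [Nat.mod_eq_of_lt hflt] at hf
    omega
  · have hu2 : t * t = 1 := by
      rw [← pow_two, ← ht]
      exact pow_orderOf_eq_one t
    have hinv := inverts_of_involution P0 (hP P0) t hu2 htP hC
    have hcf := (inverting_card_fixed (by omega) P0 (hP P0) t htP hinv).1
    rw [hn'] at hcf
    have h5 : (Nat.card {ω : Sylow r S // t • ω = ω} - 1) * r ≤ 1 * r := by
      rw [one_mul]
      exact hcf
    have h6 := Nat.le_of_mul_le_mul_right h5 hrp.pos
    omega

/-- the Sylow data of a simple group satisfy the constraints of the sieve -/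
theorem sylSpec_of_simple [IsSimpleGroup S] (N : ℕ) (hN : Nat.card S = N) (L : List ℕ)
    (hL : ∀ r ∈ L, r.Prime ∧ r ∣ N ∧ ¬ r ^ 2 ∣ N ∧ r ≠ N) :
    SylSpec N L (sylN S) (sylE S) (sylC S) := by
  subst hN
  have hP : ∀ r ∈ L, ∀ (_ : Fact r.Prime) (P : Sylow r S), Nat.card P = r := by
    intro r hr _ P
    obtain ⟨-, h1, h2, -⟩ := hL r hr
    exact sylow_card_eq_prime h1 h2 P
  refine ⟨?_, ?_, ?_, ?_, ?_⟩
  · intro r hr
    obtain ⟨hp, h1, h2, h3⟩ := hL r hr
    have : Fact r.Prime := ⟨hp⟩
    exact syl_basic r h1 h2 h3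
  · intro r hr s hs _ h
    have : Fact r.Prime := ⟨(hL r hr).1⟩
    have : Fact s.Prime := ⟨(hL s hs).1⟩
    exact syl_symm r s (hP r hr inferInstance) (hP s hs inferInstance) h
  · intro r hr s hs hne h hd
    have : Fact r.Prime := ⟨(hL r hr).1⟩
    have : Fact s.Prime := ⟨(hL s hs).1⟩
    exact syl_normal r s hne (hP r hr inferInstance) (hP s hs inferInstance) (hL s hs).2.2.1 h hd
  · intro I hI hIL hI2
    apply syl_count _ rfl I hI _ hI2
    intro r hr
    exact ⟨(hL r (hIL r hr)).1, fun P => hP r (hIL r hr) ⟨(hL r (hIL r hr)).1⟩ P⟩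
  · intro r hr hn h4
    have : Fact r.Prime := ⟨(hL r hr).1⟩
    exact syl_sign r (hP r hr inferInstance) hn h4

end

end Cfsg.Agent.Lib.helper18
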