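import Mathlib
import Cfsg.Agent.Lib.helper18.SylData

/-!
A boolean test `h18Kill N` which, when it succeeds, shows that there is no finite simple group
of order `N`: the Sylow sieve of `SylSieve` applied to all the primes dividing `N` exactly once.
-/

set_option autoImplicit false

namespace Cfsg.Agent.Lib.helper18

/-- primality by trial division -/
def sPrimeB (p : ℕ) : Bool :=
  decide (2 ≤ p) && (List.range p).all fun d => decide (d < 2) || !decide (p % d = 0)

theorem sPrimeB_sound {p : ℕ} (h : sPrimeB p = true) : p.Prime := by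
  unfold sPrimeB at h
  rw [Bool.and_eq_true, decide_eq_true_eq, List.all_eq_true] at h
  obtain ⟨h2, hall⟩ := h
  rw [Nat.prime_def]
  refine ⟨h2, ?_⟩
  intro m hm
  by_cases hmp : m = p
  · exact Or.inr hmp
  · left
    have hle : m ≤ p := Nat.le_of_dvd (by omega) hm
    have hlt : m < p := by omega
    have := hall m (List.mem_range.mpr hlt)
    simp only [Bool.or_eq_true, decide_eq_true_eq, Bool.not_eq_true', decide_eq_false_iff_not]
      at this
    rcases this with h' | h'
    · have hm0 : m ≠ 0 := by
        rintro rfl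
        rw [zero_dvd_iff] at hm
        omega
      omega
    · exact absurd (Nat.mod_eq_zero_of_dvd hm) h'

/-- the primes dividing `N` exactly once, other than `N` itself -/
def sExact (N : ℕ) : List ℕ :=
  (List.range N).filter fun r =>
    decide (N % r = 0) && (decide (N % (r * r) ≠ 0) && sPrimeB r)

theorem sExact_spec (N : ℕ) : ∀ r ∈ sExact N, r.Prime ∧ r ∣ N ∧ ¬ r ^ 2 ∣ N ∧ r ≠ N := by
  intro r hr
  unfold sExact at hr
  rw [List.mem_filter, List.mem_range, Bool.and_eq_true, Bool.and_eq_true, decide_eq_true_eq,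
    decide_eq_true_eq] at hr
  obtain ⟨hlt, h1, h2, h3⟩ := hr
  refine ⟨sPrimeB_sound h3, Nat.dvd_of_mod_eq_zero h1, ?_, by omega⟩
  intro h
  apply h2
  rw [pow_two] at h
  exact Nat.mod_eq_zero_of_dvd h

theorem sExact_nodup (N : ℕ) : (sExact N).Nodup := List.Nodup.filter _ List.nodup_range

/-- the boolean test -/
def h18Kill (N : ℕ) : Bool :=
  decide (0 < N) && decide (∀ t ∈ sCands N (sExact N), sBad N t)

/-- no finite simple group has an order passing the test -/
theorem card_ne_of_h18Kill {G : Type*} [Group G] [Finite G] [IsSimpleGroup G] (N : ℕ)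
    (h : h18Kill N = true) : Nat.card G ≠ N := by
  intro hG
  unfold h18Kill at h
  rw [Bool.and_eq_true, decide_eq_true_eq, decide_eq_true_eq] at h
  obtain ⟨hN, hc⟩ := h
  have hspec := sExact_spec N
  exact sieve_sound N hN (sExact N) (sExact_nodup N) (fun r hr => (hspec r hr).1.two_le) hc _ _ _
    (sylSpec_of_simple N hG (sExact N) hspec)

/-- orders between 3641 and 6232 excluded by the test (and not by more elementary ones) -/
def h18List : List ℕ :=
  [3684, 3696, 3708, 3732, 3756, 3768, 3804, 3820, 3836, 3852, 3860, 3912, 3924, 3972, 4008,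
   4040, 4044, 4068, 4120, 4152, 4164, 4188, 4220, 4228, 4236, 4284, 4296, 4308, 4344, 4360,
   4404, 4460, 4476, 4520, 4548, 4560, 4572, 4584, 4596, 4620, 4632, 4660, 4668, 4716, 4728,
   4764, 4776, 4812, 4820, 4848, 4908, 4932, 4944, 5004, 5012, 5020, 5028, 5052, 5064, 5136,
   5172, 5196, 5232, 5236, 5240, 5260, 5268, 5280, 5316, 5320, 5352, 5364, 5388, 5404, 5420,
   5424, 5436, 5448, 5484, 5496, 5516, 5520, 5532, 5544, 5556, 5560, 5588, 5592, 5604, 5620,
   5652, 5660, 5736, 5748, 5784, 5844, 5852, 5860, 5868, 5892, 5908, 5960, 5988, 5992, 6012,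
   6024, 6036, 6040, 6060, 6096, 6104, 6108, 6120, 6168, 6180, 6220, 6228]

set_option maxRecDepth 100000 in
theorem h18Kill_list : ∀ N ∈ h18List, h18Kill N = true := by
  decide +kernel

/-- no finite simple group has an order in `h18List` -/
theorem card_ne_of_mem_h18List {G : Type*} [Group G] [Finite G] [IsSimpleGroup G] (N : ℕ)
    (h : N ∈ h18List) : Nat.card G ≠ N :=
  card_ne_of_h18Kill N (h18Kill_list N h)

end Cfsg.Agent.Lib.helper18
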