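import Mathlib

/-!
The projective special linear groups over isomorphic rings are isomorphic; in particular
over two finite fields with the same number of elements.
-/

set_option autoImplicit false

namespace Cfsg.Agent.Lib.helper18

theorem map_center_mulEquiv {A B : Type*} [Group A] [Group B] (φ : A ≃* B) :
    (Subgroup.center A).map φ.toMonoidHom = Subgroup.center B := by
  ext b
  constructor
  · rintro ⟨a, ha, rfl⟩
    have ha : a ∈ Subgroup.center A := ha
    rw [Subgroup.mem_center_iff] at ha ⊢
    intro g
    obtain ⟨g', rfl⟩ := φ.surjective g
    show φ g' * φ a = φ a * φ g'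
    rw [← map_mul, ← map_mul, ha g']
  · intro hb
    refine ⟨φ.symm b, ?_, by simp⟩
    show φ.symm b ∈ Subgroup.center A
    rw [Subgroup.mem_center_iff] at hb ⊢
    intro g
    apply φ.injective
    rw [map_mul, map_mul, φ.apply_symm_apply]
    exact hb (φ g)

/-- a ring isomorphism induces an isomorphism of special linear groups -/
def slCongr {n : Type*} [DecidableEq n] [Fintype n] {R S : Type*} [CommRing R] [CommRing S]
    (e : R ≃+* S) : Matrix.SpecialLinearGroup n R ≃* Matrix.SpecialLinearGroup n S where
  toFun := Matrix.SpecialLinearGroup.map (e : R →+* S)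
  invFun := Matrix.SpecialLinearGroup.map (e.symm : S →+* R)
  left_inv := fun A => by ext i j; simp
  right_inv := fun A => by ext i j; simp
  map_mul' := map_mul _

/-- a ring isomorphism induces an isomorphism of projective special linear groups -/
noncomputable def pslCongr {n : Type*} [DecidableEq n] [Fintype n] {R S : Type*} [CommRing R]
    [CommRing S] (e : R ≃+* S) :
    Matrix.ProjectiveSpecialLinearGroup n R ≃* Matrix.ProjectiveSpecialLinearGroup n S :=
  QuotientGroup.congr _ _ (slCongr e) (map_center_mulEquiv (slCongr e))

/-- the projective special linear groups over two finite fields of the same order -/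
theorem nonempty_pslCongr_of_card_eq {n : Type*} [DecidableEq n] [Fintype n] {K K' : Type*}
    [Field K] [Fintype K] [Field K'] [Fintype K'] (h : Fintype.card K = Fintype.card K') :
    Nonempty (Matrix.ProjectiveSpecialLinearGroup n K ≃*
      Matrix.ProjectiveSpecialLinearGroup n K') :=
  ⟨pslCongr (FiniteField.ringEquivOfCardEq h)⟩

end Cfsg.Agent.Lib.helper18
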