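import Mathlib
import Cfsg.Agent.Lib.helper75.PQDefs

/-!
Piece A of the S4306 swarm (coordinator helper75): the acting group `K ⋊ H` of order `p q`.
-/

set_option autoImplicit false

namespace Cfsg.Agent.Lib.helper18

/-- a subgroup of prime order is generated by each of its non-identity elements -/
theorem pqa_zpowers {Γ : Type*} [Group Γ] (X : Subgroup Γ) (n : ℕ) (hn : n.Prime)
    (hX : Nat.card X = n) (x : Γ) (hx : x ∈ X) (hx1 : x ≠ 1) : X = Subgroup.zpowers x := by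
  have : Fact n.Prime := ⟨hn⟩
  have hne : (⟨x, hx⟩ : X) ≠ 1 := by
    intro h
    exact hx1 (congrArg Subtype.val h)
  have htop := zpowers_eq_top_of_prime_card (G := X) hX hne
  apply le_antisymm
  · intro y hy
    have hmem : (⟨y, hy⟩ : X) ∈ Subgroup.zpowers (⟨x, hx⟩ : X) := by
      rw [htop]
      exact Subgroup.mem_top _
    obtain ⟨j, hj⟩ := Subgroup.mem_zpowers_iff.mp hmem
    rw [Subgroup.mem_zpowers_iff]
    refine ⟨j, ?_⟩
    have := congrArg Subtype.val hj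
    simpa using this
  · rw [Subgroup.zpowers_le]
    exact hx

theorem pqa_exists_ne_one {Γ : Type*} [Group Γ] (X : Subgroup Γ) (n : ℕ) (hn : n.Prime)
    (hX : Nat.card X = n) : ∃ x ∈ X, x ≠ 1 := by
  by_contra hcon
  have hbot : X = ⊥ := by
    rw [Subgroup.eq_bot_iff_forall]
    intro x hx
    by_contra hx1
    exact hcon ⟨x, hx, hx1⟩
  rw [hbot, Subgroup.card_bot] at hX
  exact hn.one_lt.ne hX

theorem pqa_pow_card {Γ : Type*} [Group Γ] (X : Subgroup Γ) (n : ℕ) (hX : Nat.card X = n)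
    (x : Γ) (hx : x ∈ X) : x ^ n = 1 := by
  have h1 : (⟨x, hx⟩ : X) ^ Nat.card X = 1 := pow_card_eq_one'
  rw [hX] at h1
  have := congrArg Subtype.val h1
  simpa using this

end Cfsg.Agent.Lib.helper18

namespace Cfsg.Agent.Lib.helper75.PQ

open Cfsg.Agent.Lib.helper18

section A
variable {Γ : Type*} [Group Γ] {K H : Subgroup Γ} {p q : ℕ}

/-- A7 -/
theorem FrobPQ.zpowers_K (hF : FrobPQ K H p q) (k : Γ) (hk : k ∈ K) (hk1 : k ≠ 1) :
    K = Subgroup.zpowers k :=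
  pqa_zpowers K p hF.hp hF.cardK k hk hk1

theorem FrobPQ.zpowers_H (hF : FrobPQ K H p q) (h : Γ) (hh : h ∈ H) (hh1 : h ≠ 1) :
    H = Subgroup.zpowers h :=
  pqa_zpowers H q hF.hq hF.cardH h hh hh1

/-- A1: nontrivial elements of `H` centralize no nontrivial element of `K`. -/
theorem FrobPQ.fpf_K (hF : FrobPQ K H p q) :
    ∀ h ∈ H, h ≠ 1 → ∀ k ∈ K, h * k = k * h → k = 1 := by
  intro h hh hh1 k hk hcomm
  by_contra hk1
  apply hF.nab
  intro x hx y hy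
  have hx' : x ∈ Subgroup.zpowers k := by
    rw [← hF.zpowers_K k hk hk1]
    exact hx
  have hy' : y ∈ Subgroup.zpowers h := by
    rw [← hF.zpowers_H h hh hh1]
    exact hy
  obtain ⟨a, rfl⟩ := Subgroup.mem_zpowers_iff.mp hx'
  obtain ⟨b, rfl⟩ := Subgroup.mem_zpowers_iff.mp hy'
  have hc : Commute k h := hcomm.symm
  exact (hc.zpow_zpow a b).eq

/-- A3 -/
theorem FrobPQ.mem_sup (hF : FrobPQ K H p q) :
    ∀ a ∈ K ⊔ H, ∃ k ∈ K, ∃ h ∈ H, a = k * h := by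
  let M : Subgroup Γ :=
    { carrier := {a | ∃ k ∈ K, ∃ h ∈ H, a = k * h}
      one_mem' := ⟨1, K.one_mem, 1, H.one_mem, by simp⟩
      mul_mem' := by
        rintro a b ⟨k1, hk1, h1, hh1, rfl⟩ ⟨k2, hk2, h2, hh2, rfl⟩
        refine ⟨k1 * (h1 * k2 * h1⁻¹), K.mul_mem hk1
          ((Subgroup.mem_normalizer_iff.mp (hF.HK hh1) k2).mp hk2), h1 * h2, H.mul_mem hh1 hh2, ?_⟩
        group
      inv_mem' := by
        rintro a ⟨k, hk, h, hh, rfl⟩
        refine ⟨h⁻¹ * k⁻¹ * h⁻¹⁻¹, (Subgroup.mem_normalizer_iff.mp (hF.HK (H.inv_mem hh)) k⁻¹).mp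
          (K.inv_mem hk), h⁻¹, H.inv_mem hh, ?_⟩
        group }
  have hKM : K ≤ M := fun k hk => ⟨k, hk, 1, H.one_mem, by simp⟩
  have hHM : H ≤ M := fun h hh => ⟨1, K.one_mem, h, hh, by simp⟩
  intro a ha
  exact (sup_le hKM hHM) ha

theorem FrobPQ.h18_inf_eq_one (hF : FrobPQ K H p q) : ∀ x ∈ K, x ∈ H → x = 1 := by
  intro x hxK hxH
  have h1 := pqa_pow_card K p hF.cardK x hxK
  have h2 := pqa_pow_card H q hF.cardH x hxH
  have hd1 : orderOf x ∣ p := orderOf_dvd_of_pow_eq_one h1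
  have hd2 : orderOf x ∣ q := orderOf_dvd_of_pow_eq_one h2
  have hcop : Nat.Coprime p q := (Nat.coprime_primes hF.hp hF.hq).mpr hF.hpq
  have : orderOf x = 1 := Nat.eq_one_of_dvd_coprimes hcop hd1 hd2
  exact orderOf_eq_one_iff.mp this

/-- A2 -/
theorem FrobPQ.card_sup (hF : FrobPQ K H p q) : Nat.card (K ⊔ H : Subgroup Γ) = p * q := by
  let f : K × H → (K ⊔ H : Subgroup Γ) := fun x =>
    ⟨(x.1 : Γ) * (x.2 : Γ), Subgroup.mul_mem _ (le_sup_left (a := K) (b := H) x.1.2)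
      (le_sup_right (a := K) (b := H) x.2.2)⟩
  have hinj : Function.Injective f := by
    rintro ⟨⟨k1, hk1⟩, ⟨h1, hh1⟩⟩ ⟨⟨k2, hk2⟩, ⟨h2, hh2⟩⟩ he
    have e : k1 * h1 = k2 * h2 := congrArg Subtype.val he
    have hd : k2⁻¹ * k1 = h2 * h1⁻¹ := by
      have : k1 = k2 * h2 * h1⁻¹ := by rw [← e]; group
      rw [this]; group
    have hdK : k2⁻¹ * k1 ∈ K := K.mul_mem (K.inv_mem hk2) hk1
    have hdH : k2⁻¹ * k1 ∈ H := by
      rw [hd]
      exact H.mul_mem hh2 (H.inv_mem hh1)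
    have h1' := hF.h18_inf_eq_one _ hdK hdH
    have hk : k1 = k2 := by
      have : k1 = k2 * (k2⁻¹ * k1) := by group
      rw [this, h1', mul_one]
    subst hk
    have hh : h1 = h2 := mul_left_cancel e
    subst hh
    rfl
  have hsurj : Function.Surjective f := by
    rintro ⟨a, ha⟩
    obtain ⟨k, hk, h, hh, rfl⟩ := hF.mem_sup a ha
    exact ⟨(⟨k, hk⟩, ⟨h, hh⟩), rfl⟩
  rw [← Nat.card_congr (Equiv.ofBijective f ⟨hinj, hsurj⟩), Nat.card_prod, hF.cardK, hF.cardH]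

/-- A4: an element outside `K` lies in a `K`-conjugate of `H`. -/
theorem FrobPQ.conj_of_not_mem (hF : FrobPQ K H p q) :
    ∀ a ∈ K ⊔ H, a ∉ K → ∃ k ∈ K, ∃ h ∈ H, h ≠ 1 ∧ a = k * h * k⁻¹ := by
  intro a ha haK
  obtain ⟨k0, hk0, h, hh, rfl⟩ := hF.mem_sup a ha
  have hh1 : h ≠ 1 := by
    rintro rfl
    apply haK
    simpa using hk0
  have : Finite K := Nat.finite_of_card_ne_zero (by rw [hF.cardK]; exact hF.hp.ne_zero)
  let f : K → K := fun k =>
    ⟨(k : Γ) * (h * (k : Γ)⁻¹ * h⁻¹), K.mul_mem k.2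
      ((Subgroup.mem_normalizer_iff.mp (hF.HK hh) _).mp (K.inv_mem k.2))⟩
  have hinj : Function.Injective f := by
    rintro ⟨k1, hk1⟩ ⟨k2, hk2⟩ he
    have e : k1 * (h * k1⁻¹ * h⁻¹) = k2 * (h * k2⁻¹ * h⁻¹) := congrArg Subtype.val he
    have hd : h * (k2⁻¹ * k1) = (k2⁻¹ * k1) * h := by
      have e1 : k1 = k2 * (h * k2⁻¹ * h⁻¹) * (h * k1⁻¹ * h⁻¹)⁻¹ := by rw [← e]; group
      have e2 : k2⁻¹ * k1 = h * (k2⁻¹ * k1) * h⁻¹ := by
        calc k2⁻¹ * k1 = k2⁻¹ * (k2 * (h * k2⁻¹ * h⁻¹) * (h * k1⁻¹ * h⁻¹)⁻¹) := by rw [← e1]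
          _ = h * (k2⁻¹ * k1) * h⁻¹ := by group
      calc h * (k2⁻¹ * k1) = h * (k2⁻¹ * k1) * h⁻¹ * h := by group
        _ = (k2⁻¹ * k1) * h := by rw [← e2]
    have h1' := hF.fpf_K h hh hh1 (k2⁻¹ * k1) (K.mul_mem (K.inv_mem hk2) hk1) hd
    have hk : k1 = k2 := by
      have : k1 = k2 * (k2⁻¹ * k1) := by group
      rw [this, h1', mul_one]
    subst hk
    rfl
  obtain ⟨⟨k, hk⟩, hk'⟩ := (Finite.injective_iff_surjective.mp hinj) ⟨k0, hk0⟩
  have e : k * (h * k⁻¹ * h⁻¹) = k0 := congrArg Subtype.val hk'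
  refine ⟨k, hk, h, hh, hh1, ?_⟩
  rw [← e]
  group

/-- A5 -/
theorem FrobPQ.dvd_pred (hF : FrobPQ K H p q) : q ∣ p - 1 := by
  obtain ⟨k, hk, hk1⟩ := pqa_exists_ne_one K p hF.hp hF.cardK
  obtain ⟨h, hh, hh1⟩ := pqa_exists_ne_one H q hF.hq hF.cardH
  have hp : Fact p.Prime := ⟨hF.hp⟩
  have hq : Fact q.Prime := ⟨hF.hq⟩
  have hKz := hF.zpowers_K k hk hk1
  have hord : orderOf k = p := by
    rw [← Nat.card_zpowers, ← hKz, hF.cardK]
  have hfin : IsOfFinOrder k := by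
    rw [← orderOf_pos_iff, hord]
    exact hF.hp.pos
  have hconj : h * k * h⁻¹ ∈ K := (Subgroup.mem_normalizer_iff.mp (hF.HK hh) k).mp hk
  rw [hKz, ← hfin.mem_powers_iff_mem_zpowers] at hconj
  obtain ⟨m, hm⟩ := (Submonoid.mem_powers_iff _ _).mp hconj
  have hiter : ∀ j : ℕ, h ^ j * k * (h ^ j)⁻¹ = k ^ (m ^ j) := by
    intro j
    induction j with
    | zero => simp
    | succ j ih =>
      calc h ^ (j + 1) * k * (h ^ (j + 1))⁻¹ = h * (h ^ j * k * (h ^ j)⁻¹) * h⁻¹ := by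
            rw [pow_succ']; group
        _ = h * k ^ (m ^ j) * h⁻¹ := by rw [ih]
        _ = (h * k * h⁻¹) ^ (m ^ j) := by rw [conj_pow]
        _ = (k ^ m) ^ (m ^ j) := by rw [hm]
        _ = k ^ (m ^ (j + 1)) := by rw [← pow_mul, pow_succ']
  have hhq : h ^ q = 1 := pqa_pow_card H q hF.cardH h hh
  have hkq : k ^ (m ^ q) = k ^ 1 := by
    rw [← hiter q, hhq]
    simp
  have hmod : m ^ q ≡ 1 [MOD p] := by
    rw [pow_eq_pow_iff_modEq, hord] at hkq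
    exact hkq
  have hz : ((m : ZMod p)) ^ q = 1 := by
    have := (ZMod.natCast_eq_natCast_iff _ _ _).mpr hmod
    push_cast at this
    exact this
  have hne1 : (m : ZMod p) ≠ 1 := by
    intro h1
    have hmod1 : m ≡ 1 [MOD p] := by
      apply (ZMod.natCast_eq_natCast_iff _ _ _).mp
      push_cast
      exact h1
    have hk' : k ^ m = k ^ 1 := by
      rw [pow_eq_pow_iff_modEq, hord]
      exact hmod1
    rw [hm, pow_one] at hk'
    have hcomm : h * k = k * h := by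
      calc h * k = h * k * h⁻¹ * h := by group
        _ = k * h := by rw [hk']
    exact hk1 (hF.fpf_K h hh hh1 k hk hcomm)
  have hne0 : (m : ZMod p) ≠ 0 := by
    intro h0
    rw [h0, zero_pow hF.hq.ne_zero] at hz
    exact zero_ne_one hz
  have hoq : orderOf (m : ZMod p) = q := orderOf_eq_prime hz hne1
  rw [← hoq]
  exact orderOf_dvd_of_pow_eq_one (ZMod.pow_card_sub_one_eq_one hne0)

/-- A6: two distinct conjugates of `H` generate everything. -/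
theorem FrobPQ.gen_two (hF : FrobPQ K H p q) (k : Γ) (hk : k ∈ K) (hk1 : k ≠ 1) :
    K ⊔ H ≤ Subgroup.closure ((H : Set Γ) ∪ {x | ∃ h ∈ H, x = k * h * k⁻¹}) := by
  set D := Subgroup.closure ((H : Set Γ) ∪ {x | ∃ h ∈ H, x = k * h * k⁻¹}) with hD
  have hHD : H ≤ D := by
    intro h hh
    exact Subgroup.subset_closure (Or.inl hh)
  obtain ⟨h, hh, hh1⟩ := pqa_exists_ne_one H q hF.hq hF.cardH
  have h1 : k * h * k⁻¹ ∈ D := Subgroup.subset_closure (Or.inr ⟨h, hh, rfl⟩)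
  have h2 : k * h * k⁻¹ * h⁻¹ ∈ D := D.mul_mem h1 (D.inv_mem (hHD hh))
  have h3 : k * h * k⁻¹ * h⁻¹ ∈ K := by
    have : k * h * k⁻¹ * h⁻¹ = k * (h * k⁻¹ * h⁻¹) := by group
    rw [this]
    exact K.mul_mem hk ((Subgroup.mem_normalizer_iff.mp (hF.HK hh) _).mp (K.inv_mem hk))
  have h4 : k * h * k⁻¹ * h⁻¹ ≠ 1 := by
    intro he
    have hcomm : h * k = k * h := by
      calc h * k = (k * h * k⁻¹ * h⁻¹)⁻¹ * (k * h) := by group
        _ = k * h := by rw [he]; group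
    exact hk1 (hF.fpf_K h hh hh1 k hk hcomm)
  have hKD : K ≤ D := by
    rw [hF.zpowers_K _ h3 h4, Subgroup.zpowers_le]
    exact h2
  exact sup_le hKD hHD

end A

end Cfsg.Agent.Lib.helper75.PQ
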