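import Mathlib
import Cfsg.Agent.Lib.helper42.AICDefs
import Cfsg.Agent.Lib.helper42.AIC_A
import Cfsg.Agent.Lib.helper42.AIC_A2
import Cfsg.Agent.Lib.helper15.AIC_A5
import Cfsg.Agent.Lib.helper69.AIC_O1
import Cfsg.Agent.Lib.helper18.AIC_B2core

set_option autoImplicit false

open Cfsg.Agent.Lib.helper42.AIC

namespace Cfsg.Agent.Lib.helper18.AIC

/-- B2 : KEY.  `C(P) ∩ N(Q) = 1` for `P ≠ Q` -/
theorem cp_inf_np {G : Type*} [Group G] [Finite G] (hA : AIC G) (hnc : NCyc G) (hnn : NNor G)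
    (hK : KTI G) (P Q : Sylow 2 G) (hPQ : P ≠ Q) {x : G} (hxP : x ∈ CP P) (hxQ : x ∈ NP Q) :
    x = 1 :=
  cp_inf_np_core hK P Q hPQ
    (fun R _ ht htR => Cfsg.Agent.Lib.helper42.AIC.cent_eq hA hnc R ht htR)
    (fun R S _ hxR hxS hx1 => Cfsg.Agent.Lib.helper42.AIC.sylow_ti hA hnc R S hxR hxS hx1)
    (fun R _ hx k hk => Cfsg.Agent.Lib.helper42.AIC.mem_of_np R hx k hk)
    (fun R S hRS _ hxR hxS => Cfsg.Agent.Lib.helper15.AIC.odd_of_cp_np hA hnc R S hRS hxR hxS)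
    (Cfsg.Agent.Lib.helper42.AIC.card_swap hA hnc hnn P Q hPQ)
    (fun _ ht => Cfsg.Agent.Lib.helper42.AIC.exists_sylow_inv hA hnc ht)
    (Cfsg.Agent.Lib.helper42.AIC.three_le_inv hA hnc P)
    (fun D hD w hw hwD => Cfsg.Agent.Lib.helper69.AIC.card_inverted D hD w hw hwD)
    (fun R _ hxo hxR hx1 _ hh => Cfsg.Agent.Lib.helper42.AIC.cent_le_np hK R hxo hxR hx1 hh)
    hxP hxQ

end Cfsg.Agent.Lib.helper18.AIC
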