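import Mathlib
import Cfsg.Agent.Lib.helper42.AICDefs

set_option autoImplicit false

open Cfsg.Agent.Lib.helper42.AIC

namespace Cfsg.Agent.Lib.helper18.AIC

/-- a copy of `Fin n` carrying no algebraic instances. -/
def I2Carrier (n : ℕ) : Type := Fin n

instance i2CarrierFinite (n : ℕ) : Finite (I2Carrier n) := inferInstanceAs (Finite (Fin n))

/-- I2 (Mathlib only) -/
theorem exists_small_commGroup {K : Type*} [Group K] [Finite K] (hK : ∀ x y : K, x * y = y * x) :
    ∃ (A : Type) (_ : CommGroup A) (_ : Finite A), Nonempty (K ≃* A) := by
  classical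
  let e : I2Carrier (Nat.card K) ≃ K := (Finite.equivFin K).symm
  let cg : CommGroup K := { (inferInstance : Group K) with mul_comm := hK }
  let cgA : CommGroup (I2Carrier (Nat.card K)) := @Equiv.commGroup _ _ e cg
  refine ⟨I2Carrier (Nat.card K), cgA, inferInstance, ⟨?_⟩⟩
  exact
    { toFun := e.symm
      invFun := e
      left_inv := e.apply_symm_apply
      right_inv := e.symm_apply_apply
      map_mul' := by
        intro a b
        apply e.injective
        change e (e.symm (a * b)) = e (e.symm (e (e.symm a) * e (e.symm b)))
        rw [e.apply_symm_apply, e.apply_symm_apply, e.apply_symm_apply, e.apply_symm_apply] }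

end Cfsg.Agent.Lib.helper18.AIC
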