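import Mathlib
import Cfsg.Agent.Lib.helper95.APDefs
import Cfsg.Agent.Lib.helper30.APPERF

/-!
S2276 split project (architect helper95), piece B0 (racing copy `h18_b0`): two full cycles.
`b := t * a⁻¹ * t` with `a` the rotation and `t = swap 0 2` (so `b` is an `M`-cycle and
`a * b = swap 1 3 * swap 0 2`); companion `τ := u * t`, `u = swap 0 4 * swap 1 5`, with
`τ * b * τ⁻¹ = u * a⁻¹ * u⁻¹`.
-/

set_option autoImplicit false

namespace Cfsg.Agent.Lib.helper95.AP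

open Equiv

theorem h18b_rot (M k : ℕ) (h : k + 1 < M) :
    finRotate M ⟨k, by omega⟩ = ⟨k + 1, h⟩ := by
  obtain ⟨n, rfl⟩ : ∃ n, M = n + 1 := ⟨M - 1, by omega⟩
  exact finRotate_of_lt (by omega)

theorem h18b_rot_eq (M : ℕ) (z w : Fin M) (h : w.val = z.val + 1) : finRotate M z = w := by
  obtain ⟨k, hk⟩ := z
  obtain ⟨l, hl⟩ := w
  simp only at h
  subst h
  exact h18b_rot M k hl

theorem h18b_rot_inv_eq (M : ℕ) (z w : Fin M) (h : z.val = w.val + 1) :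
    (finRotate M)⁻¹ z = w := by
  rw [Equiv.Perm.inv_eq_iff_eq]
  exact (h18b_rot_eq M w z h).symm

theorem h18b_cnt (M : ℕ) (S : Finset (Fin M)) (f : Perm (Fin M)) (hS : S.card = 4)
    (h : ∀ z, f z = z ↔ z ∉ S) :
    (Finset.univ.filter (fun z : Fin M => f z = z)).card = M - 4 := by
  have e : Finset.univ.filter (fun z : Fin M => f z = z) = Sᶜ := by
    ext z
    simp [h]
  rw [e, Finset.card_compl, Fintype.card_fin, hS]

theorem h18b_conj {α : Type*} (a t u : Perm α) (htt : t * t = 1) :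
    (u * t) * (t * a * t) * (u * t)⁻¹ = u * a * u⁻¹ := by
  have hti : t⁻¹ = t := inv_eq_of_mul_eq_one_left htt
  rw [mul_inv_rev, hti]
  calc u * t * (t * a * t) * (t * u⁻¹) = u * (t * t) * a * (t * t) * u⁻¹ := by
        simp only [mul_assoc]
    _ = u * a * u⁻¹ := by rw [htt, mul_one, mul_one]

theorem h18b_key (M : ℕ) (hM : 7 ≤ M) :
    ∃ b τ : Perm (Fin M), b.cycleType = {M} ∧ Perm.sign τ = -1 ∧
      (Finset.univ.filter (fun z : Fin M => (finRotate M * b) z = z)).card = M - 4 ∧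
      (Finset.univ.filter (fun z : Fin M => (finRotate M * (τ * b * τ⁻¹)) z = z)).card = M - 4 ∧
      (∀ z : Fin M, z.val = 0 → (b z).val = 1) ∧ (∀ z : Fin M, z.val = 1 → (b z).val = 2) ∧
      (∀ z : Fin M, 4 ≤ z.val → (b z).val = z.val - 1) ∧
      (∀ z : Fin M, z.val = 0 → ((τ * b * τ⁻¹) z).val = 3) ∧
      (∀ z : Fin M, z.val = 1 → ((τ * b * τ⁻¹) z).val = 0) ∧
      (∀ z : Fin M, z.val = 2 → ((τ * b * τ⁻¹) z).val = 5) ∧
      (∀ z : Fin M, 8 ≤ z.val → ((τ * b * τ⁻¹) z).val = z.val - 1) := by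
  have h0 : 0 < M := by omega
  have h1 : 1 < M := by omega
  have h2 : 2 < M := by omega
  have h3 : 3 < M := by omega
  have h4 : 4 < M := by omega
  have h5 : 5 < M := by omega
  have h6 : 6 < M := by omega
  -- the rotation at the small points
  have r01 : finRotate M ⟨0, h0⟩ = ⟨1, h1⟩ := h18b_rot_eq M _ _ rfl
  have r12 : finRotate M ⟨1, h1⟩ = ⟨2, h2⟩ := h18b_rot_eq M _ _ rfl
  have r23 : finRotate M ⟨2, h2⟩ = ⟨3, h3⟩ := h18b_rot_eq M _ _ rfl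
  have r45 : finRotate M ⟨4, h4⟩ = ⟨5, h5⟩ := h18b_rot_eq M _ _ rfl
  have r56 : finRotate M ⟨5, h5⟩ = ⟨6, h6⟩ := h18b_rot_eq M _ _ rfl
  have i10 : (finRotate M)⁻¹ ⟨1, h1⟩ = ⟨0, h0⟩ := h18b_rot_inv_eq M _ _ rfl
  have i21 : (finRotate M)⁻¹ ⟨2, h2⟩ = ⟨1, h1⟩ := h18b_rot_inv_eq M _ _ rfl
  have i43 : (finRotate M)⁻¹ ⟨4, h4⟩ = ⟨3, h3⟩ := h18b_rot_inv_eq M _ _ rfl
  have i54 : (finRotate M)⁻¹ ⟨5, h5⟩ = ⟨4, h4⟩ := h18b_rot_inv_eq M _ _ rfl
  have iz : ∀ z : Fin M, 1 ≤ z.val → ((finRotate M)⁻¹ z).val = z.val - 1 := by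
    intro z hz
    have hw : z.val - 1 < M := by have := z.2; omega
    rw [h18b_rot_inv_eq M z ⟨z.val - 1, hw⟩ (by simp; omega)]
  have f02 : ∀ z : Fin M, z.val ≠ 0 → z.val ≠ 2 → swap (⟨0, h0⟩ : Fin M) ⟨2, h2⟩ z = z :=
    fun z a b => Equiv.swap_apply_of_ne_of_ne (fun h => a (congrArg Fin.val h))
      (fun h => b (congrArg Fin.val h))
  have f04 : ∀ z : Fin M, z.val ≠ 0 → z.val ≠ 4 → swap (⟨0, h0⟩ : Fin M) ⟨4, h4⟩ z = z :=
    fun z a b => Equiv.swap_apply_of_ne_of_ne (fun h => a (congrArg Fin.val h))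
      (fun h => b (congrArg Fin.val h))
  have f15 : ∀ z : Fin M, z.val ≠ 1 → z.val ≠ 5 → swap (⟨1, h1⟩ : Fin M) ⟨5, h5⟩ z = z :=
    fun z a b => Equiv.swap_apply_of_ne_of_ne (fun h => a (congrArg Fin.val h))
      (fun h => b (congrArg Fin.val h))
  have t0 : swap (⟨0, h0⟩ : Fin M) ⟨2, h2⟩ ⟨0, h0⟩ = ⟨2, h2⟩ := Equiv.swap_apply_left _ _
  have s040 : swap (⟨0, h0⟩ : Fin M) ⟨4, h4⟩ ⟨0, h0⟩ = ⟨4, h4⟩ := Equiv.swap_apply_left _ _
  have s044 : swap (⟨0, h0⟩ : Fin M) ⟨4, h4⟩ ⟨4, h4⟩ = ⟨0, h0⟩ := Equiv.swap_apply_right _ _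
  have s151 : swap (⟨1, h1⟩ : Fin M) ⟨5, h5⟩ ⟨1, h1⟩ = ⟨5, h5⟩ := Equiv.swap_apply_left _ _
  refine ⟨swap ⟨0, h0⟩ ⟨2, h2⟩ * (finRotate M)⁻¹ * swap ⟨0, h0⟩ ⟨2, h2⟩,
    (swap ⟨0, h0⟩ ⟨4, h4⟩ * swap ⟨1, h1⟩ ⟨5, h5⟩) * swap ⟨0, h0⟩ ⟨2, h2⟩,
    ?_, ?_, ?_, ?_, ?_, ?_, ?_, ?_, ?_, ?_, ?_⟩
  · -- cycle type
    have e : swap (⟨0, h0⟩ : Fin M) ⟨2, h2⟩ * (finRotate M)⁻¹ * swap ⟨0, h0⟩ ⟨2, h2⟩ =
        swap (⟨0, h0⟩ : Fin M) ⟨2, h2⟩ * (finRotate M)⁻¹ * (swap ⟨0, h0⟩ ⟨2, h2⟩)⁻¹ := by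
      rw [Equiv.swap_inv]
    rw [e, Equiv.Perm.cycleType_conj, Equiv.Perm.cycleType_inv]
    exact cycleType_finRotate_of_le (by omega)
  · -- sign
    simp [Equiv.Perm.sign_mul, Equiv.Perm.sign_swap', Fin.ext_iff]
  · -- fixed points of a * b
    have e : finRotate M * (swap (⟨0, h0⟩ : Fin M) ⟨2, h2⟩ * (finRotate M)⁻¹ * swap ⟨0, h0⟩ ⟨2, h2⟩) =
        swap (⟨1, h1⟩ : Fin M) ⟨3, h3⟩ * swap ⟨0, h0⟩ ⟨2, h2⟩ := by
      rw [← r01, ← r23, Equiv.swap_apply_apply]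
      simp only [mul_assoc]
    rw [e]
    apply h18b_cnt M ({⟨0, h0⟩, ⟨1, h1⟩, ⟨2, h2⟩, ⟨3, h3⟩} : Finset (Fin M))
    · rw [Finset.card_insert_of_notMem, Finset.card_insert_of_notMem,
        Finset.card_insert_of_notMem, Finset.card_singleton] <;> simp [Fin.ext_iff]
    · rintro ⟨v, hv⟩
      by_cases hv4 : v < 4
      · interval_cases v <;> simp [Equiv.swap_apply_def, Fin.ext_iff]
      · have e0 : v ≠ 0 := by omega
        have e1 : v ≠ 1 := by omega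
        have e2 : v ≠ 2 := by omega
        have e3 : v ≠ 3 := by omega
        simp [Equiv.swap_apply_def, Fin.ext_iff, e0, e1, e2, e3]
  · -- fixed points of a * (τ * b * τ⁻¹)
    rw [h18b_conj _ _ _ (Equiv.swap_mul_self _ _)]
    have c1 : finRotate M * swap (⟨0, h0⟩ : Fin M) ⟨4, h4⟩ * (finRotate M)⁻¹ =
        swap (⟨1, h1⟩ : Fin M) ⟨5, h5⟩ := by
      rw [← Equiv.swap_apply_apply, r01, r45]
    have c2 : finRotate M * swap (⟨1, h1⟩ : Fin M) ⟨5, h5⟩ * (finRotate M)⁻¹ =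
        swap (⟨2, h2⟩ : Fin M) ⟨6, h6⟩ := by
      rw [← Equiv.swap_apply_apply, r12, r56]
    have e : finRotate M * (swap (⟨0, h0⟩ : Fin M) ⟨4, h4⟩ * swap ⟨1, h1⟩ ⟨5, h5⟩ *
          (finRotate M)⁻¹ * (swap (⟨0, h0⟩ : Fin M) ⟨4, h4⟩ * swap ⟨1, h1⟩ ⟨5, h5⟩)⁻¹) =
        swap (⟨1, h1⟩ : Fin M) ⟨5, h5⟩ * swap ⟨2, h2⟩ ⟨6, h6⟩ *
          (swap (⟨1, h1⟩ : Fin M) ⟨5, h5⟩ * swap ⟨0, h0⟩ ⟨4, h4⟩) := by
      calc finRotate M * (swap (⟨0, h0⟩ : Fin M) ⟨4, h4⟩ * swap ⟨1, h1⟩ ⟨5, h5⟩ *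
            (finRotate M)⁻¹ * (swap (⟨0, h0⟩ : Fin M) ⟨4, h4⟩ * swap ⟨1, h1⟩ ⟨5, h5⟩)⁻¹)
          = (finRotate M * swap (⟨0, h0⟩ : Fin M) ⟨4, h4⟩ * (finRotate M)⁻¹) *
            (finRotate M * swap (⟨1, h1⟩ : Fin M) ⟨5, h5⟩ * (finRotate M)⁻¹) *
            (swap (⟨0, h0⟩ : Fin M) ⟨4, h4⟩ * swap ⟨1, h1⟩ ⟨5, h5⟩)⁻¹ := by group
        _ = swap (⟨1, h1⟩ : Fin M) ⟨5, h5⟩ * swap ⟨2, h2⟩ ⟨6, h6⟩ *
            (swap (⟨1, h1⟩ : Fin M) ⟨5, h5⟩ * swap ⟨0, h0⟩ ⟨4, h4⟩) := by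
          rw [c1, c2, mul_inv_rev, Equiv.swap_inv, Equiv.swap_inv]
    rw [e]
    apply h18b_cnt M ({⟨0, h0⟩, ⟨2, h2⟩, ⟨4, h4⟩, ⟨6, h6⟩} : Finset (Fin M))
    · rw [Finset.card_insert_of_notMem, Finset.card_insert_of_notMem,
        Finset.card_insert_of_notMem, Finset.card_singleton] <;> simp [Fin.ext_iff]
    · rintro ⟨v, hv⟩
      by_cases hv7 : v < 7
      · interval_cases v <;> simp [Equiv.swap_apply_def, Fin.ext_iff]
      · have e0 : v ≠ 0 := by omega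
        have e1 : v ≠ 1 := by omega
        have e2 : v ≠ 2 := by omega
        have e4 : v ≠ 4 := by omega
        have e5 : v ≠ 5 := by omega
        have e6 : v ≠ 6 := by omega
        simp [Equiv.swap_apply_def, Fin.ext_iff, e0, e1, e2, e4, e5, e6]
  · -- b 0 = 1
    intro z hz
    have hz' : z = ⟨0, h0⟩ := Fin.ext hz
    subst hz'
    rw [Perm.mul_apply, Perm.mul_apply, t0, i21, f02 ⟨1, h1⟩ (by simp) (by simp)]
  · -- b 1 = 2
    intro z hz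
    have hz' : z = ⟨1, h1⟩ := Fin.ext hz
    subst hz'
    rw [Perm.mul_apply, Perm.mul_apply, f02 ⟨1, h1⟩ (by simp) (by simp), i10, t0]
  · -- b z = z - 1 for z ≥ 4
    intro z hz
    have hzv := iz z (by omega)
    rw [Perm.mul_apply, Perm.mul_apply, f02 z (by omega) (by omega),
      f02 ((finRotate M)⁻¹ z) (by rw [hzv]; omega) (by rw [hzv]; omega)]
    exact hzv
  · -- b' 0 = 3
    intro z hz
    have hz' : z = ⟨0, h0⟩ := Fin.ext hz
    subst hz'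
    rw [h18b_conj _ _ _ (Equiv.swap_mul_self _ _), mul_inv_rev, Equiv.swap_inv, Equiv.swap_inv]
    simp only [Perm.mul_apply]
    rw [s040, f15 ⟨4, h4⟩ (by simp) (by simp), i43, f15 ⟨3, h3⟩ (by simp) (by simp),
      f04 ⟨3, h3⟩ (by simp) (by simp)]
  · -- b' 1 = 0
    intro z hz
    have hz' : z = ⟨1, h1⟩ := Fin.ext hz
    subst hz'
    rw [h18b_conj _ _ _ (Equiv.swap_mul_self _ _), mul_inv_rev, Equiv.swap_inv, Equiv.swap_inv]
    simp only [Perm.mul_apply]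
    rw [f04 ⟨1, h1⟩ (by simp) (by simp), s151, i54, f15 ⟨4, h4⟩ (by simp) (by simp), s044]
  · -- b' 2 = 5
    intro z hz
    have hz' : z = ⟨2, h2⟩ := Fin.ext hz
    subst hz'
    rw [h18b_conj _ _ _ (Equiv.swap_mul_self _ _), mul_inv_rev, Equiv.swap_inv, Equiv.swap_inv]
    simp only [Perm.mul_apply]
    rw [f04 ⟨2, h2⟩ (by simp) (by simp), f15 ⟨2, h2⟩ (by simp) (by simp), i21, s151,
      f04 ⟨5, h5⟩ (by simp) (by simp)]
  · -- b' z = z - 1 for z ≥ 8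
    intro z hz
    have hzv := iz z (by omega)
    rw [h18b_conj _ _ _ (Equiv.swap_mul_self _ _), mul_inv_rev, Equiv.swap_inv, Equiv.swap_inv]
    simp only [Perm.mul_apply]
    rw [f04 z (by omega) (by omega), f15 z (by omega) (by omega),
      f15 ((finRotate M)⁻¹ z) (by rw [hzv]; omega) (by rw [hzv]; omega),
      f04 ((finRotate M)⁻¹ z) (by rw [hzv]; omega) (by rw [hzv]; omega)]
    exact hzv

set_option maxRecDepth 100000 in
theorem h18b_five : ∃ b : Perm (Fin 5), b.cycleType = {5} ∧ GoodBoth 5 (finRotate 5) b := by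
  have hmem : ∀ (a b : Perm (Fin 5)), a ∈ Subgroup.closure ({a, b} : Set (Perm (Fin 5))) ∧
      b ∈ Subgroup.closure ({a, b} : Set (Perm (Fin 5))) := fun a b =>
    ⟨Subgroup.subset_closure (Set.mem_insert a {b}),
      Subgroup.subset_closure (Set.mem_insert_of_mem a rfl)⟩
  have hpow : ∀ k : ℕ, 2 ≠ 5 ^ k ∧ 3 ≠ 5 ^ k := by
    intro k
    rcases Nat.eq_zero_or_pos k with h | h
    · subst h; norm_num
    · have h5 : 5 ∣ 5 ^ k := dvd_pow_self 5 (by omega)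
      constructor <;> intro h' <;> rw [← h'] at h5 <;> omega
  refine ⟨swap (0 : Fin 5) 2 * (finRotate 5)⁻¹ * swap (0 : Fin 5) 2, ?_, ⟨?_, ?_⟩,
    swap (1 : Fin 5) 2, ?_, ?_, ?_⟩
  · have e : swap (0 : Fin 5) 2 * (finRotate 5)⁻¹ * swap (0 : Fin 5) 2 =
        swap (0 : Fin 5) 2 * (finRotate 5)⁻¹ * (swap (0 : Fin 5) 2)⁻¹ := by
      rw [Equiv.swap_inv]
    rw [e, Equiv.Perm.cycleType_conj, Equiv.Perm.cycleType_inv]
    exact cycleType_finRotate_of_le (by norm_num)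
  · rintro ⟨k, hk⟩
    have h2 : orderOf (finRotate 5 * (swap (0 : Fin 5) 2 * (finRotate 5)⁻¹ * swap (0 : Fin 5) 2)) = 2 :=
      orderOf_eq_prime (by decide) (by decide)
    rw [h2] at hk
    exact (hpow k).1 hk
  · obtain ⟨ha, hb⟩ := hmem (finRotate 5) (swap (0 : Fin 5) 2 * (finRotate 5)⁻¹ * swap (0 : Fin 5) 2)
    exact perf _ _ (by decide) _ _ _ _
      (mul_mem hb (inv_mem ha)) (mul_mem hb hb) (mul_mem ha (inv_mem hb)) (mul_mem ha ha)
      (by decide) (by decide)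
  · simp [Equiv.Perm.sign_swap']
  · rintro ⟨k, hk⟩
    have h3 : orderOf (finRotate 5 * (swap (1 : Fin 5) 2 *
        (swap (0 : Fin 5) 2 * (finRotate 5)⁻¹ * swap (0 : Fin 5) 2) * (swap (1 : Fin 5) 2)⁻¹)) = 3 :=
      orderOf_eq_prime (by decide) (by decide)
    rw [h3] at hk
    exact (hpow k).2 hk
  · obtain ⟨ha, hb⟩ := hmem (finRotate 5) (swap (1 : Fin 5) 2 *
        (swap (0 : Fin 5) 2 * (finRotate 5)⁻¹ * swap (0 : Fin 5) 2) * (swap (1 : Fin 5) 2)⁻¹)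
    exact perf _ _ (by decide) _ _ _ _
      hb (mul_mem hb (inv_mem ha)) ha (mul_mem ha (inv_mem hb))
      (by decide) (by decide)

theorem h18b_not_dvd_small (p : ℕ) (hp : p.Prime) (hp3 : 3 ≤ p) :
    ¬ (p : ℤ) ∣ 1 ∧ ¬ (p : ℤ) ∣ 2 ∧ ¬ (p : ℤ) ∣ 4 := by
  have h2 : ¬ p ∣ 2 := fun h => by
    have := Nat.le_of_dvd (by norm_num) h
    omega
  have h4 : ¬ p ∣ 4 := fun h => by
    have h' : p ∣ 2 ^ 2 := by norm_num; exact h
    exact h2 (hp.dvd_of_dvd_pow h')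
  have h1 : ¬ p ∣ 1 := fun h => by
    have := Nat.le_of_dvd (by norm_num) h
    omega
  refine ⟨fun h => h1 ?_, fun h => h2 ?_, fun h => h4 ?_⟩ <;> exact_mod_cast h

/-- B0, core: the statement of B0 with the statement of GPC as a hypothesis. -/
theorem h18_b0_core
    (hgpc : ∀ (p : ℕ) (hp : p.Prime) (hp3 : 3 ≤ p) (e : ℕ) (he : 1 ≤ e) (b : Perm (Fin (p ^ e)))
      (x y : Fin (p ^ e)) (hxy : ((p ^ (e - 1) : ℕ) : ℤ) ∣ ((x : ℕ) : ℤ) - ((y : ℕ) : ℤ))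
      (hbxy : ¬ (p : ℤ) ∣ (((b x : Fin (p ^ e)) : ℕ) : ℤ) - (((b y : Fin (p ^ e)) : ℕ) : ℤ))
      (f : ℕ)
      (hf : (Finset.univ.filter (fun z : Fin (p ^ e) => (finRotate (p ^ e) * b) z = z)).card = f)
      (hf2 : 2 ≤ f) (hfp : ¬ p ∣ f), Good p (finRotate (p ^ e)) b)
    (p : ℕ) (hp : p.Prime) (hp3 : 3 ≤ p) (e : ℕ) (h5 : 5 ≤ p ^ e) :
    ∃ b : Perm (Fin (p ^ e)), b.cycleType = {p ^ e} ∧ GoodBoth p (finRotate (p ^ e)) b := by
  have he : 1 ≤ e := by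
    rcases Nat.eq_zero_or_pos e with h | h
    · rw [h, pow_zero] at h5; omega
    · exact h
  obtain ⟨hd1, hd2, hd4⟩ := h18b_not_dvd_small p hp hp3
  by_cases h7 : 7 ≤ p ^ e
  · obtain ⟨b, τ, hct, hsign, hf1, hf2, v0, v1, v4, w0, w1, w2, w8⟩ := h18b_key (p ^ e) h7
    have hfp : ¬ p ∣ p ^ e - 4 := by
      intro hd
      have h1 : p ∣ p ^ e := dvd_pow_self p (by omega)
      have h2 : p ∣ p ^ e - (p ^ e - 4) := Nat.dvd_sub h1 hd
      rw [Nat.sub_sub_self (by omega)] at h2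
      exact hd4 (by exact_mod_cast h2)
    refine ⟨b, hct, ?_, τ, hsign, ?_⟩
    · -- the pair (a, b)
      rcases Nat.lt_or_ge e 2 with he1 | he2
      · have he1' : e = 1 := by omega
        refine hgpc p hp hp3 e he b ⟨0, by omega⟩ ⟨1, by omega⟩ ?_ ?_ (p ^ e - 4) hf1 (by omega) hfp
        · have hq1 : p ^ (e - 1) = 1 := by rw [he1']; rfl
          rw [hq1, Nat.cast_one]; exact one_dvd _
        · rw [v0 ⟨0, by omega⟩ rfl, v1 ⟨1, by omega⟩ rfl]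
          intro hd
          apply hd1
          have h9 : ((1 : ℕ) : ℤ) - ((2 : ℕ) : ℤ) = -1 := by norm_num
          rw [h9] at hd
          exact (dvd_neg).mp hd
      · have hpe : p ^ e = p * p ^ (e - 1) := by
          rw [← pow_succ']; congr 1; omega
        have hq3 : 3 ≤ p ^ (e - 1) := by
          calc 3 ≤ p := hp3
            _ = p ^ 1 := (pow_one p).symm
            _ ≤ p ^ (e - 1) := Nat.pow_le_pow_right (by omega) (by omega)
        have hpq : (p : ℤ) ∣ ((p ^ (e - 1) : ℕ) : ℤ) := by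
          exact_mod_cast dvd_pow_self p (by omega : e - 1 ≠ 0)
        have hy : 2 * p ^ (e - 1) < p ^ e := by
          rw [hpe]
          calc 2 * p ^ (e - 1) < 3 * p ^ (e - 1) := by omega
            _ ≤ p * p ^ (e - 1) := Nat.mul_le_mul_right _ hp3
        refine hgpc p hp hp3 e he b ⟨0, by omega⟩ ⟨2 * p ^ (e - 1), hy⟩ ?_ ?_ (p ^ e - 4) hf1
          (by omega) hfp
        · refine ⟨-2, ?_⟩
          push_cast
          ring
        · rw [v0 ⟨0, by omega⟩ rfl, v4 ⟨2 * p ^ (e - 1), hy⟩ (by show 4 ≤ 2 * p ^ (e - 1); omega)]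
          intro hd
          apply hd2
          have h9 : ((1 : ℕ) : ℤ) - (((2 * p ^ (e - 1) - 1 : ℕ)) : ℤ) =
              2 - 2 * ((p ^ (e - 1) : ℕ) : ℤ) := by
            rw [Nat.cast_sub (by omega)]; push_cast; ring
          have h10 : ((⟨2 * p ^ (e - 1), hy⟩ : Fin (p ^ e)) : ℕ) = 2 * p ^ (e - 1) := rfl
          rw [h10, h9] at hd
          have h11 := dvd_add hd (Dvd.dvd.mul_left hpq 2)
          have h12 : (2 - 2 * ((p ^ (e - 1) : ℕ) : ℤ)) + 2 * ((p ^ (e - 1) : ℕ) : ℤ) = 2 := by ring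
          rw [h12] at h11
          exact h11
    · -- the companion pair
      rcases Nat.lt_or_ge e 2 with he1 | he2
      · have he1' : e = 1 := by omega
        have hp7 : 7 ≤ p := by rw [he1', pow_one] at h7; exact h7
        refine hgpc p hp hp3 e he (τ * b * τ⁻¹) ⟨0, by omega⟩ ⟨1, by omega⟩ ?_ ?_ (p ^ e - 4) hf2
          (by omega) hfp
        · have hq1 : p ^ (e - 1) = 1 := by rw [he1']; rfl
          rw [hq1, Nat.cast_one]; exact one_dvd _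
        · rw [w0 ⟨0, by omega⟩ rfl, w1 ⟨1, by omega⟩ rfl]
          intro hd
          have h9 : ((3 : ℕ) : ℤ) - ((0 : ℕ) : ℤ) = 3 := by norm_num
          rw [h9] at hd
          have h10 : p ∣ 3 := by exact_mod_cast hd
          have := Nat.le_of_dvd (by norm_num) h10
          omega
      · have hpe : p ^ e = p * p ^ (e - 1) := by
          rw [← pow_succ']; congr 1; omega
        have hq3 : 3 ≤ p ^ (e - 1) := by
          calc 3 ≤ p := hp3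
            _ = p ^ 1 := (pow_one p).symm
            _ ≤ p ^ (e - 1) := Nat.pow_le_pow_right (by omega) (by omega)
        have hpq : (p : ℤ) ∣ ((p ^ (e - 1) : ℕ) : ℤ) := by
          exact_mod_cast dvd_pow_self p (by omega : e - 1 ≠ 0)
        have hy : 2 + 2 * p ^ (e - 1) < p ^ e := by
          rw [hpe]
          calc 2 + 2 * p ^ (e - 1) < 3 * p ^ (e - 1) := by omega
            _ ≤ p * p ^ (e - 1) := Nat.mul_le_mul_right _ hp3
        refine hgpc p hp hp3 e he (τ * b * τ⁻¹) ⟨2, by omega⟩ ⟨2 + 2 * p ^ (e - 1), hy⟩ ?_ ?_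
          (p ^ e - 4) hf2 (by omega) hfp
        · refine ⟨-2, ?_⟩
          push_cast
          ring
        · rw [w2 ⟨2, by omega⟩ rfl,
            w8 ⟨2 + 2 * p ^ (e - 1), hy⟩ (by show 8 ≤ 2 + 2 * p ^ (e - 1); omega)]
          intro hd
          apply hd4
          have h9 : ((5 : ℕ) : ℤ) - (((2 + 2 * p ^ (e - 1) - 1 : ℕ)) : ℤ) =
              4 - 2 * ((p ^ (e - 1) : ℕ) : ℤ) := by
            rw [Nat.cast_sub (by omega)]; push_cast; ring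
          have h10 : ((⟨2 + 2 * p ^ (e - 1), hy⟩ : Fin (p ^ e)) : ℕ) = 2 + 2 * p ^ (e - 1) := rfl
          rw [h10, h9] at hd
          have h11 := dvd_add hd (Dvd.dvd.mul_left hpq 2)
          have h12 : (4 - 2 * ((p ^ (e - 1) : ℕ) : ℤ)) + 2 * ((p ^ (e - 1) : ℕ) : ℤ) = 4 := by ring
          rw [h12] at h11
          exact h11
  · -- p ^ e = 5
    have hodd : Odd (p ^ e) := (hp.odd_of_ne_two (by omega)).pow
    have h5' : p ^ e = 5 := by
      rcases hodd with ⟨k, hk⟩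
      omega
    have hp5 : p = 5 := by
      have h1 : p ∣ 5 := by rw [← h5']; exact dvd_pow_self p (by omega)
      exact (Nat.prime_dvd_prime_iff_eq hp (by norm_num)).mp h1
    subst hp5
    have key : ∀ M : ℕ, M = 5 →
        ∃ b : Perm (Fin M), b.cycleType = {M} ∧ GoodBoth 5 (finRotate M) b := by
      rintro M rfl
      exact h18b_five
    exact key (5 ^ e) h5'

end Cfsg.Agent.Lib.helper95.AP
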