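import Mathlib
import Cfsg.Agent.Lib.helper95.APDefs
import Cfsg.Agent.Lib.helper18.APB0
import Cfsg.Agent.Lib.helper29.APINTV

/-!
S2276 split project (architect helper95), piece B0 (racing copy, verbatim statement):
`h18_b0_core` applied to the landed copy `h29_gpc` of GPC.
-/

set_option autoImplicit false

namespace Cfsg.Agent.Lib.helper95.AP

open Equiv

/-- [B0] two full cycles (racing copy, verbatim statement). -/
theorem h18_b0 (p : ℕ) (hp : p.Prime) (hp3 : 3 ≤ p) (e : ℕ) (h5 : 5 ≤ p ^ e) :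
    ∃ b : Perm (Fin (p ^ e)), b.cycleType = {p ^ e} ∧ GoodBoth p (finRotate (p ^ e)) b :=
  h18_b0_core h29_gpc p hp hp3 e h5

end Cfsg.Agent.Lib.helper95.AP
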