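import Mathlib

set_option autoImplicit false

namespace Cfsg.Agent.Lib.helper18

/-- Burnside's fusion argument: in a finite group with an abelian Sylow `p`-subgroup `R`, an
element of `R` fixed (under conjugation) by the normalizer of `R` has no other conjugate
in `R`. -/
theorem isolated_of_normalizer_fixed {Γ : Type*} [Group Γ] [Finite Γ] {p : ℕ} [Fact p.Prime]
    (R : Sylow p Γ) (hab : ∀ x ∈ R, ∀ y ∈ R, x * y = y * x) (z : Γ) (hz : z ∈ R)
    (hfix : ∀ n ∈ Subgroup.normalizer ((R : Subgroup Γ) : Set Γ), n * z * n⁻¹ = z)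
    (g : Γ) (hg : g * z * g⁻¹ ∈ R) : g * z * g⁻¹ = z := by
  have hcent : ∀ x ∈ R, x ∈ Subgroup.centralizer ((R : Subgroup Γ) : Set Γ) := by
    intro x hx
    rw [Subgroup.mem_centralizer_iff]
    intro y hy
    exact hab y hy x hx
  have h1 : g⁻¹⁻¹ * z * g⁻¹ ∈ Subgroup.centralizer ((R : Subgroup Γ) : Set Γ) := by
    rw [inv_inv]
    exact hcent _ hg
  obtain ⟨n, hn, hn2⟩ := Sylow.conj_eq_normalizer_conj_of_mem_centralizer R z g⁻¹ (hcent z hz) h1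
  rw [inv_inv] at hn2
  rw [hn2]
  have := hfix n⁻¹ (Subgroup.inv_mem _ hn)
  rwa [inv_inv] at this

/-- Averaging over a complement of an abelian Sylow `p`-subgroup `R` in its normalizer: for
`a ∈ R` and a homomorphism `φ` to a commutative group there is `b ∈ R`, fixed under
conjugation by the normalizer of `R`, with `φ b = φ a ^ m` for some `m` prime to `p`. -/
theorem exists_normalizer_fixed {Γ : Type*} [Group Γ] [Finite Γ] {p : ℕ} [Fact p.Prime]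
    (R : Sylow p Γ) (hab : ∀ x ∈ R, ∀ y ∈ R, x * y = y * x) {A : Type*} [CommGroup A]
    (φ : Γ →* A) (a : Γ) (ha : a ∈ R) :
    ∃ b ∈ R, (∀ n ∈ Subgroup.normalizer ((R : Subgroup Γ) : Set Γ), n * b * n⁻¹ = b) ∧
      ∃ m : ℕ, ¬ p ∣ m ∧ φ b = φ a ^ m := by
  classical
  have hp : p.Prime := Fact.out
  obtain ⟨N₀, hN₀⟩ : ∃ N₀ : Subgroup Γ, N₀ = Subgroup.normalizer ((R : Subgroup Γ) : Set Γ) :=
    ⟨_, rfl⟩
  rw [← hN₀]
  have hRN : (R : Subgroup Γ) ≤ N₀ := by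
    rw [hN₀]; exact Subgroup.le_normalizer
  have hconj : ∀ n ∈ N₀, ∀ x ∈ (R : Subgroup Γ), n * x * n⁻¹ ∈ (R : Subgroup Γ) := by
    intro n hn x hx
    rw [hN₀] at hn
    exact (Subgroup.mem_normalizer_iff.mp hn x).mp hx
  obtain ⟨R', hR'⟩ : ∃ R' : Subgroup ↥N₀, R' = (R : Subgroup Γ).subgroupOf N₀ := ⟨_, rfl⟩
  have hR'n : R'.Normal := by
    rw [hR']
    subst hN₀
    exact Subgroup.normal_in_normalizer
  have hidx : ¬ p ∣ R'.index := by
    intro h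
    have h1 : R'.index ∣ (R : Subgroup Γ).index := by
      rw [hR']
      exact Subgroup.relIndex_dvd_index_of_le hRN
    exact R.not_dvd_index (h.trans h1)
  have hcop : Nat.Coprime (Nat.card R') R'.index := by
    have hpg : IsPGroup p R' := by
      rw [hR']
      exact R.isPGroup'.comap_subtype
    obtain ⟨e, he⟩ := IsPGroup.exists_card_eq hpg
    rw [he]
    exact Nat.Coprime.pow_left e ((Nat.Prime.coprime_iff_not_dvd hp).mpr hidx)
  obtain ⟨K, hK⟩ := Subgroup.exists_right_complement'_of_coprime hcop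
  have hKcard : Nat.card K = R'.index := (hK.symm.index_eq_card).symm
  let instR : CommGroup ↥(R : Subgroup Γ) :=
    { (inferInstance : Group ↥(R : Subgroup Γ)) with
      mul_comm := fun x y => Subtype.ext (hab x x.2 y y.2) }
  have instFK : Fintype ↥K := Fintype.ofFinite _
  let f : ↥K → ↥(R : Subgroup Γ) := fun k =>
    ⟨((k : ↥N₀) : Γ) * a * ((k : ↥N₀) : Γ)⁻¹, hconj _ (k : ↥N₀).2 a ha⟩
  obtain ⟨b', hb'⟩ : ∃ b' : ↥(R : Subgroup Γ), b' = ∏ k : ↥K, f k := ⟨_, rfl⟩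
  refine ⟨(b' : Γ), b'.2, ?_, Nat.card K, by rw [hKcard]; exact hidx, ?_⟩
  · intro n hn
    -- conjugation by an element of `N₀` as an endomorphism of `R`
    let ψ : ↥N₀ → (↥(R : Subgroup Γ) →* ↥(R : Subgroup Γ)) := fun n =>
      { toFun := fun x => ⟨(n : Γ) * (x : Γ) * (n : Γ)⁻¹, hconj _ n.2 x x.2⟩
        map_one' := by
          apply Subtype.ext
          simp
        map_mul' := by
          intro x y
          apply Subtype.ext
          show (n : Γ) * ((x : Γ) * (y : Γ)) * (n : Γ)⁻¹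
            = (n : Γ) * (x : Γ) * (n : Γ)⁻¹ * ((n : Γ) * (y : Γ) * (n : Γ)⁻¹)
          group }
    have hψ : ∀ (n : ↥N₀) (x : ↥(R : Subgroup Γ)),
        ((ψ n x : ↥(R : Subgroup Γ)) : Γ) = (n : Γ) * (x : Γ) * (n : Γ)⁻¹ := fun _ _ => rfl
    obtain ⟨⟨r, k₀⟩, hrk⟩ := hK.2 (⟨n, hn⟩ : ↥N₀)
    have hrk' : ((r : ↥N₀) : Γ) * ((k₀ : ↥N₀) : Γ) = n := by
      have := congrArg Subtype.val hrk
      simpa using this
    have hrR : ((r : ↥N₀) : Γ) ∈ (R : Subgroup Γ) := by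
      obtain ⟨r', hr'⟩ : ∃ r' : ↥N₀, r' = (r : ↥N₀) := ⟨_, rfl⟩
      have h2 : r' ∈ R' := hr' ▸ r.2
      rw [hR', Subgroup.mem_subgroupOf] at h2
      rw [← hr']
      exact h2
    -- conjugation by `k₀ ∈ K` fixes `b'`
    have hk : ψ (k₀ : ↥N₀) b' = b' := by
      have hk₀K : (k₀ : ↥N₀) ∈ K := k₀.2
      rw [hb', map_prod]
      let e : ↥K ≃ ↥K := Equiv.mulLeft ⟨(k₀ : ↥N₀), hk₀K⟩
      have he : ∀ k : ↥K, ψ (k₀ : ↥N₀) (f k) = f (e k) := by
        intro k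
        apply Subtype.ext
        rw [hψ]
        show ((k₀ : ↥N₀) : Γ) * (((k : ↥N₀) : Γ) * a * ((k : ↥N₀) : Γ)⁻¹) * ((k₀ : ↥N₀) : Γ)⁻¹
          = (((k₀ : ↥N₀) * (k : ↥N₀) : ↥N₀) : Γ) * a * (((k₀ : ↥N₀) * (k : ↥N₀) : ↥N₀) : Γ)⁻¹
        rw [Subgroup.coe_mul]
        group
      rw [Finset.prod_congr rfl (fun k _ => he k)]
      exact Equiv.prod_comp e f
    have hk' : ((k₀ : ↥N₀) : Γ) * (b' : Γ) * ((k₀ : ↥N₀) : Γ)⁻¹ = (b' : Γ) := by
      have := congrArg Subtype.val hk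
      rwa [hψ] at this
    rw [← hrk']
    calc ((r : ↥N₀) : Γ) * ((k₀ : ↥N₀) : Γ) * (b' : Γ) * (((r : ↥N₀) : Γ) * ((k₀ : ↥N₀) : Γ))⁻¹
        = ((r : ↥N₀) : Γ) * (((k₀ : ↥N₀) : Γ) * (b' : Γ) * ((k₀ : ↥N₀) : Γ)⁻¹)
            * ((r : ↥N₀) : Γ)⁻¹ := by group
      _ = ((r : ↥N₀) : Γ) * (b' : Γ) * ((r : ↥N₀) : Γ)⁻¹ := by rw [hk']
      _ = (b' : Γ) * ((r : ↥N₀) : Γ) * ((r : ↥N₀) : Γ)⁻¹ := by rw [hab _ hrR _ b'.2]
      _ = (b' : Γ) := by group
  · -- the value of `φ`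
    let χ : ↥(R : Subgroup Γ) →* A := φ.comp (R : Subgroup Γ).subtype
    have h1 : χ b' = ∏ k : ↥K, χ (f k) := by
      rw [hb', map_prod]
    have h2 : ∀ k : ↥K, χ (f k) = φ a := by
      intro k
      show φ (((k : ↥N₀) : Γ) * a * ((k : ↥N₀) : Γ)⁻¹) = φ a
      rw [map_mul, map_mul, map_inv, mul_comm, ← mul_assoc, inv_mul_cancel, one_mul]
    have h3 : χ b' = φ (b' : Γ) := rfl
    rw [← h3, h1, Finset.prod_congr rfl (fun k _ => h2 k), Finset.prod_const, Finset.card_univ,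
      Nat.card_eq_fintype_card]

end Cfsg.Agent.Lib.helper18
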