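import Mathlib
import Cfsg.Agent.Lib.helper84.Def1Defs
import Cfsg.Agent.Lib.helper20.CentralChar
import Cfsg.Agent.Lib.helper46.D1GS
import Cfsg.Agent.Lib.helper79.PPartCong
import Cfsg.Agent.Lib.helper19.D1Y2

/-!
# Piece Y7c of the defect-one project (S4441 / S0960): the congruences

For a Sylow `p`-subgroup `P` of order `p`, `x ∈ P` nontrivial and `H` the group of the
exponents `r` with `x ^ r` conjugate to `x`:

* `d1_conj_count`: the class of `x ^ v` meets `P` in `|H|` elements;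
* `d1_index_cong`: `|G : C_G(P)| ≡ |H| (mod p)`;
* `d1_deg_cong`: `f + w₀ ≡ s |H| (mod p)` for an exceptional character;
* `d1_card_mul`: `|Y| |H| = p - 1`;
* `d1_congruences_of_cong`: the four statements together, from the congruence of the periods;
* `d1_congruences`: piece Y7c, exact statement of the skeleton.
-/

set_option autoImplicit false

namespace Cfsg.Agent.Lib.helper18

open Cfsg Cfsg.Agent.Lib.helper84

variable {G : Type*} [Group G] [Fintype G]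

omit [Fintype G] in
/-- An integer lying in the local ideal of a `p`-modular ideal is divisible by `p`. -/
theorem d1_int_dvd_of_local {p : ℕ} {M : Ideal AlgInt} (hM : IsPModular p M) {z : ℤ}
    (h : MemLocalIdeal M (z : ℂ)) : (p : ℤ) ∣ z := by
  have hprime : M.IsPrime := hM.2.1.isPrime
  have h1 : MemLocalIdeal M (((z : AlgInt) : AlgInt) : ℂ) := by simpa using h
  have hmem : (z : AlgInt) ∈ M := helper20.mem_of_memLocalIdeal_coe hprime h1
  by_contra hnd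
  have hp : p.Prime := hM.1
  have hcop : IsCoprime (p : ℤ) z := by
    have hpz : Prime (p : ℤ) := Nat.prime_iff_prime_int.mp hp
    exact (Prime.coprime_iff_not_dvd hpz).mpr hnd
  obtain ⟨u, v, huv⟩ := hcop
  have h1 : ((u : AlgInt) * (p : AlgInt) + (v : AlgInt) * (z : AlgInt)) = 1 := by
    have := congrArg (fun t : ℤ => (t : AlgInt)) huv
    simpa using this
  have h2 : (1 : AlgInt) ∈ M := by
    rw [← h1]
    exact M.add_mem (M.mul_mem_left _ hM.2.2) (M.mul_mem_left _ hmem)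
  exact hM.2.1.ne_top ((Ideal.eq_top_iff_one M).mpr h2)

/-- The class of `x ^ v` meets `P` in exactly `|H|` elements. -/
theorem d1_conj_count (p : ℕ) [Fact p.Prime] (P : Sylow p G) (hP : Nat.card P = p)
    (x : G) (hx : x ∈ (P : Subgroup G)) (hx1 : x ≠ 1)
    (H : Subgroup (ZMod p)ˣ)
    (hH : ∀ r : (ZMod p)ˣ, r ∈ H ↔ ∃ n : G, n * x * n⁻¹ = x ^ ((r : ZMod p).val))
    (v : ℕ) (hv : ¬ p ∣ v) :
    Nat.card {g : G // IsConj (x ^ v) g ∧ g ∈ (P : Subgroup G)} = Nat.card H := by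
  have hp : p.Prime := Fact.out
  obtain ⟨hPz, hord⟩ := helper46.d1gs_eq_zpowers p (P : Subgroup G) hP x hx hx1
  have hxv1 : x ^ v ≠ 1 := by
    intro h
    have h1 := orderOf_dvd_of_pow_eq_one h
    rw [hord] at h1
    exact hv h1
  have hcop : Nat.Coprime p v := (Nat.Prime.coprime_iff_not_dvd hp).mpr hv
  symm
  refine Nat.card_congr (Equiv.ofBijective
    (fun r : H => (⟨x ^ (v * ((r : (ZMod p)ˣ) : ZMod p).val), ?_, ?_⟩ :
      {g : G // IsConj (x ^ v) g ∧ g ∈ (P : Subgroup G)})) ⟨?_, ?_⟩)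
  · obtain ⟨n, hn⟩ := (hH r).mp r.2
    rw [isConj_iff]
    refine ⟨n, ?_⟩
    rw [← conj_pow, hn, ← pow_mul, mul_comm]
  · exact Subgroup.pow_mem _ hx _
  · intro r r' h
    have h1 : x ^ (v * ((r : (ZMod p)ˣ) : ZMod p).val)
        = x ^ (v * ((r' : (ZMod p)ˣ) : ZMod p).val) := congrArg Subtype.val h
    rw [pow_eq_pow_iff_modEq, hord] at h1
    have h2 : ((r : (ZMod p)ˣ) : ZMod p).val ≡ ((r' : (ZMod p)ˣ) : ZMod p).val [MOD p] :=
      Nat.ModEq.cancel_left_of_coprime hcop h1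
    have h3 : ((((r : (ZMod p)ˣ) : ZMod p).val : ℕ) : ZMod p)
        = ((((r' : (ZMod p)ˣ) : ZMod p).val : ℕ) : ZMod p) :=
      (ZMod.natCast_eq_natCast_iff _ _ _).mpr h2
    rw [ZMod.natCast_zmod_val, ZMod.natCast_zmod_val] at h3
    exact Subtype.ext (Units.ext h3)
  · rintro ⟨g, hg, hgP⟩
    obtain ⟨n, hnN, hn⟩ := helper46.d1_conj_in_P p P hP (x ^ v) g
      (Subgroup.pow_mem _ hx _) hgP hxv1 hg
    have hnx : n * x * n⁻¹ ∈ (P : Subgroup G) :=
      (Subgroup.mem_normalizer_iff.mp hnN x).mp hx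
    have hnx' : n * x * n⁻¹ ∈ Subgroup.zpowers x := by rw [← hPz]; exact hnx
    obtain ⟨j, hj⟩ := Subgroup.mem_zpowers_iff.mp hnx'
    have hppos : (0 : ℤ) < (p : ℤ) := by exact_mod_cast hp.pos
    have hk0 : 0 ≤ j % (p : ℤ) := Int.emod_nonneg _ hppos.ne'
    have hklt : j % (p : ℤ) < (p : ℤ) := Int.emod_lt_of_pos _ hppos
    obtain ⟨k, hk⟩ := Int.eq_ofNat_of_zero_le hk0
    have hkp : k < p := by
      have : (k : ℤ) < (p : ℤ) := by rw [← hk]; exact hklt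
      exact_mod_cast this
    have hxk : x ^ k = n * x * n⁻¹ := by
      rw [← hj, ← zpow_natCast, ← hk]
      have := zpow_mod_orderOf x j
      rw [hord] at this
      exact this
    have hk0' : ¬ p ∣ k := by
      intro hd
      have h1 : x ^ k = 1 := by
        rw [← hord] at hd
        exact orderOf_dvd_iff_pow_eq_one.mp hd
      rw [hxk] at h1
      apply hx1
      have h2 : x = n⁻¹ * (n * x * n⁻¹) * n := by group
      rw [h2, h1]
      group
    have hcopk : Nat.Coprime k p := ((Nat.Prime.coprime_iff_not_dvd hp).mpr hk0').symm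
    have hval : ((ZMod.unitOfCoprime k hcopk : (ZMod p)ˣ) : ZMod p).val = k := by
      rw [ZMod.coe_unitOfCoprime, ZMod.val_natCast_of_lt hkp]
    have hrH : ZMod.unitOfCoprime k hcopk ∈ H := by
      rw [hH]
      exact ⟨n, by rw [hval, hxk]⟩
    refine ⟨⟨ZMod.unitOfCoprime k hcopk, hrH⟩, ?_⟩
    apply Subtype.ext
    show x ^ (v * ((ZMod.unitOfCoprime k hcopk : (ZMod p)ˣ) : ZMod p).val) = g
    rw [hval, ← hn, ← conj_pow, ← hxk, ← pow_mul, mul_comm]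

/-- `|G : C_G(P)| ≡ |H| (mod p)`. -/
theorem d1_index_cong (p : ℕ) [Fact p.Prime] (P : Sylow p G) (hP : Nat.card P = p)
    (x : G) (hx : x ∈ (P : Subgroup G)) (hx1 : x ≠ 1)
    (H : Subgroup (ZMod p)ˣ)
    (hH : ∀ r : (ZMod p)ˣ, r ∈ H ↔ ∃ n : G, n * x * n⁻¹ = x ^ ((r : ZMod p).val)) :
    ((Subgroup.centralizer ((P : Subgroup G) : Set G)).index : ℤ)
      ≡ (Nat.card H : ℤ) [ZMOD p] := by
  classical
  have hp : p.Prime := Fact.out
  obtain ⟨hPz, hord⟩ := helper46.d1gs_eq_zpowers p (P : Subgroup G) hP x hx hx1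
  have hcomm : ∀ a ∈ (P : Subgroup G), ∀ b ∈ (P : Subgroup G), a * b = b * a := by
    intro a ha b hb
    rw [hPz] at ha hb
    obtain ⟨i, rfl⟩ := Subgroup.mem_zpowers_iff.mp ha
    obtain ⟨j, rfl⟩ := Subgroup.mem_zpowers_iff.mp hb
    exact ((Commute.refl x).zpow_zpow i j).eq
  have hcent : Subgroup.centralizer ((P : Subgroup G) : Set G)
      = Subgroup.centralizer ({x} : Set G) := by
    ext g
    simp only [Subgroup.mem_centralizer_iff, Set.mem_singleton_iff, SetLike.mem_coe]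
    constructor
    · intro h y hy
      subst hy
      exact h y hx
    · intro h y hy
      rw [hPz] at hy
      obtain ⟨k, rfl⟩ := Subgroup.mem_zpowers_iff.mp hy
      have hc : Commute x g := h x rfl
      exact (hc.zpow_left k).eq
  have hclass : Nat.card {g : G // IsConj x g}
      = (Subgroup.centralizer ((P : Subgroup G) : Set G)).index := by
    rw [hcent, ← helper20.card_conj_class x, Nat.card_eq_fintype_card, Fintype.card_subtype]
  let act : MulAction (P : Subgroup G) {g : G // IsConj x g} :=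
    { smul := fun y c => ⟨(y : G) * c.1 * (y : G)⁻¹,
        c.2.trans (isConj_iff.mpr ⟨(y : G), rfl⟩)⟩
      one_smul := fun c => Subtype.ext (by
        show ((1 : (P : Subgroup G)) : G) * c.1 * ((1 : (P : Subgroup G)) : G)⁻¹ = c.1
        simp)
      mul_smul := fun y z c => Subtype.ext (by
        show ((y * z : (P : Subgroup G)) : G) * c.1 * ((y * z : (P : Subgroup G)) : G)⁻¹
          = (y : G) * ((z : G) * c.1 * (z : G)⁻¹) * (y : G)⁻¹
        rw [Subgroup.coe_mul]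
        group) }
  have hfix := (P.isPGroup').card_modEq_card_fixedPoints {g : G // IsConj x g}
  have hfixcard : Nat.card (MulAction.fixedPoints (P : Subgroup G) {g : G // IsConj x g})
      = Nat.card {g : G // IsConj (x ^ 1) g ∧ g ∈ (P : Subgroup G)} := by
    refine Nat.card_congr
      { toFun := fun c => ⟨c.1.1, by rw [pow_one]; exact c.1.2, ?_⟩
        invFun := fun g => ⟨⟨g.1, by have h := g.2.1; simp only [pow_one] at h; exact h⟩, ?_⟩
        left_inv := fun c => Subtype.ext (Subtype.ext rfl)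
        right_inv := fun g => Subtype.ext rfl }
    · apply helper46.d1_conj_mem_P p P hP x hx c.1.1 c.1.2
      rw [Subgroup.mem_centralizer_iff]
      intro y hy
      have h1 : (⟨y, hy⟩ : (P : Subgroup G)) • c.1 = c.1 := c.2 ⟨y, hy⟩
      have h2 : y * c.1.1 * y⁻¹ = c.1.1 := congrArg Subtype.val h1
      calc y * c.1.1 = (y * c.1.1 * y⁻¹) * y := by group
        _ = c.1.1 * y := by rw [h2]
    · intro y
      apply Subtype.ext
      show (y : G) * g.1 * (y : G)⁻¹ = g.1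
      rw [hcomm _ y.2 _ g.2.2]
      group
  rw [hclass, hfixcard, d1_conj_count p P hP x hx hx1 H hH 1 (by
    intro h
    exact hp.one_lt.ne' (Nat.dvd_one.mp h))] at hfix
  exact (Int.natCast_modEq_iff).mpr hfix

/-- `f + w₀ ≡ s |H| (mod p)` for one exceptional character. -/
theorem d1_deg_cong (p : ℕ) [Fact p.Prime]
    (M : Ideal Cfsg.AlgInt) (hM : Cfsg.IsPModular p M)
    (P : Sylow p G) (hP : Nat.card P = p) (x : G) (hx : x ∈ (P : Subgroup G))
    (H : Subgroup (ZMod p)ˣ) (f : ℕ) (w₀ s : ℤ) (b : (ZMod p)ˣ)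
    (θ : Cfsg.IrrCharacter G)
    (hdeg : (θ : G → ℂ) 1 = (f : ℂ))
    (hval : (θ : G → ℂ) (x ^ 1 * 1) = -(w₀ : ℂ) + (s : ℂ) * d1Per p H b 1)
    (hcong : ∃ m : Cfsg.AlgInt, m ∈ M ∧ (m : ℂ) = d1Per p H b 1 - (Nat.card H : ℂ)) :
    (f : ℤ) + w₀ ≡ s * (Nat.card H : ℤ) [ZMOD p] := by
  have hprime : M.IsPrime := hM.2.1.isPrime
  have hχ : IsCharacter G (θ : G → ℂ) := helper20.isCharacter_of_isIrrCharacter θ.2
  have hxp : x ^ (p ^ 1) = 1 := by
    rw [pow_one]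
    have h1 := pow_card_eq_one' (G := (P : Subgroup G)) (x := ⟨x, hx⟩)
    rw [hP] at h1
    exact congrArg Subtype.val h1
  have h1 : MemLocalIdeal M ((θ : G → ℂ) (x * 1) - (θ : G → ℂ) 1) :=
    helper79.memLocalIdeal_char_mul_sub hM hχ x 1 (Commute.one_right x) 1 hxp
  rw [pow_one] at hval
  rw [hval, hdeg] at h1
  obtain ⟨m, hmM, hm⟩ := hcong
  have h2 : MemLocalIdeal M ((s : ℂ) * (d1Per p H b 1 - (Nat.card H : ℂ))) := by
    rw [← hm]
    have h3 : ((s : ℂ) * (m : ℂ)) = ((((s : AlgInt) * m : AlgInt)) : ℂ) := by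
      push_cast
      rfl
    rw [h3]
    exact helper20.memLocalIdeal_of_mem hprime (M.mul_mem_left _ hmM)
  have h3 := helper20.memLocalIdeal_sub hprime h1 h2
  have h4 : -(w₀ : ℂ) + (s : ℂ) * d1Per p H b 1 - (f : ℂ)
      - (s : ℂ) * (d1Per p H b 1 - (Nat.card H : ℂ))
      = ((s * (Nat.card H : ℤ) - ((f : ℤ) + w₀) : ℤ) : ℂ) := by
    push_cast
    ring
  rw [h4] at h3
  exact (Int.modEq_iff_dvd).mpr (d1_int_dvd_of_local hM h3)

omit [Fintype G] in
/-- `|Y| |H| = p - 1`. -/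
theorem d1_card_mul (p : ℕ) [Fact p.Prime] (H : Subgroup (ZMod p)ˣ)
    (Y : Finset (Cfsg.IrrCharacter G)) (a : Cfsg.IrrCharacter G → (ZMod p)ˣ)
    (ha : ∀ b : (ZMod p)ˣ, ∃! θh : Cfsg.IrrCharacter G × (ZMod p)ˣ,
      θh.1 ∈ Y ∧ θh.2 ∈ H ∧ a θh.1 * θh.2 = b) :
    Y.card * Nat.card H = p - 1 := by
  have hbij : Function.Bijective
      (fun t : {θ // θ ∈ Y} × H => a t.1.1 * (t.2 : (ZMod p)ˣ)) := by
    constructor
    · intro t t' h
      have h' : a t.1.1 * (t.2 : (ZMod p)ˣ) = a t'.1.1 * (t'.2 : (ZMod p)ˣ) := h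
      obtain ⟨θh, -, huniq⟩ := ha (a t.1.1 * (t.2 : (ZMod p)ˣ))
      have h1 := huniq (t.1.1, t.2.1) ⟨t.1.2, t.2.2, rfl⟩
      have h2 := huniq (t'.1.1, t'.2.1) ⟨t'.1.2, t'.2.2, h'.symm⟩
      have h3 := h1.trans h2.symm
      exact Prod.ext (Subtype.ext (congrArg Prod.fst h3)) (Subtype.ext (congrArg Prod.snd h3))
    · intro b
      obtain ⟨θh, ⟨h1, h2, h3⟩, -⟩ := ha b
      exact ⟨(⟨θh.1, h1⟩, ⟨θh.2, h2⟩), h3⟩
  have hcard := Nat.card_congr (Equiv.ofBijective _ hbij)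
  rw [Nat.card_prod, Nat.card_eq_fintype_card (α := {θ // θ ∈ Y}), Fintype.card_coe,
    Nat.card_eq_fintype_card (α := (ZMod p)ˣ), ZMod.card_units p] at hcard
  exact hcard

/-- Piece Y7c, from the congruence of the periods (piece Y2) as a hypothesis. -/
theorem d1_congruences_of_cong (p : ℕ) [Fact p.Prime]
    (M : Ideal Cfsg.AlgInt) (hM : Cfsg.IsPModular p M)
    (P : Sylow p G) (hP : Nat.card P = p)
    (x : G) (hx : x ∈ (P : Subgroup G)) (hx1 : x ≠ 1)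
    (H : Subgroup (ZMod p)ˣ)
    (hH : ∀ r : (ZMod p)ˣ, r ∈ H ↔ ∃ n : G, n * x * n⁻¹ = x ^ ((r : ZMod p).val))
    (Y : Finset (Cfsg.IrrCharacter G))
    (f : ℕ) (w₀ s : ℤ)
    (a : Cfsg.IrrCharacter G → (ZMod p)ˣ)
    (ha : ∀ b : (ZMod p)ˣ, ∃! θh : Cfsg.IrrCharacter G × (ZMod p)ˣ,
      θh.1 ∈ Y ∧ θh.2 ∈ H ∧ a θh.1 * θh.2 = b)
    (hdeg : ∀ θ ∈ Y, (θ : G → ℂ) 1 = (f : ℂ))
    (hval : ∀ θ ∈ Y, ∀ u : ℕ, ¬ p ∣ u → ∀ y : G,
      y ∈ Subgroup.centralizer ((P : Subgroup G) : Set G) → ¬ p ∣ orderOf y →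
      (θ : G → ℂ) (x ^ u * y) = -(w₀ : ℂ) + (s : ℂ) * d1Per p H (a θ) u)
    (hcong : ∀ (b : (ZMod p)ˣ) (u : ℕ),
      ∃ m : Cfsg.AlgInt, m ∈ M ∧ (m : ℂ) = d1Per p H b u - (Nat.card H : ℂ)) :
    (∀ v : ℕ, ¬ p ∣ v →
        Nat.card {g : G // IsConj (x ^ v) g ∧ g ∈ (P : Subgroup G)} = Nat.card H) ∧
      ((Subgroup.centralizer ((P : Subgroup G) : Set G)).index : ℤ) ≡ (Nat.card H : ℤ) [ZMOD p] ∧
      (f : ℤ) + w₀ ≡ s * (Nat.card H : ℤ) [ZMOD p] ∧
      Y.card * Nat.card H = p - 1 := by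
  have hp : p.Prime := Fact.out
  have hp1 : ¬ p ∣ 1 := fun h => hp.one_lt.ne' (Nat.dvd_one.mp h)
  refine ⟨fun v hv => d1_conj_count p P hP x hx hx1 H hH v hv,
    d1_index_cong p P hP x hx hx1 H hH, ?_, d1_card_mul p H Y a ha⟩
  obtain ⟨θh, ⟨hθ, -, -⟩, -⟩ := ha 1
  exact d1_deg_cong p M hM P hP x hx H f w₀ s (a θh.1) θh.1 (hdeg _ hθ)
    (hval _ hθ 1 hp1 1 (Subgroup.one_mem _) (by rw [orderOf_one]; exact hp1))
    (hcong (a θh.1) 1)

/-- PIECE Y7c (congruences; uses GS and Y2). -/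
theorem d1_congruences (p : ℕ) [Fact p.Prime]
    (M : Ideal Cfsg.AlgInt) (hM : Cfsg.IsPModular p M)
    (P : Sylow p G) (hP : Nat.card P = p)
    (x : G) (hx : x ∈ (P : Subgroup G)) (hx1 : x ≠ 1)
    (H : Subgroup (ZMod p)ˣ)
    (hH : ∀ r : (ZMod p)ˣ, r ∈ H ↔ ∃ n : G, n * x * n⁻¹ = x ^ ((r : ZMod p).val))
    (Y : Finset (Cfsg.IrrCharacter G)) (hY : d1GalStable Y)
    (f : ℕ) (w₀ s : ℤ) (hs : s = 1 ∨ s = -1)
    (a : Cfsg.IrrCharacter G → (ZMod p)ˣ)
    (ha : ∀ b : (ZMod p)ˣ, ∃! θh : Cfsg.IrrCharacter G × (ZMod p)ˣ,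
      θh.1 ∈ Y ∧ θh.2 ∈ H ∧ a θh.1 * θh.2 = b)
    (hdeg : ∀ θ ∈ Y, (θ : G → ℂ) 1 = (f : ℂ))
    (hval : ∀ θ ∈ Y, ∀ u : ℕ, ¬ p ∣ u → ∀ y : G,
      y ∈ Subgroup.centralizer ((P : Subgroup G) : Set G) → ¬ p ∣ orderOf y →
      (θ : G → ℂ) (x ^ u * y) = -(w₀ : ℂ) + (s : ℂ) * d1Per p H (a θ) u) :
    (∀ v : ℕ, ¬ p ∣ v →
        Nat.card {g : G // IsConj (x ^ v) g ∧ g ∈ (P : Subgroup G)} = Nat.card H) ∧
      ((Subgroup.centralizer ((P : Subgroup G) : Set G)).index : ℤ) ≡ (Nat.card H : ℤ) [ZMOD p] ∧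
      (f : ℤ) + w₀ ≡ s * (Nat.card H : ℤ) [ZMOD p] ∧
      Y.card * Nat.card H = p - 1 :=
  d1_congruences_of_cong p M hM P hP x hx hx1 H hH Y f w₀ s a ha hdeg hval
    (fun b u => helper19.d1Per_cong p M hM H b u)

end Cfsg.Agent.Lib.helper18
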