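import Mathlib
import Cfsg.Agent.Lib.helper18.DiagForms

set_option autoImplicit false

namespace Cfsg.Agent.Lib.helper18

open Module

section Disc

variable {F : Type*} [Field F]

/-- Polarisation for diagonal forms: a linear map which multiplies a diagonal quadratic form by `c`
multiplies the associated bilinear form by `c`. -/
lemma diag_polarize {ι κ : Type*} [Fintype ι] [Fintype κ] (h2 : (2 : F) ≠ 0) (w : ι → F)
    (w' : κ → F) (g : (κ → F) →ₗ[F] (ι → F)) (c : F)
    (h : ∀ v, ∑ k, w k * (g v k) ^ 2 = c * ∑ k, w' k * (v k) ^ 2) (x y : κ → F) :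
    ∑ k, w k * (g x k * g y k) = c * ∑ k, w' k * (x k * y k) := by
  have e1 : ∑ k, w k * (g (x + y) k) ^ 2 = ∑ k, w k * (g x k) ^ 2
      + 2 * ∑ k, w k * (g x k * g y k) + ∑ k, w k * (g y k) ^ 2 := by
    rw [Finset.mul_sum, ← Finset.sum_add_distrib, ← Finset.sum_add_distrib]
    apply Finset.sum_congr rfl
    intro k _
    rw [map_add, Pi.add_apply]
    ring
  have e2 : ∑ k, w' k * ((x + y) k) ^ 2 = ∑ k, w' k * (x k) ^ 2
      + 2 * ∑ k, w' k * (x k * y k) + ∑ k, w' k * (y k) ^ 2 := by
    rw [Finset.mul_sum, ← Finset.sum_add_distrib, ← Finset.sum_add_distrib]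
    apply Finset.sum_congr rfl
    intro k _
    rw [Pi.add_apply]
    ring
  have h3 := h (x + y)
  rw [e1, e2, h x, h y] at h3
  have h4 : 2 * (∑ k, w k * (g x k * g y k)) = 2 * (c * ∑ k, w' k * (x k * y k)) := by
    linear_combination h3
  exact mul_left_cancel₀ h2 h4

/-- Two nondegenerate diagonal forms in the same number of variables over a finite field of odd
characteristic, such that `(-1)^n` times the product of all weights is a square, are
anti-isometric. -/
lemma exists_antiisometry [Fintype F] (h2 : (2 : F) ≠ 0) {ι : Type*} [Fintype ι] [DecidableEq ι]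
    (w₁ w₂ : ι → F) (hw₁ : ∀ k, w₁ k ≠ 0) (hw₂ : ∀ k, w₂ k ≠ 0)
    (hsq : IsSquare ((-1 : F) ^ (Fintype.card ι) * ((∏ k, w₁ k) * ∏ k, w₂ k))) :
    ∃ T : (ι → F) ≃ₗ[F] (ι → F), ∀ v, ∑ k, w₂ k * (T v k) ^ 2 = - ∑ k, w₁ k * (v k) ^ 2 := by
  rcases isEmpty_or_nonempty ι with hι | ⟨⟨j⟩⟩
  · exact ⟨LinearEquiv.refl F _, fun v => by simp⟩
  have hjS : j ∉ Finset.univ.erase j := Finset.notMem_erase j _
  obtain ⟨g₁, hg₁⟩ := diag_normal_form h2 w₁ hw₁ j (Finset.univ.erase j) hjS
  obtain ⟨g₂, hg₂⟩ := diag_normal_form h2 (fun k => - w₂ k) (fun k => neg_ne_zero.mpr (hw₂ k)) j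
    (Finset.univ.erase j) hjS
  obtain ⟨P₁, hP₁def⟩ : ∃ P, P = ∏ k, w₁ k := ⟨_, rfl⟩
  obtain ⟨P₂, hP₂def⟩ : ∃ P, P = ∏ k, - w₂ k := ⟨_, rfl⟩
  have hP₁ : P₁ ≠ 0 := by rw [hP₁def]; exact Finset.prod_ne_zero_iff.mpr fun l _ => hw₁ l
  have hP₂ : P₂ ≠ 0 := by
    rw [hP₂def]; exact Finset.prod_ne_zero_iff.mpr fun l _ => neg_ne_zero.mpr (hw₂ l)
  have hP₂' : P₂ = (-1 : F) ^ (Fintype.card ι) * ∏ k, w₂ k := by
    rw [hP₂def, Finset.prod_neg, Finset.card_univ]
  obtain ⟨s, hs⟩ := hsq
  have hs' : P₁ * P₂ = s * s := by rw [hP₂', hP₁def, ← hs]; ring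
  have hs0 : s ≠ 0 := by
    intro h0
    rw [h0, mul_zero] at hs'
    exact mul_ne_zero hP₁ hP₂ hs'
  have hc0 : s / P₂ ≠ 0 := div_ne_zero hs0 hP₂
  have hc : P₂ * (s / P₂) ^ 2 = P₁ := by
    field_simp
    linear_combination -hs'
  obtain ⟨h, hh⟩ := diag_scale (fun k : ι => if k = j then s / P₂ else 1)
    (fun k => by
      by_cases hk : k = j
      · simp only [hk, if_true]; exact hc0
      · simp [hk])
  refine ⟨g₁.symm.trans (h.trans g₂), fun v => ?_⟩
  have e1 := hg₁ (g₁.symm v)
  simp only [LinearEquiv.apply_symm_apply] at e1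
  have e2 := hg₂ (h (g₁.symm v))
  have e3 : (g₁.symm.trans (h.trans g₂)) v = g₂ (h (g₁.symm v)) := rfl
  have e4 : ∑ k, w₂ k * (g₂ (h (g₁.symm v)) k) ^ 2
      = - ∑ k, (- w₂ k) * (g₂ (h (g₁.symm v)) k) ^ 2 := by
    rw [← Finset.sum_neg_distrib]
    apply Finset.sum_congr rfl
    intro k _
    ring
  rw [e3, e4, e2, e1]
  congr 1
  apply Finset.sum_congr rfl
  intro k _
  rw [hh]
  by_cases hk : k = j
  · subst hk
    have d1 : diagWeights w₁ k (Finset.univ.erase k) k = P₁ := by
      simp only [diagWeights, if_true]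
      rw [Finset.mul_prod_erase _ _ (Finset.mem_univ k), hP₁def]
    have d2 : diagWeights (fun k => - w₂ k) k (Finset.univ.erase k) k = P₂ := by
      simp only [diagWeights, if_true]
      rw [Finset.mul_prod_erase _ (fun k => - w₂ k) (Finset.mem_univ k), hP₂def]
    rw [d1, d2]
    simp only [if_true]
    rw [← hc]
    ring
  · have hkS : k ∈ Finset.univ.erase j := Finset.mem_erase.mpr ⟨hk, Finset.mem_univ k⟩
    simp [diagWeights, hk]

variable {V : Type*} [AddCommGroup V] [Module F V]

/-- A bilinear form in terms of the coordinates with respect to an orthogonal basis. -/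
lemma bilin_eq_sum_of_ortho {κ : Type*} [Fintype κ] (c : Basis κ F V)
    (B : LinearMap.BilinForm F V) (hortho : ∀ i j, i ≠ j → B (c i) (c j) = 0) (x y : V) :
    B x y = ∑ k, B (c k) (c k) * (c.repr x k * c.repr y k) := by
  classical
  conv_lhs => rw [← c.sum_repr x, ← c.sum_repr y]
  simp only [map_sum, LinearMap.sum_apply, map_smul, LinearMap.smul_apply, smul_eq_mul]
  apply Finset.sum_congr rfl
  intro i _
  rw [Finset.sum_eq_single i]
  · ring
  · intro j _ hji
    rw [hortho j i hji]
    ring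
  · simp

/-- If `(-1)^n` times the discriminant of a nondegenerate symmetric form of dimension `2n` over a
finite field of odd characteristic is a square, there is a totally isotropic subspace of
dimension `n`. The form is given by an orthogonal basis. -/
theorem exists_totallyIsotropic_of_isSquare [Fintype F] (h2 : (2 : F) ≠ 0) {ι : Type*}
    [Fintype ι] (b : Basis ι F V) (B : LinearMap.BilinForm F V)
    (hortho : ∀ i j, i ≠ j → B (b i) (b j) = 0) (hne : ∀ i, B (b i) (b i) ≠ 0) (n : ℕ)
    (hcard : Fintype.card ι = 2 * n) (hsq : IsSquare ((-1 : F) ^ n * ∏ i, B (b i) (b i))) :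
    ∃ X : Submodule F V, finrank F X = n ∧ ∀ x ∈ X, ∀ y ∈ X, B x y = 0 := by
  classical
  have e : ι ≃ Fin n ⊕ Fin n := Fintype.equivOfCardEq (by simp [hcard, two_mul])
  let c : Basis (Fin n ⊕ Fin n) F V := b.reindex e
  have hc : ∀ k, c k = b (e.symm k) := fun k => by simp [c]
  have hcortho : ∀ i j, i ≠ j → B (c i) (c j) = 0 := by
    intro i j hij
    rw [hc, hc]
    exact hortho _ _ (fun h => hij (e.symm.injective h))
  have hprod : ∏ i, B (b i) (b i)
      = (∏ i : Fin n, B (c (Sum.inl i)) (c (Sum.inl i)))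
        * ∏ i : Fin n, B (c (Sum.inr i)) (c (Sum.inr i)) := by
    rw [← Fintype.prod_sum_type (fun k => B (c k) (c k))]
    rw [← Equiv.prod_comp e.symm]
    apply Finset.prod_congr rfl
    intro k _
    rw [hc]
  rw [hprod] at hsq
  obtain ⟨T, hT⟩ := exists_antiisometry h2 (fun i : Fin n => B (c (Sum.inl i)) (c (Sum.inl i)))
    (fun i : Fin n => B (c (Sum.inr i)) (c (Sum.inr i)))
    (fun i => by rw [hc]; exact hne _) (fun i => by rw [hc]; exact hne _)
    (by rw [Fintype.card_fin]; exact hsq)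
  have hpol := diag_polarize h2 (fun i : Fin n => B (c (Sum.inr i)) (c (Sum.inr i)))
    (fun i : Fin n => B (c (Sum.inl i)) (c (Sum.inl i))) T.toLinearMap (-1)
    (fun v => by rw [neg_one_mul]; exact hT v)
  let ψ : (Fin n → F) →ₗ[F] (Fin n ⊕ Fin n → F) :=
    { toFun := fun v => Sum.elim v (T v)
      map_add' := by
        intro u v
        ext k
        cases k <;> simp
      map_smul' := by
        intro a v
        ext k
        cases k <;> simp }
  have hψ : Function.Injective ψ := by
    intro u v huv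
    ext i
    have := congrFun huv (Sum.inl i)
    simpa [ψ] using this
  refine ⟨(LinearMap.range ψ).map c.equivFun.symm.toLinearMap, ?_, ?_⟩
  · rw [LinearEquiv.finrank_map_eq, LinearMap.finrank_range_of_inj hψ, Module.finrank_fin_fun]
  · rintro x ⟨u, ⟨v, rfl⟩, rfl⟩ y ⟨u', ⟨v', rfl⟩, rfl⟩
    rw [bilin_eq_sum_of_ortho c B hcortho]
    have hr : ∀ (u : Fin n ⊕ Fin n → F) k, c.repr (c.equivFun.symm u) k = u k := by
      intro u k
      rw [← Basis.equivFun_apply, LinearEquiv.apply_symm_apply]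
    simp only [LinearEquiv.coe_coe, hr]
    rw [Fintype.sum_sum_type]
    have := hpol v v'
    simp only [ψ, LinearMap.coe_mk, AddHom.coe_mk, Sum.elim_inl, Sum.elim_inr]
    simp only [LinearEquiv.coe_coe] at this
    rw [this]
    ring

/-- Determinant of a symmetric block matrix with vanishing upper left block. -/
lemma det_fromBlocks_zero_symm (m : ℕ) (A C : Matrix (Fin m) (Fin m) F) :
    (Matrix.fromBlocks 0 A A.transpose C).det = (-1) ^ m * (A.det * A.det) := by
  have hJ : (Matrix.J (Fin m) F).det = 1 :=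
    SymplecticGroup.det_eq_one (SymplecticGroup.J_mem (Fin m) F)
  have hmul : Matrix.fromBlocks 0 A A.transpose C * Matrix.J (Fin m) F
      = Matrix.fromBlocks A 0 C (-A.transpose) := by
    unfold Matrix.J
    rw [Matrix.fromBlocks_multiply]
    simp
  have h := congrArg Matrix.det hmul
  rw [Matrix.det_mul, hJ, mul_one, Matrix.det_fromBlocks_zero₁₂, Matrix.det_neg,
    Matrix.det_transpose, Fintype.card_fin] at h
  rw [h]
  ring

/-- If a symmetric form of dimension `2n` has a totally isotropic subspace of dimension `n`,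
then `(-1)^n` times the determinant of any Gram matrix is a square. -/
theorem isSquare_of_totallyIsotropic {ι : Type*} [Fintype ι] [DecidableEq ι] (b : Basis ι F V)
    (B : LinearMap.BilinForm F V) (hS : B.IsSymm) (n : ℕ) (hcard : Fintype.card ι = 2 * n)
    (X : Submodule F V) (hX : finrank F X = n) (hti : ∀ x ∈ X, ∀ y ∈ X, B x y = 0) :
    IsSquare ((-1 : F) ^ n * (LinearMap.BilinForm.toMatrix b B).det) := by
  have : Module.Finite F V := Module.Finite.of_basis b
  have hV : finrank F V = 2 * n := by rw [Module.finrank_eq_card_basis b, hcard]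
  obtain ⟨X', hcompl⟩ := Submodule.exists_isCompl X
  have hdim : finrank F X' = n := by
    have := Submodule.finrank_add_eq_of_isCompl hcompl
    rw [hX, hV] at this
    omega
  let b₁ : Basis (Fin n) F X := Module.finBasisOfFinrankEq F X hX
  let b₂ : Basis (Fin n) F X' := Module.finBasisOfFinrankEq F X' hdim
  let c₀ : Basis (Fin n ⊕ Fin n) F V :=
    (b₁.prod b₂).map (Submodule.prodEquivOfIsCompl X X' hcompl)
  have hc_inl : ∀ i, c₀ (Sum.inl i) ∈ X := by
    intro i
    have : c₀ (Sum.inl i) = (b₁ i : V) := by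
      simp [c₀, Submodule.coe_prodEquivOfIsCompl']
    rw [this]
    exact (b₁ i).2
  have e : ι ≃ Fin n ⊕ Fin n := Fintype.equivOfCardEq (by simp [hcard, two_mul])
  let c : Basis ι F V := c₀.reindex e.symm
  have hc : ∀ k, c k = c₀ (e k) := fun k => by simp [c]
  let G : Matrix (Fin n ⊕ Fin n) (Fin n ⊕ Fin n) F := LinearMap.BilinForm.toMatrix c₀ B
  have hblocks : G = Matrix.fromBlocks 0 G.toBlocks₁₂ G.toBlocks₁₂.transpose G.toBlocks₂₂ := by
    conv_lhs => rw [← Matrix.fromBlocks_toBlocks G]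
    congr 1
    · ext i j
      simp only [Matrix.toBlocks₁₁, Matrix.of_apply, G, Matrix.zero_apply,
        LinearMap.BilinForm.toMatrix_apply]
      exact hti _ (hc_inl i) _ (hc_inl j)
    · ext i j
      simp only [Matrix.toBlocks₂₁, Matrix.toBlocks₁₂, Matrix.of_apply, G,
        Matrix.transpose_apply, LinearMap.BilinForm.toMatrix_apply]
      exact hS.eq _ _
  have hGc : LinearMap.BilinForm.toMatrix c B = G.submatrix e e := by
    ext i j
    simp only [LinearMap.BilinForm.toMatrix_apply, Matrix.submatrix_apply, G, hc]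
  have hdetc : (LinearMap.BilinForm.toMatrix c B).det
      = (-1) ^ n * (G.toBlocks₁₂.det * G.toBlocks₁₂.det) := by
    rw [hGc, Matrix.det_submatrix_equiv_self, hblocks, det_fromBlocks_zero_symm]
    simp
  have hchange := LinearMap.BilinForm.toMatrix_mul_basis_toMatrix b c B
  have hdet := congrArg Matrix.det hchange
  rw [Matrix.det_mul, Matrix.det_mul, Matrix.det_transpose, hdetc] at hdet
  have hP : (b.toMatrix c).det ≠ 0 := by
    have h1 := congrArg Matrix.det (Basis.toMatrix_mul_toMatrix_flip b c)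
    rw [Matrix.det_mul, Matrix.det_one] at h1
    intro h0
    rw [h0, zero_mul] at h1
    exact zero_ne_one h1
  refine ⟨G.toBlocks₁₂.det / (b.toMatrix c).det, ?_⟩
  have hsgn : ((-1 : F) ^ n) * ((-1 : F) ^ n) = 1 := by
    rw [← mul_pow]; simp
  field_simp
  linear_combination ((-1 : F) ^ n) * hdet + (G.toBlocks₁₂.det * G.toBlocks₁₂.det) * hsgn

/-- The Gram matrix of an orthogonal basis is diagonal. -/
lemma det_toMatrix_of_ortho {ι : Type*} [Fintype ι] [DecidableEq ι] (b : Basis ι F V)
    (B : LinearMap.BilinForm F V) (hortho : ∀ i j, i ≠ j → B (b i) (b j) = 0) :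
    (LinearMap.BilinForm.toMatrix b B).det = ∏ i, B (b i) (b i) := by
  have : LinearMap.BilinForm.toMatrix b B = Matrix.diagonal (fun i => B (b i) (b i)) := by
    ext i j
    rw [LinearMap.BilinForm.toMatrix_apply]
    by_cases hij : i = j
    · subst hij; simp
    · rw [Matrix.diagonal_apply_ne _ hij]; exact hortho i j hij
  rw [this, Matrix.det_diagonal]

end Disc

end Cfsg.Agent.Lib.helper18
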