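import Mathlib

set_option autoImplicit false

namespace Cfsg.Agent.Lib.helper18

open TensorProduct Module

section Forms

variable {F U W : Type*} [Field F] [AddCommGroup U] [Module F U] [FiniteDimensional F U]
  [AddCommGroup W] [Module F W] [FiniteDimensional F W]

/-- The tensor product of two nondegenerate bilinear forms (finite dimension, over a field) is
left separating. -/
lemma tmul_separatingLeft (B₁ : LinearMap.BilinForm F U) (B₂ : LinearMap.BilinForm F W)
    (h₁ : B₁.Nondegenerate) (h₂ : B₂.Nondegenerate) : (B₁.tmul B₂).SeparatingLeft := by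
  let E : U ⊗[F] W ≃ₗ[F] Dual F (U ⊗[F] W) :=
    (TensorProduct.congr (B₁.toDual h₁) (B₂.toDual h₂)).trans
      (TensorProduct.dualDistribEquiv F U W)
  have hE : ∀ x y, E x y = B₁.tmul B₂ x y := by
    intro x y
    induction x using TensorProduct.induction_on with
    | zero => simp
    | tmul u w =>
      induction y using TensorProduct.induction_on with
      | zero => simp
      | tmul u' w' =>
        simp [E, LinearMap.BilinForm.toDual_def, mul_comm]
      | add y₁ y₂ h₁ h₂ => rw [map_add, map_add, h₁, h₂]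
    | add x₁ x₂ h₁ h₂ => rw [map_add, map_add, LinearMap.add_apply, LinearMap.add_apply, h₁, h₂]
  intro x hx
  have : E x = 0 := by
    apply LinearMap.ext
    intro y
    rw [hE, hx y, LinearMap.zero_apply]
  exact E.map_eq_zero_iff.mp this

/-- A nondegenerate alternating form on a space of dimension `2k` has totally isotropic subspaces
of every dimension `j ≤ k`. -/
lemma exists_totallyIsotropic_of_isAlt (B : LinearMap.BilinForm F U) (hB : B.Nondegenerate)
    (hA : B.IsAlt) (k : ℕ) (hU : finrank F U = 2 * k) :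
    ∀ j ≤ k, ∃ L : Submodule F U, finrank F L = j ∧ ∀ x ∈ L, ∀ y ∈ L, B x y = 0 := by
  intro j
  induction j with
  | zero =>
    intro _
    refine ⟨⊥, by simp, ?_⟩
    intro x hx y _
    rw [(Submodule.mem_bot F).mp hx]
    simp
  | succ j ih =>
    intro hj
    obtain ⟨L, hL, hiso⟩ := ih (by omega)
    have hLle : L ≤ B.orthogonal L := fun x hx => by
      rw [LinearMap.BilinForm.mem_orthogonal_iff]
      intro n hn
      exact hiso n hn x hx
    have hfin : finrank F (B.orthogonal L) = 2 * k - j := by
      rw [LinearMap.BilinForm.finrank_orthogonal hB, hU, hL]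
    have hlt : L < B.orthogonal L := by
      refine lt_of_le_of_ne hLle ?_
      intro h
      have h' : finrank F L = finrank F (B.orthogonal L) := by rw [← h]
      rw [hL, hfin] at h'
      omega
    obtain ⟨v, hv, hvL⟩ := SetLike.exists_of_lt hlt
    have hv0 : v ≠ 0 := fun h => hvL (h ▸ L.zero_mem)
    refine ⟨L ⊔ F ∙ v, ?_, ?_⟩
    · have h1 : finrank F ↥(L ⊔ F ∙ v) ≤ finrank F L + finrank F (F ∙ v) :=
        Submodule.finrank_add_le_finrank_add_finrank L (F ∙ v)
      rw [finrank_span_singleton hv0, hL] at h1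
      have h2 : L < L ⊔ F ∙ v := by
        refine lt_of_le_of_ne le_sup_left ?_
        intro h
        apply hvL
        rw [h]
        exact Submodule.mem_sup_right (Submodule.mem_span_singleton_self v)
      have h3 := Submodule.finrank_lt_finrank_of_lt h2
      rw [hL] at h3
      omega
    · intro x hx y hy
      obtain ⟨a, ha, x', hx', rfl⟩ := Submodule.mem_sup.mp hx
      obtain ⟨b, hb, y', hy', rfl⟩ := Submodule.mem_sup.mp hy
      obtain ⟨c, rfl⟩ := Submodule.mem_span_singleton.mp hx'
      obtain ⟨d, rfl⟩ := Submodule.mem_span_singleton.mp hy'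
      have h1 : B a v = 0 := hv a ha
      have h2 : B v b = 0 := by
        rw [← hA.neg_eq, hv b hb, neg_zero]
      have h3 : B v v = 0 := hA.self_eq_zero v
      simp [hiso a ha b hb, h1, h2, h3]

/-- If `B₁` vanishes on a subspace `L`, then `B₁ ⊗ B₂` vanishes on `L ⊗ W`, of dimension
`dim L * dim W`. -/
lemma exists_totallyIsotropic_tmul_left (B₁ : LinearMap.BilinForm F U)
    (B₂ : LinearMap.BilinForm F W) (L : Submodule F U) (hL : ∀ x ∈ L, ∀ y ∈ L, B₁ x y = 0) :
    ∃ X : Submodule F (U ⊗[F] W), finrank F X = finrank F L * finrank F W ∧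
      ∀ x ∈ X, ∀ y ∈ X, (B₁.tmul B₂) x y = 0 := by
  let f : L ⊗[F] W →ₗ[F] U ⊗[F] W := L.subtype.rTensor W
  have hf : Function.Injective f :=
    Module.Flat.rTensor_preserves_injective_linearMap L.subtype L.injective_subtype
  refine ⟨LinearMap.range f, ?_, ?_⟩
  · rw [LinearMap.finrank_range_of_inj hf, Module.finrank_tensorProduct]
  · rintro _ ⟨x, rfl⟩ _ ⟨y, rfl⟩
    induction x using TensorProduct.induction_on with
    | zero => simp
    | tmul l w =>
      induction y using TensorProduct.induction_on with
      | zero => simp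
      | tmul l' w' => simp [f, hL l l.2 l' l'.2]
      | add y₁ y₂ h₁ h₂ => rw [map_add, map_add, h₁, h₂, add_zero]
    | add x₁ x₂ h₁ h₂ => rw [map_add, map_add, LinearMap.add_apply, h₁, h₂, add_zero]

/-- If `B₂` vanishes on a subspace `L`, then `B₁ ⊗ B₂` vanishes on `U ⊗ L`, of dimension
`dim U * dim L`. -/
lemma exists_totallyIsotropic_tmul_right (B₁ : LinearMap.BilinForm F U)
    (B₂ : LinearMap.BilinForm F W) (L : Submodule F W) (hL : ∀ x ∈ L, ∀ y ∈ L, B₂ x y = 0) :
    ∃ X : Submodule F (U ⊗[F] W), finrank F X = finrank F U * finrank F L ∧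
      ∀ x ∈ X, ∀ y ∈ X, (B₁.tmul B₂) x y = 0 := by
  let f : U ⊗[F] L →ₗ[F] U ⊗[F] W := L.subtype.lTensor U
  have hf : Function.Injective f :=
    Module.Flat.lTensor_preserves_injective_linearMap L.subtype L.injective_subtype
  refine ⟨LinearMap.range f, ?_, ?_⟩
  · rw [LinearMap.finrank_range_of_inj hf, Module.finrank_tensorProduct]
  · rintro _ ⟨x, rfl⟩ _ ⟨y, rfl⟩
    induction x using TensorProduct.induction_on with
    | zero => simp
    | tmul u l =>
      induction y using TensorProduct.induction_on with
      | zero => simp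
      | tmul u' l' => simp [f, hL l l.2 l' l'.2]
      | add y₁ y₂ h₁ h₂ => rw [map_add, map_add, h₁, h₂, add_zero]
    | add x₁ x₂ h₁ h₂ => rw [map_add, map_add, LinearMap.add_apply, h₁, h₂, add_zero]

end Forms

end Cfsg.Agent.Lib.helper18
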