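import Mathlib
import Cfsg.Agent.Lib.helper3.GfDefs

/-!
S4395 split project (architect helper3), piece FORMS (racing copy `h18_forms`): invariant alternating
forms on an irreducible module.  Pure counting, no field structure:
* `q = 2`: `T = -1`, `V` is cyclic, every invariant alternating form vanishes;
* `q` odd: `T ^ 2 - 1` is bijective, `(β, β') ↦ β v₀ · + β' (T v₀) ·` is injective on pairs of forms,
  so `|B| ^ 2 ≤ |V|`; if some form is non-zero then `V` embeds into `B × B`, so `|B| ^ 2 = |V|`.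
-/

set_option autoImplicit false

namespace Cfsg.Agent.Lib.helper3.Gf

section basic

variable {V : Type*} [AddCommGroup V] {p : ℕ} {β : V → V → ZMod p}

theorem h18f_zero_left (hl : ∀ u u' v, β (u + u') v = β u v + β u' v) (v : V) : β 0 v = 0 := by
  have h := hl 0 0 v
  rw [add_zero] at h
  have h2 : β 0 v + β 0 v = β 0 v + 0 := by rw [add_zero]; exact h.symm
  exact add_left_cancel h2

theorem h18f_sub_left (hl : ∀ u u' v, β (u + u') v = β u v + β u' v) (u u' v : V) :
    β (u - u') v = β u v - β u' v := by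
  have h := hl (u - u') u' v
  rw [sub_add_cancel] at h
  rw [h]; ring

theorem h18f_neg_left (hl : ∀ u u' v, β (u + u') v = β u v + β u' v) (u v : V) :
    β (-u) v = - β u v := by
  have h := h18f_sub_left hl 0 u v
  rw [zero_sub, h18f_zero_left hl, zero_sub] at h
  exact h

theorem h18f_sub_right (hr : ∀ u v v', β u (v + v') = β u v + β u v') (u v v' : V) :
    β u (v - v') = β u v - β u v' := by
  have h := hr u (v - v') v'
  rw [sub_add_cancel] at h
  rw [h]; ring

theorem h18f_skew (hl : ∀ u u' v, β (u + u') v = β u v + β u' v)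
    (hr : ∀ u v v', β u (v + v') = β u v + β u v') (ha : ∀ v, β v v = 0) (u v : V) :
    β u v = - β v u := by
  have h1 : β (u + v) (u + v) = β u u + β u v + (β v u + β v v) := by rw [hl, hr, hr]
  rw [ha, ha, ha] at h1
  linear_combination (-1 : ZMod p) * h1

end basic

theorem h18f_T_of_sq {V : Type*} (q : ℕ) (hq2 : q % 2 = 1) (T : V → V) (hpow : ∀ v, T^[q] v = v)
    (hsq : ∀ v, T (T v) = v) (v : V) : T v = v := by
  obtain ⟨k, hk⟩ : ∃ k, q = 2 * k + 1 := ⟨q / 2, by omega⟩
  have h2 : ∀ (k : ℕ) (v : V), T^[2 * k] v = v := by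
    intro k
    induction k with
    | zero => intro v; rfl
    | succ k ih =>
      intro v
      rw [Nat.mul_succ, Function.iterate_add_apply]
      show T^[2 * k] (T (T v)) = v
      rw [hsq, ih]
  have h3 := hpow v
  rw [hk, Function.iterate_succ_apply', h2] at h3
  exact h3

section main

variable (p q : ℕ) [Fact p.Prime] [Fact q.Prime] {V : Type*} [AddCommGroup V] [Finite V] (T : V ≃+ V)

theorem h18f_surj (hq2 : q % 2 = 1) (h : Irr p q T) (x : V) : ∃ u, T (T u) - u = x := by
  let f : V →+ V := (T : V →+ V).comp (T : V →+ V) - AddMonoidHom.id V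
  have hf : ∀ u, f u = T (T u) - u := fun u => rfl
  have hinj : Function.Injective f := by
    rw [injective_iff_map_eq_zero]
    intro w hw
    have hker := h.irr f.ker (by
      intro w hw
      rw [AddMonoidHom.mem_ker] at hw ⊢
      rw [hf] at hw ⊢
      rw [← map_sub, hw, map_zero])
    rcases hker with hk | hk
    · have hmem : w ∈ f.ker := hw
      rw [hk] at hmem
      exact AddSubgroup.mem_bot.mp hmem
    · exfalso
      obtain ⟨v, hv⟩ := h.ne
      apply hv
      apply h18f_T_of_sq q hq2 (⇑T) h.pow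
      intro v
      have hmem : v ∈ f.ker := by rw [hk]; exact AddSubgroup.mem_top v
      rw [AddMonoidHom.mem_ker, hf] at hmem
      exact sub_eq_zero.mp hmem
  obtain ⟨u, hu⟩ := (Finite.injective_iff_surjective.mp hinj) x
  exact ⟨u, hu⟩

theorem h18f_rad (h : Irr p q T) (β : V → V → ZMod p) (hβ : InvAlt p T β) (hne : β ≠ 0) (u : V)
    (hu : ∀ w, β u w = 0) : u = 0 := by
  obtain ⟨hl, hr, ha, hT⟩ := hβ
  let R : AddSubgroup V :=
    { carrier := {u | ∀ w, β u w = 0}
      zero_mem' := fun w => h18f_zero_left hl w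
      add_mem' := by
        intro a b ha' hb' w
        rw [hl, ha' w, hb' w, add_zero]
      neg_mem' := by
        intro a ha' w
        rw [h18f_neg_left hl, ha' w, neg_zero] }
  have hR := h.irr R (by
    intro w hw x
    have h1 := hT w (T.symm x)
    rw [AddEquiv.apply_symm_apply] at h1
    rw [h1]; exact hw _)
  rcases hR with hR | hR
  · have hmem : u ∈ R := hu
    rw [hR] at hmem
    exact AddSubgroup.mem_bot.mp hmem
  · exfalso
    apply hne
    funext a b
    have hmem : a ∈ R := by rw [hR]; exact AddSubgroup.mem_top a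
    exact hmem b

theorem h18f_two (h : Irr p 2 T) (β : V → V → ZMod p) (hβ : InvAlt p T β) : β = 0 := by
  obtain ⟨hl, hr, ha, hT⟩ := hβ
  have hsq : ∀ v, T (T v) = v := fun v => h.pow v
  have hneg : ∀ v, T v = - v := by
    let W : AddSubgroup V := ((T : V →+ V) + AddMonoidHom.id V).range
    have hW := h.irr W (by
      rintro w ⟨v, rfl⟩
      refine ⟨T v, ?_⟩
      show T (T v) + T v = T (T v + v)
      rw [map_add])
    rcases hW with hW | hW
    · intro v
      have hmem : T v + v ∈ W := ⟨v, rfl⟩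
      rw [hW] at hmem
      exact eq_neg_of_add_eq_zero_left (AddSubgroup.mem_bot.mp hmem)
    · exfalso
      obtain ⟨v, hv⟩ := h.ne
      apply hv
      have hmem : v ∈ W := by rw [hW]; exact AddSubgroup.mem_top v
      obtain ⟨x, rfl⟩ := hmem
      show T (T x + x) = T x + x
      rw [map_add, hsq, add_comm]
  funext u w
  show β u w = 0
  by_cases hu : u = 0
  · rw [hu]; exact h18f_zero_left hl w
  · have hZ := h.irr (AddSubgroup.zmultiples u) (by
      intro x hx
      rw [hneg x]
      exact neg_mem hx)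
    rcases hZ with hZ | hZ
    · exfalso
      have hmem : u ∈ AddSubgroup.zmultiples u := AddSubgroup.mem_zmultiples u
      rw [hZ] at hmem
      exact hu (AddSubgroup.mem_bot.mp hmem)
    · have hmem : w ∈ AddSubgroup.zmultiples u := by rw [hZ]; exact AddSubgroup.mem_top w
      obtain ⟨k, rfl⟩ := AddSubgroup.mem_zmultiples_iff.mp hmem
      have h1 := map_zsmul (AddMonoidHom.mk' (fun v => β u v) (fun v v' => hr u v v')) k u
      have h2 : β u (k • u) = k • β u u := h1
      rw [h2, ha, smul_zero]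

theorem h18f_card_hom0 [Module (ZMod p) V] : Nat.card (V →+ ZMod p) ≤ Nat.card V := by
  classical
  have e : V ≃ₗ[ZMod p] Module.Dual (ZMod p) V :=
    (Module.Free.chooseBasis (ZMod p) V).toDualEquiv
  have h1 : Nat.card (Module.Dual (ZMod p) V) = Nat.card V := (Nat.card_congr e.toEquiv).symm
  have h2 : Nat.card (V →+ ZMod p) = Nat.card (V →ₗ[ZMod p] ZMod p) :=
    Nat.card_congr (AddMonoidHom.toZModLinearMapEquiv p).toEquiv
  rw [h2]
  exact le_of_eq h1

theorem h18f_card_hom (hexp : ∀ v : V, p • v = 0) : Nat.card (V →+ ZMod p) ≤ Nat.card V :=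
  @h18f_card_hom0 p _ V _ _ (AddCommGroup.zmodModule hexp)

theorem h18f_invalt_sub {β₁ β₂ : V → V → ZMod p} (h₁ : InvAlt p T β₁) (h₂ : InvAlt p T β₂) :
    InvAlt p T (β₁ - β₂) := by
  obtain ⟨a1, a2, a3, a4⟩ := h₁
  obtain ⟨b1, b2, b3, b4⟩ := h₂
  refine ⟨fun u u' v => ?_, fun u v v' => ?_, fun v => ?_, fun u v => ?_⟩
  · show β₁ (u + u') v - β₂ (u + u') v = (β₁ u v - β₂ u v) + (β₁ u' v - β₂ u' v)
    rw [a1, b1]; ring
  · show β₁ u (v + v') - β₂ u (v + v') = (β₁ u v - β₂ u v) + (β₁ u v' - β₂ u v')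
    rw [a2, b2]; ring
  · show β₁ v v - β₂ v v = 0
    rw [a3, b3, sub_zero]
  · show β₁ (T u) (T v) - β₂ (T u) (T v) = β₁ u v - β₂ u v
    rw [a4, b4]

theorem h18f_inj (hq2 : q % 2 = 1) (h : Irr p q T) (δ δ' : V → V → ZMod p) (hδ : InvAlt p T δ)
    (hδ' : InvAlt p T δ') (v₀ : V) (hv₀ : v₀ ≠ 0) (hyp : ∀ w, δ v₀ w + δ' (T v₀) w = 0) :
    δ = 0 ∧ δ' = 0 := by
  obtain ⟨hl, hr, ha, hT⟩ := hδ
  obtain ⟨hl', hr', ha', hT'⟩ := hδ'
  let W : AddSubgroup V :=
    { carrier := {u | ∀ w, δ u w + δ' (T u) w = 0}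
      zero_mem' := by
        intro w
        show δ 0 w + δ' (T 0) w = 0
        rw [map_zero, h18f_zero_left hl, h18f_zero_left hl', add_zero]
      add_mem' := by
        intro a b ha1 hb1 w
        show δ (a + b) w + δ' (T (a + b)) w = 0
        rw [map_add, hl, hl']
        have h1 := ha1 w
        have h2 := hb1 w
        linear_combination h1 + h2
      neg_mem' := by
        intro a ha1 w
        show δ (-a) w + δ' (T (-a)) w = 0
        rw [map_neg, h18f_neg_left hl, h18f_neg_left hl']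
        have h1 := ha1 w
        linear_combination (-1 : ZMod p) * h1 }
  have hW : W = ⊤ := by
    rcases h.irr W (by
      intro u hu w
      show δ (T u) w + δ' (T (T u)) w = 0
      have h1 := hu (T.symm w)
      have e1 := hT u (T.symm w)
      have e2 := hT' (T u) (T.symm w)
      rw [AddEquiv.apply_symm_apply] at e1 e2
      rw [e1, e2]
      exact h1) with hW | hW
    · exfalso
      have hmem : v₀ ∈ W := hyp
      rw [hW] at hmem
      exact hv₀ (AddSubgroup.mem_bot.mp hmem)
    · exact hW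
  have hb : ∀ u w, δ u w = - δ' (T u) w := by
    intro u w
    have hmem : u ∈ W := by rw [hW]; exact AddSubgroup.mem_top u
    have h1 := hmem w
    linear_combination h1
  have hs : ∀ u w, δ u w = - δ w u := h18f_skew hl hr ha
  have hs' : ∀ u w, δ' u w = - δ' w u := h18f_skew hl' hr' ha'
  have hc : ∀ u w, δ' (T u) w = δ' u (T w) := by
    intro u w
    have h1 := hb u w
    have h2 := hs u w
    have h3 := hb w u
    have h4 := hs' u (T w)
    linear_combination h1 - h2 + h3 - h4
  have hd : ∀ u w, δ' (T (T u) - u) w = 0 := by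
    intro u w
    rw [h18f_sub_left hl', hc (T u) w, hT' u w, sub_self]
  have hz' : ∀ x w, δ' x w = 0 := by
    intro x w
    obtain ⟨u, rfl⟩ := h18f_surj p q T hq2 h x
    exact hd u w
  refine ⟨?_, ?_⟩
  · funext u w
    show δ u w = 0
    rw [hb, hz', neg_zero]
  · funext x w
    exact hz' x w

theorem h18f_card_sq (hq2 : q % 2 = 1) (h : Irr p q T) :
    Nat.card {β : V → V → ZMod p // InvAlt p T β} ^ 2 ≤ Nat.card V := by
  classical
  obtain ⟨v₁, hv₁⟩ := h.ne
  have hv₀ : v₁ ≠ 0 := by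
    rintro rfl
    exact hv₁ (map_zero T)
  let Ψ : {β : V → V → ZMod p // InvAlt p T β} × {β : V → V → ZMod p // InvAlt p T β} →
      (V →+ ZMod p) :=
    fun x => AddMonoidHom.mk' (fun w => x.1.1 v₁ w + x.2.1 (T v₁) w) (by
      intro w w'
      rw [x.1.2.2.1, x.2.2.2.1]; ring)
  have hΨ : Function.Injective Ψ := by
    rintro ⟨⟨β₁, h₁⟩, ⟨β₁', h₁'⟩⟩ ⟨⟨β₂, h₂⟩, ⟨β₂', h₂'⟩⟩ heq
    have hsub : InvAlt p T (β₁ - β₂) := h18f_invalt_sub p T h₁ h₂
    have hsub' : InvAlt p T (β₁' - β₂') := h18f_invalt_sub p T h₁' h₂'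
    have key := h18f_inj p q T hq2 h (β₁ - β₂) (β₁' - β₂') hsub hsub' v₁ hv₀ (by
      intro w
      have h3 := congrArg (fun φ : V →+ ZMod p => φ w) heq
      have h4 : β₁ v₁ w + β₁' (T v₁) w = β₂ v₁ w + β₂' (T v₁) w := h3
      show (β₁ v₁ w - β₂ v₁ w) + (β₁' (T v₁) w - β₂' (T v₁) w) = 0
      linear_combination h4)
    have e1 : β₁ = β₂ := sub_eq_zero.mp key.1
    have e2 : β₁' = β₂' := sub_eq_zero.mp key.2
    subst e1; subst e2; rfl
  haveI : Finite (V →+ ZMod p) :=
    Finite.of_injective (fun f : V →+ ZMod p => (f : V → ZMod p)) DFunLike.coe_injective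
  have h1 := Nat.card_le_card_of_injective Ψ hΨ
  rw [Nat.card_prod] at h1
  rw [pow_two]
  exact le_trans h1 (h18f_card_hom p h.exp)

theorem h18f_card_ge (hq2 : q % 2 = 1) (h : Irr p q T) (β₀ : V → V → ZMod p)
    (h₀ : InvAlt p T β₀) (hne : β₀ ≠ 0) :
    Nat.card V ≤ Nat.card {β : V → V → ZMod p // InvAlt p T β} ^ 2 := by
  classical
  obtain ⟨hl, hr, ha, hT⟩ := h₀
  obtain ⟨v₁, hv₁⟩ := h.ne
  have hv₀ : v₁ ≠ 0 := by
    rintro rfl
    exact hv₁ (map_zero T)
  have hE1 : ∀ v : V, ∃ S : V →+ V, (∀ x, S (T x) = T (S x)) ∧ S v₁ = v := by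
    let W : AddSubgroup V :=
      { carrier := {v | ∃ S : V →+ V, (∀ x, S (T x) = T (S x)) ∧ S v₁ = v}
        zero_mem' := ⟨0, fun x => by simp, by simp⟩
        add_mem' := by
          rintro a b ⟨S, hS, rfl⟩ ⟨S', hS', rfl⟩
          exact ⟨S + S', fun x => by simp [hS, hS'], rfl⟩
        neg_mem' := by
          rintro a ⟨S, hS, rfl⟩
          exact ⟨-S, fun x => by simp [hS], rfl⟩ }
    have hW := h.irr W (by
      rintro w ⟨S, hS, rfl⟩
      exact ⟨(T : V →+ V).comp S, fun x => by simp [hS], rfl⟩)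
    rcases hW with hW | hW
    · exfalso
      have hmem : v₁ ∈ W := ⟨AddMonoidHom.id V, fun x => rfl, rfl⟩
      rw [hW] at hmem
      exact hv₀ (AddSubgroup.mem_bot.mp hmem)
    · intro v
      have hmem : v ∈ W := by rw [hW]; exact AddSubgroup.mem_top v
      exact hmem
  choose S hScomm hSv using hE1
  have hform : ∀ D : V →+ V, (∀ x, D (T x) = T (D x)) →
      InvAlt p T (fun u v => β₀ (D u) v + β₀ u (D v)) := by
    intro D hD
    refine ⟨fun u u' v => ?_, fun u v v' => ?_, fun v => ?_, fun u v => ?_⟩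
    · show β₀ (D (u + u')) v + β₀ (u + u') (D v) =
        (β₀ (D u) v + β₀ u (D v)) + (β₀ (D u') v + β₀ u' (D v))
      rw [map_add, hl, hl]; ring
    · show β₀ (D u) (v + v') + β₀ u (D (v + v')) =
        (β₀ (D u) v + β₀ u (D v)) + (β₀ (D u) v' + β₀ u (D v'))
      rw [map_add, hr, hr]; ring
    · show β₀ (D v) v + β₀ v (D v) = 0
      rw [h18f_skew hl hr ha (D v) v]; ring
    · show β₀ (D (T u)) (T v) + β₀ (T u) (D (T v)) = β₀ (D u) v + β₀ u (D v)
      rw [hD u, hD v, hT, hT]
  have hkey : ∀ D : V →+ V, (∀ x, D (T x) = T (D x)) →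
      (∀ u v, β₀ (D u) v + β₀ u (D v) = 0) →
      (∀ u v, β₀ (D (T u)) v + β₀ u (D (T v)) = 0) → ∀ v, D v = 0 := by
    intro D hD h1 h2 v
    apply h18f_rad p q T h β₀ ⟨hl, hr, ha, hT⟩ hne
    intro x
    rw [h18f_skew hl hr ha]
    obtain ⟨u', rfl⟩ := h18f_surj p q T hq2 h x
    rw [h18f_sub_left hl]
    have e1 := h1 (T (T u')) v
    have e2 := h2 (T u') v
    have e3 : β₀ (T u') (D (T v)) = β₀ u' (D v) := by rw [hD v, hT]
    rw [e3] at e2
    linear_combination e2 - e1
  let Φ : V → {β : V → V → ZMod p // InvAlt p T β} × {β : V → V → ZMod p // InvAlt p T β} :=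
    fun v => (⟨_, hform (S v) (hScomm v)⟩,
      ⟨_, hform ((S v).comp (T : V →+ V)) (fun x => by simp [hScomm v])⟩)
  have hΦ : Function.Injective Φ := by
    intro v v' hvv
    have e1 := congrArg (fun z => z.1.1) hvv
    have e2 := congrArg (fun z => z.2.1) hvv
    have hD := hkey (S v - S v') (fun x => by simp [hScomm v, hScomm v']) (by
        intro u w
        have h3 := congrFun (congrFun e1 u) w
        have h4 : β₀ (S v u) w + β₀ u (S v w) = β₀ (S v' u) w + β₀ u (S v' w) := h3
        show β₀ (S v u - S v' u) w + β₀ u (S v w - S v' w) = 0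
        rw [h18f_sub_left hl, h18f_sub_right hr]
        linear_combination h4) (by
        intro u w
        have h3 := congrFun (congrFun e2 u) w
        have h4 : β₀ (S v (T u)) w + β₀ u (S v (T w)) =
            β₀ (S v' (T u)) w + β₀ u (S v' (T w)) := h3
        show β₀ (S v (T u) - S v' (T u)) w + β₀ u (S v (T w) - S v' (T w)) = 0
        rw [h18f_sub_left hl, h18f_sub_right hr]
        linear_combination h4)
    have h5 : S v v₁ - S v' v₁ = 0 := hD v₁
    rw [hSv, hSv] at h5
    exact sub_eq_zero.mp h5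
  have h6 := Nat.card_le_card_of_injective Φ hΦ
  rw [Nat.card_prod] at h6
  rw [pow_two]; exact h6

end main

/-- FORMS (racing copy, verbatim statement). -/
theorem h18_forms (p q : ℕ) [Fact p.Prime] [Fact q.Prime] (hpq : p ≠ q) {V : Type*} [AddCommGroup V] [Finite V]
    (T : V ≃+ V) (h : Irr p q T) (a : ℕ) (hcard : Nat.card V = p ^ a) :
    (a % 2 = 1 → ∀ β : V → V → ZMod p, InvAlt p T β → β = 0) ∧
    (a % 2 = 0 → Nat.card {β : V → V → ZMod p // InvAlt p T β} ≤ p ^ (a / 2)) := by
  have hp : p.Prime := Fact.out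
  have hq : q.Prime := Fact.out
  rcases hq.eq_two_or_odd with h2 | hodd
  · subst h2
    have hz : ∀ β : V → V → ZMod p, InvAlt p T β → β = 0 := fun β hβ => h18f_two p T h β hβ
    refine ⟨fun _ => hz, fun _ => ?_⟩
    have hss : Subsingleton {β : V → V → ZMod p // InvAlt p T β} :=
      ⟨fun x y => Subtype.ext ((hz x.1 x.2).trans (hz y.1 y.2).symm)⟩
    exact le_trans (Finite.card_le_one_iff_subsingleton.mpr hss) (Nat.one_le_pow _ _ hp.pos)
  · have hsq := h18f_card_sq p q T hodd h
    rw [hcard] at hsq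
    constructor
    · intro ha β hβ
      by_contra hne
      have hge := h18f_card_ge p q T hodd h β hβ hne
      rw [hcard] at hge
      have heq : Nat.card {β : V → V → ZMod p // InvAlt p T β} ^ 2 = p ^ a := le_antisymm hsq hge
      have hdvd : Nat.card {β : V → V → ZMod p // InvAlt p T β} ∣ p ^ a :=
        ⟨_, by rw [← heq, pow_two]⟩
      obtain ⟨k, hk, hkeq⟩ := (Nat.dvd_prime_pow hp).mp hdvd
      rw [hkeq, ← pow_mul] at heq
      have h7 := Nat.pow_right_injective hp.two_le heq
      omega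
    · intro ha
      have e : p ^ a = (p ^ (a / 2)) ^ 2 := by
        rw [← pow_mul]; congr 1; omega
      rw [e] at hsq
      exact (Nat.pow_le_pow_iff_left (by norm_num)).mp hsq

end Cfsg.Agent.Lib.helper3.Gf
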