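import Mathlib
import Cfsg.Agent.Lib.helper3.GfDefs
import Cfsg.Agent.S0132
import Cfsg.Agent.S0536

/-!
S4395 split project (architect helper3), piece S1 (`schmidt_data`): a minimal non-`p`-nilpotent group
of order `p ^ t * q ^ r` is minimal non-nilpotent with a normal Sylow `p`-subgroup and a cyclic
Sylow `q`-subgroup (from the landed S0132 and S0536).
-/

set_option autoImplicit false

namespace Cfsg.Agent.Lib.helper3.Gf

universe u

theorem helper18_fact_pq (p q t r : ℕ) (hp : p.Prime) (hq : q.Prime) (hpq : p ≠ q) :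
    (p ^ t * q ^ r).factorization p = t ∧ (p ^ t * q ^ r).factorization q = r := by
  have h1 : p ^ t ≠ 0 := pow_ne_zero _ hp.ne_zero
  have h2 : q ^ r ≠ 0 := pow_ne_zero _ hq.ne_zero
  rw [Nat.factorization_mul h1 h2, hp.factorization_pow, hq.factorization_pow]
  simp [Finsupp.single_apply, hpq, hpq.symm]

/-- S1 (from landed S0132 + S0536) -/
theorem schmidt_data (p q r : ℕ) [Fact p.Prime] [Fact q.Prime] (hpq : p ≠ q) (hr : 1 ≤ r) {Y : Type u} [Group Y] [Finite Y]
    (hY : MNP p Y) (t : ℕ) (hcard : Nat.card Y = p ^ t * q ^ r) :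
    ∃ (P : Subgroup Y) (y : Y), P.Normal ∧ IsPGroup p ↥P ∧ orderOf y = q ^ r ∧ P ⊔ Subgroup.zpowers y = ⊤ ∧
      (∀ H : Subgroup Y, H ≠ ⊤ → Group.IsNilpotent ↥H) ∧ ¬ Group.IsNilpotent Y := by
  have hp : p.Prime := Fact.out
  have hq : q.Prime := Fact.out
  obtain ⟨hnil, hnn, -⟩ := Cfsg.Agent.S0132.result hY.1 hY.2
  obtain ⟨p', q', hp', hq', hne, P', Q', hcyc, hQn, hsup⟩ :=
    Cfsg.Agent.S0536.result (G := Y) ⟨hnn, hnil⟩
  haveI : Fact p'.Prime := ⟨hp'⟩
  haveI : Fact q'.Prime := ⟨hq'⟩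
  have hnotTop : ∀ (ℓ : ℕ) [Fact ℓ.Prime] (S : Sylow ℓ Y), (S : Subgroup Y) ≠ ⊤ := by
    intro ℓ _ S hS
    apply hnn
    have hpg : IsPGroup ℓ Y := by
      have h1 : IsPGroup ℓ (⊤ : Subgroup Y) := hS ▸ S.isPGroup'
      exact h1.of_equiv Subgroup.topEquiv
    exact hpg.isNilpotent
  have hdvd : ∀ (ℓ : ℕ) [Fact ℓ.Prime] (S : Sylow ℓ Y), (S : Subgroup Y) ≠ ⊥ → ℓ ∣ Nat.card Y := by
    intro ℓ _ S hS
    by_contra hnd
    apply hS
    have hc : Nat.card (S : Subgroup Y) = 1 := by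
      rw [S.card_eq_multiplicity, Nat.factorization_eq_zero_of_not_dvd hnd, pow_zero]
    exact Subgroup.eq_bot_of_card_eq _ hc
  have hP'ne : (P' : Subgroup Y) ≠ ⊥ := by
    intro hb
    rw [hb, bot_sup_eq] at hsup
    exact hnotTop q' Q' hsup
  have hQ'ne : (Q' : Subgroup Y) ≠ ⊥ := by
    intro hb
    rw [hb, sup_bot_eq] at hsup
    exact hnotTop p' P' hsup
  have hprime_cases : ∀ ℓ : ℕ, ℓ.Prime → ℓ ∣ Nat.card Y → ℓ = p ∨ ℓ = q := by
    intro ℓ hℓ hd
    rw [hcard] at hd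
    rcases (Nat.Prime.dvd_mul hℓ).mp hd with h | h
    · left; exact (Nat.prime_dvd_prime_iff_eq hℓ hp).mp (hℓ.dvd_of_dvd_pow h)
    · right; exact (Nat.prime_dvd_prime_iff_eq hℓ hq).mp (hℓ.dvd_of_dvd_pow h)
  have hfp := (helper18_fact_pq p q t r hp hq hpq).1
  have hfq := (helper18_fact_pq p q t r hp hq hpq).2
  rcases hprime_cases p' hp' (hdvd p' P' hP'ne) with h1 | h1
  · rcases hprime_cases q' hq' (hdvd q' Q' hQ'ne) with h2 | h2
    · exact absurd (h1.trans h2.symm) hne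
    · subst h1; subst h2
      exfalso
      apply hY.1
      refine ⟨P', Q', hQn, Subgroup.isComplement'_of_coprime ?_ ?_⟩
      · rw [P'.card_eq_multiplicity, Q'.card_eq_multiplicity, hcard, hfp, hfq]
        exact mul_comm _ _
      · rw [P'.card_eq_multiplicity, Q'.card_eq_multiplicity]
        exact Nat.Coprime.pow _ _ ((Nat.coprime_primes hq' hp').mpr (Ne.symm hne))
  · rcases hprime_cases q' hq' (hdvd q' Q' hQ'ne) with h2 | h2
    · subst h1; subst h2
      haveI := hcyc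
      obtain ⟨g, hg⟩ := IsCyclic.exists_generator (α := ↥(P' : Subgroup Y))
      refine ⟨Q', (g : Y), hQn, Q'.isPGroup', ?_, ?_, hnil, hnn⟩
      · rw [Subgroup.orderOf_coe, orderOf_eq_card_of_forall_mem_zpowers hg, P'.card_eq_multiplicity,
          hcard, hfq]
      · have hle : (P' : Subgroup Y) ≤ Subgroup.zpowers (g : Y) := by
          intro x hx
          obtain ⟨k, hk⟩ := Subgroup.mem_zpowers_iff.mp (hg ⟨x, hx⟩)
          refine Subgroup.mem_zpowers_iff.mpr ⟨k, ?_⟩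
          have := congrArg Subtype.val hk
          simpa using this
        refine top_le_iff.mp ?_
        rw [← hsup, sup_comm]
        exact sup_le_sup_left hle _
    · exact absurd (h1.trans h2.symm) hne

end Cfsg.Agent.Lib.helper3.Gf
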