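import Mathlib

set_option autoImplicit false

namespace Cfsg.Agent.Lib.helper18

/-- the involution of a cyclic 2-group squares to one. -/
theorem hti_z_sq {G : Type*} [Group G] (x : G) (N : ℕ) (hN : 1 ≤ N) (hx : orderOf x = 2 ^ N) :
    (x ^ (2 ^ (N - 1))) ^ 2 = 1 := by
  rw [← pow_mul, ← pow_succ, show N - 1 + 1 = N by omega, ← hx, pow_orderOf_eq_one]

theorem hti_z_ne_one {G : Type*} [Group G] (x : G) (N : ℕ) (hN : 1 ≤ N) (hx : orderOf x = 2 ^ N) :
    x ^ (2 ^ (N - 1)) ≠ 1 := by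
  intro h
  have h1 := orderOf_dvd_of_pow_eq_one h
  rw [hx] at h1
  have h2 := Nat.le_of_dvd (by positivity) h1
  have h3 : 2 ^ (N - 1) < 2 ^ N := Nat.pow_lt_pow_right (by norm_num) (by omega)
  omega

/-- odd powers of the involution. -/
theorem hti_z_pow_odd {G : Type*} [Group G] (z : G) (hz : z ^ 2 = 1) (b : ℕ) (hb : Odd b) :
    z ^ b = z := by
  obtain ⟨b', rfl⟩ := hb
  rw [pow_succ, pow_mul, hz, one_pow, one_mul]

theorem hti_z_pow_even {G : Type*} [Group G] (z : G) (hz : z ^ 2 = 1) (b : ℕ) (hb : Even b) :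
    z ^ b = 1 := by
  obtain ⟨b', rfl⟩ := hb
  rw [← two_mul, pow_mul, hz, one_pow]

/-- every nontrivial element of a cyclic 2-group has a power equal to the involution. -/
theorem hti_pow_eq_z {G : Type*} [Group G] (x : G) (N : ℕ) (hN : 1 ≤ N) (hx : orderOf x = 2 ^ N)
    (c : G) (hc : c ∈ Subgroup.zpowers x) (hc1 : c ≠ 1) :
    ∃ m : ℕ, c ^ m = x ^ (2 ^ (N - 1)) := by
  have hfin : IsOfFinOrder x := by
    rw [← orderOf_pos_iff, hx]
    positivity
  rw [← hfin.mem_powers_iff_mem_zpowers] at hc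
  obtain ⟨j, rfl⟩ := (Submonoid.mem_powers_iff _ _).mp hc
  have hj0 : j ≠ 0 := by
    intro h
    rw [h, pow_zero] at hc1
    exact hc1 rfl
  obtain ⟨a, b, hb, hj⟩ := Nat.exists_eq_two_pow_mul_odd hj0
  have haN : a < N := by
    by_contra hcon
    have hNa : N ≤ a := by omega
    apply hc1
    rw [← orderOf_dvd_iff_pow_eq_one, hx, hj]
    exact Dvd.dvd.mul_right (pow_dvd_pow 2 hNa) b
  refine ⟨2 ^ (N - 1 - a), ?_⟩
  have e1 : j * 2 ^ (N - 1 - a) = 2 ^ (N - 1) * b := by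
    rw [hj, mul_assoc, mul_comm b, ← mul_assoc, ← pow_add]
    congr 2
    omega
  rw [← pow_mul, e1, pow_mul]
  exact hti_z_pow_odd _ (hti_z_sq x N hN hx) b hb

/-- the only involution of a cyclic 2-group. -/
theorem hti_unique_inv {G : Type*} [Group G] (x : G) (N : ℕ) (hN : 1 ≤ N) (hx : orderOf x = 2 ^ N)
    (c : G) (hc : c ∈ Subgroup.zpowers x) (hc1 : c ≠ 1) (hc2 : c ^ 2 = 1) :
    c = x ^ (2 ^ (N - 1)) := by
  obtain ⟨m, hm⟩ := hti_pow_eq_z x N hN hx c hc hc1
  rcases Nat.even_or_odd m with he | ho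
  · rw [hti_z_pow_even c hc2 m he] at hm
    exact absurd hm.symm (hti_z_ne_one x N hN hx)
  · rw [hti_z_pow_odd c hc2 m ho] at hm
    exact hm

theorem hti_index_two {G : Type*} [Group G] [Finite G] (x : G) (N : ℕ) (hx : orderOf x = 2 ^ N)
    (hcard : Nat.card G = 2 ^ (N + 1)) : (Subgroup.zpowers x).index = 2 := by
  have hCcard : Nat.card (Subgroup.zpowers x) = 2 ^ N := by rw [Nat.card_zpowers, hx]
  have := Subgroup.card_mul_index (Subgroup.zpowers x)
  rw [hCcard, hcard, pow_succ] at this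
  exact Nat.eq_of_mul_eq_mul_left (by positivity) this

/-- the involution of an index-two cyclic subgroup is central. -/
theorem hti_z_central {G : Type*} [Group G] [Finite G] (x : G) (N : ℕ) (hN : 1 ≤ N)
    (hx : orderOf x = 2 ^ N) (hcard : Nat.card G = 2 ^ (N + 1)) :
    x ^ (2 ^ (N - 1)) ∈ Subgroup.center G := by
  have hidx := hti_index_two x N hx hcard
  have hnorm : (Subgroup.zpowers x).Normal := Subgroup.normal_of_index_eq_two hidx
  have hzC : x ^ (2 ^ (N - 1)) ∈ Subgroup.zpowers x :=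
    Subgroup.pow_mem _ (Subgroup.mem_zpowers x) _
  rw [Subgroup.mem_center_iff]
  intro g
  have hmem : g * x ^ (2 ^ (N - 1)) * g⁻¹ ∈ Subgroup.zpowers x := hnorm.conj_mem _ hzC g
  have hne : g * x ^ (2 ^ (N - 1)) * g⁻¹ ≠ 1 := by
    intro h
    apply hti_z_ne_one x N hN hx
    have h' : x ^ (2 ^ (N - 1)) = g⁻¹ * (g * x ^ (2 ^ (N - 1)) * g⁻¹) * g := by group
    rw [h'] at *
    rw [h]
    group
  have hsq : (g * x ^ (2 ^ (N - 1)) * g⁻¹) ^ 2 = 1 := by
    rw [conj_pow, hti_z_sq x N hN hx]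
    group
  have := hti_unique_inv x N hN hx _ hmem hne hsq
  calc g * x ^ (2 ^ (N - 1)) = (g * x ^ (2 ^ (N - 1)) * g⁻¹) * g := by group
    _ = x ^ (2 ^ (N - 1)) * g := by rw [this]

/-- PIECE IDX -/
theorem ht_index_two {q : ℕ} [Fact q.Prime] {V : Type*} [AddCommGroup V] [Module (ZMod q) V] [Finite V]
    {G : Type*} [Group G] [Finite G] (ρ : G →* (V ≃ₗ[ZMod q] V))
    (hC : ∀ z ∈ Subgroup.center G, z ≠ 1 → ∀ v : V, ρ z v = v → v = 0)
    (hst : ∀ v w : V, v ≠ 0 → w ≠ 0 → Nat.card {g : G // ρ g v = v} = Nat.card {g : G // ρ g w = w})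
    (hns : ∃ v : V, v ≠ 0 ∧ ∃ g : G, g ≠ 1 ∧ ρ g v = v)
    (x : G) (N : ℕ) (hN : 1 ≤ N) (hx : orderOf x = 2 ^ N) (hcard : Nat.card G = 2 ^ (N + 1)) :
    (∀ v : V, ρ (x ^ (2 ^ (N - 1))) v = -v) ∧
      (∀ v : V, v ≠ 0 → Nat.card {g : G // ρ g v = v} = 2) := by
  classical
  have hz2 := hti_z_sq x N hN hx
  have hz1 := hti_z_ne_one x N hN hx
  have hzc := hti_z_central x N hN hx hcard
  have hidx := hti_index_two x N hx hcard
  have hnorm : (Subgroup.zpowers x).Normal := Subgroup.normal_of_index_eq_two hidx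
  have hfpf : ∀ v : V, ρ (x ^ (2 ^ (N - 1))) v = v → v = 0 := hC _ hzc hz1
  have hneg : ∀ v : V, ρ (x ^ (2 ^ (N - 1))) v = -v := by
    intro v
    have h1 : ρ (x ^ (2 ^ (N - 1))) (ρ (x ^ (2 ^ (N - 1))) v + v) =
        ρ (x ^ (2 ^ (N - 1))) v + v := by
      rw [map_add, ← LinearEquiv.mul_apply, ← map_mul, ← pow_two, hz2, map_one,
        LinearEquiv.coe_one, id_eq, add_comm]
    exact eq_neg_of_add_eq_zero_left (hfpf _ h1)
  refine ⟨hneg, ?_⟩
  have hS : ∀ v : V, v ≠ 0 → Nat.card {g : G // ρ g v = v} ≤ 2 := by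
    intro v hv
    let S : Subgroup G :=
      { carrier := {g | ρ g v = v}
        mul_mem' := by
          intro a b ha hb
          change ρ (a * b) v = v
          rw [map_mul, LinearEquiv.mul_apply, show ρ b v = v from hb]
          exact ha
        one_mem' := by
          change ρ 1 v = v
          rw [map_one, LinearEquiv.coe_one, id_eq]
        inv_mem' := by
          intro a ha
          change ρ a⁻¹ v = v
          have ha' : ρ a v = v := ha
          calc ρ a⁻¹ v = ρ a⁻¹ (ρ a v) := by rw [ha']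
            _ = v := by
              rw [← LinearEquiv.mul_apply, ← map_mul, inv_mul_cancel, map_one,
                LinearEquiv.coe_one, id_eq] }
    have hSmem : ∀ g : G, g ∈ S ↔ ρ g v = v := fun g => Iff.rfl
    have hpowfix : ∀ (c : G) (m : ℕ), ρ c v = v → ρ (c ^ m) v = v := by
      intro c m hcv
      exact (hSmem _).mp (Subgroup.pow_mem S ((hSmem c).mpr hcv) m)
    have hSC : Subgroup.zpowers x ⊓ S = ⊥ := by
      rw [eq_bot_iff]
      rintro c ⟨hc1, hc2⟩
      rw [Subgroup.mem_bot]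
      by_contra hne
      obtain ⟨m, hm⟩ := hti_pow_eq_z x N hN hx c hc1 hne
      have : ρ (x ^ (2 ^ (N - 1))) v = v := by
        rw [← hm]
        exact hpowfix c m hc2
      exact hv (hfpf v this)
    have h1 : (Subgroup.zpowers x ⊓ S).relIndex S = (Subgroup.zpowers x).relIndex S :=
      Subgroup.inf_relIndex_right _ _
    rw [hSC, Subgroup.relIndex_bot_left] at h1
    have h2 : (Subgroup.zpowers x).relIndex S ∣ (Subgroup.zpowers x).index :=
      Subgroup.relIndex_dvd_index_of_normal _ _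
    rw [← h1, hidx] at h2
    have h3 : Nat.card S = Nat.card {g : G // ρ g v = v} :=
      Nat.card_congr (Equiv.subtypeEquivRight hSmem)
    rw [← h3]
    exact Nat.le_of_dvd (by norm_num) h2
  obtain ⟨v₁, hv₁, g, hg1, hgv⟩ := hns
  have h2 : 2 ≤ Nat.card {g : G // ρ g v₁ = v₁} := by
    have hne : (⟨1, by rw [map_one, LinearEquiv.coe_one, id_eq]⟩ : {g : G // ρ g v₁ = v₁}) ≠ ⟨g, hgv⟩ := by
      intro h
      exact hg1 (congrArg Subtype.val h).symm
    have : Nontrivial {g : G // ρ g v₁ = v₁} := ⟨_, _, hne⟩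
    exact Finite.one_lt_card_iff_nontrivial.mpr this
  intro v hv
  rw [hst v v₁ hv hv₁]
  exact le_antisymm (hS v₁ hv₁) h2

end Cfsg.Agent.Lib.helper18
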