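import Mathlib
import Cfsg.Prelude.Def_CaseTheorems
import Cfsg.Agent.Lib.helper18.HTIDX

set_option autoImplicit false

namespace Cfsg.Agent.Lib.helper18

/-- conjugation formula on powers of `x`. -/
theorem htq_conj_pow {G : Type*} [Group G] (x y : G) (e : ℕ) (h : y * x * y⁻¹ = x ^ e) (i : ℕ) :
    y * x ^ i * y⁻¹ = x ^ (e * i) := by
  rw [← conj_pow, h, pow_mul]

/-- the square of an element of the outer coset. -/
theorem htq_sq {G : Type*} [Group G] (x y : G) (N : ℕ)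
    (hy2 : y * y = 1) (h : y * x * y⁻¹ = x ^ (2 ^ (N - 1) - 1)) (i : ℕ) :
    (x ^ i * y) ^ 2 = (x ^ (2 ^ (N - 1))) ^ i := by
  have h1 : (x ^ i * y) ^ 2 = x ^ i * (y * x ^ i * y⁻¹) * (y * y) := by
    rw [pow_two]
    group
  rw [h1, htq_conj_pow x y _ h i, hy2, mul_one, ← pow_add, ← pow_mul]
  congr 1
  have hpos : 1 ≤ 2 ^ (N - 1) := Nat.one_le_two_pow
  obtain ⟨c, hc⟩ : ∃ c, 2 ^ (N - 1) = c + 1 := ⟨2 ^ (N - 1) - 1, by omega⟩
  rw [hc, Nat.add_sub_cancel]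
  ring

/-- PIECE QD -/
theorem ht_qd {G : Type*} [Group G] [Finite G] (h : Cfsg.IsQuasiDihedral G) :
    ∃ (N : ℕ) (x : G), 3 ≤ N ∧ Nat.card G = 2 ^ (N + 1) ∧ orderOf x = 2 ^ N ∧
      (∀ t : G, t ^ 2 = 1 → t ≠ 1 → t ≠ x ^ (2 ^ (N - 1)) →
        ∃ u : G, t * u * t⁻¹ = u * x ^ (2 ^ (N - 1))) ∧
      Nat.card {t : G // t ^ 2 = 1 ∧ t ≠ 1 ∧ t ≠ x ^ (2 ^ (N - 1))} = 2 ^ (N - 1) := by
  classical
  obtain ⟨N, hN3, hcard, x, y, hx, hy, hconj⟩ := h
  have hN : 1 ≤ N := by omega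
  have hz2 := hti_z_sq x N hN hx
  have hz1 := hti_z_ne_one x N hN hx
  have hidx := hti_index_two x N hx hcard
  have hy2 : y * y = 1 := by
    rw [← pow_two, ← hy, pow_orderOf_eq_one]
  have hyinv : y⁻¹ = y := inv_eq_of_mul_eq_one_right hy2
  have hxfin : IsOfFinOrder x := by
    rw [← orderOf_pos_iff, hx]
    positivity
  -- powers of two bookkeeping
  have hp1 : 2 ^ (N - 1) = 2 * 2 ^ (N - 2) := by
    rw [← pow_succ']
    congr 1
    omega
  have hp2 : 2 ^ N = 2 * 2 ^ (N - 1) := by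
    rw [← pow_succ']
    congr 1
    omega
  have hp3 : 4 ≤ 2 ^ (N - 1) := by
    have : 2 ^ 2 ≤ 2 ^ (N - 1) := Nat.pow_le_pow_right (by norm_num) (by omega)
    omega
  -- y is not a power of x
  have hyC : y ∉ Subgroup.zpowers x := by
    intro hmem
    rw [← hxfin.mem_powers_iff_mem_zpowers] at hmem
    obtain ⟨j, hj⟩ := (Submonoid.mem_powers_iff _ _).mp hmem
    have hcomm : y * x * y⁻¹ = x := by
      rw [← hj]
      rw [← pow_succ, pow_succ', mul_inv_cancel_right]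
    rw [hcomm] at hconj
    have h1 : x ^ (2 ^ (N - 1) - 2) = 1 := by
      have h2 : x ^ (2 ^ (N - 1) - 1) = x ^ (2 ^ (N - 1) - 2) * x := by
        rw [← pow_succ]
        congr 1
        omega
      rw [h2] at hconj
      exact (mul_eq_right.mp hconj.symm)
    have h3 := orderOf_dvd_of_pow_eq_one h1
    rw [hx] at h3
    have h4 := Nat.le_of_dvd (by omega) h3
    omega
  -- every element outside the cyclic subgroup is x^i * y with i < 2^N
  have hout : ∀ t : G, t ∉ Subgroup.zpowers x → ∃ i : ℕ, i < 2 ^ N ∧ t = x ^ i * y := by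
    intro t ht
    have hmem : t * y ∈ Subgroup.zpowers x := by
      rw [Subgroup.mul_mem_iff_of_index_two hidx]
      exact ⟨fun h => absurd h ht, fun h => absurd h hyC⟩
    rw [← hxfin.mem_powers_iff_mem_zpowers] at hmem
    obtain ⟨j, hj⟩ := (Submonoid.mem_powers_iff _ _).mp hmem
    refine ⟨j % 2 ^ N, Nat.mod_lt _ (by positivity), ?_⟩
    rw [← hx, pow_mod_orderOf, hj, mul_assoc, hy2, mul_one]
  have hzpow : ∀ i : ℕ, (x ^ i * y) ^ 2 = (x ^ (2 ^ (N - 1))) ^ i :=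
    htq_sq x y N hy2 hconj
  have hnotC : ∀ i : ℕ, x ^ i * y ∉ Subgroup.zpowers x := by
    intro i hmem
    apply hyC
    have : y = (x ^ i)⁻¹ * (x ^ i * y) := by group
    rw [this]
    exact Subgroup.mul_mem _ (Subgroup.inv_mem _ (Subgroup.pow_mem _ (Subgroup.mem_zpowers x) _)) hmem
  have hzC : x ^ (2 ^ (N - 1)) ∈ Subgroup.zpowers x :=
    Subgroup.pow_mem _ (Subgroup.mem_zpowers x) _
  -- the involutions different from z lie outside the cyclic subgroup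
  have hTout : ∀ t : G, t ^ 2 = 1 → t ≠ 1 → t ≠ x ^ (2 ^ (N - 1)) → t ∉ Subgroup.zpowers x := by
    intro t ht2 ht1 htz hmem
    exact htz (hti_unique_inv x N hN hx t hmem ht1 ht2)
  refine ⟨N, x, hN3, hcard, hx, ?_, ?_⟩
  · intro t ht2 ht1 htz
    obtain ⟨i, -, rfl⟩ := hout t (hTout t ht2 ht1 htz)
    refine ⟨x ^ (2 ^ (N - 2)), ?_⟩
    have h1 : x ^ i * y * x ^ (2 ^ (N - 2)) * (x ^ i * y)⁻¹ =
        x ^ i * (y * x ^ (2 ^ (N - 2)) * y⁻¹) * (x ^ i)⁻¹ := by group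
    rw [h1, htq_conj_pow x y _ hconj, ← pow_add, ← pow_add, mul_inv_eq_iff_eq_mul, ← pow_add]
    rw [pow_eq_pow_iff_modEq, hx]
    -- i + (2^(N-1) - 1) * 2^(N-2) ≡ 2^(N-2) + 2^(N-1) + i  mod 2^N
    obtain ⟨c, hc⟩ : ∃ c, 2 ^ (N - 2) = 2 * c := by
      refine ⟨2 ^ (N - 3), ?_⟩
      rw [← pow_succ']
      congr 1
      omega
    have e1 : i + (2 ^ (N - 1) - 1) * 2 ^ (N - 2) + 2 ^ N = 2 ^ (N - 2) + 2 ^ (N - 1) + i + 2 ^ N * c := by
      obtain ⟨d, hd⟩ : ∃ d, 2 ^ (N - 1) = d + 1 := ⟨2 ^ (N - 1) - 1, by omega⟩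
      rw [hd, Nat.add_sub_cancel]
      have hd' : d = 2 ^ (N - 1) - 1 := by omega
      have e2 : d * 2 ^ (N - 2) + 2 ^ (N - 2) = 2 ^ (N - 1) * 2 ^ (N - 2) := by
        rw [hd]
        ring
      have e3 : 2 ^ (N - 1) * 2 ^ (N - 2) = 2 ^ N * c := by
        rw [hc, hp2]
        ring
      have e4 : 2 ^ N = 2 ^ (N - 1) + 2 ^ (N - 1) := by rw [hp2]; ring
      have e5 : d + 1 = 2 ^ (N - 1) := hd.symm
      rw [e5]
      omega
    change (i + (2 ^ (N - 1) - 1) * 2 ^ (N - 2)) % 2 ^ N = (2 ^ (N - 2) + 2 ^ (N - 1) + i) % 2 ^ N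
    rw [← Nat.add_mod_right (i + (2 ^ (N - 1) - 1) * 2 ^ (N - 2)) (2 ^ N), e1,
      Nat.add_mul_mod_self_left]
  · have hmemT : ∀ j : ℕ, (x ^ (2 * j) * y) ^ 2 = 1 ∧ x ^ (2 * j) * y ≠ 1 ∧
        x ^ (2 * j) * y ≠ x ^ (2 ^ (N - 1)) := by
      intro j
      refine ⟨?_, ?_, ?_⟩
      · rw [hzpow, pow_mul, hz2, one_pow]
      · intro h
        exact hnotC (2 * j) (by rw [h]; exact Subgroup.one_mem _)
      · intro h
        exact hnotC (2 * j) (by rw [h]; exact hzC)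
    have eq : Fin (2 ^ (N - 1)) ≃ {t : G // t ^ 2 = 1 ∧ t ≠ 1 ∧ t ≠ x ^ (2 ^ (N - 1))} := by
      refine Equiv.ofBijective (fun j => ⟨x ^ (2 * j.val) * y, hmemT j.val⟩) ⟨?_, ?_⟩
      · intro j j' hjj
        have h1 := congrArg Subtype.val hjj
        simp only at h1
        have h2 : x ^ (2 * j.val) = x ^ (2 * j'.val) := mul_right_cancel h1
        rw [pow_eq_pow_iff_modEq, hx] at h2
        have hj1 := j.isLt
        have hj2 := j'.isLt
        have h3 := Nat.ModEq.eq_of_lt_of_lt h2 (by omega) (by omega)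
        exact Fin.ext (by omega)
      · rintro ⟨t, ht2, ht1, htz⟩
        obtain ⟨i, hi, rfl⟩ := hout t (hTout t ht2 ht1 htz)
        rw [hzpow] at ht2
        rcases Nat.even_or_odd i with he | ho
        · obtain ⟨j, hj⟩ := he
          refine ⟨⟨j, by omega⟩, ?_⟩
          apply Subtype.ext
          simp only
          rw [hj, two_mul]
        · exfalso
          rw [hti_z_pow_odd _ hz2 i ho] at ht2
          exact hz1 ht2
    rw [← Nat.card_congr eq, Nat.card_fin]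

end Cfsg.Agent.Lib.helper18
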