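import Mathlib
import Cfsg.Agent.Lib.helper86.IvDefs

/-!
S3928 split project (architect helper86), piece SCHUR, core: the Schur bound with the statements of
the pieces COMM and ABEL as hypotheses.
-/

set_option autoImplicit false

namespace Cfsg.Agent.Lib.helper86.IV

/-- SCHUR core: `|G| ≤ (m!)^m * Q^(Q^3+1)` from the bound on the number of commutators (COMM), the
bound on the abelianization (ABEL) and `|G : Z(G)| ≤ Q`. -/
theorem helper18_iv_schur_core {G : Type*} [Group G] [Finite G] (m Q : ℕ)
    (hcomm : Nat.card (commutatorSet G) ≤ (Subgroup.center G).index ^ 2)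
    (habel : (commutator G).index ≤ (Nat.factorial m) ^ m)
    (hQ : (Subgroup.center G).index ≤ Q) :
    Nat.card G ≤ (Nat.factorial m) ^ m * Q ^ (Q ^ 3 + 1) := by
  have hi : 0 < (Subgroup.center G).index :=
    Nat.pos_of_ne_zero Subgroup.index_ne_zero_of_finite
  have hdvd : Nat.card (commutator G) ∣
      (Subgroup.center G).index ^ ((Subgroup.center G).index * Nat.card (commutatorSet G) + 1) :=
    Subgroup.card_commutator_dvd_index_center_pow G
  have h1 : Nat.card (commutator G) ≤
      (Subgroup.center G).index ^ ((Subgroup.center G).index * Nat.card (commutatorSet G) + 1) :=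
    Nat.le_of_dvd (pow_pos hi _) hdvd
  have hQ1 : 1 ≤ Q := le_trans hi hQ
  have h2 : (Subgroup.center G).index ^
      ((Subgroup.center G).index * Nat.card (commutatorSet G) + 1) ≤ Q ^ (Q ^ 3 + 1) := by
    calc (Subgroup.center G).index ^ ((Subgroup.center G).index * Nat.card (commutatorSet G) + 1)
        ≤ Q ^ ((Subgroup.center G).index * Nat.card (commutatorSet G) + 1) :=
          Nat.pow_le_pow_left hQ _
      _ ≤ Q ^ (Q ^ 3 + 1) := by
        apply Nat.pow_le_pow_right hQ1
        have h3 : (Subgroup.center G).index * Nat.card (commutatorSet G) ≤ Q * Q ^ 2 :=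
          Nat.mul_le_mul hQ (le_trans hcomm (Nat.pow_le_pow_left hQ 2))
        have e : Q * Q ^ 2 = Q ^ 3 := by ring
        omega
  have hcard : Nat.card G = Nat.card (commutator G) * (commutator G).index :=
    (Subgroup.card_mul_index _).symm
  rw [hcard, mul_comm]
  exact Nat.mul_le_mul habel (le_trans h1 h2)

end Cfsg.Agent.Lib.helper86.IV
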