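import Mathlib
import Cfsg.Agent.Lib.helper86.IvDefs
import Cfsg.Agent.Lib.helper18.IvSCHURcore
import Cfsg.Agent.Lib.helper98.IvGEN
import Cfsg.Agent.Lib.helper35.IvCOMM
import Cfsg.Agent.Lib.helper35.IvABGEN

/-!
S3928 split project (architect helper86), piece SCHUR (`iv_schur`), with own prefixed copies of the
pieces ORD and ABEL.
-/

set_option autoImplicit false

namespace Cfsg.Agent.Lib.helper86.IV

/-- ORD (own copy): an element of `ivI α` has order at most `|ivI α|`. -/
theorem helper18_iv_order_le {G : Type*} [Group G] [Finite G] (α : MulAut G) (x : G)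
    (hx : x ∈ ivI α) : orderOf x ≤ Nat.card (ivI α) := by
  have hsub : ((Subgroup.zpowers x : Subgroup G) : Set G) ⊆ ivI α := by
    intro y hy
    refine ⟨Odd.of_dvd_nat hx.1 (orderOf_dvd_of_mem_zpowers hy), ?_⟩
    obtain ⟨k, rfl⟩ := Subgroup.mem_zpowers_iff.mp hy
    rw [map_zpow, hx.2, inv_zpow]
  have h1 : Nat.card ((Subgroup.zpowers x : Subgroup G) : Set G) ≤ Nat.card (ivI α) :=
    Nat.card_mono (Set.toFinite _) hsub
  rw [← Nat.card_zpowers]
  exact h1

/-- ABEL (own copy): the abelianization of a group generated by `≤ m` elements of orders `≤ m`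
has order `≤ (m!) ^ m`. -/
theorem helper18_iv_abelianization_card {G : Type*} [Group G] [Finite G] (S : Set G) (m : ℕ)
    (hS : Subgroup.closure S = ⊤) (hc : Nat.card S ≤ m) (ho : ∀ s ∈ S, orderOf s ≤ m) :
    (commutator G).index ≤ (Nat.factorial m) ^ m := by
  classical
  have hfin : S.Finite := Set.toFinite S
  let O : Finset (Abelianization G) := hfin.toFinset.image (Abelianization.of : G → Abelianization G)
  have hOcard : O.card ≤ m := by
    refine le_trans Finset.card_image_le ?_
    rw [← Nat.card_eq_card_finite_toFinset hfin]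
    exact hc
  have hOS : (O : Set (Abelianization G)) = (Abelianization.of : G → Abelianization G) '' S := by
    ext y
    simp [O]
  have hcl : Subgroup.closure (O : Set (Abelianization G)) = ⊤ := by
    rw [hOS, ← MonoidHom.map_closure, hS]
    exact Subgroup.map_top_of_surjective _ (QuotientGroup.mk'_surjective (commutator G))
  have hpow : ∀ o ∈ O, o ^ (Nat.factorial m) = 1 := by
    intro o ho'
    obtain ⟨s, hs, rfl⟩ := Finset.mem_image.mp ho'
    have hsS : s ∈ S := hfin.mem_toFinset.mp hs
    have hd : orderOf s ∣ Nat.factorial m := Nat.dvd_factorial (orderOf_pos s) (ho s hsS)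
    rw [← map_pow, orderOf_dvd_iff_pow_eq_one.mp hd, map_one]
  have hab := iv_ab_gen_card O (Nat.factorial m) (Nat.factorial_pos m)
    (fun a _ b _ => mul_comm a b) hpow
  rw [hcl, Subgroup.card_top] at hab
  have h2 : (commutator G).index = Nat.card (Abelianization G) := rfl
  rw [h2]
  exact le_trans hab (Nat.pow_le_pow_right (Nat.factorial_pos m) hOcard)

/-- SCHUR : `|G|` is bounded in terms of `m` and `|G : Z(G)|`. -/
theorem iv_schur {G : Type*} [Group G] [Finite G] (α : MulAut G) (h : IvHyp α) (m Q : ℕ)
    (hm : Nat.card (ivI α) ≤ m) (hQ : (Subgroup.center G).index ≤ Q) :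
    Nat.card G ≤ (Nat.factorial m) ^ m * Q ^ (Q ^ 3 + 1) :=
  helper18_iv_schur_core m Q iv_commset_card
    (helper18_iv_abelianization_card (ivI α) m (iv_gen α h) hm
      (fun s hs => le_trans (helper18_iv_order_le α s hs) hm)) hQ

end Cfsg.Agent.Lib.helper86.IV
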