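import Mathlib
import Cfsg.Agent.Lib.helper18.SylData

/-!
There is no finite simple group of order `19 * m` with `m` a proper divisor of `9240`, `m ≠ 1`.
The proof is the Sylow sieve of `SylSieve`, checked by the kernel.
-/

set_option autoImplicit false

namespace Cfsg.Agent.Lib.helper18

/-- the primes (among those of `175560`) dividing `N` exactly once -/
def jL (N : ℕ) : List ℕ := [2, 3, 5, 7, 11, 19].filter (fun r => N % r = 0 ∧ N % (r * r) ≠ 0)

set_option maxRecDepth 100000 in
theorem j1_cert : ∀ m ∈ (List.range 9240).filter (fun m => 9240 % m = 0), m ≠ 1 →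
    ∀ t ∈ sCands (19 * m) (jL (19 * m)), sBad (19 * m) t := by
  decide +kernel

theorem jL_spec (N : ℕ) (hN : 19 < N) :
    ∀ r ∈ jL N, r.Prime ∧ r ∣ N ∧ ¬ r ^ 2 ∣ N ∧ r ≠ N := by
  intro r hr
  unfold jL at hr
  rw [List.mem_filter, decide_eq_true_eq] at hr
  obtain ⟨hr1, hr2, hr3⟩ := hr
  refine ⟨?_, Nat.dvd_of_mod_eq_zero hr2, ?_, ?_⟩
  · simp only [List.mem_cons, List.not_mem_nil, or_false] at hr1
    rcases hr1 with rfl | rfl | rfl | rfl | rfl | rfl <;> norm_num
  · intro h
    apply hr3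
    rw [pow_two] at h
    exact Nat.mod_eq_zero_of_dvd h
  · simp only [List.mem_cons, List.not_mem_nil, or_false] at hr1
    rcases hr1 with rfl | rfl | rfl | rfl | rfl | rfl <;> omega

theorem jL_nodup (N : ℕ) : (jL N).Nodup := List.Nodup.filter _ (by decide)

/-- no simple group has order `19 * m` for a proper divisor `m ≠ 1` of `9240` -/
theorem no_simple_nineteen {S : Type*} [Group S] [Finite S] [IsSimpleGroup S] (m : ℕ)
    (hm : m ∣ 9240) (hm1 : m ≠ 1) (hm2 : m ≠ 9240) (hS : Nat.card S = 19 * m) : False := by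
  have hm0 : 0 < m := Nat.pos_of_ne_zero (by rintro rfl; simp at hm)
  have hlt : m < 9240 := lt_of_le_of_ne (Nat.le_of_dvd (by norm_num) hm) hm2
  have hcert := j1_cert m (List.mem_filter.mpr ⟨List.mem_range.mpr hlt, by
    rw [decide_eq_true_eq]
    exact Nat.mod_eq_zero_of_dvd hm⟩) hm1
  have hspec := jL_spec (19 * m) (by omega)
  exact sieve_sound (19 * m) (by omega) (jL (19 * m)) (jL_nodup _)
    (fun r hr => (hspec r hr).1.two_le) hcert _ _ _
    (sylSpec_of_simple (19 * m) hS (jL (19 * m)) hspec)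

end Cfsg.Agent.Lib.helper18
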