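import Mathlib
import Cfsg.Agent.Lib.helper18.J1Orders

/-!
A group of order dividing `175560` and divisible by `19` is simple of order `175560` or has a
normal Sylow `19`-subgroup.
-/

set_option autoImplicit false

namespace Cfsg.Agent.Lib.helper18

open Cfsg.Agent.Lib.helper75

/-- if a normal subgroup of order divisible by `19` has a normal Sylow `19`-subgroup, so has
the group (when `19 ^ 2` does not divide its order) -/
theorem j1_lift {H : Type*} [Group H] [Finite H] (h2 : ¬ 19 ^ 2 ∣ Nat.card H)
    (M : Subgroup H) [M.Normal] (h19 : 19 ∣ Nat.card M)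
    (hM : ∀ P' : Sylow 19 M, (P' : Subgroup M).Normal) :
    ∀ P : Sylow 19 H, (P : Subgroup H).Normal := by
  have hf : Fact (Nat.Prime 19) := ⟨by norm_num⟩
  have h1 : 19 ∣ Nat.card H := h19.trans (Subgroup.card_subgroup_dvd_card M)
  have hP : ∀ P : Sylow 19 H, Nat.card P = 19 := fun P => sylow_card_eq_prime h1 h2 P
  have h2M : ¬ 19 ^ 2 ∣ Nat.card M :=
    fun h => h2 (h.trans (Subgroup.card_subgroup_dvd_card M))
  obtain ⟨P', -⟩ : ∃ P' : Sylow 19 M, P' = Classical.arbitrary _ := ⟨_, rfl⟩
  have hP' : Nat.card P' = 19 := sylow_card_eq_prime h19 h2M P'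
  have hchar : (P' : Subgroup M).Characteristic := Sylow.characteristic_of_normal P' (hM P')
  have hn : ((P' : Subgroup M).map M.subtype).Normal :=
    ConjAct.normal_of_characteristic_of_normal
  have hcard : Nat.card ((P' : Subgroup M).map M.subtype) = 19 := by
    rw [Subgroup.card_map_of_injective M.subtype_injective]
    exact hP'
  have hpg : IsPGroup 19 ((P' : Subgroup M).map M.subtype) :=
    IsPGroup.of_card (n := 1) (by rw [hcard, pow_one])
  obtain ⟨Q, hQ⟩ := hpg.exists_le_sylow
  have hQeq : (P' : Subgroup M).map M.subtype = (Q : Subgroup H) :=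
    Subgroup.eq_of_le_of_card_ge hQ (by rw [hcard, hP Q])
  have hQn : (Q : Subgroup H).Normal := hQeq ▸ hn
  intro P
  have hu := Sylow.unique_of_normal Q hQn
  have hPQ : P = Q := Subsingleton.elim _ _
  rw [hPQ]
  exact hQn

/-- a prime power dividing `9240` is less than `19` -/
theorem prime_pow_lt (q k : ℕ) (hq : q.Prime) (h : q ^ k ∣ 9240) : q ^ k < 19 := by
  rcases Nat.eq_zero_or_pos k with hk | hk
  · rw [hk, pow_zero]; norm_num
  have hq9 : q ∣ 9240 := (dvd_pow_self q hk.ne').trans h
  have h9 : (9240 : ℕ) = 2 ^ 3 * 3 * 5 * 7 * 11 := by norm_num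
  rw [h9] at hq9
  have hcases : q = 2 ∨ q = 3 ∨ q = 5 ∨ q = 7 ∨ q = 11 := by
    rcases hq.dvd_mul.mp hq9 with h1 | h1
    · rcases hq.dvd_mul.mp h1 with h1 | h1
      · rcases hq.dvd_mul.mp h1 with h1 | h1
        · rcases hq.dvd_mul.mp h1 with h1 | h1
          · left
            exact (Nat.prime_dvd_prime_iff_eq hq Nat.prime_two).mp (hq.dvd_of_dvd_pow h1)
          · right; left
            exact (Nat.prime_dvd_prime_iff_eq hq (by norm_num)).mp h1
        · right; right; left
          exact (Nat.prime_dvd_prime_iff_eq hq (by norm_num)).mp h1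
      · right; right; right; left
        exact (Nat.prime_dvd_prime_iff_eq hq (by norm_num)).mp h1
    · right; right; right; right
      exact (Nat.prime_dvd_prime_iff_eq hq (by norm_num)).mp h1
  rcases hcases with rfl | rfl | rfl | rfl | rfl
  · have hk4 : k < 4 := by
      by_contra hge
      have := (pow_dvd_pow 2 (not_lt.mp hge)).trans h
      norm_num at this
    interval_cases k
    all_goals norm_num
  · have hk2 : k < 2 := by
      by_contra hge
      have := (pow_dvd_pow 3 (not_lt.mp hge)).trans h
      norm_num at this
    interval_cases k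
    all_goals norm_num
  · have hk2 : k < 2 := by
      by_contra hge
      have := (pow_dvd_pow 5 (not_lt.mp hge)).trans h
      norm_num at this
    interval_cases k
    all_goals norm_num
  · have hk2 : k < 2 := by
      by_contra hge
      have := (pow_dvd_pow 7 (not_lt.mp hge)).trans h
      norm_num at this
    interval_cases k
    all_goals norm_num
  · have hk2 : k < 2 := by
      by_contra hge
      have := (pow_dvd_pow 11 (not_lt.mp hge)).trans h
      norm_num at this
    interval_cases k
    all_goals norm_num

/-- an element of order `19` normalizing a subgroup with fewer than `19` elements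
centralizes it -/
theorem centralizes_of_small {H : Type*} [Group H] [Finite H] (R : Subgroup H)
    (hR : Nat.card R < 19) (y : H) (hy : orderOf y = 19)
    (hyN : y ∈ Subgroup.normalizer (R : Set H)) : y ∈ Subgroup.centralizer (R : Set H) := by
  have h1 : orderOf (R.normalizerMonoidHom ⟨y, hyN⟩) ∣ 19 := by
    have h := orderOf_map_dvd R.normalizerMonoidHom (⟨y, hyN⟩ : Subgroup.normalizer (R : Set H))
    rwa [Subgroup.orderOf_mk, hy] at h
  have h2 : orderOf (R.normalizerMonoidHom ⟨y, hyN⟩) ∣ (Nat.card R).factorial := by
    have h3 := orderOf_dvd_natCard (R.normalizerMonoidHom ⟨y, hyN⟩)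
    have h4 : Nat.card (MulAut R) ∣ (Nat.card R).factorial := by
      have h5 := Subgroup.card_dvd_of_injective (MulAut.toPerm R)
        (fun a b hab => MulEquiv.toEquiv_injective hab)
      rwa [Nat.card_perm] at h5
    exact h3.trans h4
  have h19 : Nat.Prime 19 := by norm_num
  have h6 : orderOf (R.normalizerMonoidHom ⟨y, hyN⟩) = 1 := by
    rcases (Nat.dvd_prime h19).mp h1 with h | h
    · exact h
    · exfalso
      rw [h] at h2
      have := (h19.dvd_factorial).mp h2
      omega
  have h7 : (⟨y, hyN⟩ : Subgroup.normalizer (R : Set H)) ∈ R.normalizerMonoidHom.ker :=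
    MonoidHom.mem_ker.mpr (orderOf_eq_one_iff.mp h6)
  rw [Subgroup.normalizerMonoidHom_ker, Subgroup.mem_subgroupOf] at h7
  exact h7

/-- a group with a normal subgroup of index `19` and order dividing `9240` has a normal
Sylow `19`-subgroup -/
theorem j1_split {H : Type*} [Group H] [Finite H] (N : Subgroup H) [N.Normal]
    (hN : Nat.card N ∣ 9240) (hH : Nat.card H = 19 * Nat.card N) :
    ∀ P : Sylow 19 H, (P : Subgroup H).Normal := by
  have hf : Fact (Nat.Prime 19) := ⟨by norm_num⟩
  have h19 : Nat.Prime 19 := by norm_num
  have hN19 : ¬ 19 ∣ Nat.card N := by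
    intro h
    have := h.trans hN
    norm_num at this
  have hN0 : Nat.card N ≠ 0 := Nat.card_pos.ne'
  have h1 : 19 ∣ Nat.card H := by rw [hH]; exact Dvd.intro _ rfl
  have h2 : ¬ 19 ^ 2 ∣ Nat.card H := by
    rw [hH, pow_two]
    intro h
    exact hN19 ((Nat.mul_dvd_mul_iff_left (by norm_num)).mp h)
  have hP : ∀ P : Sylow 19 H, Nat.card P = 19 := fun P => sylow_card_eq_prime h1 h2 P
  have hidx : N.index = 19 := by
    have h3 := Subgroup.card_mul_index N
    rw [hH, mul_comm] at h3
    exact Nat.eq_of_mul_eq_mul_right (Nat.pos_of_ne_zero hN0) h3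
  intro P
  have hcent : Subgroup.centralizer ((P : Subgroup H) : Set H) = ⊤ := by
    rw [← Subgroup.index_eq_one, Nat.eq_one_iff_not_exists_prime_dvd]
    intro q hq hdvd
    have hfq : Fact q.Prime := ⟨hq⟩
    by_cases hq19 : q = 19
    · subst hq19
      have h3 := Subgroup.index_dvd_of_le (sylow_le_centralizer_self 19 P (hP P))
      exact P.not_dvd_index (hdvd.trans h3)
    · have hqH : q ∣ Nat.card H := hdvd.trans (Subgroup.index_dvd_card _)
      have hcop : Nat.Coprime q 19 := (Nat.coprime_primes hq h19).mpr hq19
      have hqN : q ∣ Nat.card N := by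
        rw [hH] at hqH
        exact hcop.dvd_of_dvd_mul_left hqH
      obtain ⟨Q', -⟩ : ∃ Q' : Sylow q N, Q' = Classical.arbitrary _ := ⟨_, rfl⟩
      obtain ⟨R, hRdef⟩ : ∃ R : Subgroup H, R = (Q' : Subgroup N).map N.subtype := ⟨_, rfl⟩
      have hRcard : Nat.card R = q ^ (Nat.card N).factorization q := by
        rw [hRdef, Subgroup.card_map_of_injective N.subtype_injective]
        exact Q'.card_eq_multiplicity
      have hRlt : Nat.card R < 19 := by
        rw [hRcard]
        apply prime_pow_lt q _ hq
        exact (Nat.ordProj_dvd _ _).trans hN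
      have hfr := Sylow.normalizer_sup_eq_top Q'
      rw [← hRdef] at hfr
      have h19N : 19 ∣ Nat.card (Subgroup.normalizer (R : Set H)) := by
        have h3 := Subgroup.relIndex_sup_right (Subgroup.normalizer (R : Set H)) N
        rw [hfr, Subgroup.relIndex_top_right, hidx] at h3
        have h4 := Subgroup.relIndex_dvd_card N (Subgroup.normalizer (R : Set H))
        rwa [← h3] at h4
      obtain ⟨y, hyN, hy⟩ := exists_mem_orderOf_prime (Subgroup.normalizer (R : Set H)) 19 h19N
      have hyC := centralizes_of_small R hRlt y hy hyN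
      obtain ⟨P1, -, hP1⟩ := exists_sylow_of_orderOf_prime 19 hP y hy
      have hRle : R ≤ Subgroup.centralizer ((P1 : Subgroup H) : Set H) := by
        intro x hx
        apply hP1
        exact (Subgroup.mem_centralizer_iff.mp hyC x hx).symm
      have hRdvd : Nat.card R ∣ Nat.card (Subgroup.centralizer ((P : Subgroup H) : Set H)) := by
        rw [sylC_eq 19 P, ← sylC_eq 19 P1]
        exact Subgroup.card_dvd_of_le hRle
      have hmul := Subgroup.card_mul_index (Subgroup.centralizer ((P : Subgroup H) : Set H))
      have h5 : q ^ ((Nat.card N).factorization q + 1) ∣ 19 * Nat.card N := by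
        rw [← hH, ← hmul, pow_succ, ← hRcard]
        exact Nat.mul_dvd_mul hRdvd hdvd
      have h6 : q ^ ((Nat.card N).factorization q + 1) ∣ Nat.card N :=
        (Nat.Coprime.pow_left _ hcop).dvd_of_dvd_mul_left h5
      exact Nat.pow_succ_factorization_not_dvd hN0 hq h6
  have hnorm : Subgroup.normalizer ((P : Subgroup H) : Set H) = ⊤ := by
    rw [eq_top_iff, ← hcent]
    exact Subgroup.centralizer_le_normalizer _
  exact Subgroup.normalizer_eq_top_iff.mp hnorm

universe u

/-- a group of order dividing `175560` and divisible by `19` is simple of order `175560` or has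
a normal Sylow `19`-subgroup -/
theorem j1_main : ∀ (k : ℕ) (H : Type u) [Group H] [Finite H], Nat.card H = k → k ∣ 175560 →
    19 ∣ k → (IsSimpleGroup H ∧ k = 175560) ∨ ∀ P : Sylow 19 H, (P : Subgroup H).Normal := by
  intro k
  induction k using Nat.strong_induction_on with
  | _ k ih =>
    intro H _ _ hk hdvd h19
    have hf : Fact (Nat.Prime 19) := ⟨by norm_num⟩
    have h19p : Nat.Prime 19 := by norm_num
    have hkle : k ≤ 175560 := Nat.le_of_dvd (by norm_num) hdvd
    have h1 : 19 ∣ Nat.card H := by rw [hk]; exact h19
    have h2 : ¬ 19 ^ 2 ∣ Nat.card H := by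
      intro h
      rw [hk] at h
      have := h.trans hdvd
      norm_num at this
    obtain ⟨m, hm⟩ := h19
    have hmdvd : m ∣ 9240 := by
      have h3 : 19 * m ∣ 19 * 9240 := by
        rw [← hm]
        exact hdvd
      exact Nat.dvd_of_mul_dvd_mul_left (by norm_num) h3
    by_cases hs : IsSimpleGroup H
    · by_cases hm2 : m = 9240
      · left
        exact ⟨hs, by omega⟩
      · by_cases hm1 : m = 1
        · right
          intro P
          have hPc : Nat.card P = 19 := sylow_card_eq_prime h1 h2 P
          have htop : (P : Subgroup H) = ⊤ := by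
            apply Subgroup.eq_top_of_card_eq
            rw [hPc, hk, hm, hm1]
          rw [htop]
          infer_instance
        · exfalso
          exact no_simple_nineteen m hmdvd hm1 hm2 (hk.trans hm)
    · right
      have hnt : Nontrivial H := by
        rw [← Finite.one_lt_card_iff_nontrivial, hk]
        have : 0 < m := Nat.pos_of_ne_zero (by rintro rfl; simp at hmdvd)
        omega
      obtain ⟨N, hNn, hNb, hNt⟩ : ∃ N : Subgroup H, N.Normal ∧ N ≠ ⊥ ∧ N ≠ ⊤ := by
        by_contra hno
        apply hs
        refine { eq_bot_or_eq_top_of_normal := ?_ }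
        intro N hN
        by_contra h
        rw [not_or] at h
        exact hno ⟨N, hN, h.1, h.2⟩
      have hNlt : Nat.card N < k := by
        rw [← hk]
        refine lt_of_le_of_ne (Subgroup.card_le_card_group N) ?_
        intro h
        exact hNt (Subgroup.eq_top_of_card_eq N h)
      have hNdvd : Nat.card N ∣ k := by
        rw [← hk]
        exact Subgroup.card_subgroup_dvd_card N
      by_cases hN19 : 19 ∣ Nat.card N
      · rcases ih (Nat.card N) hNlt N rfl (hNdvd.trans hdvd) hN19 with h | h
        · omega
        · exact j1_lift h2 N hN19 h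
      · have hmul := Subgroup.card_eq_card_quotient_mul_card_subgroup N
        have hN1 : 1 < Nat.card N := (Subgroup.one_lt_card_iff_ne_bot N).mpr hNb
        have hq19 : 19 ∣ Nat.card (H ⧸ N) := by
          rw [hmul] at h1
          rcases h19p.dvd_mul.mp h1 with h | h
          · exact h
          · exact absurd h hN19
        have hqpos : 0 < Nat.card (H ⧸ N) := Nat.card_pos
        have hqlt : Nat.card (H ⧸ N) < k := by
          rw [← hk, hmul]
          calc Nat.card (H ⧸ N) = Nat.card (H ⧸ N) * 1 := (mul_one _).symm
            _ < Nat.card (H ⧸ N) * Nat.card N := Nat.mul_lt_mul_of_pos_left hN1 hqpos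
        have hqdvd : Nat.card (H ⧸ N) ∣ k := by
          rw [← hk, hmul]
          exact Dvd.intro _ rfl
        have hq2 : ¬ 19 ^ 2 ∣ Nat.card (H ⧸ N) := by
          intro h
          apply h2
          rw [hmul]
          exact Dvd.dvd.mul_right h _
        rcases ih (Nat.card (H ⧸ N)) hqlt (H ⧸ N) rfl (hqdvd.trans hdvd) hq19 with h | h
        · omega
        · obtain ⟨Q, -⟩ : ∃ Q : Sylow 19 (H ⧸ N), Q = Classical.arbitrary _ := ⟨_, rfl⟩
          have hQc : Nat.card Q = 19 := sylow_card_eq_prime hq19 hq2 Q
          have hQn : (Q : Subgroup (H ⧸ N)).Normal := h Q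
          obtain ⟨M, hMdef⟩ : ∃ M : Subgroup H,
            M = (Q : Subgroup (H ⧸ N)).comap (QuotientGroup.mk' N) := ⟨_, rfl⟩
          have hMn : M.Normal := by
            rw [hMdef]
            exact hQn.comap _
          -- `M` contains a Sylow `19`-subgroup
          have hM19 : 19 ∣ Nat.card M := by
            obtain ⟨z, hz⟩ := exists_prime_orderOf_dvd_card' (G := Q) 19 (by rw [hQc])
            obtain ⟨x, hx⟩ := QuotientGroup.mk'_surjective N (z : H ⧸ N)
            have hxM : x ∈ M := by
              rw [hMdef, Subgroup.mem_comap, hx]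
              exact z.2
            have ho : orderOf (z : H ⧸ N) ∣ orderOf x := by
              rw [← hx]
              exact orderOf_map_dvd (QuotientGroup.mk' N) x
            rw [Subgroup.orderOf_coe, hz] at ho
            exact ho.trans (Subgroup.orderOf_dvd_natCard M hxM)
          by_cases hMt : M = ⊤
          · -- the quotient has order `19`
            have hQt : (Q : Subgroup (H ⧸ N)) = ⊤ := by
              rw [eq_top_iff]
              intro z _
              obtain ⟨x, hx⟩ := QuotientGroup.mk'_surjective N z
              have hxM : x ∈ M := by rw [hMt]; trivial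
              rw [hMdef, Subgroup.mem_comap, hx] at hxM
              exact hxM
            have hqc : Nat.card (H ⧸ N) = 19 := by
              rw [← hQc, hQt, Subgroup.card_top]
            rw [hqc] at hmul
            have hNd : Nat.card N ∣ 9240 := by
              have h3 : 19 * Nat.card N ∣ 19 * 9240 := by
                rw [← hmul, hk]
                exact hdvd
              exact Nat.dvd_of_mul_dvd_mul_left (by norm_num) h3
            exact j1_split N hNd hmul
          · have hMlt : Nat.card M < k := by
              rw [← hk]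
              refine lt_of_le_of_ne (Subgroup.card_le_card_group M) ?_
              intro h'
              exact hMt (Subgroup.eq_top_of_card_eq M h')
            have hMdvd : Nat.card M ∣ k := by
              rw [← hk]
              exact Subgroup.card_subgroup_dvd_card M
            rcases ih (Nat.card M) hMlt M rfl (hMdvd.trans hdvd) hM19 with h' | h'
            · omega
            · exact j1_lift h2 M hM19 h'

end Cfsg.Agent.Lib.helper18
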