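import Cfsg.Agent.Lib.helper18.L2pGood

/-!
A simple group of order `p (p^2 - 1) / 2` acts on its `p + 1` Sylow `p`-subgroups like a
good group of permutations of the projective line.
-/

set_option autoImplicit false

namespace Cfsg.Agent.Lib.helper18

open MulAction

theorem sylow_eq_zpowers {G : Type*} [Group G] [Finite G] {p : ℕ} [Fact p.Prime]
    (hc : ∀ Q : Sylow p G, Nat.card Q = p) (Q : Sylow p G) {g : G} (hg : g ∈ Q)
    (hg1 : g ≠ 1) : (Q : Subgroup G) = Subgroup.zpowers g ∧ orderOf g = p := by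
  have hp : p.Prime := Fact.out
  have h1 : orderOf g ∣ p := by
    have := Subgroup.orderOf_dvd_natCard (Q : Subgroup G) hg
    rwa [show Nat.card (Q : Subgroup G) = p from hc Q] at this
  have h2 : orderOf g = p := by
    rcases (Nat.dvd_prime hp).mp h1 with h | h
    · exact absurd (orderOf_eq_one_iff.mp h) hg1
    · exact h
  refine ⟨?_, h2⟩
  symm
  apply Subgroup.eq_of_le_of_card_ge
  · rw [Subgroup.zpowers_le]; exact hg
  · rw [Nat.card_zpowers, h2]
    exact (hc Q).le

theorem sylow_fix {G : Type*} [Group G] [Finite G] {p : ℕ} [Fact p.Prime]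
    (hc : ∀ Q : Sylow p G, Nat.card Q = p) (P Q : Sylow p G) {g : G} (hgP : g ∈ P)
    (hg1 : g ≠ 1) (hfix : g • Q = Q) : Q = P := by
  have h1 : g ∈ Subgroup.normalizer (Q : Set G) := Sylow.smul_eq_iff_mem_normalizer.mp hfix
  have h2 : g ∈ (P : Subgroup G) ⊓ Subgroup.normalizer (Q : Set G) := ⟨hgP, h1⟩
  have h3 := IsPGroup.inf_normalizer_sylow P.isPGroup' Q
  have h4 : g ∈ (P : Subgroup G) ⊓ (Q : Subgroup G) := by
    rw [← h3]; exact h2
  have h5 := (sylow_eq_zpowers hc Q h4.2 hg1).1
  have h6 := (sylow_eq_zpowers hc P hgP hg1).1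
  exact Sylow.ext (h5.trans h6.symm)

theorem exists_good {p d a0 r c : ℕ} (F : Facts p d a0 r c) {G : Type*} [Group G] [Finite G]
    [IsSimpleGroup G] (h : 2 * Nat.card G = p * (p ^ 2 - 1)) :
    ∃ φ : G →* Equiv.Perm (Fin (p + 1)), Function.Injective φ ∧ Good p d a0 φ.range := by
  have : Fact p.Prime := ⟨F.prime⟩
  have hp5 := F.hp5
  have hd := F.hd
  have hsq : p ^ 2 = 2 * (d * (p + 1)) + 1 := by rw [hd]; ring
  have hG : Nat.card G = p * (d * (p + 1)) := by
    have h1 : 2 * Nat.card G = 2 * (p * (d * (p + 1))) := by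
      rw [h, hsq, Nat.add_sub_cancel]; ring
    omega
  have hcard : ∀ Q : Sylow p G, Nat.card Q = p := by
    intro Q
    obtain ⟨n, hn⟩ := IsPGroup.iff_card.mp Q.isPGroup'
    have hidx := (Q : Subgroup G).card_mul_index
    have hnd := Q.not_dvd_index
    rw [show Nat.card (Q : Subgroup G) = p ^ n from hn, hG] at hidx
    rcases n with _ | _ | n
    · exfalso
      apply hnd
      rw [pow_zero, one_mul] at hidx
      rw [hidx]
      exact dvd_mul_right _ _
    · rw [hn]; simp
    · exfalso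
      have h2 : p ^ (n + 1) * (Q : Subgroup G).index = d * (p + 1) := by
        have : p * (p ^ (n + 1) * (Q : Subgroup G).index) = p * (d * (p + 1)) := by
          rw [← hidx]; ring
        exact Nat.eq_of_mul_eq_mul_left (by omega) this
      have h3 : p ∣ d * (p + 1) := ⟨p ^ n * (Q : Subgroup G).index, by rw [← h2]; ring⟩
      rcases (Nat.Prime.dvd_mul F.prime).mp h3 with h4 | h4
      · have := Nat.le_of_dvd (by omega) h4
        omega
      · have h5 : p ∣ 1 := (Nat.dvd_add_right (dvd_refl p)).mp h4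
        have := Nat.le_of_dvd (by omega) h5
        omega
  have hnn : ∀ Q : Sylow p G, ¬ (Q : Subgroup G).Normal := by
    intro Q hQ
    have hcQ : Nat.card (Q : Subgroup G) = p := hcard Q
    rcases hQ.eq_bot_or_eq_top with h1 | h1
    · rw [h1, Subgroup.card_bot] at hcQ
      omega
    · rw [h1, Subgroup.card_top, hG] at hcQ
      have h2 : d * (p + 1) = 1 :=
        Nat.eq_of_mul_eq_mul_left (by omega : 0 < p) (hcQ.trans (mul_one p).symm)
      have h3 : 1 ≤ d := by omega
      have h4 : p + 1 ≤ d * (p + 1) := Nat.le_mul_of_pos_left _ h3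
      omega
  let P : Sylow p G := default
  have hidx : (P : Subgroup G).index = d * (p + 1) := by
    have := (P : Subgroup G).card_mul_index
    rw [show Nat.card (P : Subgroup G) = p from hcard P, hG] at this
    exact Nat.eq_of_mul_eq_mul_left (by omega) this
  have hn : Nat.card (Sylow p G) = p + 1 := by
    have h1 := card_sylow_modEq_one p G
    have h2 := P.card_dvd_index
    have h3 : d * (p + 1) = (p ^ 2 - 1) / 2 := by omega
    rw [hidx, h3] at h2
    have h1' : Nat.card (Sylow p G) % p = 1 := by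
      have : Nat.card (Sylow p G) % p = 1 % p := h1
      rw [this]
      exact Nat.mod_eq_of_lt (by omega)
    rcases F.divs _ h2 h1' with h4 | h4
    · exfalso
      apply hnn P
      have h5 := P.card_eq_index_normalizer
      rw [h4] at h5
      have h6 := Subgroup.index_eq_one.mp h5.symm
      exact Subgroup.normalizer_eq_top_iff.mp h6
    · exact h4
  have : Nontrivial (Sylow p G) := Finite.one_lt_card_iff_nontrivial.mp (by omega)
  obtain ⟨Q₀, hQ₀⟩ := exists_ne P
  obtain ⟨g₀, hg₀P, hg₀1⟩ : ∃ g : G, g ∈ P ∧ g ≠ 1 := by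
    by_contra hcon
    have h1 : (P : Subgroup G) = ⊥ := by
      rw [Subgroup.eq_bot_iff_forall]
      intro x hx
      by_contra hx1
      exact hcon ⟨x, hx, hx1⟩
    have h2 : Nat.card (P : Subgroup G) = p := hcard P
    rw [h1, Subgroup.card_bot] at h2
    omega
  obtain ⟨hPz, ho⟩ := sylow_eq_zpowers hcard P hg₀P hg₀1
  have hgP : ∀ n : ℕ, g₀ ^ n • P = P := fun n =>
    Sylow.smul_eq_iff_mem_normalizer.mpr (Subgroup.le_normalizer (pow_mem hg₀P n))
  have hfix : ∀ Q : Sylow p G, ∀ g : G, g ∈ P → g • Q = Q → g ≠ 1 → Q = P :=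
    fun Q g hg hf h1 => sylow_fix hcard P Q hg h1 hf
  let pt : ℕ → Sylow p G := fun n => if n = p then P else g₀ ^ n • Q₀
  have hptp : pt p = P := if_pos rfl
  have hptn : ∀ n, n < p → pt n = g₀ ^ n • Q₀ := fun n hn => if_neg (by omega)
  have hpt0 : pt 0 = Q₀ := by rw [hptn 0 (by omega), pow_zero, one_smul]
  have hptmod : ∀ k : ℕ, g₀ ^ k • Q₀ = pt (k % p) := by
    intro k
    rw [hptn _ (Nat.mod_lt _ (by omega))]
    conv_lhs => rw [← pow_mod_orderOf, ho]
  have hptne : ∀ n, n < p → pt n ≠ P := by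
    intro n hn h1
    rw [hptn n hn] at h1
    apply hQ₀
    have h2 : Q₀ = (g₀ ^ n)⁻¹ • P := by rw [← h1, inv_smul_smul]
    rw [h2, inv_smul_eq_iff, hgP]
  have hptinj : ∀ m n, m ≤ p → n ≤ p → pt m = pt n → m = n := by
    intro m n hm hn hmn
    by_cases hmp : m = p
    · by_contra hne
      apply hptne n (by omega)
      rw [← hmn, hmp, hptp]
    by_cases hnp : n = p
    · exfalso
      apply hptne m (by omega)
      rw [hmn, hnp, hptp]
    have hm' : m < p := by omega
    have hn' : n < p := by omega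
    rw [hptn m hm', hptn n hn'] at hmn
    have h1 : ((g₀ ^ n)⁻¹ * g₀ ^ m) • Q₀ = Q₀ := by rw [mul_smul, hmn, inv_smul_smul]
    have h2 : (g₀ ^ n)⁻¹ * g₀ ^ m = 1 := by
      by_contra h3
      exact hQ₀ (hfix Q₀ _ (mul_mem (inv_mem (pow_mem hg₀P n)) (pow_mem hg₀P m)) h1 h3)
    have h3 : g₀ ^ m = g₀ ^ n := by
      rw [inv_mul_eq_one] at h2; exact h2.symm
    have h4 := pow_eq_pow_iff_modEq.mp h3
    rw [ho] at h4
    have h5 : m % p = n % p := h4
    rwa [Nat.mod_eq_of_lt hm', Nat.mod_eq_of_lt hn'] at h5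
  have hbij : Function.Bijective (fun x : Fin (p + 1) => pt x.val) := by
    apply Function.Injective.bijective_of_nat_card_le
    · intro x y hxy
      exact Fin.ext (hptinj _ _ (Fin.is_le x) (Fin.is_le y) hxy)
    · rw [hn, Nat.card_fin]
  let e : Fin (p + 1) ≃ Sylow p G := Equiv.ofBijective _ hbij
  have he : ∀ x, e x = pt x.val := fun x => rfl
  let φ : G →* Equiv.Perm (Fin (p + 1)) :=
    (e.symm.permCongrHom).toMonoidHom.comp (MulAction.toPermHom G (Sylow p G))
  have hφ : ∀ g x, e (φ g x) = g • e x := by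
    intro g x
    simp [φ, Equiv.permCongrHom]
  have hvf : ∀ g n, n ≤ p → pt (vf (φ g) n) = g • pt n := by
    intro g n hn
    rw [vf_eq _ hn, ← he, hφ, he]
  have hvf' : ∀ g n m, n ≤ p → m ≤ p → g • pt n = pt m → vf (φ g) n = m := by
    intro g n m hn hm h1
    exact hptinj _ _ (vf_le _ _) hm ((hvf g n hn).trans h1)
  have htr : ∀ n, n ≤ p → vf (φ g₀) n = trN p 1 n := by
    intro n hn
    apply hvf' g₀ n _ hn (trN_le _ _ _ (by omega))
    unfold trN
    by_cases hnp : n = p
    · rw [if_pos hnp, hnp, hptp]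
      simpa using hgP 1
    · rw [if_neg hnp, hptn n (by omega), ← mul_smul, ← pow_succ', hptmod]
  have hinj : Function.Injective φ := by
    rw [← MonoidHom.ker_eq_bot_iff]
    rcases (MonoidHom.normal_ker φ).eq_bot_or_eq_top with h1 | h1
    · exact h1
    · exfalso
      have h2 : g₀ ∈ φ.ker := by rw [h1]; trivial
      rw [MonoidHom.mem_ker] at h2
      have h3 := htr 0 (by omega)
      rw [h2, vf_one (by omega)] at h3
      have h4 : trN p 1 0 = 1 := by
        unfold trN; rw [if_neg (by omega), zero_add, Nat.mod_eq_of_lt (by omega)]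
      omega
  have hswap : ∃ θ ∈ φ.range, vf θ p = 0 ∧ vf θ 0 = p := by
    obtain ⟨g, hg⟩ := MulAction.exists_smul_eq G Q₀ P
    have hc := hvf g p le_rfl
    have hcle : vf (φ g) p ≤ p := vf_le _ _
    have hcp : vf (φ g) p ≠ p := by
      intro h1
      rw [h1, hptp] at hc
      apply hQ₀
      have h2 : g • Q₀ = g • P := by rw [hg, ← hc]
      exact MulAction.injective g h2
    refine ⟨φ ((g₀ ^ vf (φ g) p)⁻¹ * g), ⟨_, rfl⟩, ?_, ?_⟩
    · apply hvf' _ p 0 le_rfl (by omega)
      rw [hpt0, mul_smul, ← hc, hptn _ (by omega), inv_smul_smul]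
    · apply hvf' _ 0 p (by omega) le_rfl
      rw [hpt0, hptp, mul_smul, hg, inv_smul_eq_iff, hgP]
  have hstabG : ∀ b : G, b • P = P → b • Q₀ = Q₀ →
      ∃ a, 0 < a ∧ a < p ∧ a ^ d % p = 1 ∧ ∀ n, n ≤ p → vf (φ b) n = mulN p a n := by
    intro b hbP hbQ
    have hbN : b ∈ Subgroup.normalizer (P : Set G) := Sylow.smul_eq_iff_mem_normalizer.mp hbP
    have h1 : b * g₀ * b⁻¹ ∈ (P : Subgroup G) :=
      (Subgroup.mem_normalizer_iff.mp hbN g₀).mp hg₀P
    rw [hPz, ← mem_powers_iff_mem_zpowers] at h1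
    obtain ⟨k, hk⟩ := h1
    have hk : g₀ ^ k = b * g₀ * b⁻¹ := hk
    have hk' : g₀ ^ (k % p) = b * g₀ * b⁻¹ := by
      rw [← hk]
      conv_rhs => rw [← pow_mod_orderOf, ho]
    have halt : k % p < p := Nat.mod_lt _ (by omega)
    have ha0 : k % p ≠ 0 := by
      intro h0
      rw [h0, pow_zero] at hk'
      apply hg₀1
      have h2 : g₀ = b⁻¹ * (b * g₀ * b⁻¹) * b := by group
      rw [h2, ← hk']
      group
    have hconj : ∀ i : ℕ, b * g₀ ^ i * b⁻¹ = g₀ ^ (k % p * i) := by
      intro i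
      rw [← conj_pow, ← hk', pow_mul]
    have hmul : ∀ n, n ≤ p → vf (φ b) n = mulN p (k % p) n := by
      intro n hn
      apply hvf' b n _ hn (mulN_le _ _ _ (by omega))
      unfold mulN
      by_cases hnp : n = p
      · rw [if_pos hnp, hnp, hptp, hbP]
      · rw [if_neg hnp, hptn n (by omega), ← hptmod, ← hconj, mul_smul, mul_smul,
          inv_smul_eq_iff.mpr hbQ.symm]
    have hbd : b ^ d = 1 := by
      by_contra hne
      apply hQ₀
      apply hfix Q₀ (b ^ d) ?_ ?_ hne
      · have hrel : (P : Subgroup G).relIndex (Subgroup.normalizer (P : Set G)) = d := by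
          have h2 : (P : Subgroup G).relIndex (Subgroup.normalizer (P : Set G)) *
              (Subgroup.normalizer (P : Set G)).index = (P : Subgroup G).index :=
            Subgroup.relIndex_mul_index
              (Subgroup.le_normalizer : (P : Subgroup G) ≤ Subgroup.normalizer (P : Set G))
          rw [← P.card_eq_index_normalizer, hn, hidx] at h2
          exact Nat.eq_of_mul_eq_mul_right (by omega) h2
        have : ((P : Subgroup G).subgroupOf (Subgroup.normalizer (P : Set G))).Normal :=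
          Subgroup.normal_in_normalizer
        have h3 := Subgroup.pow_index_mem
          ((P : Subgroup G).subgroupOf (Subgroup.normalizer (P : Set G))) ⟨b, hbN⟩
        have h4 : ((P : Subgroup G).subgroupOf (Subgroup.normalizer (P : Set G))).index = d :=
          hrel
        rw [h4, Subgroup.mem_subgroupOf] at h3
        exact h3
      · exact MulAction.mem_stabilizer_iff.mp
          (pow_mem (MulAction.mem_stabilizer_iff.mpr hbQ) d)
    have hconjk : ∀ j : ℕ, b ^ j * g₀ * (b ^ j)⁻¹ = g₀ ^ ((k % p) ^ j) := by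
      intro j
      induction j with
      | zero => simp
      | succ j ih =>
        have h2 : b ^ (j + 1) * g₀ * (b ^ (j + 1))⁻¹ = b * (b ^ j * g₀ * (b ^ j)⁻¹) * b⁻¹ := by
          rw [pow_succ']; group
        rw [h2, ih, hconj, pow_succ']
    have h5 : g₀ ^ ((k % p) ^ d) = g₀ ^ 1 := by
      rw [← hconjk d, hbd]; simp
    have h6 := pow_eq_pow_iff_modEq.mp h5
    rw [ho] at h6
    have h7 : (k % p) ^ d % p = 1 % p := h6
    rw [Nat.mod_eq_of_lt (by omega : 1 < p)] at h7
    exact ⟨k % p, by omega, halt, h7, hmul⟩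
  have hmulG : ∃ ψ ∈ φ.range, ∀ n, n ≤ p → vf ψ n = mulN p a0 n := by
    have hNcard : Nat.card (Subgroup.normalizer (P : Set G)) = p * d := by
      have h1 := (Subgroup.normalizer (P : Set G)).card_mul_index
      rw [← P.card_eq_index_normalizer, hn, hG] at h1
      have h2 : Nat.card (Subgroup.normalizer (P : Set G)) * (p + 1) = (p * d) * (p + 1) := by
        rw [h1]; ring
      exact Nat.eq_of_mul_eq_mul_right (by omega) h2
    have hHcard : d ≤ Nat.card {b : G // b • P = P ∧ b • Q₀ = Q₀} := by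
      let f : Fin p × {b : G // b • P = P ∧ b • Q₀ = Q₀} → Subgroup.normalizer (P : Set G) :=
        fun x => ⟨g₀ ^ x.1.val * x.2.val, mul_mem (Subgroup.le_normalizer (pow_mem hg₀P _))
          (Sylow.smul_eq_iff_mem_normalizer.mp x.2.2.1)⟩
      have hf : Function.Surjective f := by
        rintro ⟨b, hb⟩
        have hbP : b • P = P := Sylow.smul_eq_iff_mem_normalizer.mpr hb
        have hc := hvf b 0 (Nat.zero_le _)
        have hcle : vf (φ b) 0 ≤ p := vf_le _ _
        have hcp : vf (φ b) 0 ≠ p := by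
          intro h1
          rw [h1, hptp, hpt0] at hc
          apply hQ₀
          exact MulAction.injective b (hc.symm.trans hbP.symm)
        refine ⟨(⟨vf (φ b) 0, by omega⟩, ⟨(g₀ ^ vf (φ b) 0)⁻¹ * b, ?_, ?_⟩), ?_⟩
        · rw [mul_smul, hbP, inv_smul_eq_iff, hgP]
        · rw [hpt0, hptn _ (by omega)] at hc
          rw [mul_smul, ← hc, inv_smul_smul]
        · apply Subtype.ext
          simp [f]
      have h1 := Nat.card_le_card_of_surjective f hf
      rw [hNcard, Nat.card_prod, Nat.card_fin] at h1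
      exact Nat.le_of_mul_le_mul_left h1 (by omega)
    have hex : ∀ b : {b : G // b • P = P ∧ b • Q₀ = Q₀}, ∃ i : Fin d,
        ∀ n, n ≤ p → vf (φ b.val) n = mulN p (a0 ^ i.val % p) n := by
      intro b
      obtain ⟨a, ha1, ha2, ha3, ha4⟩ := hstabG b.val b.2.1 b.2.2
      obtain ⟨i, hi, hia⟩ := F.roots a ha1 ha2 ha3
      exact ⟨⟨i, hi⟩, fun n hn => by rw [ha4 n hn, hia]⟩
    choose ν hν using hex
    have hνinj : Function.Injective ν := by
      intro b b' hbb
      apply Subtype.ext
      apply hinj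
      exact vf_ext fun n hn => by rw [hν b n hn, hν b' n hn, hbb]
    have hνbij := hνinj.bijective_of_nat_card_le (by rw [Nat.card_fin]; exact hHcard)
    obtain ⟨b, hb⟩ := hνbij.2 ⟨1, by omega⟩
    refine ⟨φ b.val, ⟨_, rfl⟩, fun n hn => ?_⟩
    rw [hν b n hn, hb, pow_one, Nat.mod_eq_of_lt F.ha0.2]
  refine ⟨φ, hinj, ⟨⟨φ g₀, ⟨g₀, rfl⟩, htr⟩, ?_, hmulG, hswap⟩⟩
  rintro ψ ⟨b, rfl⟩ h1 h2
  apply hstabG b
  · have := hvf b p le_rfl
    rw [h1, hptp] at this
    exact this.symm
  · have := hvf b 0 (Nat.zero_le _)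
    rw [h2, hpt0] at this
    exact this.symm

/-- the uniqueness statement: every simple group of the right order is the standard copy -/
theorem nonempty_equiv_Tstd {p d a0 r c : ℕ} (F : Facts p d a0 r c) {G : Type*} [Group G]
    [Finite G] [IsSimpleGroup G] (h : 2 * Nat.card G = p * (p ^ 2 - 1)) :
    Nonempty (G ≃* Tstd p a0 c) := by
  obtain ⟨φ, hinj, hgood⟩ := exists_good F h
  have h1 := good_eq_Tstd F hgood
  exact ⟨(MonoidHom.ofInjective hinj).trans (MulEquiv.subgroupCongr h1)⟩

/-- two simple groups of order `p (p^2 - 1) / 2` are isomorphic -/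
theorem nonempty_equiv_of_facts {p d a0 r c : ℕ} (F : Facts p d a0 r c) {G : Type*} [Group G]
    [Finite G] [IsSimpleGroup G] (h : 2 * Nat.card G = p * (p ^ 2 - 1))
    {G' : Type*} [Group G'] [Finite G'] [IsSimpleGroup G']
    (h' : 2 * Nat.card G' = p * (p ^ 2 - 1)) : Nonempty (G ≃* G') := by
  obtain ⟨e1⟩ := nonempty_equiv_Tstd F h
  obtain ⟨e2⟩ := nonempty_equiv_Tstd F h'
  exact ⟨e1.trans e2.symm⟩

end Cfsg.Agent.Lib.helper18
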