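import Cfsg.Agent.Lib.helper18.L2pSearch

/-!
A permutation group on the projective line over `ZMod p` containing the translation,
with the right point stabilisers, is the standard copy of `PSL(2,p)`.
-/

set_option autoImplicit false

namespace Cfsg.Agent.Lib.helper18

variable {p : ℕ}

/-- the action of a permutation of `Fin (p+1)` on natural numbers `≤ p` -/
def vf (ψ : Equiv.Perm (Fin (p + 1))) (n : ℕ) : ℕ :=
  if h : n ≤ p then (ψ ⟨n, Nat.lt_succ_of_le h⟩ : ℕ) else 0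

theorem vf_le (ψ : Equiv.Perm (Fin (p + 1))) (n : ℕ) : vf ψ n ≤ p := by
  unfold vf
  split_ifs with h
  · exact Fin.is_le _
  · exact Nat.zero_le _

theorem vf_eq (ψ : Equiv.Perm (Fin (p + 1))) {n : ℕ} (h : n ≤ p) :
    vf ψ n = (ψ ⟨n, Nat.lt_succ_of_le h⟩ : ℕ) := dif_pos h

theorem vf_mul (ψ χ : Equiv.Perm (Fin (p + 1))) {n : ℕ} (h : n ≤ p) :
    vf (ψ * χ) n = vf ψ (vf χ n) := by
  rw [vf_eq _ h, vf_eq χ h, vf_eq ψ (Fin.is_le _)]
  rfl

theorem vf_one {n : ℕ} (h : n ≤ p) : vf (1 : Equiv.Perm (Fin (p + 1))) n = n := by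
  unfold vf
  rw [dif_pos h]
  rfl

theorem vf_inj (ψ : Equiv.Perm (Fin (p + 1))) {m n : ℕ} (hm : m ≤ p) (hn : n ≤ p)
    (h : vf ψ m = vf ψ n) : m = n := by
  unfold vf at h
  rw [dif_pos hm, dif_pos hn] at h
  have := ψ.injective (Fin.ext h)
  exact congrArg Fin.val this

theorem vf_ext {ψ χ : Equiv.Perm (Fin (p + 1))} (h : ∀ n, n ≤ p → vf ψ n = vf χ n) :
    ψ = χ := by
  ext x
  have := h x.val (Fin.is_le x)
  unfold vf at this
  rw [dif_pos (Fin.is_le x), dif_pos (Fin.is_le x)] at this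
  exact this

theorem vf_inv_self (ψ : Equiv.Perm (Fin (p + 1))) {n : ℕ} (h : n ≤ p) :
    vf ψ⁻¹ (vf ψ n) = n := by
  rw [← vf_mul _ _ h, inv_mul_cancel, vf_one h]

theorem vf_self_inv (ψ : Equiv.Perm (Fin (p + 1))) {n : ℕ} (h : n ≤ p) :
    vf ψ (vf ψ⁻¹ n) = n := by
  rw [← vf_mul _ _ h, mul_inv_cancel, vf_one h]

theorem vf_inv_of (ψ : Equiv.Perm (Fin (p + 1))) {m n : ℕ} (hm : m ≤ p) (h : vf ψ m = n) :
    vf ψ⁻¹ n = m := by
  rw [← h, vf_inv_self ψ hm]

theorem trN_le (p j x : ℕ) (hp : 0 < p) : trN p j x ≤ p := by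
  unfold trN
  split_ifs
  · exact le_rfl
  · exact (Nat.mod_lt _ hp).le

theorem mulN_le (p a x : ℕ) (hp : 0 < p) : mulN p a x ≤ p := by
  unfold mulN
  split_ifs
  · exact le_rfl
  · exact (Nat.mod_lt _ hp).le

theorem trN_trN (p j k n : ℕ) (hp : 0 < p) : trN p j (trN p k n) = trN p (k + j) n := by
  unfold trN
  by_cases h : n = p
  · simp [h]
  · rw [if_neg h, if_neg h, if_neg (Nat.mod_lt _ hp).ne, Nat.mod_add_mod, add_assoc]

theorem mulN_mulN (p a b n : ℕ) (hp : 0 < p) :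
    mulN p a (mulN p b n) = mulN p (a * b % p) n := by
  unfold mulN
  by_cases h : n = p
  · simp [h]
  · rw [if_neg h, if_neg h, if_neg (Nat.mod_lt _ hp).ne, Nat.mul_mod_mod, Nat.mod_mul_mod,
      mul_assoc]

/-- the conditions a group of permutations of the projective line has to satisfy -/
structure Good (p d a0 : ℕ) (T : Subgroup (Equiv.Perm (Fin (p + 1)))) : Prop where
  tr : ∃ t ∈ T, ∀ n, n ≤ p → vf t n = trN p 1 n
  stab : ∀ ψ ∈ T, vf ψ p = p → vf ψ 0 = 0 →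
    ∃ a, 0 < a ∧ a < p ∧ a ^ d % p = 1 ∧ ∀ n, n ≤ p → vf ψ n = mulN p a n
  mul : ∃ ψ ∈ T, ∀ n, n ≤ p → vf ψ n = mulN p a0 n
  swap : ∃ θ ∈ T, vf θ p = 0 ∧ vf θ 0 = p

/-- the standard copy of `PSL(2,p)` -/
def Tstd (p a0 c : ℕ) : Subgroup (Equiv.Perm (Fin (p + 1))) :=
  Subgroup.closure {ψ | (∀ n, n ≤ p → vf ψ n = trN p 1 n) ∨
    (∀ n, n ≤ p → vf ψ n = mulN p a0 n) ∨ (∀ n, n ≤ p → vf ψ n = stdN p c n)}

theorem good_eq_Tstd {p d a0 r c : ℕ} (F : Facts p d a0 r c)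
    {T : Subgroup (Equiv.Perm (Fin (p + 1)))} (hT : Good p d a0 T) : T = Tstd p a0 c := by
  obtain ⟨t, htT, ht⟩ := hT.tr
  obtain ⟨ψ₀, hψT, hψ⟩ := hT.mul
  obtain ⟨θ, hθT, hθp, hθ0⟩ := hT.swap
  have hp5 := F.hp5
  have hp0 : 0 < p := by omega
  have hpp : p ≤ p := le_rfl
  have h0p : 0 ≤ p := Nat.zero_le _
  obtain ⟨ha0pos, ha0lt⟩ := F.ha0
  obtain ⟨hrpos, hrlt⟩ := F.hr
  -- powers of the translation
  have htj : ∀ j, ∀ n, n ≤ p → vf (t ^ j) n = trN p j n := by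
    intro j
    induction j with
    | zero =>
      intro n hn
      rw [pow_zero, vf_one hn]
      unfold trN
      split_ifs with h
      · exact h
      · rw [add_zero, Nat.mod_eq_of_lt (by omega)]
    | succ j ih =>
      intro n hn
      rw [pow_succ, vf_mul _ _ hn, ht n hn, ih _ (trN_le _ _ _ hp0), trN_trN _ _ _ _ hp0,
        add_comm]
  -- powers of the multiplication
  have hψi : ∀ i, ∀ n, n ≤ p → vf (ψ₀ ^ i) n = mulN p (a0 ^ i % p) n := by
    intro i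
    induction i with
    | zero =>
      intro n hn
      rw [pow_zero, vf_one hn, pow_zero, Nat.mod_eq_of_lt (by omega : 1 < p)]
      unfold mulN
      split_ifs with h
      · exact h
      · rw [one_mul, Nat.mod_eq_of_lt (by omega)]
    | succ i ih =>
      intro n hn
      rw [pow_succ, vf_mul _ _ hn, hψ n hn, ih _ (mulN_le _ _ _ hp0), mulN_mulN _ _ _ _ hp0,
        Nat.mod_mul_mod, pow_succ]
  -- elements of T fixing infinity and zero are powers of ψ₀
  have hstab : ∀ ψ ∈ T, vf ψ p = p → vf ψ 0 = 0 → ∃ i, i < d ∧ ψ = ψ₀ ^ i := by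
    intro ψ hψ' h1 h2
    obtain ⟨a, ha1, ha2, ha3, ha4⟩ := hT.stab ψ hψ' h1 h2
    obtain ⟨i, hi, hia⟩ := F.roots a ha1 ha2 ha3
    refine ⟨i, hi, vf_ext fun n hn => ?_⟩
    rw [ha4 n hn, hψi i n hn, hia]
  -- step 1: θ ψ₀ θ⁻¹
  obtain ⟨s, hs, hconj⟩ := hstab (θ * ψ₀ * θ⁻¹) (T.mul_mem (T.mul_mem hθT hψT) (T.inv_mem hθT))
    (by
      rw [vf_mul _ _ hpp, vf_mul _ _ (vf_le _ _), vf_inv_of θ h0p hθ0, hψ 0 h0p]
      have : mulN p a0 0 = 0 := by unfold mulN; rw [if_neg (by omega)]; simp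
      rw [this, hθ0])
    (by
      rw [vf_mul _ _ h0p, vf_mul _ _ (vf_le _ _), vf_inv_of θ hpp hθp, hψ p hpp]
      have : mulN p a0 p = p := by unfold mulN; rw [if_pos rfl]
      rw [this, hθp])
  have H1 : ∀ n, n ≤ p → vf θ (mulN p a0 n) = mulN p (a0 ^ s % p) (vf θ n) := by
    intro n hn
    have h1 : θ * ψ₀ = ψ₀ ^ s * θ := by rw [← hconj]; group
    rw [← hψ n hn, ← vf_mul _ _ hn, h1, vf_mul _ _ hn, hψi s _ (vf_le _ _)]
  -- step 2: normalisation
  have hy1 : vf θ 1 ≠ p := by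
    intro h
    have := vf_inj θ (by omega : 1 ≤ p) h0p (h.trans hθ0.symm)
    omega
  have hy0 : vf θ 1 ≠ 0 := by
    intro h
    have := vf_inj θ (by omega : 1 ≤ p) hpp (h.trans hθp.symm)
    omega
  have hyle := vf_le θ 1
  obtain ⟨m, hm, hmy⟩ := F.cover (vf θ 1) (by omega) (by omega)
  obtain ⟨τ, hτT, hτ⟩ : ∃ τ ∈ T, ∀ n, n ≤ p → vf τ n = mulN p (a0 ^ (d - m) % p) (vf θ n) :=
    ⟨ψ₀ ^ (d - m) * θ, T.mul_mem (T.pow_mem hψT _) hθT, fun n hn => by
      rw [vf_mul _ _ hn, hψi _ _ (vf_le _ _)]⟩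
  have hτp : vf τ p = 0 := by
    rw [hτ p hpp, hθp]; unfold mulN; rw [if_neg (by omega)]; simp
  have hτ0 : vf τ 0 = p := by
    rw [hτ 0 h0p, hθ0]; unfold mulN; rw [if_pos rfl]
  have hdm : a0 ^ (d - m) * a0 ^ m = a0 ^ d := by rw [← pow_add]; congr 1; omega
  have hτ1 : vf τ 1 = 1 ∨ vf τ 1 = r := by
    rw [hτ 1 (by omega)]
    unfold mulN
    rw [if_neg hy1]
    rcases hmy with h | h
    · left
      rw [← h, Nat.mod_mul_mod, Nat.mul_mod_mod, hdm, F.hpow]
    · right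
      rw [← h, Nat.mod_mul_mod, Nat.mul_mod_mod]
      have : a0 ^ (d - m) * (r * a0 ^ m) = r * a0 ^ d := by rw [← hdm]; ring
      rw [this, Nat.mul_mod, F.hpow, mul_one, Nat.mod_mod, Nat.mod_eq_of_lt hrlt]
  have H2 : ∀ n, n ≤ p → vf τ (mulN p a0 n) = mulN p (a0 ^ s % p) (vf τ n) := by
    intro n hn
    rw [hτ _ (mulN_le _ _ _ hp0), H1 n hn, hτ n hn, mulN_mulN _ _ _ _ hp0,
      mulN_mulN _ _ _ _ hp0, mul_comm]
  -- step 3: τ is a candidate
  have hK : ∀ x0 c0, x0 < p → c0 < p → vf τ x0 = c0 →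
      ∀ i, vf τ ((x0 * a0 ^ i) % p) = (a0 ^ (s * i) * c0) % p := by
    intro x0 c0 hx0 hc0 hxc i
    induction i with
    | zero =>
      rw [pow_zero, mul_one, Nat.mod_eq_of_lt hx0, mul_zero, pow_zero, one_mul,
        Nat.mod_eq_of_lt hc0, hxc]
    | succ i ih =>
      have h1 : (x0 * a0 ^ (i + 1)) % p = mulN p a0 ((x0 * a0 ^ i) % p) := by
        unfold mulN
        rw [if_neg (Nat.mod_lt _ hp0).ne, Nat.mul_mod_mod]
        congr 1
        ring
      rw [h1, H2 _ (Nat.mod_lt _ hp0).le, ih]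
      unfold mulN
      rw [if_neg (Nat.mod_lt _ hp0).ne, Nat.mod_mul_mod, Nat.mul_mod_mod]
      congr 1
      ring
  have hc1lt : vf τ 1 < p := by rcases hτ1 with h | h <;> omega
  have hc2p : vf τ r ≠ p := by
    intro h
    have := vf_inj τ hrlt.le h0p (h.trans hτ0.symm)
    omega
  have hc20 : vf τ r ≠ 0 := by
    intro h
    have := vf_inj τ hrlt.le hpp (h.trans hτp.symm)
    omega
  have hc2le := vf_le τ r
  have hcand : ∀ x, x ≤ p → vf τ x = candN p a0 r d s (vf τ 1) (vf τ r) x := by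
    apply candN_eq hp0 F.cover (vf τ) hτp hτ0
    · intro i
      have := hK 1 (vf τ 1) (by omega) hc1lt rfl i
      rwa [one_mul] at this
    · intro i
      exact hK r (vf τ r) hrlt (by omega) rfl i
  -- step 4: the test
  have he : vf τ (vf τ⁻¹ (p - 1)) = p - 1 := vf_self_inv τ (by omega)
  have hele := vf_le τ⁻¹ (p - 1)
  have hep : vf τ⁻¹ (p - 1) ≠ p := by
    intro h
    rw [h, hτp] at he
    omega
  have hpass : passJ p d a0 (candN p a0 r d s (vf τ 1) (vf τ r)) = true := by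
    set e := vf τ⁻¹ (p - 1) with he_def
    have hψ'T : t ^ (p - vf τ 1) * τ * t * τ * t ^ e * τ⁻¹ ∈ T :=
      T.mul_mem (T.mul_mem (T.mul_mem (T.mul_mem (T.mul_mem (T.pow_mem htT _) hτT) htT) hτT)
        (T.pow_mem htT _)) (T.inv_mem hτT)
    have hform : ∀ n, n ≤ p → vf (t ^ (p - vf τ 1) * τ * t * τ * t ^ e * τ⁻¹) n =
        trN p (p - vf τ 1) (vf τ (trN p 1 (vf τ (trN p e (vf τ⁻¹ n))))) := by
      intro n hn
      rw [vf_mul _ _ hn, vf_mul _ _ (vf_le _ _), vf_mul _ _ (vf_le _ _),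
        vf_mul _ _ (vf_le _ _), vf_mul _ _ (vf_le _ _), htj _ _ (vf_le _ _),
        ht _ (vf_le _ _), htj _ _ (vf_le _ _)]
    obtain ⟨i, hi, hψ'⟩ := hstab _ hψ'T
      (by
        rw [hform p hpp, vf_inv_of τ h0p hτ0]
        have h1 : trN p e 0 = e := by
          unfold trN; rw [if_neg (by omega), zero_add, Nat.mod_eq_of_lt (by omega)]
        have h2 : trN p 1 (p - 1) = 0 := by
          unfold trN; rw [if_neg (by omega)]
          have : p - 1 + 1 = p := by omega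
          rw [this, Nat.mod_self]
        rw [h1, he, h2, hτ0]
        unfold trN; rw [if_pos rfl])
      (by
        rw [hform 0 h0p, vf_inv_of τ hpp hτp]
        have h1 : trN p e p = p := by unfold trN; rw [if_pos rfl]
        have h2 : trN p 1 0 = 1 := by
          unfold trN; rw [if_neg (by omega), zero_add, Nat.mod_eq_of_lt (by omega)]
        rw [h1, hτp, h2]
        unfold trN
        rw [if_neg (by omega)]
        have : vf τ 1 + (p - vf τ 1) = p := by omega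
        rw [this, Nat.mod_self])
    refine passJ_intro e i hele ?_ hi ?_
    · rw [← hcand _ hele]; exact he
    · intro x hx
      have h1 := hform (vf τ x) (vf_le _ _)
      rw [hψ', hψi i _ (vf_le _ _), vf_inv_self τ hx] at h1
      rw [← hcand 1 (by omega), ← hcand x hx, ← hcand _ (trN_le _ _ _ hp0),
        ← hcand _ (trN_le _ _ _ hp0)]
      exact h1.symm
  have hstd : ∀ x, x ≤ p → vf τ x = stdN p c x := by
    intro x hx
    rw [hcand x hx]
    exact F.search s (vf τ 1) (vf τ r) hs hτ1 (by omega) (by omega) hpass x hx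
  -- step 5
  have htS : t ∈ Tstd p a0 c := Subgroup.subset_closure (Or.inl ht)
  have hψS : ψ₀ ∈ Tstd p a0 c := Subgroup.subset_closure (Or.inr (Or.inl hψ))
  have hτS : τ ∈ Tstd p a0 c := Subgroup.subset_closure (Or.inr (Or.inr hstd))
  have hA : ∀ ψ ∈ T, vf ψ p = p → ψ ∈ Tstd p a0 c := by
    intro ψ hψ' hfix
    have hc'p : vf ψ 0 ≠ p := by
      intro h
      have := vf_inj ψ h0p hpp (h.trans hfix.symm)
      omega
    have hc'le := vf_le ψ 0
    obtain ⟨i, -, hi⟩ := hstab (t ^ (p - vf ψ 0) * ψ) (T.mul_mem (T.pow_mem htT _) hψ')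
      (by rw [vf_mul _ _ hpp, hfix, htj _ _ hpp]; unfold trN; rw [if_pos rfl])
      (by
        rw [vf_mul _ _ h0p, htj _ _ (vf_le _ _)]
        unfold trN
        rw [if_neg hc'p]
        have : vf ψ 0 + (p - vf ψ 0) = p := by omega
        rw [this, Nat.mod_self])
    have : ψ = (t ^ (p - vf ψ 0))⁻¹ * ψ₀ ^ i := by rw [← hi]; group
    rw [this]
    exact Subgroup.mul_mem _ (Subgroup.inv_mem _ (Subgroup.pow_mem _ htS _))
      (Subgroup.pow_mem _ hψS _)
  apply le_antisymm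
  · intro ψ hψ'
    by_cases hfix : vf ψ p = p
    · exact hA ψ hψ' hfix
    · have hle := vf_le ψ p
      have h1 : τ * t ^ (p - vf ψ p) * ψ ∈ Tstd p a0 c := by
        apply hA _ (T.mul_mem (T.mul_mem hτT (T.pow_mem htT _)) hψ')
        rw [vf_mul _ _ hpp, vf_mul _ _ (vf_le _ _), htj _ _ (vf_le _ _)]
        unfold trN
        rw [if_neg hfix]
        have : vf ψ p + (p - vf ψ p) = p := by omega
        rw [this, Nat.mod_self, hτ0]
      have : ψ = (τ * t ^ (p - vf ψ p))⁻¹ * (τ * t ^ (p - vf ψ p) * ψ) := by group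
      rw [this]
      exact Subgroup.mul_mem _ (Subgroup.inv_mem _
        (Subgroup.mul_mem _ hτS (Subgroup.pow_mem _ htS _))) h1
  · unfold Tstd
    rw [Subgroup.closure_le]
    rintro ψ (h | h | h)
    · have : ψ = t := vf_ext fun n hn => by rw [h n hn, ht n hn]
      rw [this]; exact htT
    · have : ψ = ψ₀ := vf_ext fun n hn => by rw [h n hn, hψ n hn]
      rw [this]; exact hψT
    · have : ψ = τ := vf_ext fun n hn => by rw [h n hn, hstd n hn]
      rw [this]; exact hτT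

end Cfsg.Agent.Lib.helper18
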