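import Mathlib

/-!
Computational part of the uniqueness of simple groups of order `p (p^2 - 1) / 2`
for small primes `p`: points are `0, …, p - 1` and `p` (standing for infinity).
-/

set_option autoImplicit false

namespace Cfsg.Agent.Lib.helper18

/-- translation by `j` on the projective line, `p` is the point at infinity -/
def trN (p j x : ℕ) : ℕ := if x = p then p else (x + j) % p

/-- multiplication by `a` on the projective line -/
def mulN (p a x : ℕ) : ℕ := if x = p then p else (a * x) % p

/-- candidate for the inversion-like element -/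
def candN (p a0 r d s c1 c2 x : ℕ) : ℕ :=
  if x = p then 0 else if x = 0 then p else
    match (List.range d).find? (fun i => a0 ^ i % p == x) with
    | some i => (a0 ^ (s * i) * c1) % p
    | none =>
      match (List.range d).find? (fun i => (r * a0 ^ i) % p == x) with
      | some i => (a0 ^ (s * i) * c2) % p
      | none => 0

/-- the standard inversion-like element `x ↦ c / x` -/
def stdN (p c x : ℕ) : ℕ :=
  if x = p then 0 else if x = 0 then p else (c * x ^ (p - 2)) % p

/-- the necessary condition tested on a candidate -/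
def passJ (p d a0 : ℕ) (f : ℕ → ℕ) : Bool :=
  (List.range (p + 1)).any fun e => f e == p - 1 &&
    (List.range d).any fun i => (List.range (p + 1)).all fun x =>
      trN p (p - f 1) (f (trN p 1 (f (trN p e x)))) == mulN p (a0 ^ i % p) (f x)

/-- the whole search -/
def searchOK (p d a0 r c : ℕ) : Bool :=
  (List.range d).all fun s => [1, r].all fun c1 => (List.range p).all fun c2 =>
    c2 == 0 || !(passJ p d a0 (candN p a0 r d s c1 c2)) ||
      (List.range (p + 1)).all fun x => candN p a0 r d s c1 c2 x == stdN p c x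

/-- every nonzero residue is `a0^i` or `r a0^i` -/
def coverOK (p d a0 r : ℕ) : Bool :=
  (List.range p).all fun x => x == 0 ||
    (List.range d).any fun i => a0 ^ i % p == x || (r * a0 ^ i) % p == x

/-- every `d`-th root of unity is a power of `a0` -/
def rootsOK (p d a0 : ℕ) : Bool :=
  (List.range p).all fun a => a == 0 || !(a ^ d % p == 1) ||
    (List.range d).any fun i => a0 ^ i % p == a

/-- divisors of `(p^2-1)/2` congruent to one modulo `p` -/
def divOK (p : ℕ) : Bool :=
  (List.range ((p ^ 2 - 1) / 2 + 1)).all fun m =>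
    !((p ^ 2 - 1) / 2 % m == 0) || !(m % p == 1) || m == 1 || m == p + 1

theorem passJ_intro {p d a0 : ℕ} {f : ℕ → ℕ} (e i : ℕ) (he : e ≤ p) (hfe : f e = p - 1)
    (hi : i < d)
    (hx : ∀ x, x ≤ p →
      trN p (p - f 1) (f (trN p 1 (f (trN p e x)))) = mulN p (a0 ^ i % p) (f x)) :
    passJ p d a0 f = true := by
  unfold passJ
  rw [List.any_eq_true]
  refine ⟨e, List.mem_range.mpr (by omega), ?_⟩
  rw [Bool.and_eq_true]
  refine ⟨by simpa using hfe, ?_⟩
  rw [List.any_eq_true]
  refine ⟨i, List.mem_range.mpr hi, ?_⟩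
  rw [List.all_eq_true]
  intro x hx'
  have := hx x (by have := List.mem_range.mp hx'; omega)
  simpa using this

theorem search_spec {p d a0 r c : ℕ} (h : searchOK p d a0 r c = true)
    {s c1 c2 : ℕ} (hs : s < d) (hc1 : c1 = 1 ∨ c1 = r) (hc2 : 0 < c2) (hc2' : c2 < p)
    (hpass : passJ p d a0 (candN p a0 r d s c1 c2) = true) :
    ∀ x, x ≤ p → candN p a0 r d s c1 c2 x = stdN p c x := by
  unfold searchOK at h
  rw [List.all_eq_true] at h
  have h1 := h s (List.mem_range.mpr hs)
  rw [List.all_eq_true] at h1
  have h2 := h1 c1 (by rcases hc1 with h | h <;> simp [h])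
  rw [List.all_eq_true] at h2
  have h3 := h2 c2 (List.mem_range.mpr hc2')
  rw [Bool.or_eq_true, Bool.or_eq_true] at h3
  rcases h3 with (h3 | h3) | h3
  · simp at h3; omega
  · rw [hpass] at h3; simp at h3
  · rw [List.all_eq_true] at h3
    intro x hx
    have := h3 x (List.mem_range.mpr (by omega))
    simpa using this

theorem cover_spec {p d a0 r : ℕ} (h : coverOK p d a0 r = true) :
    ∀ x, 0 < x → x < p → ∃ i, i < d ∧ (a0 ^ i % p = x ∨ (r * a0 ^ i) % p = x) := by
  intro x hx0 hxp
  unfold coverOK at h
  rw [List.all_eq_true] at h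
  have h1 := h x (List.mem_range.mpr hxp)
  rw [Bool.or_eq_true] at h1
  rcases h1 with h1 | h1
  · simp at h1; omega
  · rw [List.any_eq_true] at h1
    obtain ⟨i, hi, h2⟩ := h1
    refine ⟨i, List.mem_range.mp hi, ?_⟩
    simpa using h2

theorem roots_spec {p d a0 : ℕ} (h : rootsOK p d a0 = true) :
    ∀ a, 0 < a → a < p → a ^ d % p = 1 → ∃ i, i < d ∧ a0 ^ i % p = a := by
  intro a ha0 hap had
  unfold rootsOK at h
  rw [List.all_eq_true] at h
  have h1 := h a (List.mem_range.mpr hap)
  rw [Bool.or_eq_true, Bool.or_eq_true] at h1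
  rcases h1 with (h1 | h1) | h1
  · simp at h1; omega
  · simp [had] at h1
  · rw [List.any_eq_true] at h1
    obtain ⟨i, hi, h2⟩ := h1
    exact ⟨i, List.mem_range.mp hi, by simpa using h2⟩

theorem div_spec {p : ℕ} (hp : 2 ≤ p) (h : divOK p = true) :
    ∀ m, m ∣ (p ^ 2 - 1) / 2 → m % p = 1 → m = 1 ∨ m = p + 1 := by
  intro m hm hmp
  have hpos : 0 < (p ^ 2 - 1) / 2 := by
    have : 4 ≤ p ^ 2 := by nlinarith
    omega
  unfold divOK at h
  rw [List.all_eq_true] at h
  have h1 := h m (List.mem_range.mpr (by have := Nat.le_of_dvd hpos hm; omega))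
  rw [Bool.or_eq_true, Bool.or_eq_true, Bool.or_eq_true] at h1
  rcases h1 with ((h1 | h1) | h1) | h1
  · have := Nat.mod_eq_zero_of_dvd hm
    simp [this] at h1
  · simp [hmp] at h1
  · left; simpa using h1
  · right; simpa using h1

/-- the arithmetical facts used for the prime `p` -/
structure Facts (p d a0 r c : ℕ) : Prop where
  prime : p.Prime
  hp5 : 5 ≤ p
  hd : p = 2 * d + 1
  ha0 : 0 < a0 ∧ a0 < p
  hr : 0 < r ∧ r < p
  hpow : a0 ^ d % p = 1
  cover : ∀ x, 0 < x → x < p → ∃ i, i < d ∧ (a0 ^ i % p = x ∨ (r * a0 ^ i) % p = x)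
  roots : ∀ a, 0 < a → a < p → a ^ d % p = 1 → ∃ i, i < d ∧ a0 ^ i % p = a
  search : ∀ s c1 c2, s < d → (c1 = 1 ∨ c1 = r) → 0 < c2 → c2 < p →
    passJ p d a0 (candN p a0 r d s c1 c2) = true →
    ∀ x, x ≤ p → candN p a0 r d s c1 c2 x = stdN p c x
  divs : ∀ m, m ∣ (p ^ 2 - 1) / 2 → m % p = 1 → m = 1 ∨ m = p + 1

theorem Facts.mk' {p d a0 r c : ℕ} (prime : p.Prime) (hp5 : 5 ≤ p) (hd : p = 2 * d + 1)
    (ha0 : 0 < a0 ∧ a0 < p) (hr : 0 < r ∧ r < p) (hpow : a0 ^ d % p = 1)
    (h1 : coverOK p d a0 r = true) (h2 : rootsOK p d a0 = true)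
    (h3 : searchOK p d a0 r c = true) (h4 : divOK p = true) : Facts p d a0 r c where
  prime := prime
  hp5 := hp5
  hd := hd
  ha0 := ha0
  hr := hr
  hpow := hpow
  cover := cover_spec h1
  roots := roots_spec h2
  search := fun _ _ _ hs hc1 hc2 hc2' hpass => search_spec h3 hs hc1 hc2 hc2' hpass
  divs := div_spec (by omega) h4

set_option maxRecDepth 100000 in
theorem facts_11 : Facts 11 5 4 10 10 :=
  Facts.mk' (by norm_num) (by norm_num) (by norm_num) (by norm_num) (by norm_num) (by norm_num)
    (by decide +kernel) (by decide +kernel) (by decide +kernel) (by decide +kernel)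

set_option maxRecDepth 100000 in
theorem facts_13 : Facts 13 6 4 2 1 :=
  Facts.mk' (by norm_num) (by norm_num) (by norm_num) (by norm_num) (by norm_num) (by norm_num)
    (by decide +kernel) (by decide +kernel) (by decide +kernel) (by decide +kernel)

set_option maxRecDepth 100000 in
theorem facts_17 : Facts 17 8 9 3 1 :=
  Facts.mk' (by norm_num) (by norm_num) (by norm_num) (by norm_num) (by norm_num) (by norm_num)
    (by decide +kernel) (by decide +kernel) (by decide +kernel) (by decide +kernel)

set_option maxRecDepth 100000 in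
theorem facts_19 : Facts 19 9 4 18 18 :=
  Facts.mk' (by norm_num) (by norm_num) (by norm_num) (by norm_num) (by norm_num) (by norm_num)
    (by decide +kernel) (by decide +kernel) (by decide +kernel) (by decide +kernel)

set_option maxRecDepth 100000 in
theorem facts_23 : Facts 23 11 2 22 22 :=
  Facts.mk' (by norm_num) (by norm_num) (by norm_num) (by norm_num) (by norm_num) (by norm_num)
    (by decide +kernel) (by decide +kernel) (by decide +kernel) (by decide +kernel)

/-- a function with the multiplicative behaviour of a candidate is a candidate -/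
theorem candN_eq {p d a0 r s c1 c2 : ℕ} (hp : 0 < p)
    (cover : ∀ x, 0 < x → x < p → ∃ i, i < d ∧ (a0 ^ i % p = x ∨ (r * a0 ^ i) % p = x))
    (g : ℕ → ℕ) (hinf : g p = 0) (h0 : g 0 = p)
    (h1 : ∀ i, g (a0 ^ i % p) = (a0 ^ (s * i) * c1) % p)
    (h2 : ∀ i, g ((r * a0 ^ i) % p) = (a0 ^ (s * i) * c2) % p) :
    ∀ x, x ≤ p → g x = candN p a0 r d s c1 c2 x := by
  intro x hx
  unfold candN
  by_cases hxp : x = p
  · rw [if_pos hxp, hxp, hinf]
  rw [if_neg hxp]
  by_cases hx0 : x = 0
  · rw [if_pos hx0, hx0, h0]
  rw [if_neg hx0]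
  obtain ⟨i, hi, hix⟩ := cover x (by omega) (by omega)
  cases hf : (List.range d).find? (fun i => a0 ^ i % p == x) with
  | some j =>
    have := List.find?_some hf
    simp only [beq_iff_eq] at this
    simp only []
    rw [← this, h1]
  | none =>
    simp only []
    rw [List.find?_eq_none] at hf
    have hi1 := hf i (List.mem_range.mpr hi)
    simp only [beq_iff_eq] at hi1
    have hix2 : (r * a0 ^ i) % p = x := by
      rcases hix with h | h
      · exact absurd h hi1
      · exact h
    cases hf2 : (List.range d).find? (fun i => (r * a0 ^ i) % p == x) with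
    | some j =>
      have := List.find?_some hf2
      simp only [beq_iff_eq] at this
      simp only []
      rw [← this, h2]
    | none =>
      rw [List.find?_eq_none] at hf2
      have := hf2 i (List.mem_range.mpr hi)
      simp only [beq_iff_eq] at this
      exact absurd hix2 this

end Cfsg.Agent.Lib.helper18
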