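import Mathlib

/-!
Piece N1 of the S3592 split (architect helper73).
-/

set_option autoImplicit false

namespace Cfsg.Agent.Lib.helper18.M11N

/-- the elements of order `n`, as a set stable under conjugation -/
def ordSubMul (G : Type*) [Group G] (n : ℕ) : SubMulAction (ConjAct G) G where
  carrier := {g | orderOf g = n}
  smul_mem' := by
    intro c x hx
    have hx' : orderOf x = n := hx
    show orderOf (c • x) = n
    rw [ConjAct.smul_def, ← hx']
    exact (MulAut.conj (ConjAct.ofConjAct c)).orderOf_eq x

theorem n1_card_stabilizer {G : Type*} [Group G] [Finite G] (z : G) :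
    Nat.card (MulAction.stabilizer (ConjAct G) z) =
      Nat.card (Subgroup.centralizer ({z} : Set G)) :=
  (Nat.card_congr (Equiv.subtypeEquiv ConjAct.toConjAct.toEquiv (fun g => by
      rw [Subgroup.centralizer_eq_comap_stabilizer]; rfl))).symm

/-- PIECE N1 (generic): the elements of order `n` form a union of conjugacy classes,
each of size `|G| / |C(x)|`, a multiple of `|G| / c`. -/
theorem card_orderOf_dvd {G : Type*} [Group G] [Finite G] (n c : ℕ)
    (h : ∀ x : G, orderOf x = n → ∃ y : G,
      Nat.card (Subgroup.centralizer ({y} : Set G)) = c ∧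
      Subgroup.centralizer ({x} : Set G) ≤ Subgroup.centralizer ({y} : Set G)) :
    Nat.card G / c ∣ Nat.card {g : G // orderOf g = n} := by
  classical
  have hcardS : Nat.card {g : G // orderOf g = n} = Nat.card (ordSubMul G n) := rfl
  rw [hcardS]
  have := Fintype.ofFinite (MulAction.orbitRel.Quotient (ConjAct G) (ordSubMul G n))
  rw [Nat.card_congr (MulAction.selfEquivSigmaOrbits (ConjAct G) (ordSubMul G n)), Nat.card_sigma]
  apply Finset.dvd_sum
  intro ω _
  have hx : orderOf ((ω.out : ordSubMul G n) : G) = n := ω.out.2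
  obtain ⟨y, hy, hle⟩ := h _ hx
  have h1 := Subgroup.card_mul_index (MulAction.stabilizer (ConjAct G) ω.out)
  rw [MulAction.index_stabilizer, ← Nat.card_coe_set_eq] at h1
  have h2 : Nat.card (MulAction.stabilizer (ConjAct G) ω.out) =
      Nat.card (MulAction.stabilizer (ConjAct G) ((ω.out : ordSubMul G n) : G)) := by
    rw [SubMulAction.stabilizer_of_subMul ω.out]
  rw [h2, n1_card_stabilizer] at h1
  have h3 : Nat.card (ConjAct G) = Nat.card G := rfl
  rw [h3, mul_comm] at h1
  have hk : Nat.card (Subgroup.centralizer ({((ω.out : ordSubMul G n) : G)} : Set G)) ∣ c := by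
    rw [← hy]
    exact Subgroup.card_dvd_of_le hle
  have hc : c ∣ Nat.card G := by
    rw [← hy]
    exact Subgroup.card_subgroup_dvd_card _
  have hkpos : 0 < Nat.card (Subgroup.centralizer ({((ω.out : ordSubMul G n) : G)} : Set G)) :=
    Nat.card_pos
  have h4 : Nat.card (MulAction.orbit (ConjAct G) ω.out) =
      Nat.card G / Nat.card (Subgroup.centralizer ({((ω.out : ordSubMul G n) : G)} : Set G)) := by
    rw [← h1, Nat.mul_div_cancel _ hkpos]
  rw [h4]
  exact Nat.div_dvd_div_left hc hk

end Cfsg.Agent.Lib.helper18.M11N
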