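import Mathlib
import Cfsg.Agent.Lib.helper18.Ord504a

/-!
Piece ORD of the S4706 split (architect helper80): the number of elements of order `p`
when the Sylow `p`-subgroups have order `p`.
-/

set_option autoImplicit false

namespace Cfsg.Agent.Lib.helper18.S4706

/-- a non-identity element of a subgroup of prime order has that order -/
theorem s4706_orderOf_of_mem {G : Type*} [Group G] [Finite G] {p : ℕ} [Fact p.Prime]
    (Q : Subgroup G) (hQ : Nat.card Q = p) (x : G) (hx : x ∈ Q) (hx1 : x ≠ 1) :
    orderOf x = p := by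
  have hp : p.Prime := Fact.out
  have hdvd : orderOf x ∣ p := by
    have h1 : orderOf (⟨x, hx⟩ : Q) ∣ Nat.card Q := orderOf_dvd_natCard _
    rw [hQ] at h1
    have h2 : orderOf (⟨x, hx⟩ : Q) = orderOf x := by
      rw [← Subgroup.orderOf_coe]
    rwa [h2] at h1
  rcases (Nat.dvd_prime hp).mp hdvd with h | h
  · exact absurd (orderOf_eq_one_iff.mp h) hx1
  · exact h

/-- a non-identity element of a subgroup of prime order generates it -/
theorem s4706_zpowers_eq {G : Type*} [Group G] [Finite G] {p : ℕ} [Fact p.Prime]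
    (Q : Subgroup G) (hQ : Nat.card Q = p) (x : G) (hx : x ∈ Q) (hx1 : x ≠ 1) :
    Subgroup.zpowers x = Q := by
  apply Subgroup.eq_of_le_of_card_ge
  · rw [Subgroup.zpowers_le]
    exact hx
  · rw [Nat.card_zpowers, s4706_orderOf_of_mem Q hQ x hx hx1, hQ]

/-- (ORD) In a finite group whose Sylow `p`-subgroups have order `p`, the elements of order `p`
number `(p - 1) * |G| / |N_G(P)|`. -/
theorem card_order_p {G : Type*} [Group G] [Finite G] {p : ℕ} [Fact p.Prime] (P : Sylow p G)
    (hP : Nat.card (P : Subgroup G) = p) :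
    (p - 1) * Nat.card G =
      Nat.card (Subgroup.normalizer ((P : Subgroup G) : Set G)) *
        Nat.card {g : G // orderOf g = p} := by
  have hp : p.Prime := Fact.out
  have hk : ∀ Q : Sylow p G, Nat.card Q = p := by
    intro Q
    have h1 := Q.card_eq_multiplicity
    have h2 := P.card_eq_multiplicity
    have h3 : Nat.card (Q : Subgroup G) = Nat.card (P : Subgroup G) := by rw [h1, h2]
    exact h3.trans hP
  have hTI : ∀ Q R : Sylow p G, Q ≠ R → ∀ x, x ∈ Q → x ∈ R → x = 1 := by
    intro Q R hQR x hxQ hxR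
    by_contra hx1
    apply hQR
    apply Sylow.ext
    rw [← s4706_zpowers_eq (Q : Subgroup G) (hk Q) x hxQ hx1,
      ← s4706_zpowers_eq (R : Subgroup G) (hk R) x hxR hx1]
  have hcount := Cfsg.Agent.Lib.helper18.card_union_sylow_TI p p hk hTI
  have hset : {g : G | g ≠ 1 ∧ ∃ Q : Sylow p G, g ∈ Q} = {g : G | orderOf g = p} := by
    ext g
    simp only [Set.mem_ofPred_eq]
    constructor
    · rintro ⟨h1, Q, hQ⟩
      exact s4706_orderOf_of_mem (Q : Subgroup G) (hk Q) g hQ h1
    · intro hg
      refine ⟨?_, ?_⟩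
      · rintro rfl
        rw [orderOf_one] at hg
        exact hp.one_lt.ne hg
      · have hpg : IsPGroup p (Subgroup.zpowers g) := by
          apply IsPGroup.of_card (n := 1)
          rw [Nat.card_zpowers, hg, pow_one]
        obtain ⟨Q, hQ⟩ := hpg.exists_le_sylow
        exact ⟨Q, hQ (Subgroup.mem_zpowers g)⟩
  have hcard : Nat.card {g : G // orderOf g = p} = Nat.card (Sylow p G) * (p - 1) := by
    rw [← hcount, hset]
    exact Nat.card_coe_set_eq _
  have hidx : Nat.card (Sylow p G) =
      (Subgroup.normalizer ((P : Subgroup G) : Set G)).index := Sylow.card_eq_index_normalizer P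
  have hmul := Subgroup.card_mul_index (Subgroup.normalizer ((P : Subgroup G) : Set G))
  rw [hcard, hidx, ← mul_assoc, hmul, mul_comm]

end Cfsg.Agent.Lib.helper18.S4706
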