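import Mathlib
import Cfsg.Agent.Lib.helper18.S4706ORD

/-!
Piece N3a of the S3592 split (architect helper73).
-/

set_option autoImplicit false

namespace Cfsg.Agent.Lib.helper18.M11N

/-- PIECE N3a (generic): the number of elements of order `p` when the Sylow
`p`-subgroups have order `p`. -/
theorem card_orderOf_prime {G : Type*} [Group G] [Finite G] (p : ℕ) [Fact p.Prime]
    (hp : ∀ P : Sylow p G, Nat.card (P : Subgroup G) = p) :
    Nat.card {g : G // orderOf g = p} = (p - 1) * Nat.card (Sylow p G) := by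
  have hpp : p.Prime := Fact.out
  have hTI : ∀ Q R : Sylow p G, Q ≠ R → ∀ x, x ∈ Q → x ∈ R → x = 1 := by
    intro Q R hQR x hxQ hxR
    by_contra hx1
    apply hQR
    apply Sylow.ext
    rw [← Cfsg.Agent.Lib.helper18.S4706.s4706_zpowers_eq (Q : Subgroup G) (hp Q) x hxQ hx1,
      ← Cfsg.Agent.Lib.helper18.S4706.s4706_zpowers_eq (R : Subgroup G) (hp R) x hxR hx1]
  have hcount := Cfsg.Agent.Lib.helper18.card_union_sylow_TI p p hp hTI
  have hset : {g : G | g ≠ 1 ∧ ∃ Q : Sylow p G, g ∈ Q} = {g : G | orderOf g = p} := by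
    ext g
    simp only [Set.mem_ofPred_eq]
    constructor
    · rintro ⟨h1, Q, hQ⟩
      exact Cfsg.Agent.Lib.helper18.S4706.s4706_orderOf_of_mem (Q : Subgroup G) (hp Q) g hQ h1
    · intro hg
      refine ⟨?_, ?_⟩
      · rintro rfl
        rw [orderOf_one] at hg
        exact hpp.one_lt.ne hg
      · have hpg : IsPGroup p (Subgroup.zpowers g) := by
          apply IsPGroup.of_card (n := 1)
          rw [Nat.card_zpowers, hg, pow_one]
        obtain ⟨Q, hQ⟩ := hpg.exists_le_sylow
        exact ⟨Q, hQ (Subgroup.mem_zpowers g)⟩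
  rw [mul_comm, ← hcount, hset]
  exact Nat.card_coe_set_eq _

end Cfsg.Agent.Lib.helper18.M11N
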