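import Mathlib
import Cfsg.Agent.Lib.helper18.M11N_N3a

/-!
Piece N3 of the S3592 split (architect helper73).
-/

set_option autoImplicit false

namespace Cfsg.Agent.Lib.helper18.M11N

theorem n3_sieve11 (n : ℕ) (hd : n ∣ 720) (hm : n % 11 = 1) :
    n = 1 ∨ n = 12 ∨ n = 45 ∨ n = 144 := by
  have hle : n ≤ 720 := Nat.le_of_dvd (by norm_num) hd
  obtain ⟨k, rfl⟩ : ∃ k, n = 11 * k + 1 := ⟨n / 11, by omega⟩
  have hk : k ≤ 65 := by omega
  interval_cases k <;> omega

theorem n3_sieve5 (n : ℕ) (hd : n ∣ 1584) (hm : n % 5 = 1) :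
    n = 1 ∨ n = 6 ∨ n = 11 ∨ n = 16 ∨ n = 36 ∨ n = 66 ∨ n = 176 ∨ n = 396 := by
  have hle : n ≤ 1584 := Nat.le_of_dvd (by norm_num) hd
  obtain ⟨k, rfl⟩ : ∃ k, n = 5 * k + 1 := ⟨n / 5, by omega⟩
  have hk : k ≤ 316 := by omega
  interval_cases k <;> omega

/-- an element commuting with an element of prime order `q` normalizes a Sylow `q`-subgroup,
when these have order `q` -/
theorem n3_mem_normalizer {G : Type*} [Group G] [Finite G] (q : ℕ) [Fact q.Prime]
    (hq : ∀ P : Sylow q G, Nat.card (P : Subgroup G) = q) (x y : G) (hx : orderOf x = q)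
    (hxy : Commute x y) :
    ∃ Q : Sylow q G, y ∈ Subgroup.normalizer ((Q : Subgroup G) : Set G) := by
  have hqp : q.Prime := Fact.out
  have hx1 : x ≠ 1 := by
    rintro rfl
    rw [orderOf_one] at hx
    exact hqp.one_lt.ne hx
  have hpg : IsPGroup q (Subgroup.zpowers x) := by
    apply IsPGroup.of_card (n := 1)
    rw [Nat.card_zpowers, hx, pow_one]
  obtain ⟨Q, hQ⟩ := hpg.exists_le_sylow
  have hxQ : x ∈ (Q : Subgroup G) := hQ (Subgroup.mem_zpowers x)
  have hzQ : Subgroup.zpowers x = (Q : Subgroup G) :=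
    Cfsg.Agent.Lib.helper18.S4706.s4706_zpowers_eq (Q : Subgroup G) (hq Q) x hxQ hx1
  refine ⟨Q, ?_⟩
  have hcomm : ∀ h : G, h ∈ (Q : Subgroup G) → y * h * y⁻¹ = h := by
    intro h hh
    rw [← hzQ] at hh
    obtain ⟨k, rfl⟩ := Subgroup.mem_zpowers_iff.mp hh
    have : Commute y (x ^ k) := (hxy.symm).zpow_right k
    rw [this.eq, mul_inv_cancel_right]
  rw [Subgroup.mem_normalizer_iff]
  intro h
  constructor
  · intro hh
    rw [hcomm h hh]
    exact hh
  · intro hh
    have h2 := hcomm _ hh
    have h3 : y * h * y⁻¹ = h := by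
      have : y * (y * h * y⁻¹) * y⁻¹ = y * h * y⁻¹ := h2
      have h4 : y * (y * h * y⁻¹) * y⁻¹ = y * (y * h * y⁻¹) * y⁻¹ := rfl
      calc y * h * y⁻¹ = y⁻¹ * (y * (y * h * y⁻¹) * y⁻¹) * y := by group
        _ = y⁻¹ * (y * h * y⁻¹) * y := by rw [this]
        _ = h := by group
    rw [← h3]
    exact hh

theorem n3_orderOf_dvd {G : Type*} [Group G] [Finite G] (H : Subgroup G) (y : G) (hy : y ∈ H) :
    orderOf y ∣ Nat.card H := by
  have h1 : orderOf (⟨y, hy⟩ : H) ∣ Nat.card H := orderOf_dvd_natCard _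
  have h2 : orderOf (⟨y, hy⟩ : H) = orderOf y := by
    rw [← Subgroup.orderOf_coe]
  rwa [h2] at h1

/-- PIECE N3: a group of order `7920` with the right numbers of elements of order `11` and `5`
has no element of order `11 b`, `b ∈ {2, 3, 5}`. -/
theorem no_mixed_order {G : Type*} [Group G] [Finite G] (hG : Nat.card G = 7920)
    (h11 : Nat.card {g : G // orderOf g = 11} ∉ ({10, 120, 450} : Set ℕ))
    (h5 : Nat.card {g : G // orderOf g = 5} ∉ ({4, 24, 44, 64, 144, 264, 704} : Set ℕ))
    (b : ℕ) (hb : b.Prime) (hb11 : b ≠ 11) (hbd : b ∣ 7920) :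
    ¬ ∃ g : G, orderOf g = 11 * b := by
  rintro ⟨g, hg⟩
  have : Fact (Nat.Prime 11) := ⟨by norm_num⟩
  have : Fact (Nat.Prime 5) := ⟨by norm_num⟩
  have hP11 : ∀ P : Sylow 11 G, Nat.card (P : Subgroup G) = 11 := by
    intro P
    have := Cfsg.Agent.Lib.helper18.sylow_card_pow 11 1 720 (by norm_num) (by rw [hG]; norm_num) P
    simpa using this
  have hP5 : ∀ P : Sylow 5 G, Nat.card (P : Subgroup G) = 5 := by
    intro P
    have := Cfsg.Agent.Lib.helper18.sylow_card_pow 5 1 1584 (by norm_num) (by rw [hG]; norm_num) P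
    simpa using this
  have hs11 := card_orderOf_prime 11 hP11
  have hs5 := card_orderOf_prime 5 hP5
  have hn11 : Nat.card (Sylow 11 G) = 144 := by
    have hmod : Nat.card (Sylow 11 G) % 11 = 1 := card_sylow_modEq_one 11 G
    have P : Sylow 11 G := default
    have hdvd := Sylow.card_dvd_index P
    have hidx : (P : Subgroup G).index = 720 := by
      have := Subgroup.card_mul_index (P : Subgroup G)
      rw [hP11 P, hG] at this
      omega
    rw [hidx] at hdvd
    rcases n3_sieve11 _ hdvd hmod with h | h | h | h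
    · exfalso
      apply h11
      rw [hs11, h]
      simp
    · exfalso
      apply h11
      rw [hs11, h]
      simp
    · exfalso
      apply h11
      rw [hs11, h]
      simp
    · exact h
  have hn5 : Nat.card (Sylow 5 G) = 396 := by
    have hmod : Nat.card (Sylow 5 G) % 5 = 1 := card_sylow_modEq_one 5 G
    have P : Sylow 5 G := default
    have hdvd := Sylow.card_dvd_index P
    have hidx : (P : Subgroup G).index = 1584 := by
      have := Subgroup.card_mul_index (P : Subgroup G)
      rw [hP5 P, hG] at this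
      omega
    rw [hidx] at hdvd
    rcases n3_sieve5 _ hdvd hmod with h | h | h | h | h | h | h | h
    · exfalso
      apply h5
      rw [hs5, h]
      simp
    · exfalso
      apply h5
      rw [hs5, h]
      simp
    · exfalso
      apply h5
      rw [hs5, h]
      simp
    · exfalso
      apply h5
      rw [hs5, h]
      simp
    · exfalso
      apply h5
      rw [hs5, h]
      simp
    · exfalso
      apply h5
      rw [hs5, h]
      simp
    · exfalso
      apply h5
      rw [hs5, h]
      simp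
    · exact h
  have hN11 : ∀ P : Sylow 11 G,
      Nat.card (Subgroup.normalizer ((P : Subgroup G) : Set G)) = 55 := by
    intro P
    have h1 : Nat.card (Sylow 11 G) =
        (Subgroup.normalizer ((P : Subgroup G) : Set G)).index := Sylow.card_eq_index_normalizer P
    have h2 := Subgroup.card_mul_index (Subgroup.normalizer ((P : Subgroup G) : Set G))
    rw [← h1, hn11, hG] at h2
    omega
  have hN5 : ∀ P : Sylow 5 G,
      Nat.card (Subgroup.normalizer ((P : Subgroup G) : Set G)) = 20 := by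
    intro P
    have h1 : Nat.card (Sylow 5 G) =
        (Subgroup.normalizer ((P : Subgroup G) : Set G)).index := Sylow.card_eq_index_normalizer P
    have h2 := Subgroup.card_mul_index (Subgroup.normalizer ((P : Subgroup G) : Set G))
    rw [← h1, hn5, hG] at h2
    omega
  have hb' : b = 2 ∨ b = 3 ∨ b = 5 := by
    have h7920 : (7920 : ℕ) = 2 ^ 4 * 3 ^ 2 * 5 * 11 := by norm_num
    rw [h7920] at hbd
    rcases (Nat.Prime.dvd_mul hb).mp hbd with h | h
    · rcases (Nat.Prime.dvd_mul hb).mp h with h | h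
      · rcases (Nat.Prime.dvd_mul hb).mp h with h | h
        · left
          exact (Nat.prime_dvd_prime_iff_eq hb Nat.prime_two).mp (hb.dvd_of_dvd_pow h)
        · right; left
          exact (Nat.prime_dvd_prime_iff_eq hb Nat.prime_three).mp (hb.dvd_of_dvd_pow h)
      · right; right
        exact (Nat.prime_dvd_prime_iff_eq hb Nat.prime_five).mp h
    · exfalso
      exact hb11 ((Nat.prime_dvd_prime_iff_eq hb (by norm_num)).mp h)
  have hcomm : ∀ i j : ℕ, Commute (g ^ i) (g ^ j) := fun i j => (Commute.refl g).pow_pow i j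
  rcases hb' with rfl | rfl | rfl
  · -- order 22
    have hx : orderOf (g ^ 2) = 11 := by
      rw [orderOf_pow_of_dvd (by norm_num) (by rw [hg]; norm_num), hg]
    have hy : orderOf (g ^ 11) = 2 := by
      rw [orderOf_pow_of_dvd (by norm_num) (by rw [hg]; norm_num), hg]
    obtain ⟨Q, hQ⟩ := n3_mem_normalizer 11 hP11 (g ^ 2) (g ^ 11) hx (hcomm 2 11)
    have hd := n3_orderOf_dvd _ _ hQ
    rw [hy, hN11 Q] at hd
    omega
  · -- order 33
    have hx : orderOf (g ^ 3) = 11 := by
      rw [orderOf_pow_of_dvd (by norm_num) (by rw [hg]; norm_num), hg]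
    have hy : orderOf (g ^ 11) = 3 := by
      rw [orderOf_pow_of_dvd (by norm_num) (by rw [hg]; norm_num), hg]
    obtain ⟨Q, hQ⟩ := n3_mem_normalizer 11 hP11 (g ^ 3) (g ^ 11) hx (hcomm 3 11)
    have hd := n3_orderOf_dvd _ _ hQ
    rw [hy, hN11 Q] at hd
    omega
  · -- order 55
    have hx : orderOf (g ^ 11) = 5 := by
      rw [orderOf_pow_of_dvd (by norm_num) (by rw [hg]; norm_num), hg]
    have hy : orderOf (g ^ 5) = 11 := by
      rw [orderOf_pow_of_dvd (by norm_num) (by rw [hg]; norm_num), hg]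
    obtain ⟨Q, hQ⟩ := n3_mem_normalizer 5 hP5 (g ^ 11) (g ^ 5) hx (hcomm 11 5)
    have hd := n3_orderOf_dvd _ _ hQ
    rw [hy, hN5 Q] at hd
    omega

end Cfsg.Agent.Lib.helper18.M11N
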