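import Mathlib
import Cfsg.Agent.Lib.helper42.AltRank

set_option autoImplicit false

namespace Cfsg.Agent.Lib.helper18

open Module

section MaxTS

variable {F V : Type*} [Field F] [AddCommGroup V] [Module F V]

/-- The orthogonal of a sum is the intersection of the orthogonals. -/
lemma orthogonal_sup_eq (B : LinearMap.BilinForm F V) (S T : Submodule F V) :
    B.orthogonal (S ⊔ T) = B.orthogonal S ⊓ B.orthogonal T := by
  apply le_antisymm
  · exact le_inf (LinearMap.BilinForm.orthogonal_le le_sup_left)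
      (LinearMap.BilinForm.orthogonal_le le_sup_right)
  · intro x hx n hn
    obtain ⟨s, hs, t, ht, rfl⟩ := Submodule.mem_sup.mp hn
    have h1 : B s x = 0 := hx.1 s hs
    have h2 : B t x = 0 := hx.2 t ht
    show B (s + t) x = 0
    rw [map_add, LinearMap.add_apply, h1, h2, add_zero]

variable [FiniteDimensional F V]

/-- For a nondegenerate reflexive form, the orthogonal of an intersection is the sum of the
orthogonals. -/
lemma orthogonal_inf_eq (B : LinearMap.BilinForm F V) (hB : B.Nondegenerate) (hR : B.IsRefl)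
    (S T : Submodule F V) : B.orthogonal (S ⊓ T) = B.orthogonal S ⊔ B.orthogonal T := by
  have h := orthogonal_sup_eq B (B.orthogonal S) (B.orthogonal T)
  rw [LinearMap.BilinForm.orthogonal_orthogonal hB hR,
    LinearMap.BilinForm.orthogonal_orthogonal hB hR] at h
  rw [← h, LinearMap.BilinForm.orthogonal_orthogonal hB hR]

/-- The parity theorem for maximal totally singular subspaces of a nondegenerate quadratic space of
dimension `2m`: for three totally singular `m`-subspaces the codimensions of the pairwise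
intersections add up to an even number. -/
theorem maxTS_triple_parity (B : LinearMap.BilinForm F V) (hB : B.Nondegenerate) (hS : B.IsSymm)
    (Q : V → F) (hQ : ∀ x y, Q (x + y) = Q x + Q y + B x y) (m : ℕ) (hV : finrank F V = 2 * m)
    (U W X : Submodule F V)
    (hU : finrank F U = m) (hUQ : ∀ x ∈ U, Q x = 0)
    (hW : finrank F W = m) (hWQ : ∀ x ∈ W, Q x = 0)
    (hX : finrank F X = m) (hXQ : ∀ x ∈ X, Q x = 0) :
    Even ((m - finrank F ↥(U ⊓ W)) + (m - finrank F ↥(W ⊓ X)) + (m - finrank F ↥(U ⊓ X))) := by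
  have hR : B.IsRefl := hS.isRefl
  have hti : ∀ (Y : Submodule F V), (∀ x ∈ Y, Q x = 0) → ∀ x ∈ Y, ∀ y ∈ Y, B x y = 0 := by
    intro Y hY x hx y hy
    have h := hQ x y
    rw [hY _ (Y.add_mem hx hy), hY x hx, hY y hy] at h
    simpa using h.symm
  have hperp : ∀ (Y : Submodule F V), finrank F Y = m → (∀ x ∈ Y, Q x = 0) →
      B.orthogonal Y = Y := by
    intro Y hYm hY
    symm
    apply Submodule.eq_of_le_of_finrank_eq
    · intro x hx n hn
      exact hti Y hY n hn x hx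
    · rw [LinearMap.BilinForm.finrank_orthogonal hB, hV, hYm]
      omega
  have hUp := hperp U hU hUQ
  have hWp := hperp W hW hWQ
  have hXp := hperp X hX hXQ
  obtain ⟨D, hD⟩ : ∃ D, D = U ⊓ W := ⟨_, rfl⟩
  obtain ⟨S, hSdef⟩ : ∃ S, S = U ⊔ W := ⟨_, rfl⟩
  obtain ⟨X₀, hX₀⟩ : ∃ X₀, X₀ = X ⊓ S := ⟨_, rfl⟩
  have hX₀p : B.orthogonal X₀ = X ⊔ D := by
    rw [hX₀, orthogonal_inf_eq B hB hR, hXp, hSdef, orthogonal_sup_eq, hUp, hWp, hD]
  -- a linear projection of `U + W` onto `U` along (a part of) `W`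
  obtain ⟨s, hs⟩ : ∃ s : V →ₗ[F] V, ∀ x ∈ S, s x ∈ U ∧ x - s x ∈ W := by
    have hUS : U ≤ S := hSdef ▸ le_sup_left
    have hWS : W ≤ S := hSdef ▸ le_sup_right
    let p : (U × W) →ₗ[F] S :=
      LinearMap.coprod (Submodule.inclusion hUS) (Submodule.inclusion hWS)
    have hp : LinearMap.range p = ⊤ := by
      rw [LinearMap.range_eq_top]
      rintro ⟨x, hx⟩
      rw [hSdef] at hx
      obtain ⟨u, hu, w, hw, rfl⟩ := Submodule.mem_sup.mp hx
      refine ⟨(⟨u, hu⟩, ⟨w, hw⟩), ?_⟩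
      apply Subtype.ext
      simp [p]
    obtain ⟨g, hg⟩ := p.exists_rightInverse_of_surjective hp
    obtain ⟨s, hs⟩ := LinearMap.exists_extend (U.subtype ∘ₗ LinearMap.fst F U W ∘ₗ g)
    refine ⟨s, fun x hx => ?_⟩
    have h1 : s x = ((g ⟨x, hx⟩).1 : V) := by
      have := LinearMap.congr_fun hs ⟨x, hx⟩
      simpa using this
    have h2 : ((g ⟨x, hx⟩).1 : V) + ((g ⟨x, hx⟩).2 : V) = x := by
      have h := LinearMap.congr_fun hg ⟨x, hx⟩
      have h' := congrArg Subtype.val h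
      simpa [p] using h'
    refine ⟨by rw [h1]; exact (g ⟨x, hx⟩).1.2, ?_⟩
    have h3 : x - s x = ((g ⟨x, hx⟩).2 : V) := by
      rw [h1]
      exact sub_eq_of_eq_add' h2.symm
    rw [h3]
    exact (g ⟨x, hx⟩).2.2
  -- the alternating form on `X₀`
  let φ : LinearMap.BilinForm F X₀ := B.compl₁₂ (s ∘ₗ X₀.subtype) X₀.subtype
  have hφ : ∀ x y : X₀, φ x y = B (s x) y := fun x y => rfl
  have hmemX₀ : ∀ x : X₀, (x : V) ∈ X ∧ (x : V) ∈ S := by
    intro x
    have h : (x : V) ∈ X₀ := x.2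
    have h' : (x : V) ∈ X ⊓ S := by rw [← hX₀]; exact h
    exact Submodule.mem_inf.mp h'
  have hφalt : φ.IsAlt := by
    intro x
    rw [hφ]
    obtain ⟨hxX, hxS⟩ := hmemX₀ x
    obtain ⟨hu, hw⟩ := hs x hxS
    have h1 := hQ (s x) (x - s x)
    rw [add_sub_cancel, hXQ _ hxX, hUQ _ hu, hWQ _ hw] at h1
    have h2 : B (s x) (x : V) = B (s x) (s x) + B (s x) (x - s x) := by
      rw [← map_add, add_sub_cancel]
    rw [h2, hti U hUQ _ hu _ hu]
    simpa using h1.symm
  have hrad : φ.orthogonal ⊤ = ((X ⊓ U) ⊔ (X ⊓ W)).comap X₀.subtype := by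
    ext x
    rw [LinearMap.BilinForm.mem_orthogonal_iff, Submodule.mem_comap]
    obtain ⟨hxX, hxS⟩ := hmemX₀ x
    obtain ⟨hu, hw⟩ := hs x hxS
    have key : (∀ n ∈ (⊤ : Submodule F X₀), φ n x = 0) ↔ s x ∈ X ⊔ D := by
      rw [← hX₀p, LinearMap.BilinForm.mem_orthogonal_iff]
      constructor
      · intro h n hn
        have h1 := h ⟨n, hn⟩ Submodule.mem_top
        have h2 : φ x ⟨n, hn⟩ = 0 := by
          have := hφalt.neg_eq ⟨n, hn⟩ x
          rw [← this, h1, neg_zero]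
        rw [hφ] at h2
        exact (hS.eq _ _).trans h2
      · intro h n _
        have h1 : φ x n = 0 := by
          rw [hφ]
          exact (hS.eq _ _).trans (h n n.2)
        have := hφalt.neg_eq x n
        rw [← this, h1, neg_zero]
    rw [key]
    constructor
    · intro h
      obtain ⟨x₁, hx₁, δ, hδ, hsum⟩ := Submodule.mem_sup.mp h
      rw [hD] at hδ
      have hx₁U : x₁ ∈ U := by
        have : x₁ = s x - δ := eq_sub_of_add_eq hsum
        rw [this]
        exact U.sub_mem hu (Submodule.mem_inf.mp hδ).1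
      refine Submodule.mem_sup.mpr ⟨x₁, ⟨hx₁, hx₁U⟩, x - x₁, ⟨X.sub_mem hxX hx₁, ?_⟩, by abel⟩
      have : (x : V) - x₁ = (x - s x) + δ := by rw [← hsum]; abel
      rw [this]
      exact W.add_mem hw (Submodule.mem_inf.mp hδ).2
    · intro h
      obtain ⟨x₁, hx₁, x₂, hx₂, hsum⟩ := Submodule.mem_sup.mp h
      have hx₁' := Submodule.mem_inf.mp hx₁
      have hx₂' := Submodule.mem_inf.mp hx₂
      refine Submodule.mem_sup.mpr ⟨x₁, hx₁'.1, s x - x₁, ?_, by abel⟩
      rw [hD]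
      refine ⟨U.sub_mem hu hx₁'.2, ?_⟩
      have : s x - x₁ = x₂ - (x - s x) := by
        have hsum' : (X₀.subtype x) = x₁ + x₂ := hsum.symm
        simp only [Submodule.subtype_apply] at hsum'
        rw [hsum']; abel
      have hmem : s x - x₁ ∈ W := by
        rw [this]
        exact W.sub_mem hx₂'.2 hw
      exact hmem
  -- dimension count
  obtain ⟨L, hL⟩ := Cfsg.Agent.Lib.helper42.alt_exists_lagrangian φ hφalt
  rw [hrad] at hL
  have hle : (X ⊓ U) ⊔ (X ⊓ W) ≤ X₀ := by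
    rw [hX₀, hSdef]
    exact sup_le (inf_le_inf_left X le_sup_left) (inf_le_inf_left X le_sup_right)
  have hr : finrank F (((X ⊓ U) ⊔ (X ⊓ W)).comap X₀.subtype)
      = finrank F ↥((X ⊓ U) ⊔ (X ⊓ W)) :=
    (Submodule.comapSubtypeEquivOfLe hle).finrank_eq
  rw [hr] at hL
  have e1 := Submodule.finrank_sup_add_finrank_inf_eq (X ⊓ U) (X ⊓ W)
  have hXD : (X ⊓ U) ⊓ (X ⊓ W) = X ⊓ D := by
    rw [hD, ← inf_inf_distrib_left]
  rw [hXD] at e1
  have e2 := Submodule.finrank_sup_add_finrank_inf_eq X S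
  rw [← hX₀, hX] at e2
  have e3 := Submodule.finrank_sup_add_finrank_inf_eq U W
  rw [← hSdef, ← hD, hU, hW] at e3
  have e4 : finrank F ↥(X ⊔ S) + finrank F ↥(X ⊓ D) = 2 * m := by
    have h1 := LinearMap.BilinForm.finrank_orthogonal hB (X ⊔ S)
    have h2 : B.orthogonal (X ⊔ S) = X ⊓ D := by
      rw [orthogonal_sup_eq, hXp, hSdef, orthogonal_sup_eq, hUp, hWp, hD]
    rw [h2, hV] at h1
    have h3 : finrank F ↥(X ⊔ S) ≤ finrank F V := Submodule.finrank_le _
    omega
  have ha : finrank F ↥(X ⊓ U) = finrank F ↥(U ⊓ X) := by rw [inf_comm]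
  have hb : finrank F ↥(X ⊓ W) = finrank F ↥(W ⊓ X) := by rw [inf_comm]
  have hle1 : finrank F ↥(U ⊓ W) ≤ m := hU ▸ Submodule.finrank_mono inf_le_left
  have hle2 : finrank F ↥(W ⊓ X) ≤ m := hW ▸ Submodule.finrank_mono inf_le_left
  have hle3 : finrank F ↥(U ⊓ X) ≤ m := hU ▸ Submodule.finrank_mono inf_le_left
  rw [← hD] at hle1 ⊢
  rw [Nat.even_iff]
  omega

end MaxTS

end Cfsg.Agent.Lib.helper18
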