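import Mathlib
import Cfsg.Agent.Lib.helper85.McLDefs
import Cfsg.Agent.Lib.helper45.SLGen

set_option autoImplicit false

open Cfsg.Agent.Lib.helper85.McL

namespace Cfsg.Agent.Lib.helper18.McL

universe u

variable {p : ℕ} [Fact p.Prime] {V : Type u} [AddCommGroup V] [Module (ZMod p) V]

/-- the group hom from `SL_n` to the linear automorphisms attached to a basis. -/
noncomputable def slHom {n : ℕ} (b : Module.Basis (Fin n) (ZMod p) V) :
    Matrix.SpecialLinearGroup (Fin n) (ZMod p) →* (V ≃ₗ[ZMod p] V) :=
  (LinearMap.GeneralLinearGroup.generalLinearEquiv (ZMod p) V).toMonoidHom.comp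
    ((Units.map (Matrix.toLinAlgEquiv b : Matrix (Fin n) (Fin n) (ZMod p) →* (V →ₗ[ZMod p] V))).comp
      Matrix.SpecialLinearGroup.toGL)

theorem slHom_apply {n : ℕ} (b : Module.Basis (Fin n) (ZMod p) V)
    (A : Matrix.SpecialLinearGroup (Fin n) (ZMod p)) (x : V) :
    slHom b A x = Matrix.toLin b b A.1 x := rfl

/-- the image of an elementary transvection. -/
theorem slHom_transvection {n : ℕ} (b : Module.Basis (Fin n) (ZMod p) V) {i j : Fin n} (hij : i ≠ j)
    (a : ZMod p) (x : V) :
    slHom b (Matrix.SpecialLinearGroup.transvection hij a) x = x + (a • b.coord j) x • b i := by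
  rw [slHom_apply, Matrix.SpecialLinearGroup.transvection_coe]
  have h1 : Matrix.toLin b b (1 + Matrix.single i j a) =
      LinearMap.id + (a • b.coord j).smulRight (b i) := by
    apply b.ext
    intro k
    rw [Matrix.toLin_self]
    simp only [Matrix.add_apply, Matrix.one_apply, Matrix.single_apply, add_smul, Finset.sum_add_distrib,
      LinearMap.add_apply, LinearMap.id_apply, LinearMap.smulRight_apply, LinearMap.smul_apply,
      Module.Basis.coord_apply, Module.Basis.repr_self, smul_eq_mul]
    congr 1
    · simp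
    · by_cases hk : j = k
      · subst hk
        simp
      · have hk' : ¬ k = j := fun h => hk h.symm
        simp [hk]
  rw [h1]
  rfl

/-- PIECE SLGEN. -/
theorem sl_gen [Finite V] (g : V ≃ₗ[ZMod p] V) (hg : LinearMap.det (g : V →ₗ[ZMod p] V) = 1) :
    g ∈ Subgroup.closure {t : V ≃ₗ[ZMod p] V | IsTv t} := by
  obtain ⟨n, ⟨b⟩⟩ : ∃ n : ℕ, Nonempty (Module.Basis (Fin n) (ZMod p) V) :=
    ⟨_, ⟨Module.finBasis (ZMod p) V⟩⟩
  have hdet : (LinearMap.toMatrix b b (g : V →ₗ[ZMod p] V)).det = 1 := by
    rw [LinearMap.det_toMatrix, hg]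
  have hgM : ∀ x, Matrix.toLin b b (LinearMap.toMatrix b b (g : V →ₗ[ZMod p] V)) x = g x := by
    intro x
    rw [Matrix.toLin_toMatrix]
    rfl
  by_cases hn : n ≤ 1
  · have hM : LinearMap.toMatrix b b (g : V →ₗ[ZMod p] V) = 1 := by
      interval_cases n
      · ext i
        exact i.elim0
      · ext i j
        have hi : i = 0 := Subsingleton.elim _ _
        have hj : j = 0 := Subsingleton.elim _ _
        subst hi
        subst hj
        rw [Matrix.det_fin_one] at hdet
        rw [hdet, Matrix.one_apply_eq]
    have h1 : g = 1 := by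
      ext x
      rw [← hgM x, hM, Matrix.toLin_one]
      rfl
    rw [h1]
    exact Subgroup.one_mem _
  · have hnt : Nontrivial (Fin n) := Fin.nontrivial_iff_two_le.mpr (by omega)
    have htv : ∀ (i j : Fin n) (hij : i ≠ j) (a : ZMod p),
        slHom b (Matrix.SpecialLinearGroup.transvection hij a) ∈
          Subgroup.closure {t : V ≃ₗ[ZMod p] V | IsTv t} := by
      intro i j hij a
      by_cases ha : a = 0
      · have h0 : Matrix.SpecialLinearGroup.transvection hij (0 : ZMod p) = 1 := by
          apply Subtype.ext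
          rw [Matrix.SpecialLinearGroup.transvection_coe]
          simp
        rw [ha, h0, map_one]
        exact Subgroup.one_mem _
      · apply Subgroup.subset_closure
        refine ⟨b i, a • b.coord j, b.ne_zero i, ?_, ?_, slHom_transvection b hij a⟩
        · intro h
          have h2 : (a • b.coord j) (b j) = (0 : Module.Dual (ZMod p) V) (b j) := by rw [h]
          rw [LinearMap.smul_apply, Module.Basis.coord_apply, Module.Basis.repr_self,
            Finsupp.single_eq_same, LinearMap.zero_apply, smul_eq_mul, mul_one] at h2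
          exact ha h2
        · rw [LinearMap.smul_apply, Module.Basis.coord_apply, Module.Basis.repr_self,
            Finsupp.single_eq_of_ne hij.symm, smul_zero]
    have htop : (Subgroup.closure {t : V ≃ₗ[ZMod p] V | IsTv t}).comap (slHom b) = ⊤ :=
      Cfsg.Agent.Lib.helper45.eq_top_of_transvection_mem (ι := Fin n) (F := ZMod p) _
        (fun i j hij a => Subgroup.mem_comap.mpr (htv i j hij a))
    obtain ⟨M', hM'⟩ : ∃ M' : Matrix.SpecialLinearGroup (Fin n) (ZMod p),
        M'.1 = LinearMap.toMatrix b b (g : V →ₗ[ZMod p] V) := ⟨⟨_, hdet⟩, rfl⟩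
    have hmem : M' ∈ (Subgroup.closure {t : V ≃ₗ[ZMod p] V | IsTv t}).comap (slHom b) := by
      rw [htop]
      trivial
    have hmem' : slHom b M' ∈ Subgroup.closure {t : V ≃ₗ[ZMod p] V | IsTv t} :=
      Subgroup.mem_comap.mp hmem
    have heq : slHom b M' = g := by
      ext x
      rw [slHom_apply, hM']
      exact hgM x
    rw [heq] at hmem'
    exact hmem'

end Cfsg.Agent.Lib.helper18.McL
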