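import Mathlib
import Cfsg.Agent.Lib.helper85.McLDefs

set_option autoImplicit false

open Cfsg.Agent.Lib.helper85.McL

namespace Cfsg.Agent.Lib.helper18.McL

universe u

variable {p : ℕ} [Fact p.Prime] {V : Type u} [AddCommGroup V] [Module (ZMod p) V]

/-- the symplectic transvection `x ↦ x + a B(c,x) c`. -/
noncomputable def spTv (B : LinearMap.BilinForm (ZMod p) V) (hA : B.IsAlt) (c : V) (a : ZMod p) :
    V ≃ₗ[ZMod p] V :=
  LinearEquiv.ofLinearMap (LinearMap.id + (a • B c).smulRight c) (LinearMap.id - (a • B c).smulRight c)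
    (by
      ext x
      simp only [LinearMap.comp_apply, LinearMap.add_apply, LinearMap.sub_apply, LinearMap.id_apply,
        LinearMap.smulRight_apply, LinearMap.smul_apply, map_sub, map_smul, hA c, smul_eq_mul,
        mul_zero, zero_smul]
      abel_nf)
    (by
      ext x
      simp only [LinearMap.comp_apply, LinearMap.add_apply, LinearMap.sub_apply, LinearMap.id_apply,
        LinearMap.smulRight_apply, LinearMap.smul_apply, map_add, map_smul, hA c, smul_eq_mul,
        mul_zero, zero_smul]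
      abel_nf)

theorem spTv_apply (B : LinearMap.BilinForm (ZMod p) V) (hA : B.IsAlt) (c : V) (a : ZMod p) (x : V) :
    spTv B hA c a x = x + (a * B c x) • c := rfl

theorem sp_alt_swap (B : LinearMap.BilinForm (ZMod p) V) (hA : B.IsAlt) (x y : V) :
    B x y = - B y x := (LinearMap.IsAlt.neg hA y x).symm

theorem spTv_isom (B : LinearMap.BilinForm (ZMod p) V) (hA : B.IsAlt) (c : V) (a : ZMod p) (x y : V) :
    B (spTv B hA c a x) (spTv B hA c a y) = B x y := by
  rw [spTv_apply, spTv_apply]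
  simp only [map_add, map_smul, LinearMap.add_apply, LinearMap.smul_apply, hA c, smul_eq_mul,
    mul_zero, add_zero]
  rw [sp_alt_swap B hA x c]
  ring

/-- moving `u` to `u'` by a symplectic transvection when `B u' u ≠ 0`. -/
theorem sp_move (B : LinearMap.BilinForm (ZMod p) V) (hA : B.IsAlt) (u u' : V) (h : B u' u ≠ 0) :
    ∃ t : V ≃ₗ[ZMod p] V,
      t ∈ {t : V ≃ₗ[ZMod p] V | ∃ (c : V) (a : ZMod p), c ≠ 0 ∧ a ≠ 0 ∧
        ∀ x, t x = x + (a * B c x) • c} ∧
      (∀ x y, B (t x) (t y) = B x y) ∧ t u = u' ∧ ∀ y, B (u' - u) y = 0 → t y = y := by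
  have hcu : B (u' - u) u = B u' u := by
    rw [map_sub, LinearMap.sub_apply, hA u, sub_zero]
  have hcu0 : B (u' - u) u ≠ 0 := by rw [hcu]; exact h
  have hc0 : u' - u ≠ 0 := by
    intro h0
    rw [h0, map_zero, LinearMap.zero_apply] at hcu0
    exact hcu0 rfl
  refine ⟨spTv B hA (u' - u) (B (u' - u) u)⁻¹, ⟨u' - u, (B (u' - u) u)⁻¹, hc0, inv_ne_zero hcu0,
    spTv_apply B hA _ _⟩, spTv_isom B hA _ _, ?_, ?_⟩
  · rw [spTv_apply, inv_mul_cancel₀ hcu0, one_smul]
    abel
  · intro y hy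
    rw [spTv_apply, hy, mul_zero, zero_smul, add_zero]

theorem sp_gen_aux [Finite V] (B : LinearMap.BilinForm (ZMod p) V) (hA : B.IsAlt)
    (hN : B.Nondegenerate) (U : Submodule (ZMod p) V) :
    ∀ g : V ≃ₗ[ZMod p] V, (∀ x y, B (g x) (g y) = B x y) → (∀ x, x ∈ U ↔ g x = x) →
      g ∈ Subgroup.closure {t : V ≃ₗ[ZMod p] V |
        ∃ (c : V) (a : ZMod p), c ≠ 0 ∧ a ≠ 0 ∧ ∀ x, t x = x + (a * B c x) • c} := by
  refine WellFoundedGT.induction (motive := fun U : Submodule (ZMod p) V =>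
    ∀ g : V ≃ₗ[ZMod p] V, (∀ x y, B (g x) (g y) = B x y) → (∀ x, x ∈ U ↔ g x = x) →
      g ∈ Subgroup.closure {t : V ≃ₗ[ZMod p] V |
        ∃ (c : V) (a : ZMod p), c ≠ 0 ∧ a ≠ 0 ∧ ∀ x, t x = x + (a * B c x) • c}) U ?_
  intro U IH g hg hU
  by_cases hall : ∀ x, g x = x
  · have h1 : g = 1 := by
      ext x
      exact hall x
    rw [h1]
    exact Subgroup.one_mem _
  -- the key orthogonality
  have hK1 : ∀ x y, y ∈ U → B (x - g x) y = 0 := by
    intro x y hy
    have hgy : g y = y := (hU y).mp hy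
    rw [map_sub, LinearMap.sub_apply]
    conv_lhs => rw [← hg x y, hgy]
    exact sub_self _
  -- the general step: if `s` is a product of generators, an isometry, fixing `U` pointwise and
  -- `s (g x) = x` for some `x ∉ U`, then we are done by induction
  have hstep : ∀ s : V ≃ₗ[ZMod p] V,
      s ∈ Subgroup.closure {t : V ≃ₗ[ZMod p] V |
        ∃ (c : V) (a : ZMod p), c ≠ 0 ∧ a ≠ 0 ∧ ∀ x, t x = x + (a * B c x) • c} →
      (∀ x y, B (s x) (s y) = B x y) → (∀ y ∈ U, s y = y) → (∃ x, g x ≠ x ∧ s (g x) = x) →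
      g ∈ Subgroup.closure {t : V ≃ₗ[ZMod p] V |
        ∃ (c : V) (a : ZMod p), c ≠ 0 ∧ a ≠ 0 ∧ ∀ x, t x = x + (a * B c x) • c} := by
    intro s hs hsiso hsU ⟨x, hx, hsx⟩
    have hlt : U < LinearMap.eqLocus ((s * g : V ≃ₗ[ZMod p] V) : V →ₗ[ZMod p] V) LinearMap.id := by
      rw [SetLike.lt_iff_le_and_exists]
      refine ⟨?_, x, ?_, ?_⟩
      · intro y hy
        rw [LinearMap.mem_eqLocus]
        change s (g y) = y
        rw [(hU y).mp hy, hsU y hy]
      · rw [LinearMap.mem_eqLocus]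
        exact hsx
      · intro hxU
        exact hx ((hU x).mp hxU)
    have h1 := IH _ hlt (s * g) (fun a b => by
      change B (s (g a)) (s (g b)) = B a b
      rw [hsiso, hg]) (fun y => by
      rw [LinearMap.mem_eqLocus]
      rfl)
    have h2 : g = s⁻¹ * (s * g) := by group
    rw [h2]
    exact Subgroup.mul_mem _ (Subgroup.inv_mem _ hs) h1
  by_cases hc1 : ∃ x, B x (g x) ≠ 0
  · -- case 1 : one transvection
    obtain ⟨x, hx⟩ := hc1
    obtain ⟨t, ht, htiso, htu, htfix⟩ := sp_move B hA (g x) x hx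
    refine hstep t (Subgroup.subset_closure ht) htiso (fun y hy => htfix y (hK1 x y hy)) ⟨x, ?_, htu⟩
    intro hgx
    rw [hgx, hA x] at hx
    exact hx rfl
  · -- case 2 : two transvections
    have hc2 : ∀ x, B x (g x) = 0 := fun x => by_contra (fun h => hc1 ⟨x, h⟩)
    obtain ⟨x, hx⟩ : ∃ x, g x ≠ x := by_contra (fun h => hall (fun x => by_contra (fun h' => h ⟨x, h'⟩)))
    have hxU : x ∉ U := fun h => hx ((hU x).mp h)
    have hgxU : g x ∉ U := by
      intro h
      have h1 := (hU (g x)).mp h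
      exact hx (g.injective h1)
    have hoo : B.orthogonal (B.orthogonal U) = U :=
      LinearMap.BilinForm.orthogonal_orthogonal hN hA.isRefl U
    have hex : ∀ w : V, w ∉ U → ∃ d, (∀ y ∈ U, B y d = 0) ∧ B d w ≠ 0 := by
      intro w hw
      rw [← hoo, LinearMap.BilinForm.mem_orthogonal_iff] at hw
      by_contra hcon
      apply hw
      intro d hd
      by_contra hne
      exact hcon ⟨d, fun y hy => LinearMap.BilinForm.mem_orthogonal_iff.mp hd y hy, hne⟩
    obtain ⟨d₁, hd₁U, hd₁⟩ := hex x hxU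
    obtain ⟨d₂, hd₂U, hd₂⟩ := hex (g x) hgxU
    obtain ⟨d, hdU, hdx, hdgx⟩ : ∃ d, (∀ y ∈ U, B y d = 0) ∧ B d x ≠ 0 ∧ B d (g x) ≠ 0 := by
      by_cases h1 : B d₁ (g x) = 0
      · by_cases h2 : B d₂ x = 0
        · refine ⟨d₁ + d₂, fun y hy => ?_, ?_, ?_⟩
          · rw [map_add, hd₁U y hy, hd₂U y hy, add_zero]
          · rw [map_add, LinearMap.add_apply, h2, add_zero]
            exact hd₁
          · rw [map_add, LinearMap.add_apply, h1, zero_add]
            exact hd₂
        · exact ⟨d₂, hd₂U, h2, hd₂⟩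
      · exact ⟨d₁, hd₁U, hd₁, h1⟩
    have hdU' : ∀ y ∈ U, B d y = 0 := fun y hy => by
      rw [sp_alt_swap B hA d y, hdU y hy, neg_zero]
    -- first transvection: g x ↦ x + d
    have h1 : B (x + d) (g x) ≠ 0 := by
      rw [map_add, LinearMap.add_apply, hc2 x, zero_add]
      exact hdgx
    obtain ⟨t₁, ht₁, ht₁iso, ht₁u, ht₁fix⟩ := sp_move B hA (g x) (x + d) h1
    -- second transvection: x + d ↦ x
    have h2 : B x (x + d) ≠ 0 := by
      rw [map_add, hA x, zero_add, sp_alt_swap B hA x d]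
      exact neg_ne_zero.mpr hdx
    obtain ⟨t₂, ht₂, ht₂iso, ht₂u, ht₂fix⟩ := sp_move B hA (x + d) x h2
    refine hstep (t₂ * t₁) (Subgroup.mul_mem _ (Subgroup.subset_closure ht₂)
      (Subgroup.subset_closure ht₁)) (fun a b => by
        change B (t₂ (t₁ a)) (t₂ (t₁ b)) = B a b
        rw [ht₂iso, ht₁iso]) (fun y hy => ?_) ⟨x, hx, ?_⟩
    · change t₂ (t₁ y) = y
      have e1 : B (x + d - g x) y = 0 := by
        have : x + d - g x = (x - g x) + d := by abel
        rw [this, map_add, LinearMap.add_apply, hK1 x y hy, hdU' y hy, add_zero]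
      have e2 : B (x - (x + d)) y = 0 := by
        have : x - (x + d) = -d := by abel
        rw [this, map_neg, LinearMap.neg_apply, hdU' y hy, neg_zero]
      rw [ht₁fix y e1, ht₂fix y e2]
    · change t₂ (t₁ (g x)) = x
      rw [ht₁u, ht₂u]

/-- PIECE SPGEN. -/
theorem sp_gen [Finite V] (B : LinearMap.BilinForm (ZMod p) V) (hA : B.IsAlt) (hN : B.Nondegenerate)
    (g : V ≃ₗ[ZMod p] V) (hg : ∀ x y, B (g x) (g y) = B x y) :
    g ∈ Subgroup.closure {t : V ≃ₗ[ZMod p] V |
      ∃ (c : V) (a : ZMod p), c ≠ 0 ∧ a ≠ 0 ∧ ∀ x, t x = x + (a * B c x) • c} :=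
  sp_gen_aux B hA hN (LinearMap.eqLocus (g : V →ₗ[ZMod p] V) LinearMap.id) g hg (fun x => by
    rw [LinearMap.mem_eqLocus]
    rfl)

end Cfsg.Agent.Lib.helper18.McL
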