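import Mathlib
import Cfsg.Agent.Lib.helper70.Miller
import Cfsg.Agent.Lib.helper70.OrderCount

set_option autoImplicit false

/-!
# Counting elements by order: basic toolkit

`sCnt G m` is the number of elements of order `m`.  We collect: totient divisibility,
Frobenius' theorem in list form, the class equation by orders, counting via Sylow subgroups.
-/

namespace Cfsg.Agent.Lib.helper18

open Cfsg.Agent.Lib.helper70

/-- number of elements of order `m` -/
noncomputable def sCnt (G : Type*) [Group G] (m : ℕ) : ℕ := Nat.card {g : G // orderOf g = m}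

theorem sCnt_one (G : Type*) [Group G] : sCnt G 1 = 1 := natCard_orderOf_one

theorem sCnt_ne_zero_iff {G : Type*} [Group G] [Finite G] (m : ℕ) :
    sCnt G m ≠ 0 ↔ ∃ g : G, orderOf g = m := by
  unfold sCnt
  constructor
  · intro h
    by_contra hne
    apply h
    have : IsEmpty {g : G // orderOf g = m} := ⟨fun x => hne ⟨x.1, x.2⟩⟩
    exact Nat.card_of_isEmpty
  · rintro ⟨g, hg⟩
    have : Nonempty {g : G // orderOf g = m} := ⟨⟨g, hg⟩⟩
    exact Nat.card_pos.ne'

theorem sCnt_zero (G : Type*) [Group G] [Finite G] : sCnt G 0 = 0 := by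
  by_contra h
  obtain ⟨g, hg⟩ := (sCnt_ne_zero_iff 0).mp h
  exact (orderOf_pos g).ne' hg

theorem sCnt_dvd_card {G : Type*} [Group G] [Finite G] {m : ℕ} (h : sCnt G m ≠ 0) :
    m ∣ Nat.card G := by
  obtain ⟨g, rfl⟩ := (sCnt_ne_zero_iff m).mp h
  exact orderOf_dvd_natCard g

theorem sCnt_ne_zero_of_dvd {G : Type*} [Group G] [Finite G] {m d : ℕ} (h : sCnt G m ≠ 0)
    (hd : d ∣ m) : sCnt G d ≠ 0 := by
  obtain ⟨g, rfl⟩ := (sCnt_ne_zero_iff m).mp h
  obtain ⟨e, he⟩ := hd
  rw [sCnt_ne_zero_iff]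
  have hpos := orderOf_pos g
  have he0 : e ≠ 0 := by
    rintro rfl
    rw [mul_zero] at he
    omega
  have hd0 : 0 < e := Nat.pos_of_ne_zero he0
  refine ⟨g ^ e, ?_⟩
  rw [orderOf_pow_of_dvd he0 (by rw [he]; exact Dvd.intro_left d rfl), he]
  exact Nat.mul_div_cancel d hd0

theorem sCnt_eq_zero_of_dvd {G : Type*} [Group G] [Finite G] {m d : ℕ} (h : sCnt G d = 0)
    (hd : d ∣ m) : sCnt G m = 0 := by
  by_contra h'
  exact sCnt_ne_zero_of_dvd h' hd h

theorem sCnt_prime_ne_zero {G : Type*} [Group G] [Finite G] (p : ℕ) [Fact p.Prime]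
    (h : p ∣ Nat.card G) : sCnt G p ≠ 0 := by
  rw [sCnt_ne_zero_iff]
  exact exists_prime_orderOf_dvd_card' p h

theorem totient_dvd_sCnt {G : Type*} [Group G] [Finite G] (m : ℕ) :
    Nat.totient m ∣ sCnt G m := by
  classical
  cases nonempty_fintype G
  unfold sCnt
  rw [natCard_subtype_eq_card_filter]
  rw [card_eq_totient_mul_card_image_zpowers m (Finset.univ.filter (fun g : G => orderOf g = m))
    (fun x hx => (Finset.mem_filter.mp hx).2)
    (fun x hx x' hx' => by
      rw [Finset.mem_filter] at hx ⊢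
      refine ⟨Finset.mem_univ _, ?_⟩
      rw [← hx.2, ← Nat.card_zpowers, hx', Nat.card_zpowers])]
  exact Dvd.intro _ rfl

/-- a convenient form: `k ∣ sCnt G m` once `φ(m) = k` -/
theorem tot_dvd {G : Type*} [Group G] [Finite G] (m k : ℕ) (hk : Nat.totient m = k) :
    k ∣ sCnt G m := hk ▸ totient_dvd_sCnt m

/-- Frobenius' theorem, list form -/
theorem frob_list {G : Type*} [Group G] [Finite G] (m : ℕ) (D : List ℕ) (hD : D.Nodup)
    (hDm : D.toFinset = Nat.divisors m) (hm : m ∣ Nat.card G) :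
    m ∣ (D.map (sCnt G)).sum := by
  have hm0 : m ≠ 0 := by
    rintro rfl
    have := Nat.card_pos (α := G)
    rw [zero_dvd_iff] at hm
    omega
  have h1 := frobenius_dvd (G := G) m hm
  rw [card_pow_eq_one_eq_list_sum m D hD (fun d => by
    rw [← List.mem_toFinset, hDm, Nat.mem_divisors]
    exact ⟨fun h => h.1, fun h => ⟨h, hm0⟩⟩)] at h1
  exact h1

/-- the order of the group as a sum over element orders -/
theorem card_eq_list_sum {G : Type*} [Group G] [Finite G] (m : ℕ) (D : List ℕ) (hD : D.Nodup)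
    (hDm : D.toFinset = Nat.divisors m) (hm0 : m ≠ 0) (hall : ∀ g : G, g ^ m = 1) :
    Nat.card G = (D.map (sCnt G)).sum := by
  have h1 := card_pow_eq_one_eq_list_sum (G := G) m D hD (fun d => by
    rw [← List.mem_toFinset, hDm, Nat.mem_divisors]
    exact ⟨fun h => h.1, fun h => ⟨h, hm0⟩⟩)
  have h2 : Nat.card {g : G // g ^ m = 1} = Nat.card G :=
    Nat.card_congr (Equiv.subtypeUnivEquiv hall)
  rw [← h2]
  exact h1

/-- partial sums of the counts are bounded by the group order -/
theorem sum_sCnt_le {G : Type*} [Group G] [Finite G] (A : Finset ℕ) :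
    ∑ d ∈ A, sCnt G d ≤ Nat.card G := by
  classical
  cases nonempty_fintype G
  have h1 : ∑ d ∈ A, sCnt G d =
      (Finset.univ.filter (fun g : G => orderOf g ∈ A)).card := by
    rw [Finset.card_eq_sum_card_fiberwise (f := orderOf)
      (s := Finset.univ.filter (fun g : G => orderOf g ∈ A)) (t := A)
      (fun g hg => (Finset.mem_filter.mp hg).2)]
    apply Finset.sum_congr rfl
    intro d hd
    unfold sCnt
    rw [natCard_subtype_eq_card_filter]
    congr 1
    ext g
    simp only [Finset.mem_filter, Finset.mem_univ, true_and]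
    constructor
    · intro h
      exact ⟨h ▸ hd, h⟩
    · exact fun h => h.2
  rw [h1, Nat.card_eq_fintype_card]
  exact Finset.card_le_univ _

/-- the only order with an odd count different from one is two -/
theorem eq_two_of_odd {G : Type*} [Group G] [Finite G] (m t : ℕ) (h : sCnt G m = t)
    (ht : ¬ 2 ∣ t) (ht1 : t ≠ 1) : m = 2 := by
  by_contra hm
  have hm0 : m ≠ 0 := by
    rintro rfl
    rw [sCnt_zero] at h
    exact ht (h ▸ dvd_zero 2)
  have hm1 : m ≠ 1 := by
    rintro rfl
    rw [sCnt_one] at h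
    exact ht1 h.symm
  have h3 : 2 < m := by omega
  have h4 := (Nat.totient_even h3).two_dvd
  exact ht (h ▸ h4.trans (totient_dvd_sCnt m))

/-- all Sylow subgroups have the order prescribed by divisibility -/
theorem sylow_card_of_dvd {G : Type*} [Group G] [Finite G] (p k : ℕ) [hp : Fact p.Prime]
    (h1 : p ^ k ∣ Nat.card G) (h2 : ¬ p ^ (k + 1) ∣ Nat.card G) (P : Sylow p G) :
    Nat.card P = p ^ k := by
  have hn : Nat.card G ≠ 0 := Nat.card_pos.ne'
  rw [P.card_eq_multiplicity]
  congr 1
  have a1 := (hp.out.pow_dvd_iff_le_factorization hn).mp h1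
  have a2 : ¬ k + 1 ≤ (Nat.card G).factorization p := fun h =>
    h2 ((hp.out.pow_dvd_iff_le_factorization hn).mpr h)
  omega

/-- the number of Sylow subgroups divides the group order -/
theorem card_sylow_dvd {G : Type*} [Group G] [Finite G] (p : ℕ) [Fact p.Prime] :
    Nat.card (Sylow p G) ∣ Nat.card G := by
  obtain ⟨P⟩ : Nonempty (Sylow p G) := inferInstance
  exact (Sylow.card_dvd_index P).trans (Subgroup.index_dvd_card _)

theorem mem_smul_sylow {G : Type*} [Group G] {p : ℕ} (c : G) (Q : Sylow p G) (y : G) :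
    y ∈ ((c • Q : Sylow p G) : Subgroup G) ↔ c⁻¹ * y * c ∈ (Q : Subgroup G) := by
  rw [Sylow.coe_subgroup_smul, Subgroup.mem_pointwise_smul_iff_inv_smul_mem, MulAut.smul_def,
    MulAut.conj_inv_apply]

/-- elements of order `|P|` when the Sylow subgroups are cyclic -/
theorem sCnt_cyc_sylow {G : Type*} [Group G] [Finite G] (p k : ℕ) [Fact p.Prime] (P : Sylow p G)
    (hP : Nat.card P = p ^ k) (hs : sCnt G (p ^ k) ≠ 0) :
    sCnt G (p ^ k) = Nat.totient (p ^ k) * Nat.card (Sylow p G) := by
  classical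
  cases nonempty_fintype G
  have hcardQ : ∀ Q : Sylow p G, Nat.card Q = p ^ k := fun Q => by
    rw [Q.card_eq_multiplicity, ← P.card_eq_multiplicity, hP]
  obtain ⟨g0, hg0⟩ := (sCnt_ne_zero_iff _).mp hs
  -- the Sylow subgroup generated by an element of order p^k
  have hgen : ∀ g : G, orderOf g = p ^ k → ∃ Q : Sylow p G, (Q : Subgroup G) = Subgroup.zpowers g := by
    intro g hg
    have hpg : IsPGroup p (Subgroup.zpowers g) :=
      IsPGroup.of_card (n := k) (by rw [Nat.card_zpowers, hg])
    obtain ⟨Q, hQ⟩ := hpg.exists_le_sylow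
    refine ⟨Q, (Subgroup.eq_of_le_of_card_ge hQ ?_).symm⟩
    rw [hcardQ Q, Nat.card_zpowers, hg]
  unfold sCnt
  rw [natCard_subtype_eq_card_filter]
  rw [card_eq_totient_mul_card_image_zpowers (p ^ k)
    (Finset.univ.filter (fun g : G => orderOf g = p ^ k))
    (fun x hx => (Finset.mem_filter.mp hx).2)
    (fun x hx x' hx' => by
      rw [Finset.mem_filter] at hx ⊢
      refine ⟨Finset.mem_univ _, ?_⟩
      rw [← hx.2, ← Nat.card_zpowers, hx', Nat.card_zpowers])]
  congr 1
  have himg : (Finset.univ.filter (fun g : G => orderOf g = p ^ k)).image Subgroup.zpowers =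
      (Finset.univ : Finset (Sylow p G)).image (fun Q : Sylow p G => (Q : Subgroup G)) := by
    ext H
    simp only [Finset.mem_image, Finset.mem_filter, Finset.mem_univ, true_and]
    constructor
    · rintro ⟨g, hg, rfl⟩
      obtain ⟨Q, hQ⟩ := hgen g hg
      exact ⟨Q, hQ⟩
    · rintro ⟨Q, rfl⟩
      obtain ⟨Q0, hQ0⟩ := hgen g0 hg0
      obtain ⟨c, hc⟩ := MulAction.exists_smul_eq G Q0 Q
      refine ⟨c * g0 * c⁻¹, ?_, ?_⟩
      · have := orderOf_injective (MulAut.conj c).toMonoidHom (MulAut.conj c).injective g0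
        rw [← hg0, ← this]
        rfl
      · have hmem : c * g0 * c⁻¹ ∈ (Q : Subgroup G) := by
          rw [← hc, mem_smul_sylow]
          have : c⁻¹ * (c * g0 * c⁻¹) * c = g0 := by group
          rw [this, hQ0]
          exact Subgroup.mem_zpowers g0
        have hle : Subgroup.zpowers (c * g0 * c⁻¹) ≤ (Q : Subgroup G) := by
          rw [Subgroup.zpowers_le]; exact hmem
        apply Subgroup.eq_of_le_of_card_ge hle
        rw [hcardQ Q, Nat.card_zpowers]
        have := orderOf_injective (MulAut.conj c).toMonoidHom (MulAut.conj c).injective g0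
        have h2 : orderOf (c * g0 * c⁻¹) = orderOf g0 := this
        rw [h2, hg0]
  rw [himg, Finset.card_image_of_injective _ (fun Q1 Q2 h => Sylow.ext h), Finset.card_univ,
    Nat.card_eq_fintype_card]

/-- the `p`-elements are covered by the Sylow subgroups -/
theorem card_pow_le_sylow {G : Type*} [Group G] [Finite G] (p k : ℕ) [Fact p.Prime]
    (P : Sylow p G) (hP : Nat.card P = p ^ k) :
    Nat.card {g : G // g ^ (p ^ k) = 1} ≤ Nat.card (Sylow p G) * p ^ k := by
  classical
  cases nonempty_fintype G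
  have hcardQ : ∀ Q : Sylow p G, Nat.card Q = p ^ k := fun Q => by
    rw [Q.card_eq_multiplicity, ← P.card_eq_multiplicity, hP]
  have hex : ∀ g : {g : G // g ^ (p ^ k) = 1}, ∃ Q : Sylow p G, g.1 ∈ (Q : Subgroup G) := by
    intro g
    have hpg : IsPGroup p (Subgroup.zpowers g.1) := by
      apply IsPGroup.of_card (n := (Nat.card (Subgroup.zpowers g.1)).factorization p)
      rw [Nat.card_zpowers]
      obtain ⟨j, hj, hj'⟩ := (Nat.dvd_prime_pow (Fact.out : p.Prime)).mp
        (orderOf_dvd_of_pow_eq_one g.2)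
      rw [hj']
      simp [(Fact.out : p.Prime).factorization_pow]
    obtain ⟨Q, hQ⟩ := hpg.exists_le_sylow
    exact ⟨Q, hQ (Subgroup.mem_zpowers g.1)⟩
  let f : {g : G // g ^ (p ^ k) = 1} → (Sylow p G) × G := fun g => (Classical.choose (hex g), g.1)
  have hf : Function.Injective f := by
    intro a b hab
    exact Subtype.ext (congrArg Prod.snd hab)
  have hcard : Nat.card {g : G // g ^ (p ^ k) = 1} ≤
      ((Finset.univ : Finset (Sylow p G)).biUnion
        (fun Q => (Finset.univ.filter (fun x : G => x ∈ (Q : Subgroup G))).image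
          (fun x => (Q, x)))).card := by
    rw [Nat.card_eq_fintype_card, ← Finset.card_univ]
    apply Finset.card_le_card_of_injOn f _ hf.injOn
    intro g _
    simp only [Finset.coe_biUnion, Finset.coe_univ, Set.mem_univ, Set.iUnion_true,
      Set.mem_iUnion, Finset.coe_image, Set.mem_image, Finset.mem_coe, Finset.mem_filter,
      Finset.mem_univ, true_and]
    exact ⟨Classical.choose (hex g), g.1, Classical.choose_spec (hex g), rfl⟩
  refine hcard.trans ?_
  refine Finset.card_biUnion_le.trans ?_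
  have : ∀ Q ∈ (Finset.univ : Finset (Sylow p G)),
      ((Finset.univ.filter (fun x : G => x ∈ (Q : Subgroup G))).image (fun x => (Q, x))).card
        ≤ p ^ k := by
    intro Q _
    refine Finset.card_image_le.trans ?_
    rw [← hcardQ Q, Nat.card_eq_fintype_card, Fintype.card_subtype]
  refine (Finset.sum_le_card_nsmul _ _ _ this).trans ?_
  rw [Finset.card_univ, smul_eq_mul, Nat.card_eq_fintype_card]

/-- divisibility from prime power bounds -/
theorem dvd_of_prime_pow_bounds (n N : ℕ)
    (h : ∀ p k : ℕ, p.Prime → p ^ k ∣ n → p ^ k ∣ N) : n ∣ N :=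
  (Nat.dvd_iff_prime_pow_dvd_dvd N n).mpr h

/-- Frobenius' theorem for a prime -/
theorem frob_prime {G : Type*} [Group G] [Finite G] (p : ℕ) (hp : p.Prime)
    (h : p ∣ Nat.card G) : p ∣ 1 + sCnt G p := by
  have h1 := frobenius_dvd (G := G) p h
  rw [card_pow_prime_eq p hp] at h1
  exact h1

/-- each count is zero or one of the prescribed values -/
theorem nse_mem {G : Type*} [Group G] [Finite G] {T : Set ℕ}
    (h : ((fun m : ℕ => Nat.card {g : G // orderOf g = m}) '' Set.range (orderOf : G → ℕ)) = T)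
    (m : ℕ) : sCnt G m = 0 ∨ sCnt G m ∈ T := by
  by_cases h0 : sCnt G m = 0
  · exact Or.inl h0
  · right
    obtain ⟨g, hg⟩ := (sCnt_ne_zero_iff m).mp h0
    rw [← h]
    exact ⟨m, ⟨g, hg⟩, rfl⟩

/-- each prescribed value is attained -/
theorem nse_exists {G : Type*} [Group G] [Finite G] {T : Set ℕ}
    (h : ((fun m : ℕ => Nat.card {g : G // orderOf g = m}) '' Set.range (orderOf : G → ℕ)) = T)
    (t : ℕ) (ht : t ∈ T) : ∃ m, sCnt G m = t ∧ m ∣ Nat.card G := by
  rw [← h] at ht
  obtain ⟨m, ⟨g, hg⟩, hm⟩ := ht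
  exact ⟨m, hm, hg ▸ orderOf_dvd_natCard g⟩

/-- prime power divisibility transfer -/
theorem pp_dvd (n p k a N : ℕ) (h : ¬ p ^ (a + 1) ∣ n) (hpk : p ^ k ∣ n) (hN : p ^ a ∣ N) :
    p ^ k ∣ N := by
  have hk : k ≤ a := by
    by_contra hk
    exact h ((pow_dvd_pow p (by omega : a + 1 ≤ k)).trans hpk)
  exact (pow_dvd_pow p hk).trans hN

theorem prime_eq_of_dvd_mul (p a b : ℕ) (hp : p.Prime) (ha : a.Prime) (hb : b.Prime)
    (h : p ∣ a * b) : p = a ∨ p = b := by
  rcases (Nat.Prime.dvd_mul hp).mp h with h | h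
  · exact Or.inl ((Nat.prime_dvd_prime_iff_eq hp ha).mp h)
  · exact Or.inr ((Nat.prime_dvd_prime_iff_eq hp hb).mp h)

theorem prime_eq_of_dvd_pow (p a k : ℕ) (hp : p.Prime) (ha : a.Prime)
    (h : p ∣ a ^ k) : p = a :=
  (Nat.prime_dvd_prime_iff_eq hp ha).mp (hp.dvd_of_dvd_pow h)

end Cfsg.Agent.Lib.helper18
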