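import Mathlib
import Cfsg.Agent.Lib.helper18.NseBase

set_option autoImplicit false

/-!
# Order statistics `{1, 3, 8}` force order 12
-/

namespace Cfsg.Agent.Lib.helper18

theorem nse_A4_card {G : Type*} [Group G] [Finite G]
    (h : ((fun m : ℕ => Nat.card {g : G // orderOf g = m}) '' Set.range (orderOf : G → ℕ)) =
      {1, 3, 8}) :
    Nat.card G = 12 ∧ sCnt G 3 = 8 := by
  have hp2 : Fact (Nat.Prime 2) := ⟨Nat.prime_two⟩
  have hp3 : Fact (Nat.Prime 3) := ⟨Nat.prime_three⟩
  have hv : ∀ m, sCnt G m = 0 ∨ sCnt G m = 1 ∨ sCnt G m = 3 ∨ sCnt G m = 8 := by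
    intro m
    have := nse_mem h m
    simpa using this
  have s1 := sCnt_one G
  obtain ⟨m3, hm3, -⟩ := nse_exists h 3 (by simp)
  have hm32 : m3 = 2 := eq_two_of_odd m3 3 hm3 (by norm_num) (by norm_num)
  rw [hm32] at hm3
  have s2 : sCnt G 2 = 3 := hm3
  obtain ⟨m8, hm8, hm8n⟩ := nse_exists h 8 (by simp)
  have hprimes : ∀ p, p.Prime → p ∣ Nat.card G → p = 2 ∨ p = 3 := by
    intro p hp hpn
    have hpF : Fact p.Prime := ⟨hp⟩
    have hne := sCnt_prime_ne_zero p hpn
    have hf := frob_prime p hp hpn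
    rcases hv p with h0 | h0 | h0 | h0
    · exact absurd h0 hne
    · rw [h0] at hf
      exact Or.inl ((Nat.prime_dvd_prime_iff_eq hp Nat.prime_two).mp hf)
    · rw [h0] at hf
      exact Or.inl (prime_eq_of_dvd_pow p 2 2 hp Nat.prime_two hf)
    · rw [h0] at hf
      exact Or.inr (prime_eq_of_dvd_pow p 3 2 hp Nat.prime_three hf)
  have s3 : 3 ∣ Nat.card G → sCnt G 3 = 8 := by
    intro h3
    have hne := sCnt_prime_ne_zero 3 h3
    have hf := frob_prime 3 Nat.prime_three h3
    rcases hv 3 with h0 | h0 | h0 | h0 <;> omega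
  have h8 : ¬ 2 ^ (2 + 1) ∣ Nat.card G := by
    intro h8
    have f8 := frob_list (G := G) 8 [1, 2, 4, 8] (by decide) (by decide) h8
    simp only [List.map_cons, List.map_nil, List.sum_cons, List.sum_nil] at f8
    have v4 := hv 4
    have t4 := tot_dvd (G := G) 4 2 (by decide)
    have v8 := hv 8
    have t8 := tot_dvd (G := G) 8 4 (by decide)
    omega
  have s9 : sCnt G 9 = 0 := by
    have v9 := hv 9
    have t9 := tot_dvd (G := G) 9 6 (by decide)
    omega
  have h27 : ¬ 3 ^ (2 + 1) ∣ Nat.card G := by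
    intro h27
    have f27 := frob_list (G := G) 27 [1, 3, 9, 27] (by decide) (by decide) h27
    simp only [List.map_cons, List.map_nil, List.sum_cons, List.sum_nil] at f27
    have s3' := s3 (Dvd.dvd.trans (by norm_num) h27)
    have s27 : sCnt G 27 = 0 := sCnt_eq_zero_of_dvd s9 (by norm_num)
    omega
  have hn36 : Nat.card G ∣ 36 := by
    apply dvd_of_prime_pow_bounds
    intro p k hp hpk
    rcases Nat.eq_zero_or_pos k with rfl | hk
    · simp
    have hpn : p ∣ Nat.card G := (dvd_pow_self p hk.ne').trans hpk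
    rcases hprimes p hp hpn with rfl | rfl
    · exact pp_dvd _ 2 k 2 36 h8 hpk (by norm_num)
    · exact pp_dvd _ 3 k 2 36 h27 hpk (by norm_num)
  have h2n : 2 ∣ Nat.card G := sCnt_dvd_card (by rw [s2]; norm_num)
  have hge : 12 ≤ Nat.card G := by
    have hm81 : m8 ≠ 1 := by rintro rfl; omega
    have hm82 : m8 ≠ 2 := by rintro rfl; omega
    have := sum_sCnt_le (G := G) ({1, 2, m8} : Finset ℕ)
    rw [Finset.sum_insert (by simp; omega), Finset.sum_pair (by omega)] at this
    omega
  have hcases : Nat.card G = 12 ∨ Nat.card G = 18 ∨ Nat.card G = 36 := by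
    have hmem : Nat.card G ∈ Nat.divisors 36 := by
      rw [Nat.mem_divisors]; exact ⟨hn36, by norm_num⟩
    have key : ∀ d ∈ Nat.divisors 36, 2 ∣ d → 12 ≤ d → d = 12 ∨ d = 18 ∨ d = 36 := by decide
    exact key _ hmem h2n hge
  have h6n : 6 ∣ Nat.card G := by
    rcases hcases with h0 | h0 | h0 <;> rw [h0] <;> norm_num
  have s3' : sCnt G 3 = 8 := s3 (Dvd.dvd.trans (by norm_num) h6n)
  have s6 : sCnt G 6 = 0 := by
    have f6 := frob_list (G := G) 6 [1, 2, 3, 6] (by decide) (by decide) h6n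
    simp only [List.map_cons, List.map_nil, List.sum_cons, List.sum_nil] at f6
    have v6 := hv 6
    omega
  have s4 : sCnt G 4 = 0 := by
    by_cases h4 : 4 ∣ Nat.card G
    · have h12 : 12 ∣ Nat.card G := by
        rcases hcases with h0 | h0 | h0 <;> rw [h0] at h4 ⊢ <;> omega
      have f12 := frob_list (G := G) 12 [1, 2, 3, 4, 6, 12] (by decide) (by decide) h12
      simp only [List.map_cons, List.map_nil, List.sum_cons, List.sum_nil] at f12
      have s12 : sCnt G 12 = 0 := sCnt_eq_zero_of_dvd s6 (by norm_num)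
      have v4 := hv 4
      have t4 := tot_dvd (G := G) 4 2 (by decide)
      omega
    · by_contra hne
      exact h4 (sCnt_dvd_card hne)
  have hall : ∀ g : G, g ^ 6 = 1 := by
    intro g
    have hd : orderOf g ∣ 36 := (orderOf_dvd_natCard g).trans hn36
    have hne : sCnt G (orderOf g) ≠ 0 := (sCnt_ne_zero_iff _).mpr ⟨g, rfl⟩
    have hmem : orderOf g ∈ Nat.divisors 36 := by
      rw [Nat.mem_divisors]; exact ⟨hd, by norm_num⟩
    have key : ∀ d ∈ Nat.divisors 36, ¬ 4 ∣ d → ¬ 6 ∣ d → ¬ 9 ∣ d → d ∣ 6 := by decide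
    have := key _ hmem (fun h0 => hne (sCnt_eq_zero_of_dvd s4 h0))
      (fun h0 => hne (sCnt_eq_zero_of_dvd s6 h0)) (fun h0 => hne (sCnt_eq_zero_of_dvd s9 h0))
    exact orderOf_dvd_iff_pow_eq_one.mp this
  have hsum := card_eq_list_sum (G := G) 6 [1, 2, 3, 6] (by decide) (by decide) (by norm_num) hall
  simp only [List.map_cons, List.map_nil, List.sum_cons, List.sum_nil] at hsum
  exact ⟨by omega, s3'⟩

end Cfsg.Agent.Lib.helper18
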