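import Mathlib
import Cfsg.Agent.Lib.helper18.NseBase

set_option autoImplicit false

/-!
# Order statistics `{1, 15, 20, 24}` force order 60 and element orders 1, 2, 3, 5
-/

namespace Cfsg.Agent.Lib.helper18

open Cfsg.Agent.Lib.helper70

set_option maxHeartbeats 1600000 in
theorem nse_A5_card {G : Type*} [Group G] [Finite G]
    (h : ((fun m : ℕ => Nat.card {g : G // orderOf g = m}) '' Set.range (orderOf : G → ℕ)) =
      {1, 15, 20, 24}) :
    Nat.card G = 60 ∧ sCnt G 3 = 20 ∧ sCnt G 5 = 24 ∧ ∀ g : G, orderOf g ≤ 5 := by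
  have hp2 : Fact (Nat.Prime 2) := ⟨Nat.prime_two⟩
  have hp3 : Fact (Nat.Prime 3) := ⟨Nat.prime_three⟩
  have hp5 : Fact (Nat.Prime 5) := ⟨Nat.prime_five⟩
  have hv : ∀ m, sCnt G m = 0 ∨ sCnt G m = 1 ∨ sCnt G m = 15 ∨ sCnt G m = 20 ∨
      sCnt G m = 24 := by
    intro m
    have := nse_mem h m
    simpa using this
  have s1 := sCnt_one G
  obtain ⟨m15, hm15, -⟩ := nse_exists h 15 (by simp)
  have hm152 : m15 = 2 := eq_two_of_odd m15 15 hm15 (by norm_num) (by norm_num)
  rw [hm152] at hm15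
  have s2 : sCnt G 2 = 15 := hm15
  obtain ⟨m20, hm20, hm20n⟩ := nse_exists h 20 (by simp)
  obtain ⟨m24, hm24, hm24n⟩ := nse_exists h 24 (by simp)
  have h2n : 2 ∣ Nat.card G := sCnt_dvd_card (by rw [s2]; norm_num)
  have hprimes : ∀ p, p.Prime → p ∣ Nat.card G → p = 2 ∨ p = 3 ∨ p = 5 := by
    intro p hp hpn
    have hpF : Fact p.Prime := ⟨hp⟩
    have hne := sCnt_prime_ne_zero p hpn
    have hf := frob_prime p hp hpn
    rcases hv p with h0 | h0 | h0 | h0 | h0
    · exact absurd h0 hne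
    · rw [h0] at hf
      exact Or.inl ((Nat.prime_dvd_prime_iff_eq hp Nat.prime_two).mp hf)
    · rw [h0] at hf
      exact Or.inl (prime_eq_of_dvd_pow p 2 4 hp Nat.prime_two hf)
    · rw [h0] at hf
      rcases prime_eq_of_dvd_mul p 3 7 hp Nat.prime_three (by norm_num) hf with rfl | rfl
      · exact Or.inr (Or.inl rfl)
      · have t7 := tot_dvd (G := G) 7 6 (by decide)
        omega
    · rw [h0] at hf
      exact Or.inr (Or.inr (prime_eq_of_dvd_pow p 5 2 hp Nat.prime_five hf))
  have s3 : 3 ∣ Nat.card G → sCnt G 3 = 20 := by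
    intro h3
    have hne := sCnt_prime_ne_zero 3 h3
    have hf := frob_prime 3 Nat.prime_three h3
    rcases hv 3 with h0 | h0 | h0 | h0 | h0 <;> omega
  have s5 : 5 ∣ Nat.card G → sCnt G 5 = 24 := by
    intro h5
    have hne := sCnt_prime_ne_zero 5 h5
    have hf := frob_prime 5 Nat.prime_five h5
    rcases hv 5 with h0 | h0 | h0 | h0 | h0 <;> omega
  have hge : 60 ≤ Nat.card G := by
    have a1 : m20 ≠ 1 := by rintro rfl; omega
    have a2 : m20 ≠ 2 := by rintro rfl; omega
    have a3 : m24 ≠ 1 := by rintro rfl; omega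
    have a4 : m24 ≠ 2 := by rintro rfl; omega
    have a5 : m20 ≠ m24 := by rintro rfl; omega
    have := sum_sCnt_le (G := G) ({1, 2, m20, m24} : Finset ℕ)
    rw [Finset.sum_insert (by simp; omega), Finset.sum_insert (by simp; omega),
      Finset.sum_pair a5] at this
    omega
  -- the 5-part
  have h25 : ¬ 5 ^ (1 + 1) ∣ Nat.card G := by
    intro h25
    have h5 : 5 ∣ Nat.card G := Dvd.dvd.trans (by norm_num) h25
    have s5' := s5 h5
    have h50 : 50 ∣ Nat.card G :=
      Nat.Coprime.mul_dvd_of_dvd_of_dvd (by norm_num : Nat.Coprime 2 25) h2n h25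
    have f25 := frob_list (G := G) 25 [1, 5, 25] (by decide) (by decide) h25
    simp only [List.map_cons, List.map_nil, List.sum_cons, List.sum_nil] at f25
    have v25 := hv 25
    have t25 := tot_dvd (G := G) 25 20 (by decide)
    have s25 : sCnt G 25 = 0 := by omega
    have f50 := frob_list (G := G) 50 [1, 2, 5, 10, 25, 50] (by decide) (by decide) h50
    simp only [List.map_cons, List.map_nil, List.sum_cons, List.sum_nil] at f50
    have s50 : sCnt G 50 = 0 := sCnt_eq_zero_of_dvd s25 (by norm_num)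
    have v10 := hv 10
    have t10 := tot_dvd (G := G) 10 4 (by decide)
    omega
  have h5to3 : 5 ∣ Nat.card G → 3 ∣ Nat.card G := by
    intro h5
    obtain ⟨P⟩ : Nonempty (Sylow 5 G) := inferInstance
    have hP := sylow_card_of_dvd 5 1 (by simpa using h5) h25 P
    have hc := sCnt_cyc_sylow 5 1 P hP (by rw [pow_one, s5 h5]; norm_num)
    rw [pow_one, s5 h5, Nat.totient_prime Nat.prime_five] at hc
    have hd := card_sylow_dvd (G := G) 5
    have h6 : Nat.card (Sylow 5 G) = 6 := by omega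
    rw [h6] at hd
    exact Dvd.dvd.trans (by norm_num) hd
  -- the 3-part
  have h9 : ¬ 3 ^ (1 + 1) ∣ Nat.card G := by
    intro h9
    have h3 : 3 ∣ Nat.card G := Dvd.dvd.trans (by norm_num) h9
    have s3' := s3 h3
    have f9 := frob_list (G := G) 9 [1, 3, 9] (by decide) (by decide) h9
    simp only [List.map_cons, List.map_nil, List.sum_cons, List.sum_nil] at f9
    have v9 := hv 9
    have t9 := tot_dvd (G := G) 9 6 (by decide)
    have s9 : sCnt G 9 = 24 := by omega
    have h27 : ¬ 3 ^ (2 + 1) ∣ Nat.card G := by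
      intro h27
      have f27 := frob_list (G := G) 27 [1, 3, 9, 27] (by decide) (by decide) h27
      simp only [List.map_cons, List.map_nil, List.sum_cons, List.sum_nil] at f27
      have v27 := hv 27
      have t27 := tot_dvd (G := G) 27 18 (by decide)
      omega
    obtain ⟨P⟩ : Nonempty (Sylow 3 G) := inferInstance
    have hP := sylow_card_of_dvd 3 2 h9 h27 P
    have e9 : (3 : ℕ) ^ 2 = 9 := by norm_num
    have hc := sCnt_cyc_sylow 3 2 P hP (by rw [e9, s9]; norm_num)
    rw [e9, s9, show Nat.totient 9 = 6 by decide] at hc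
    have hle := card_pow_le_sylow 3 2 P hP
    have e := card_pow_prime_sq_eq (G := G) 3 Nat.prime_three
    change _ = 1 + sCnt G 3 + sCnt G (3 ^ 2) at e
    rw [e, e9, s3', s9] at hle
    omega
  have h3to5 : 3 ∣ Nat.card G → 5 ∣ Nat.card G := by
    intro h3
    obtain ⟨P⟩ : Nonempty (Sylow 3 G) := inferInstance
    have hP := sylow_card_of_dvd 3 1 (by simpa using h3) h9 P
    have hc := sCnt_cyc_sylow 3 1 P hP (by rw [pow_one, s3 h3]; norm_num)
    rw [pow_one, s3 h3, Nat.totient_prime Nat.prime_three] at hc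
    have hd := card_sylow_dvd (G := G) 3
    have h10 : Nat.card (Sylow 3 G) = 10 := by omega
    rw [h10] at hd
    exact Dvd.dvd.trans (by norm_num) hd
  -- the group is not a 2-group
  have h35 : 3 ∣ Nat.card G ∧ 5 ∣ Nat.card G := by
    by_contra hcon
    have hn3 : ¬ 3 ∣ Nat.card G := fun h3 => hcon ⟨h3, h3to5 h3⟩
    have hn5 : ¬ 5 ∣ Nat.card G := fun h5 => hcon ⟨h5to3 h5, h5⟩
    have hpow := Nat.eq_prime_pow_of_unique_prime_dvd (n := Nat.card G) (p := 2)
      Nat.card_pos.ne' (by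
        intro d hd hdn
        rcases hprimes d hd hdn with rfl | rfl | rfl
        · rfl
        · exact absurd hdn hn3
        · exact absurd hdn hn5)
    obtain ⟨j, hpow⟩ : ∃ j, Nat.card G = 2 ^ j := ⟨_, hpow⟩
    have hj5 : 5 ≤ j := by
      by_contra hlt
      have : j ≤ 4 := by omega
      have h16 : 2 ^ j ≤ 2 ^ 4 := Nat.pow_le_pow_right (by norm_num) this
      omega
    have h32 : 32 ∣ Nat.card G := by
      rw [hpow]
      exact pow_dvd_pow 2 hj5
    have f32 := frob_list (G := G) 32 [1, 2, 4, 8, 16, 32] (by decide) (by decide) h32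
    simp only [List.map_cons, List.map_nil, List.sum_cons, List.sum_nil] at f32
    have v4 := hv 4
    have t4 := tot_dvd (G := G) 4 2 (by decide)
    have v8 := hv 8
    have t8 := tot_dvd (G := G) 8 4 (by decide)
    have v16 := hv 16
    have t16 := tot_dvd (G := G) 16 8 (by decide)
    have v32 := hv 32
    have t32 := tot_dvd (G := G) 32 16 (by decide)
    have s32 : sCnt G 32 = 0 := by omega
    have c1 : sCnt G 8 = 0 → sCnt G 16 = 0 := fun h0 => sCnt_eq_zero_of_dvd h0 (by norm_num)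
    have c2 : sCnt G 4 = 0 → sCnt G 8 = 0 := fun h0 => sCnt_eq_zero_of_dvd h0 (by norm_num)
    have s16 : sCnt G 16 = 0 := by omega
    have s4 : sCnt G 4 = 24 := by omega
    have s8 : sCnt G 8 = 24 := by omega
    -- the order with twenty elements
    rw [hpow] at hm20n
    obtain ⟨i, hi, rfl⟩ := (Nat.dvd_prime_pow Nat.prime_two).mp hm20n
    by_cases hi4 : 4 ≤ i
    · have : sCnt G (2 ^ i) = 0 :=
        sCnt_eq_zero_of_dvd s16 (by
          have : (16 : ℕ) = 2 ^ 4 := by norm_num
          rw [this]; exact pow_dvd_pow 2 hi4)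
      omega
    · have hi3 : i ≤ 3 := by omega
      interval_cases i <;> simp at hm20 <;> omega
  obtain ⟨h3, h5⟩ := h35
  have s3' := s3 h3
  have s5' := s5 h5
  have h15 : 15 ∣ Nat.card G :=
    Nat.Coprime.mul_dvd_of_dvd_of_dvd (by norm_num : Nat.Coprime 3 5) h3 h5
  have h30 : 30 ∣ Nat.card G :=
    Nat.Coprime.mul_dvd_of_dvd_of_dvd (by norm_num : Nat.Coprime 2 15) h2n h15
  have s15 : sCnt G 15 = 0 := by
    have f15 := frob_list (G := G) 15 [1, 3, 5, 15] (by decide) (by decide) h15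
    simp only [List.map_cons, List.map_nil, List.sum_cons, List.sum_nil] at f15
    have v15 := hv 15
    have t15 := tot_dvd (G := G) 15 8 (by decide)
    omega
  have s610 : sCnt G 6 = 0 ∧ sCnt G 10 = 0 := by
    have f30 := frob_list (G := G) 30 [1, 2, 3, 5, 6, 10, 15, 30] (by decide) (by decide) h30
    simp only [List.map_cons, List.map_nil, List.sum_cons, List.sum_nil] at f30
    have s30 : sCnt G 30 = 0 := sCnt_eq_zero_of_dvd s15 (by norm_num)
    have v6 := hv 6
    have t6 := tot_dvd (G := G) 6 2 (by decide)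
    have v10 := hv 10
    have t10 := tot_dvd (G := G) 10 4 (by decide)
    omega
  obtain ⟨s6, s10⟩ := s610
  have s4 : sCnt G 4 = 0 := by
    by_cases h4 : 4 ∣ Nat.card G
    · have h20 : 20 ∣ Nat.card G :=
        Nat.Coprime.mul_dvd_of_dvd_of_dvd (by norm_num : Nat.Coprime 4 5) h4 h5
      have h12 : 12 ∣ Nat.card G :=
        Nat.Coprime.mul_dvd_of_dvd_of_dvd (by norm_num : Nat.Coprime 4 3) h4 h3
      have f20 := frob_list (G := G) 20 [1, 2, 4, 5, 10, 20] (by decide) (by decide) h20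
      simp only [List.map_cons, List.map_nil, List.sum_cons, List.sum_nil] at f20
      have f12 := frob_list (G := G) 12 [1, 2, 3, 4, 6, 12] (by decide) (by decide) h12
      simp only [List.map_cons, List.map_nil, List.sum_cons, List.sum_nil] at f12
      have s20 : sCnt G 20 = 0 := sCnt_eq_zero_of_dvd s10 (by norm_num)
      have s12 : sCnt G 12 = 0 := sCnt_eq_zero_of_dvd s6 (by norm_num)
      have v4 := hv 4
      omega
    · by_contra hne
      exact h4 (sCnt_dvd_card hne)
  have h8 : ¬ 2 ^ (2 + 1) ∣ Nat.card G := by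
    intro h8
    have h24 : 24 ∣ Nat.card G :=
      Nat.Coprime.mul_dvd_of_dvd_of_dvd (by norm_num : Nat.Coprime 8 3) h8 h3
    have f24 := frob_list (G := G) 24 [1, 2, 3, 4, 6, 8, 12, 24] (by decide) (by decide) h24
    simp only [List.map_cons, List.map_nil, List.sum_cons, List.sum_nil] at f24
    have s8 : sCnt G 8 = 0 := sCnt_eq_zero_of_dvd s4 (by norm_num)
    have s12 : sCnt G 12 = 0 := sCnt_eq_zero_of_dvd s6 (by norm_num)
    have s24 : sCnt G 24 = 0 := sCnt_eq_zero_of_dvd s6 (by norm_num)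
    omega
  have hn60 : Nat.card G ∣ 60 := by
    apply dvd_of_prime_pow_bounds
    intro p k hp hpk
    rcases Nat.eq_zero_or_pos k with rfl | hk
    · simp
    have hpn : p ∣ Nat.card G := (dvd_pow_self p hk.ne').trans hpk
    rcases hprimes p hp hpn with rfl | rfl | rfl
    · exact pp_dvd _ 2 k 2 60 h8 hpk (by norm_num)
    · exact pp_dvd _ 3 k 1 60 h9 hpk (by norm_num)
    · exact pp_dvd _ 5 k 1 60 h25 hpk (by norm_num)
  have hcard : Nat.card G = 60 := by
    have := Nat.le_of_dvd (by norm_num) hn60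
    omega
  refine ⟨hcard, s3', s5', ?_⟩
  intro g
  have hd : orderOf g ∣ 60 := (orderOf_dvd_natCard g).trans hn60
  have hne : sCnt G (orderOf g) ≠ 0 := (sCnt_ne_zero_iff _).mpr ⟨g, rfl⟩
  have hmem : orderOf g ∈ Nat.divisors 60 := by
    rw [Nat.mem_divisors]; exact ⟨hd, by norm_num⟩
  have key : ∀ d ∈ Nat.divisors 60, ¬ 4 ∣ d → ¬ 6 ∣ d → ¬ 10 ∣ d → ¬ 15 ∣ d → d ≤ 5 := by
    decide
  exact key _ hmem (fun h0 => hne (sCnt_eq_zero_of_dvd s4 h0))
    (fun h0 => hne (sCnt_eq_zero_of_dvd s6 h0)) (fun h0 => hne (sCnt_eq_zero_of_dvd s10 h0))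
    (fun h0 => hne (sCnt_eq_zero_of_dvd s15 h0))

end Cfsg.Agent.Lib.helper18
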