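import Mathlib
import Cfsg.Agent.Lib.helper18.NseBase

set_option autoImplicit false

/-!
# Order statistics `{1, 45, 80, 90, 144}` force order 360 and element orders at most 5
-/

namespace Cfsg.Agent.Lib.helper18

open Cfsg.Agent.Lib.helper70

set_option maxHeartbeats 3200000 in
theorem nse_A6_card {G : Type*} [Group G] [Finite G]
    (h : ((fun m : ℕ => Nat.card {g : G // orderOf g = m}) '' Set.range (orderOf : G → ℕ)) =
      {1, 45, 80, 90, 144}) :
    Nat.card G = 360 ∧ sCnt G 3 = 80 ∧ sCnt G 5 = 144 ∧ ∀ g : G, orderOf g ≤ 5 := by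
  have hp2 : Fact (Nat.Prime 2) := ⟨Nat.prime_two⟩
  have hp3 : Fact (Nat.Prime 3) := ⟨Nat.prime_three⟩
  have hp5 : Fact (Nat.Prime 5) := ⟨Nat.prime_five⟩
  have hp7 : Fact (Nat.Prime 7) := ⟨by norm_num⟩
  have hv : ∀ m, sCnt G m = 0 ∨ sCnt G m = 1 ∨ sCnt G m = 45 ∨ sCnt G m = 80 ∨
      sCnt G m = 90 ∨ sCnt G m = 144 := by
    intro m
    have := nse_mem h m
    simpa using this
  have s1 := sCnt_one G
  obtain ⟨m45, hm45, -⟩ := nse_exists h 45 (by simp)
  have hm452 : m45 = 2 := eq_two_of_odd m45 45 hm45 (by norm_num) (by norm_num)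
  rw [hm452] at hm45
  have s2 : sCnt G 2 = 45 := hm45
  obtain ⟨m80, hm80, hm80n⟩ := nse_exists h 80 (by simp)
  obtain ⟨m90, hm90, hm90n⟩ := nse_exists h 90 (by simp)
  obtain ⟨m144, hm144, hm144n⟩ := nse_exists h 144 (by simp)
  have h2n : 2 ∣ Nat.card G := sCnt_dvd_card (by rw [s2]; norm_num)
  have hprimes : ∀ p, p.Prime → p ∣ Nat.card G → p = 2 ∨ p = 3 ∨ p = 5 ∨ p = 7 := by
    intro p hp hpn
    have hpF : Fact p.Prime := ⟨hp⟩
    have hne := sCnt_prime_ne_zero p hpn
    have hf := frob_prime p hp hpn
    rcases hv p with h0 | h0 | h0 | h0 | h0 | h0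
    · exact absurd h0 hne
    · rw [h0] at hf
      exact Or.inl ((Nat.prime_dvd_prime_iff_eq hp Nat.prime_two).mp hf)
    · rw [h0] at hf
      rcases prime_eq_of_dvd_mul p 2 23 hp Nat.prime_two (by norm_num) hf with rfl | rfl
      · exact Or.inl rfl
      · have t23 := tot_dvd (G := G) 23 22 (by decide)
        omega
    · rw [h0] at hf
      exact Or.inr (Or.inl (prime_eq_of_dvd_pow p 3 4 hp Nat.prime_three hf))
    · rw [h0] at hf
      rcases prime_eq_of_dvd_mul p 7 13 hp (by norm_num) (by norm_num) hf with rfl | rfl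
      · exact Or.inr (Or.inr (Or.inr rfl))
      · have t13 := tot_dvd (G := G) 13 12 (by decide)
        omega
    · rw [h0] at hf
      rcases prime_eq_of_dvd_mul p 5 29 hp Nat.prime_five (by norm_num) hf with rfl | rfl
      · exact Or.inr (Or.inr (Or.inl rfl))
      · have t29 := tot_dvd (G := G) 29 28 (by decide)
        omega
  have s3 : 3 ∣ Nat.card G → sCnt G 3 = 80 := by
    intro h3
    have hne := sCnt_prime_ne_zero 3 h3
    have hf := frob_prime 3 Nat.prime_three h3
    rcases hv 3 with h0 | h0 | h0 | h0 | h0 | h0 <;> omega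
  have s5 : 5 ∣ Nat.card G → sCnt G 5 = 144 := by
    intro h5
    have hne := sCnt_prime_ne_zero 5 h5
    have hf := frob_prime 5 Nat.prime_five h5
    rcases hv 5 with h0 | h0 | h0 | h0 | h0 | h0 <;> omega
  have s7 : 7 ∣ Nat.card G → sCnt G 7 = 90 := by
    intro h7
    have hne := sCnt_prime_ne_zero 7 h7
    have hf := frob_prime 7 (by norm_num) h7
    rcases hv 7 with h0 | h0 | h0 | h0 | h0 | h0 <;> omega
  have hge : 360 ≤ Nat.card G := by
    have a1 : m80 ≠ 1 := by rintro rfl; omega
    have a2 : m80 ≠ 2 := by rintro rfl; omega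
    have a3 : m90 ≠ 1 := by rintro rfl; omega
    have a4 : m90 ≠ 2 := by rintro rfl; omega
    have a5 : m144 ≠ 1 := by rintro rfl; omega
    have a6 : m144 ≠ 2 := by rintro rfl; omega
    have a7 : m80 ≠ m90 := by rintro rfl; omega
    have a8 : m80 ≠ m144 := by rintro rfl; omega
    have a9 : m90 ≠ m144 := by rintro rfl; omega
    have := sum_sCnt_le (G := G) ({1, 2, m80, m90, m144} : Finset ℕ)
    rw [Finset.sum_insert (by simp; omega), Finset.sum_insert (by simp; omega),
      Finset.sum_insert (by simp; omega), Finset.sum_pair a9] at this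
    omega
  -- the 2-part
  have s4 : 4 ∣ Nat.card G → sCnt G 4 = 90 := by
    intro h4
    have f4 := frob_list (G := G) 4 [1, 2, 4] (by decide) (by decide) h4
    simp only [List.map_cons, List.map_nil, List.sum_cons, List.sum_nil] at f4
    have v4 := hv 4
    omega
  have h16 : ¬ 2 ^ (3 + 1) ∣ Nat.card G := by
    intro h16
    have s4' := s4 (Dvd.dvd.trans (by norm_num) h16)
    have f16 := frob_list (G := G) 16 [1, 2, 4, 8, 16] (by decide) (by decide) h16
    simp only [List.map_cons, List.map_nil, List.sum_cons, List.sum_nil] at f16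
    have v8 := hv 8
    have t8 := tot_dvd (G := G) 8 4 (by decide)
    have v16 := hv 16
    have t16 := tot_dvd (G := G) 16 8 (by decide)
    omega
  -- the 5-part
  have h25 : ¬ 5 ^ (1 + 1) ∣ Nat.card G := by
    intro h25
    have h5 : 5 ∣ Nat.card G := Dvd.dvd.trans (by norm_num) h25
    have s5' := s5 h5
    have f25 := frob_list (G := G) 25 [1, 5, 25] (by decide) (by decide) h25
    simp only [List.map_cons, List.map_nil, List.sum_cons, List.sum_nil] at f25
    have v25 := hv 25
    have t25 := tot_dvd (G := G) 25 20 (by decide)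
    have s25 : sCnt G 25 = 80 := by omega
    have h125 : ¬ 5 ^ (2 + 1) ∣ Nat.card G := by
      intro h125
      have f125 := frob_list (G := G) 125 [1, 5, 25, 125] (by decide) (by decide +kernel) h125
      simp only [List.map_cons, List.map_nil, List.sum_cons, List.sum_nil] at f125
      have v125 := hv 125
      have t125 := tot_dvd (G := G) 125 100 (by decide +kernel)
      omega
    obtain ⟨P⟩ : Nonempty (Sylow 5 G) := inferInstance
    have hP := sylow_card_of_dvd 5 2 h25 h125 P
    have e25 : (5 : ℕ) ^ 2 = 25 := by norm_num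
    have hc := sCnt_cyc_sylow 5 2 P hP (by rw [e25, s25]; norm_num)
    rw [e25, s25, show Nat.totient 25 = 20 by decide] at hc
    have hmod : Nat.card (Sylow 5 G) % 5 = 1 := card_sylow_modEq_one 5 G
    omega
  have h5to36 : 5 ∣ Nat.card G → 36 ∣ Nat.card G := by
    intro h5
    obtain ⟨P⟩ : Nonempty (Sylow 5 G) := inferInstance
    have hP := sylow_card_of_dvd 5 1 (by simpa using h5) h25 P
    have hc := sCnt_cyc_sylow 5 1 P hP (by rw [pow_one, s5 h5]; norm_num)
    rw [pow_one, s5 h5, Nat.totient_prime Nat.prime_five] at hc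
    have hd := card_sylow_dvd (G := G) 5
    have h36 : Nat.card (Sylow 5 G) = 36 := by omega
    rwa [h36] at hd
  -- the 7-part
  have h7 : ¬ 7 ∣ Nat.card G := by
    intro h7
    have s7' := s7 h7
    have h49 : ¬ 7 ^ (1 + 1) ∣ Nat.card G := by
      intro h49
      have f49 := frob_list (G := G) 49 [1, 7, 49] (by decide) (by decide) h49
      simp only [List.map_cons, List.map_nil, List.sum_cons, List.sum_nil] at f49
      have v49 := hv 49
      have t49 := tot_dvd (G := G) 49 42 (by decide)
      omega
    obtain ⟨P⟩ : Nonempty (Sylow 7 G) := inferInstance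
    have hP := sylow_card_of_dvd 7 1 (by simpa using h7) h49 P
    have hc := sCnt_cyc_sylow 7 1 P hP (by rw [pow_one, s7']; norm_num)
    rw [pow_one, s7', Nat.totient_prime (by norm_num : Nat.Prime 7)] at hc
    have hd := card_sylow_dvd (G := G) 7
    have h15 : Nat.card (Sylow 7 G) = 15 := by omega
    rw [h15] at hd
    have h5 : 5 ∣ Nat.card G := Dvd.dvd.trans (by norm_num) hd
    have s5' := s5 h5
    have h35 : 35 ∣ Nat.card G :=
      Nat.Coprime.mul_dvd_of_dvd_of_dvd (by norm_num : Nat.Coprime 5 7) h5 h7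
    have f35 := frob_list (G := G) 35 [1, 5, 7, 35] (by decide) (by decide) h35
    simp only [List.map_cons, List.map_nil, List.sum_cons, List.sum_nil] at f35
    have v35 := hv 35
    have t35 := tot_dvd (G := G) 35 24 (by decide)
    omega
  -- the 3-part
  have s9 : sCnt G 9 = 0 := by
    by_contra hne
    have h9 : 3 ^ 2 ∣ Nat.card G := sCnt_dvd_card hne
    have s3' := s3 (Dvd.dvd.trans (by norm_num) h9)
    have f9 := frob_list (G := G) 9 [1, 3, 9] (by decide) (by decide) h9
    simp only [List.map_cons, List.map_nil, List.sum_cons, List.sum_nil] at f9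
    have v9 := hv 9
    have t9 := tot_dvd (G := G) 9 6 (by decide)
    have h27 : ¬ 3 ^ (2 + 1) ∣ Nat.card G := by
      intro h27
      have f27 := frob_list (G := G) 27 [1, 3, 9, 27] (by decide) (by decide) h27
      simp only [List.map_cons, List.map_nil, List.sum_cons, List.sum_nil] at f27
      have v27 := hv 27
      have t27 := tot_dvd (G := G) 27 18 (by decide)
      omega
    obtain ⟨P⟩ : Nonempty (Sylow 3 G) := inferInstance
    have hP := sylow_card_of_dvd 3 2 h9 h27 P
    have e9 : (3 : ℕ) ^ 2 = 9 := by norm_num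
    have hc := sCnt_cyc_sylow 3 2 P hP (by rw [e9]; exact hne)
    rw [e9, show Nat.totient 9 = 6 by decide] at hc
    have hmod : Nat.card (Sylow 3 G) % 3 = 1 := card_sylow_modEq_one 3 G
    omega
  by_cases h5 : 5 ∣ Nat.card G
  · -- the case of order divisible by 5
    have h36 := h5to36 h5
    have h3 : 3 ∣ Nat.card G := Dvd.dvd.trans (by norm_num) h36
    have h4 : 4 ∣ Nat.card G := Dvd.dvd.trans (by norm_num) h36
    have s3' := s3 h3
    have s4' := s4 h4
    have s5' := s5 h5
    have h15 : 15 ∣ Nat.card G :=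
      Nat.Coprime.mul_dvd_of_dvd_of_dvd (by norm_num : Nat.Coprime 3 5) h3 h5
    have s15 : sCnt G 15 = 0 := by
      have f15 := frob_list (G := G) 15 [1, 3, 5, 15] (by decide) (by decide) h15
      simp only [List.map_cons, List.map_nil, List.sum_cons, List.sum_nil] at f15
      have v15 := hv 15
      have t15 := tot_dvd (G := G) 15 8 (by decide)
      omega
    have h27 : ¬ 3 ^ (2 + 1) ∣ Nat.card G := by
      intro h27
      have h135 : 135 ∣ Nat.card G :=
        Nat.Coprime.mul_dvd_of_dvd_of_dvd (by norm_num : Nat.Coprime 27 5) h27 h5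
      have f135 := frob_list (G := G) 135 [1, 3, 5, 9, 15, 27, 45, 135] (by decide)
        (by decide +kernel) h135
      simp only [List.map_cons, List.map_nil, List.sum_cons, List.sum_nil] at f135
      have s27 : sCnt G 27 = 0 := sCnt_eq_zero_of_dvd s9 (by norm_num)
      have s45 : sCnt G 45 = 0 := sCnt_eq_zero_of_dvd s9 (by norm_num)
      have s135 : sCnt G 135 = 0 := sCnt_eq_zero_of_dvd s9 (by norm_num)
      omega
    have hn360 : Nat.card G ∣ 360 := by
      apply dvd_of_prime_pow_bounds
      intro p k hp hpk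
      rcases Nat.eq_zero_or_pos k with rfl | hk
      · simp
      have hpn : p ∣ Nat.card G := (dvd_pow_self p hk.ne').trans hpk
      rcases hprimes p hp hpn with rfl | rfl | rfl | rfl
      · exact pp_dvd _ 2 k 3 360 h16 hpk (by norm_num)
      · exact pp_dvd _ 3 k 2 360 h27 hpk (by norm_num)
      · exact pp_dvd _ 5 k 1 360 h25 hpk (by norm_num)
      · exact absurd hpn h7
    have hcard : Nat.card G = 360 := by
      have := Nat.le_of_dvd (by norm_num) hn360
      omega
    refine ⟨hcard, s3', s5', ?_⟩
    intro g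
    by_contra hgt
    have hne : sCnt G (orderOf g) ≠ 0 := (sCnt_ne_zero_iff _).mpr ⟨g, rfl⟩
    have := sum_sCnt_le (G := G) ({1, 2, 3, 4, 5, orderOf g} : Finset ℕ)
    rw [Finset.sum_insert (by simp; omega), Finset.sum_insert (by simp; omega),
      Finset.sum_insert (by simp; omega), Finset.sum_insert (by simp; omega),
      Finset.sum_pair (by omega)] at this
    omega
  · -- the case of a {2,3}-group
    exfalso
    have h3 : 3 ∣ Nat.card G := by
      by_contra hn3
      have hpow := Nat.eq_prime_pow_of_unique_prime_dvd (n := Nat.card G) (p := 2)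
        Nat.card_pos.ne' (by
          intro d hd hdn
          rcases hprimes d hd hdn with rfl | rfl | rfl | rfl
          · rfl
          · exact absurd hdn hn3
          · exact absurd hdn h5
          · exact absurd hdn h7)
      obtain ⟨j, hpow⟩ : ∃ j, Nat.card G = 2 ^ j := ⟨_, hpow⟩
      have hj4 : 4 ≤ j := by
        by_contra hlt
        have : j ≤ 3 := by omega
        have h8 : 2 ^ j ≤ 2 ^ 3 := Nat.pow_le_pow_right (by norm_num) this
        omega
      apply h16
      rw [hpow]
      exact pow_dvd_pow 2 hj4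
    have s3' := s3 h3
    have h243 : ¬ 3 ^ (4 + 1) ∣ Nat.card G := by
      intro h243
      have f243 := frob_list (G := G) 243 [1, 3, 9, 27, 81, 243] (by decide)
        (by decide +kernel) h243
      simp only [List.map_cons, List.map_nil, List.sum_cons, List.sum_nil] at f243
      have s27 : sCnt G 27 = 0 := sCnt_eq_zero_of_dvd s9 (by norm_num)
      have s81 : sCnt G 81 = 0 := sCnt_eq_zero_of_dvd s9 (by norm_num)
      have s243 : sCnt G 243 = 0 := sCnt_eq_zero_of_dvd s9 (by norm_num)
      omega
    have hn648 : Nat.card G ∣ 648 := by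
      apply dvd_of_prime_pow_bounds
      intro p k hp hpk
      rcases Nat.eq_zero_or_pos k with rfl | hk
      · simp
      have hpn : p ∣ Nat.card G := (dvd_pow_self p hk.ne').trans hpk
      rcases hprimes p hp hpn with rfl | rfl | rfl | rfl
      · exact pp_dvd _ 2 k 3 648 h16 hpk (by norm_num)
      · exact pp_dvd _ 3 k 4 648 h243 hpk (by norm_num)
      · exact absurd hpn h5
      · exact absurd hpn h7
    have hcard : Nat.card G = 648 := by
      have hmem : Nat.card G ∈ Nat.divisors 648 := by
        rw [Nat.mem_divisors]; exact ⟨hn648, by norm_num⟩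
      have key : ∀ d ∈ Nat.divisors 648, 360 ≤ d → d = 648 := by decide +kernel
      exact key _ hmem hge
    have s4' := s4 (by rw [hcard]; norm_num)
    have s8 : sCnt G 8 = 0 := by
      by_contra hne
      obtain ⟨P⟩ : Nonempty (Sylow 2 G) := inferInstance
      have hP := sylow_card_of_dvd 2 3 (by rw [hcard]; norm_num) h16 P
      have e8 : (2 : ℕ) ^ 3 = 8 := by norm_num
      have hc := sCnt_cyc_sylow 2 3 P hP (by rw [e8]; exact hne)
      rw [e8, show Nat.totient 8 = 4 by decide] at hc
      have hmod : Nat.card (Sylow 2 G) % 2 = 1 := card_sylow_modEq_one 2 G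
      have v8 := hv 8
      omega
    have hall : ∀ g : G, g ^ 12 = 1 := by
      intro g
      have hd : orderOf g ∣ 648 := (orderOf_dvd_natCard g).trans hn648
      have hne : sCnt G (orderOf g) ≠ 0 := (sCnt_ne_zero_iff _).mpr ⟨g, rfl⟩
      have hmem : orderOf g ∈ Nat.divisors 648 := by
        rw [Nat.mem_divisors]; exact ⟨hd, by norm_num⟩
      have key : ∀ d ∈ Nat.divisors 648, ¬ 8 ∣ d → ¬ 9 ∣ d → d ∣ 12 := by decide +kernel
      have := key _ hmem (fun h0 => hne (sCnt_eq_zero_of_dvd s8 h0))
        (fun h0 => hne (sCnt_eq_zero_of_dvd s9 h0))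
      exact orderOf_dvd_iff_pow_eq_one.mp this
    have hsum := card_eq_list_sum (G := G) 12 [1, 2, 3, 4, 6, 12] (by decide) (by decide)
      (by norm_num) hall
    simp only [List.map_cons, List.map_nil, List.sum_cons, List.sum_nil] at hsum
    have v6 := hv 6
    have v12 := hv 12
    omega

end Cfsg.Agent.Lib.helper18
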