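import Mathlib
import Cfsg.Agent.Lib.helper18.NseBase

set_option autoImplicit false

/-!
# The order statistics of the alternating groups of degree 4, 5, 6
-/

namespace Cfsg.Agent.Lib.helper18

/-- the set of counts is determined by a complete list of orders -/
theorem nse_eq_of_counts {H : Type*} [Group H] [Finite H] (L : List ℕ) (hL : L.Nodup)
    (hsum : (L.map (sCnt H)).sum = Nat.card H) (hpos : ∀ d ∈ L, sCnt H d ≠ 0) :
    ((fun m : ℕ => Nat.card {g : H // orderOf g = m}) '' Set.range (orderOf : H → ℕ)) =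
      {t | ∃ d ∈ L, sCnt H d = t} := by
  classical
  ext t
  constructor
  · rintro ⟨m, ⟨g, hg⟩, rfl⟩
    have hm : m ∈ L := by
      by_contra hm
      have h1 := sum_sCnt_le (G := H) (insert m L.toFinset)
      rw [Finset.sum_insert (by rwa [List.mem_toFinset]), List.sum_toFinset _ hL, hsum] at h1
      have h2 : sCnt H m ≠ 0 := (sCnt_ne_zero_iff m).mpr ⟨g, hg⟩
      omega
    exact ⟨m, hm, rfl⟩
  · rintro ⟨d, hd, rfl⟩
    obtain ⟨g, hg⟩ := (sCnt_ne_zero_iff d).mp (hpos d hd)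
    exact ⟨d, ⟨g, hg⟩, rfl⟩

/-- counting elements of a given order in an alternating group -/
theorem alt_count (n m : ℕ) (P : Equiv.Perm (Fin n) → Prop) [DecidablePred P]
    (hP : ∀ g : Equiv.Perm (Fin n), orderOf g = m ↔ P g) :
    sCnt (↥(alternatingGroup (Fin n))) m =
      (Finset.univ.filter (fun g : Equiv.Perm (Fin n) => Equiv.Perm.sign g = 1 ∧ P g)).card := by
  unfold sCnt
  rw [← Fintype.card_subtype, ← Nat.card_eq_fintype_card]
  apply Nat.card_congr
  exact {
    toFun := fun x => ⟨x.1.1, Equiv.Perm.mem_alternatingGroup.mp x.1.2,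
      (hP _).mp (by rw [Subgroup.orderOf_coe]; exact x.2)⟩
    invFun := fun y => ⟨⟨y.1, Equiv.Perm.mem_alternatingGroup.mpr y.2.1⟩,
      by rw [Subgroup.orderOf_mk]; exact (hP _).mpr y.2.2⟩
    left_inv := fun x => rfl
    right_inv := fun y => rfl }

theorem orderOf_four_iff {G : Type*} [Group G] (g : G) :
    orderOf g = 4 ↔ g ^ 4 = 1 ∧ g ^ 2 ≠ 1 := by
  constructor
  · intro h
    refine ⟨by rw [← h]; exact pow_orderOf_eq_one g, fun h2 => ?_⟩
    have := orderOf_dvd_of_pow_eq_one h2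
    rw [h] at this
    omega
  · rintro ⟨h4, h2⟩
    have : Fact (Nat.Prime 2) := ⟨Nat.prime_two⟩
    exact orderOf_eq_prime_pow (p := 2) (n := 1) (by simpa using h2) (by simpa using h4)

theorem orderOf_two_iff {G : Type*} [Group G] (g : G) :
    orderOf g = 2 ↔ g ^ 2 = 1 ∧ g ≠ 1 := by
  have : Fact (Nat.Prime 2) := ⟨Nat.prime_two⟩
  exact orderOf_eq_prime_iff

theorem orderOf_three_iff {G : Type*} [Group G] (g : G) :
    orderOf g = 3 ↔ g ^ 3 = 1 ∧ g ≠ 1 := by
  have : Fact (Nat.Prime 3) := ⟨Nat.prime_three⟩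
  exact orderOf_eq_prime_iff

theorem orderOf_five_iff {G : Type*} [Group G] (g : G) :
    orderOf g = 5 ↔ g ^ 5 = 1 ∧ g ≠ 1 := by
  have : Fact (Nat.Prime 5) := ⟨Nat.prime_five⟩
  exact orderOf_eq_prime_iff

/-! ### degree 4 -/

set_option maxRecDepth 1000000 in
theorem a4_cnt2 : (Finset.univ.filter (fun g : Equiv.Perm (Fin 4) =>
    Equiv.Perm.sign g = 1 ∧ g ^ 2 = 1 ∧ g ≠ 1)).card = 3 := by
  decide +kernel

set_option maxRecDepth 1000000 in
theorem a4_cnt3 : (Finset.univ.filter (fun g : Equiv.Perm (Fin 4) =>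
    Equiv.Perm.sign g = 1 ∧ g ^ 3 = 1 ∧ g ≠ 1)).card = 8 := by
  decide +kernel

theorem nse_A4 : ((fun m : ℕ => Nat.card {g : ↥(alternatingGroup (Fin 4)) // orderOf g = m}) ''
    Set.range (orderOf : ↥(alternatingGroup (Fin 4)) → ℕ)) = {1, 3, 8} := by
  have c1 : sCnt (↥(alternatingGroup (Fin 4))) 1 = 1 := sCnt_one _
  have c2 : sCnt (↥(alternatingGroup (Fin 4))) 2 = 3 :=
    (alt_count 4 2 _ (fun g => orderOf_two_iff g)).trans a4_cnt2
  have c3 : sCnt (↥(alternatingGroup (Fin 4))) 3 = 8 :=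
    (alt_count 4 3 _ (fun g => orderOf_three_iff g)).trans a4_cnt3
  have hc : Nat.card (↥(alternatingGroup (Fin 4))) = 12 := by
    rw [nat_card_alternatingGroup]; simp [Nat.factorial]
  rw [nse_eq_of_counts [1, 2, 3] (by decide) (by rw [hc]; simp [c1, c2, c3])
    (by intro d hd; simp at hd; rcases hd with rfl | rfl | rfl <;> omega)]
  ext t
  simp only [List.mem_cons, List.not_mem_nil, or_false, exists_eq_or_imp, exists_eq_left,
    Set.mem_ofPred_eq, Set.mem_insert_iff, Set.mem_singleton_iff, c1, c2, c3]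
  constructor
  · rintro (h | h | h) <;> omega
  · rintro (h | h | h) <;> omega

/-! ### degree 5 -/

set_option maxRecDepth 1000000 in
theorem a5_cnt2 : (Finset.univ.filter (fun g : Equiv.Perm (Fin 5) =>
    Equiv.Perm.sign g = 1 ∧ g ^ 2 = 1 ∧ g ≠ 1)).card = 15 := by
  decide +kernel

set_option maxRecDepth 1000000 in
theorem a5_cnt3 : (Finset.univ.filter (fun g : Equiv.Perm (Fin 5) =>
    Equiv.Perm.sign g = 1 ∧ g ^ 3 = 1 ∧ g ≠ 1)).card = 20 := by
  decide +kernel

set_option maxRecDepth 1000000 in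
theorem a5_cnt5 : (Finset.univ.filter (fun g : Equiv.Perm (Fin 5) =>
    Equiv.Perm.sign g = 1 ∧ g ^ 5 = 1 ∧ g ≠ 1)).card = 24 := by
  decide +kernel

theorem nse_A5 : ((fun m : ℕ => Nat.card {g : ↥(alternatingGroup (Fin 5)) // orderOf g = m}) ''
    Set.range (orderOf : ↥(alternatingGroup (Fin 5)) → ℕ)) = {1, 15, 20, 24} := by
  have c1 : sCnt (↥(alternatingGroup (Fin 5))) 1 = 1 := sCnt_one _
  have c2 : sCnt (↥(alternatingGroup (Fin 5))) 2 = 15 :=
    (alt_count 5 2 _ (fun g => orderOf_two_iff g)).trans a5_cnt2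
  have c3 : sCnt (↥(alternatingGroup (Fin 5))) 3 = 20 :=
    (alt_count 5 3 _ (fun g => orderOf_three_iff g)).trans a5_cnt3
  have c5 : sCnt (↥(alternatingGroup (Fin 5))) 5 = 24 :=
    (alt_count 5 5 _ (fun g => orderOf_five_iff g)).trans a5_cnt5
  have hc : Nat.card (↥(alternatingGroup (Fin 5))) = 60 := by
    rw [nat_card_alternatingGroup]; simp [Nat.factorial]
  rw [nse_eq_of_counts [1, 2, 3, 5] (by decide) (by rw [hc]; simp [c1, c2, c3, c5])
    (by intro d hd; simp at hd; rcases hd with rfl | rfl | rfl | rfl <;> omega)]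
  ext t
  simp only [List.mem_cons, List.not_mem_nil, or_false, exists_eq_or_imp, exists_eq_left,
    Set.mem_ofPred_eq, Set.mem_insert_iff, Set.mem_singleton_iff, c1, c2, c3, c5]
  constructor
  · rintro (h | h | h | h) <;> omega
  · rintro (h | h | h | h) <;> omega

/-! ### degree 6 -/

set_option maxRecDepth 1000000 in
theorem a6_cnt2 : (Finset.univ.filter (fun g : Equiv.Perm (Fin 6) =>
    Equiv.Perm.sign g = 1 ∧ g ^ 2 = 1 ∧ g ≠ 1)).card = 45 := by
  decide +kernel

set_option maxRecDepth 1000000 in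
theorem a6_cnt3 : (Finset.univ.filter (fun g : Equiv.Perm (Fin 6) =>
    Equiv.Perm.sign g = 1 ∧ g ^ 3 = 1 ∧ g ≠ 1)).card = 80 := by
  decide +kernel

set_option maxRecDepth 1000000 in
theorem a6_cnt4 : (Finset.univ.filter (fun g : Equiv.Perm (Fin 6) =>
    Equiv.Perm.sign g = 1 ∧ g ^ 4 = 1 ∧ g ^ 2 ≠ 1)).card = 90 := by
  decide +kernel

set_option maxRecDepth 1000000 in
theorem a6_cnt5 : (Finset.univ.filter (fun g : Equiv.Perm (Fin 6) =>
    Equiv.Perm.sign g = 1 ∧ g ^ 5 = 1 ∧ g ≠ 1)).card = 144 := by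
  decide +kernel

theorem nse_A6 : ((fun m : ℕ => Nat.card {g : ↥(alternatingGroup (Fin 6)) // orderOf g = m}) ''
    Set.range (orderOf : ↥(alternatingGroup (Fin 6)) → ℕ)) = {1, 45, 80, 90, 144} := by
  have c1 : sCnt (↥(alternatingGroup (Fin 6))) 1 = 1 := sCnt_one _
  have c2 : sCnt (↥(alternatingGroup (Fin 6))) 2 = 45 :=
    (alt_count 6 2 _ (fun g => orderOf_two_iff g)).trans a6_cnt2
  have c3 : sCnt (↥(alternatingGroup (Fin 6))) 3 = 80 :=
    (alt_count 6 3 _ (fun g => orderOf_three_iff g)).trans a6_cnt3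
  have c4 : sCnt (↥(alternatingGroup (Fin 6))) 4 = 90 :=
    (alt_count 6 4 _ (fun g => orderOf_four_iff g)).trans a6_cnt4
  have c5 : sCnt (↥(alternatingGroup (Fin 6))) 5 = 144 :=
    (alt_count 6 5 _ (fun g => orderOf_five_iff g)).trans a6_cnt5
  have hc : Nat.card (↥(alternatingGroup (Fin 6))) = 360 := by
    rw [nat_card_alternatingGroup]; simp [Nat.factorial]
  rw [nse_eq_of_counts [1, 2, 3, 4, 5] (by decide) (by rw [hc]; simp [c1, c2, c3, c4, c5])
    (by intro d hd; simp at hd; rcases hd with rfl | rfl | rfl | rfl | rfl <;> omega)]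
  ext t
  simp only [List.mem_cons, List.not_mem_nil, or_false, exists_eq_or_imp, exists_eq_left,
    Set.mem_ofPred_eq, Set.mem_insert_iff, Set.mem_singleton_iff, c1, c2, c3, c4, c5]
  constructor
  · rintro (h | h | h | h | h) <;> omega
  · rintro (h | h | h | h | h) <;> omega

end Cfsg.Agent.Lib.helper18
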