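import Mathlib
import Cfsg.Agent.Lib.helper18.NseBase
import Cfsg.Agent.Lib.helper6.PSLPerm

set_option autoImplicit false

/-!
# Identification lemmas for the order statistics of small alternating groups
-/

namespace Cfsg.Agent.Lib.helper18

open Cfsg.Agent.Lib.helper70

theorem sum_sCnt_eq {G : Type*} [Group G] [Finite G] (A : Finset ℕ) :
    ∑ d ∈ A, sCnt G d = Nat.card {g : G // orderOf g ∈ A} := by
  classical
  cases nonempty_fintype G
  rw [natCard_subtype_eq_card_filter]
  rw [Finset.card_eq_sum_card_fiberwise (f := orderOf)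
    (s := Finset.univ.filter (fun g : G => orderOf g ∈ A)) (t := A)
    (fun g hg => (Finset.mem_filter.mp hg).2)]
  apply Finset.sum_congr rfl
  intro d hd
  unfold sCnt
  rw [natCard_subtype_eq_card_filter]
  congr 1
  ext g
  simp only [Finset.mem_filter, Finset.mem_univ, true_and]
  constructor
  · intro h
    exact ⟨h ▸ hd, h⟩
  · exact fun h => h.2

/-- a subgroup containing all elements with orders in `A` has at least that many elements -/
theorem sum_sCnt_le_card_subgroup {G : Type*} [Group G] [Finite G] (A : Finset ℕ)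
    (N : Subgroup G) (h : ∀ g : G, orderOf g ∈ A → g ∈ N) :
    ∑ d ∈ A, sCnt G d ≤ Nat.card N := by
  rw [sum_sCnt_eq]
  exact Nat.card_le_card_of_injective (fun g => (⟨g.1, h g.1 g.2⟩ : N))
    (fun a b hab => Subtype.ext (congrArg (fun x : N => (x : G)) hab))

/-- a group of order 12 with eight elements of order 3 is the alternating group of degree 4 -/
theorem a4_of_counts {G : Type*} [Group G] [Finite G] (hG : Nat.card G = 12)
    (h3 : sCnt G 3 = 8) : Nonempty (G ≃* alternatingGroup (Fin 4)) := by
  have hp3 : Fact (Nat.Prime 3) := ⟨Nat.prime_three⟩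
  obtain ⟨P⟩ : Nonempty (Sylow 3 G) := inferInstance
  have hcardQ : ∀ Q : Sylow 3 G, Nat.card Q = 3 := fun Q => by
    have := sylow_card_of_dvd 3 1 (by rw [hG]; norm_num) (by rw [hG]; norm_num) Q
    simpa using this
  have hn3 : Nat.card (Sylow 3 G) = 4 := by
    have h1 := sCnt_cyc_sylow 3 1 P (by rw [pow_one]; exact hcardQ P)
      (by rw [pow_one, h3]; norm_num)
    rw [pow_one, h3, Nat.totient_prime Nat.prime_three] at h1
    omega
  have hnorm : ∀ Q : Sylow 3 G, Subgroup.normalizer ((Q : Subgroup G) : Set G) = (Q : Subgroup G) := by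
    intro Q
    symm
    apply Subgroup.eq_of_le_of_card_ge Subgroup.le_normalizer
    have h1 : Nat.card (Sylow 3 G) = (Subgroup.normalizer ((Q : Subgroup G) : Set G)).index :=
      Sylow.card_eq_index_normalizer Q
    have h2 := Subgroup.card_mul_index (Subgroup.normalizer ((Q : Subgroup G) : Set G))
    rw [← h1, hn3, hG] at h2
    rw [hcardQ Q]
    omega
  have hfaith : ∀ s : G, (∀ Q : Sylow 3 G, s • Q = Q) → s = 1 := by
    intro s hs
    have hmem : ∀ Q : Sylow 3 G, s ∈ (Q : Subgroup G) := by
      intro Q
      have : s ∈ Subgroup.normalizer ((Q : Subgroup G) : Set G) :=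
        Sylow.smul_eq_iff_mem_normalizer.mp (hs Q)
      rwa [hnorm Q] at this
    have hnt : Nontrivial (Sylow 3 G) := by
      rw [← Finite.one_lt_card_iff_nontrivial, hn3]; norm_num
    obtain ⟨Q1, Q2, hne⟩ := exists_pair_ne (Sylow 3 G)
    by_contra hs1
    have hz : ∀ Q : Sylow 3 G, Subgroup.zpowers s = (Q : Subgroup G) := by
      intro Q
      have hle : Subgroup.zpowers s ≤ (Q : Subgroup G) := by
        rw [Subgroup.zpowers_le]; exact hmem Q
      apply Subgroup.eq_of_le_of_card_ge hle
      rw [hcardQ Q, Nat.card_zpowers]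
      have hd : orderOf s ∣ 3 := by
        have := Subgroup.card_dvd_of_le hle
        rwa [hcardQ Q, Nat.card_zpowers] at this
      rcases (Nat.dvd_prime Nat.prime_three).mp hd with h | h
      · exact absurd (orderOf_eq_one_iff.mp h) hs1
      · exact h.ge
    exact hne (Sylow.ext ((hz Q1).symm.trans (hz Q2)))
  let e : Sylow 3 G ≃ Fin 4 := Finite.equivFinOfCardEq hn3
  let θ : G →* Equiv.Perm (Fin 4) :=
    (e.permCongrHom : Equiv.Perm (Sylow 3 G) →* Equiv.Perm (Fin 4)).comp
      (MulAction.toPermHom G (Sylow 3 G))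
  have hθ : Function.Injective θ := by
    rw [injective_iff_map_eq_one]
    intro s hs
    apply hfaith s
    intro Q
    have h1 : e.permCongrHom (MulAction.toPermHom G (Sylow 3 G) s) = 1 := hs
    have h2 : MulAction.toPermHom G (Sylow 3 G) s = 1 := by
      apply e.permCongrHom.injective
      rw [h1, map_one]
    exact congrArg (fun σ : Equiv.Perm (Sylow 3 G) => σ Q) h2
  exact Cfsg.Agent.Lib.helper6.nonempty_mulEquiv_alternatingGroup_of_injective_of_card θ hθ
    (by rw [hG]; rfl)

/-- an element of order 5 normalizing a subgroup of order prime to 5 and centralizing none of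
its non-identity elements forces the order to be 1 mod 5 -/
theorem card_modEq_one_of_fpf {G : Type*} [Group G] [Finite G] (T : Subgroup G) (y : G)
    (hy : orderOf y = 5) (hyT : y ∈ Subgroup.normalizer (T : Set G))
    (hfix : ∀ a ∈ T, y * a * y⁻¹ = a → a = 1) : Nat.card T % 5 = 1 := by
  classical
  cases nonempty_fintype G
  have hp5 : Fact (Nat.Prime 5) := ⟨Nat.prime_five⟩
  let Γ : Subgroup (ConjAct G) := Subgroup.zpowers (ConjAct.toConjAct y)
  have hΓ : IsPGroup 5 Γ := by
    apply IsPGroup.of_card (n := 1)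
    rw [Nat.card_zpowers, pow_one, ← hy]
    exact orderOf_injective (ConjAct.toConjAct (G := G)).toMonoidHom
      (ConjAct.toConjAct (G := G)).injective y
  let S : Finset G := Finset.univ.filter (fun a : G => a ∈ T)
  have hS : ∀ γ : Γ, ∀ a ∈ S, γ • a ∈ S := by
    rintro ⟨γ, hγ⟩ a ha
    obtain ⟨k, rfl⟩ := Subgroup.mem_zpowers_iff.mp hγ
    simp only [S, Finset.mem_filter, Finset.mem_univ, true_and] at ha ⊢
    have hk : y ^ k ∈ Subgroup.normalizer (T : Set G) := Subgroup.zpow_mem _ hyT k
    have h1 : (⟨ConjAct.toConjAct y ^ k, hγ⟩ : Γ) • a = y ^ k * a * (y ^ k)⁻¹ := by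
      change (ConjAct.toConjAct y ^ k) • a = _
      rw [ConjAct.smul_def, map_zpow, ConjAct.ofConjAct_toConjAct]
    rw [h1]
    exact (Subgroup.mem_normalizer_iff.mp hk a).mp ha
  have h := card_modEq_card_fixed 5 hΓ S hS
  have hfixcard : Nat.card {a : G // a ∈ S ∧ ∀ γ : Γ, γ • a = a} = 1 := by
    rw [Nat.card_eq_one_iff_unique]
    have hone : ∀ a : {a : G // a ∈ S ∧ ∀ γ : Γ, γ • a = a}, a.1 = 1 := by
      rintro ⟨a, haS, hafix⟩
      simp only [S, Finset.mem_filter, Finset.mem_univ, true_and] at haS
      apply hfix a haS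
      have := hafix ⟨ConjAct.toConjAct y, Subgroup.mem_zpowers _⟩
      have h2 : (⟨ConjAct.toConjAct y, Subgroup.mem_zpowers _⟩ : Γ) • a = y * a * y⁻¹ := by
        change (ConjAct.toConjAct y) • a = _
        rw [ConjAct.smul_def, ConjAct.ofConjAct_toConjAct]
      rwa [h2] at this
    refine ⟨⟨fun a b => Subtype.ext ((hone a).trans (hone b).symm)⟩, ⟨⟨1, ?_, ?_⟩⟩⟩
    · simp only [S, Finset.mem_filter, Finset.mem_univ, true_and]
      exact T.one_mem
    · intro γ
      exact smul_one γ
  rw [hfixcard] at h
  have hSc : S.card = Nat.card T := by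
    rw [Nat.card_eq_fintype_card, Fintype.card_subtype]
  rw [hSc] at h
  exact h

/-- simplicity from the order statistics, for orders 60 and 360 -/
theorem simple_of_spec {G : Type*} [Group G] [Finite G] (n : ℕ) (hn : n = 60 ∨ n = 360)
    (hG : Nat.card G = n) (hord : ∀ g : G, orderOf g ≤ 5)
    (h5 : n < 3 * (1 + sCnt G 5)) (h35 : n < 2 * (1 + sCnt G 3 + sCnt G 5)) :
    IsSimpleGroup G := by
  have hp5 : Fact (Nat.Prime 5) := ⟨Nat.prime_five⟩
  have h5n : 5 ∣ Nat.card G := by rw [hG]; rcases hn with rfl | rfl <;> norm_num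
  have h25n : ¬ 5 ^ 2 ∣ Nat.card G := by rw [hG]; rcases hn with rfl | rfl <;> norm_num
  have hcardQ : ∀ Q : Sylow 5 G, Nat.card Q = 5 := fun Q => by
    have := sylow_card_of_dvd 5 1 (by rw [pow_one]; exact h5n) h25n Q
    simpa using this
  have hnt : Nontrivial G := by
    rw [← Finite.one_lt_card_iff_nontrivial, hG]; rcases hn with rfl | rfl <;> norm_num
  refine ⟨fun N hN => ?_⟩
  by_cases hN5 : 5 ∣ Nat.card N
  · right
    -- N contains every element of order 5
    obtain ⟨y0, hy0⟩ := exists_prime_orderOf_dvd_card' 5 hN5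
    have hy0G : orderOf (y0 : G) = 5 := by rw [Subgroup.orderOf_coe]; exact hy0
    have hsyl : ∀ z : G, orderOf z = 5 → ∃ Q : Sylow 5 G, (Q : Subgroup G) = Subgroup.zpowers z := by
      intro z hz
      have hpg : IsPGroup 5 (Subgroup.zpowers z) :=
        IsPGroup.of_card (n := 1) (by rw [Nat.card_zpowers, hz, pow_one])
      obtain ⟨Q, hQ⟩ := hpg.exists_le_sylow
      refine ⟨Q, (Subgroup.eq_of_le_of_card_ge hQ ?_).symm⟩
      rw [hcardQ Q, Nat.card_zpowers, hz]
    obtain ⟨Q0, hQ0⟩ := hsyl (y0 : G) hy0G
    have hA : ∀ z : G, orderOf z = 5 → z ∈ N := by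
      intro z hz
      obtain ⟨Q, hQ⟩ := hsyl z hz
      obtain ⟨c, hc⟩ := MulAction.exists_smul_eq G Q0 Q
      have hzQ : z ∈ ((c • Q0 : Sylow 5 G) : Subgroup G) := by
        rw [hc, hQ]; exact Subgroup.mem_zpowers z
      rw [mem_smul_sylow, hQ0] at hzQ
      have hle : Subgroup.zpowers (y0 : G) ≤ N := by
        rw [Subgroup.zpowers_le]; exact y0.2
      have h1 := hN.conj_mem _ (hle hzQ) c
      have h2 : c * (c⁻¹ * z * c) * c⁻¹ = z := by group
      rwa [h2] at h1
    have hc1 : 1 + sCnt G 5 ≤ Nat.card N := by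
      have := sum_sCnt_le_card_subgroup ({1, 5} : Finset ℕ) N (by
        intro g hg
        simp only [Finset.mem_insert, Finset.mem_singleton] at hg
        rcases hg with h | h
        · rw [orderOf_eq_one_iff.mp h]; exact N.one_mem
        · exact hA g h)
      rw [Finset.sum_pair (by norm_num), sCnt_one] at this
      exact this
    have hidx := Subgroup.card_mul_index N
    rw [hG] at hidx
    have hpos : 0 < N.index := Nat.pos_of_ne_zero (fun h0 => by
      rw [h0, mul_zero] at hidx
      rcases hn with rfl | rfl <;> omega)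
    have hidx3 : N.index < 3 := by
      by_contra hge
      have : Nat.card N * 3 ≤ Nat.card N * N.index := Nat.mul_le_mul_left _ (by omega)
      omega
    have hidx2 : N.index ≠ 2 := by
      intro h2
      have hB : ∀ z : G, orderOf z = 3 → z ∈ N := by
        intro z hz
        have h4 : z ^ 2 ∈ N := Subgroup.sq_mem_of_index_two h2 z
        have h5' : (z ^ 2) ^ 2 = z := by
          rw [← pow_mul]
          have : z ^ 3 = 1 := by rw [← hz]; exact pow_orderOf_eq_one z
          calc z ^ (2 * 2) = z ^ 3 * z := by rw [← pow_succ]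
            _ = z := by rw [this, one_mul]
        rw [← h5']
        exact N.pow_mem h4 2
      have := sum_sCnt_le_card_subgroup ({1, 3, 5} : Finset ℕ) N (by
        intro g hg
        simp only [Finset.mem_insert, Finset.mem_singleton] at hg
        rcases hg with h | h | h
        · rw [orderOf_eq_one_iff.mp h]; exact N.one_mem
        · exact hB g h
        · exact hA g h)
      rw [Finset.sum_insert (by norm_num), Finset.sum_pair (by norm_num), sCnt_one] at this
      rw [h2] at hidx
      omega
    have hidx1 : N.index = 1 := by omega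
    exact Subgroup.index_eq_one.mp hidx1
  · left
    by_contra hNbot
    have hNcard : Nat.card N ≠ 1 := fun h => hNbot (Subgroup.card_eq_one.mp h)
    obtain ⟨q, hq, hqN⟩ := Nat.exists_prime_and_dvd hNcard
    have hqF : Fact q.Prime := ⟨hq⟩
    obtain ⟨P⟩ : Nonempty (Sylow q N) := inferInstance
    let T : Subgroup G := (P : Subgroup N).map N.subtype
    have hTcard : Nat.card T = Nat.card (P : Subgroup N) :=
      Nat.card_congr ((P : Subgroup N).equivMapOfInjective N.subtype
        (Subgroup.subtype_injective N)).toEquiv.symm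
    have hP1 : Nat.card (P : Subgroup N) ≠ 1 := by
      intro h1
      have := P.card_eq_multiplicity
      rw [h1] at this
      have hfac : 1 ≤ (Nat.card N).factorization q :=
        (hq.dvd_iff_one_le_factorization Nat.card_pos.ne').mp hqN
      have : 1 < q ^ (Nat.card N).factorization q := Nat.one_lt_pow (by omega) hq.one_lt
      omega
    have hTdvd : Nat.card T ∣ n := by
      rw [hTcard, ← hG]
      exact ((P : Subgroup N).card_subgroup_dvd_card).trans N.card_subgroup_dvd_card
    have hT5 : ¬ 5 ∣ Nat.card T := by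
      rw [hTcard]
      exact fun h => hN5 (h.trans (P : Subgroup N).card_subgroup_dvd_card)
    -- Frattini
    have hfr := Sylow.normalizer_sup_eq_top P
    have hidx : N.index ∣ Nat.card (Subgroup.normalizer (T : Set G)) := by
      have h1 := Subgroup.relIndex_sup_right (Subgroup.normalizer (T : Set G)) N
      rw [hfr, Subgroup.relIndex_top_right] at h1
      rw [h1]
      exact Subgroup.relIndex_dvd_card _ _
    have h5idx : 5 ∣ N.index := by
      have h1 := Subgroup.card_mul_index N
      rw [← h1] at h5n
      rcases (Nat.Prime.dvd_mul Nat.prime_five).mp h5n with h | h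
      · exact absurd h hN5
      · exact h
    obtain ⟨y, hy⟩ := exists_prime_orderOf_dvd_card' 5 (h5idx.trans hidx)
    have hyG : orderOf (y : G) = 5 := by rw [Subgroup.orderOf_coe]; exact hy
    have hmod := card_modEq_one_of_fpf T (y : G) hyG y.2 (by
      intro a haT hcomm
      by_contra ha1
      have hc : Commute (y : G) a := by
        have : (y : G) * a = a * (y : G) := by
          calc (y : G) * a = (y : G) * a * (y : G)⁻¹ * (y : G) := by group
            _ = a * (y : G) := by rw [hcomm]
        exact this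
      have hoa : orderOf a ∣ Nat.card T := by
        have := orderOf_dvd_natCard (⟨a, haT⟩ : T)
        rwa [Subgroup.orderOf_mk] at this
      have hcop : Nat.Coprime (orderOf (y : G)) (orderOf a) := by
        rw [hyG]
        exact (Nat.Prime.coprime_iff_not_dvd Nat.prime_five).mpr (fun h => hT5 (h.trans hoa))
      have hmul := hc.orderOf_mul_eq_mul_orderOf_of_coprime hcop
      have hle := hord ((y : G) * a)
      rw [hmul, hyG] at hle
      have hpos := orderOf_pos a
      have : orderOf a = 1 := by nlinarith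
      exact ha1 (orderOf_eq_one_iff.mp this))
    -- the order of T is a prime power dividing n, not 1, and 1 mod 5
    have hTpow : ∃ k, Nat.card T = q ^ k := by
      rw [hTcard]
      exact ⟨_, P.card_eq_multiplicity⟩
    obtain ⟨k, hk⟩ := hTpow
    have hT1 : Nat.card T ≠ 1 := by rw [hTcard]; exact hP1
    have hcases : Nat.card T = 6 ∨ Nat.card T = 36 := by
      have hmem : Nat.card T ∈ Nat.divisors n := by
        rw [Nat.mem_divisors]
        exact ⟨hTdvd, by rcases hn with rfl | rfl <;> norm_num⟩
      rcases hn with rfl | rfl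
      · have key : ∀ d ∈ Nat.divisors 60, d % 5 = 1 → d ≠ 1 → d = 6 ∨ d = 36 := by decide
        exact key _ hmem hmod hT1
      · have key : ∀ d ∈ Nat.divisors 360, d % 5 = 1 → d ≠ 1 → d = 6 ∨ d = 36 := by decide
        exact key _ hmem hmod hT1
    have h2 : 2 ∣ q ^ k := by rw [← hk]; rcases hcases with h | h <;> rw [h] <;> norm_num
    have h3 : 3 ∣ q ^ k := by rw [← hk]; rcases hcases with h | h <;> rw [h] <;> norm_num
    have e2 := (Nat.prime_dvd_prime_iff_eq Nat.prime_two hq).mp (Nat.prime_two.dvd_of_dvd_pow h2)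
    have e3 := (Nat.prime_dvd_prime_iff_eq Nat.prime_three hq).mp
      (Nat.prime_three.dvd_of_dvd_pow h3)
    omega

end Cfsg.Agent.Lib.helper18
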