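import Mathlib
import Cfsg.Agent.Lib.helper18.Ord360c
import Cfsg.Agent.Lib.helper42.DihedralEight
import Cfsg.Agent.Lib.helper11.D8Iso
import Cfsg.Agent.Lib.helper6.SLCard

/-!
A simple group of order 360 is isomorphic to the alternating group of degree 6.
-/

set_option autoImplicit false

namespace Cfsg.Agent.Lib.helper18

open MulAction
open Cfsg.Agent.Lib.helper75

section Ord360

variable {G : Type*} [Group G] [Finite G] [IsSimpleGroup G]

theorem o360_A6 (hG : Nat.card G = 360) : Nonempty (G ≃* alternatingGroup (Fin 6)) := by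
  have hp5 : Fact (Nat.Prime 5) := ⟨by norm_num⟩
  have hp2 : Fact (Nat.Prime 2) := ⟨Nat.prime_two⟩
  obtain ⟨Q⟩ : Nonempty (Sylow 5 G) := inferInstance
  rcases (o360_five hG Q).2 with h6 | ⟨h36, -⟩
  · exact o360_of_six hG h6
  obtain ⟨T, u, σ, huT, hσT, huu, hne⟩ := o360_exists_noncentral hG h36
  have hT8 := o360_card_two hG T
  obtain ⟨e⟩ := Cfsg.Agent.Lib.helper42.nonempty_mulEquiv_dihedral_of_card_eight hT8
    (⟨u, huT⟩ : (T : Subgroup G)) ⟨σ, hσT⟩ (Subtype.ext huu)
    (fun h => hne (congrArg Subtype.val h))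
  let ψ : DihedralGroup 4 →* G := (Subgroup.subtype (T : Subgroup G)).comp e.symm.toMonoidHom
  have hψ : ∀ d, ψ d = ((e.symm d : (T : Subgroup G)) : G) := fun d => rfl
  obtain ⟨α, hα⟩ : ∃ α : G, α = ψ (DihedralGroup.r 2) := ⟨_, rfl⟩
  have hψinj : Function.Injective ψ := by
    intro d d' h
    rw [hψ, hψ] at h
    exact e.symm.injective (Subtype.ext h)
  have hψe : ∀ (s : G) (hs : s ∈ (T : Subgroup G)), ψ (e ⟨s, hs⟩) = s := by
    intro s hs
    rw [hψ, MulEquiv.symm_apply_apply]
  have hαc : ∀ s ∈ (T : Subgroup G), s * α = α * s := by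
    intro s hs
    rw [hα, ← hψe s hs, ← map_mul, ← map_mul]
    congr 1
    generalize e ⟨s, hs⟩ = d
    revert d
    decide
  have hα1 : α ≠ 1 := by
    rw [hα]
    intro h
    have h1 := hψinj (h.trans (map_one ψ).symm)
    revert h1
    decide
  have hα2 : orderOf α = 2 := by
    apply orderOf_eq_prime
    · rw [hα, ← map_pow]
      have h2 : (DihedralGroup.r 2 : DihedralGroup 4) ^ 2 = 1 := by decide
      rw [h2, map_one]
    · exact hα1
  have hCT : Subgroup.centralizer ({α} : Set G) = (T : Subgroup G) := by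
    symm
    apply Subgroup.eq_of_le_of_card_ge
    · intro s hs
      exact Subgroup.mem_centralizer_singleton_iff.mpr (hαc s hs)
    · rw [hT8]
      exact Nat.le_of_dvd (by norm_num) (o360_invol_cent hG h36 α hα2)
  have hDC : Cfsg.Agent.Lib.helper11.D8Cent.DC α ψ := by
    refine ⟨hψinj, ?_, hα.symm⟩
    intro x hx
    have hxT : x ∈ (T : Subgroup G) := by
      rw [← hCT]
      exact Subgroup.mem_centralizer_singleton_iff.mpr hx
    exact ⟨e ⟨x, hxT⟩, hψe x hxT⟩
  have hidx : ∀ H : Subgroup G, H.index ≠ 2 := by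
    intro H hH
    have hn := Subgroup.normal_of_index_eq_two hH
    rcases hn.eq_bot_or_eq_top with hb | ht
    · rw [hb, Subgroup.index_bot, hG] at hH
      omega
    · rw [ht, Subgroup.index_top] at hH
      omega
  have hconj := hDC.conj_of_transfer hidx T hαc
  have hD8H : Cfsg.Agent.Lib.helper11.D8Cent.D8H α ψ := ⟨hDC, hconj⟩
  rcases hD8H.classify with h | ⟨F, hF1, hF2, hFc, ⟨e'⟩⟩
  · exact h
  · exfalso
    have hcard := Cfsg.Agent.Lib.helper6.card_PSL (F := F) 2 (by norm_num)
    rw [← Nat.card_congr e'.toEquiv, hG, hFc, Fin.prod_univ_two] at hcard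
    norm_num at hcard

end Ord360

end Cfsg.Agent.Lib.helper18
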