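import Mathlib
import Cfsg.Agent.Lib.helper18.Ord4080b

/-!
Simple groups of order 4080: the numbers of Sylow 5- and 3-subgroups are both 136, and their
centralizers have order 15.
-/

set_option autoImplicit false

namespace Cfsg.Agent.Lib.helper18

open MulAction
open Cfsg.Agent.Lib.helper75

section Ord4080

variable {G : Type*} [Group G] [Finite G] [IsSimpleGroup G]

/-- there are at least 1920 elements of order divisible by 17 -/
theorem o4080_W17 (hG : Nat.card G = 4080) : 1920 ≤ Set.ncard {y : G | 17 ∣ orderOf y} := by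
  have h17 : Fact (Nat.Prime 17) := ⟨by norm_num⟩
  have h := card_div_elts_ge (G := G) 17 1 (o4080_card_seventeen hG)
    (fun P => by rw [(o4080_seventeen hG P).2.2])
  obtain ⟨Q⟩ : Nonempty (Sylow 17 G) := inferInstance
  rw [(o4080_seventeen hG Q).2.1] at h
  exact h

/-- there are at least 1360 elements of order divisible by 3 -/
theorem o4080_W3 (hG : Nat.card G = 4080) : 1360 ≤ Set.ncard {y : G | 3 ∣ orderOf y} := by
  have h3 : Fact (Nat.Prime 3) := ⟨by norm_num⟩
  obtain ⟨P₀⟩ : Nonempty (Sylow 3 G) := inferInstance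
  obtain ⟨-, k, hk, hnk⟩ := o4080_three hG P₀
  have h := card_div_elts_ge (G := G) 3 k (o4080_card_three hG) (fun P => by
    obtain ⟨-, k', hk', hnk'⟩ := o4080_three hG P
    have hkk : k' = k := by
      have h0 : Nat.card (Sylow 3 G) ≠ 0 := by
        intro h
        rw [h] at hnk
        omega
      exact Nat.eq_of_mul_eq_mul_left (Nat.pos_of_ne_zero h0) (hnk'.trans hnk.symm)
    rw [hk', hkk]
    omega)
  have h2 : Nat.card (Sylow 3 G) * (k * (3 - 1)) = 1360 := by
    rw [← mul_assoc, hnk]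
    norm_num
  omega

/-- the number of Sylow 5-subgroups is 136 -/
theorem o4080_five_count (hG : Nat.card G = 4080) : Nat.card (Sylow 5 G) = 136 := by
  have h5 : Fact (Nat.Prime 5) := ⟨by norm_num⟩
  have h3 : Fact (Nat.Prime 3) := ⟨by norm_num⟩
  have h17 : Fact (Nat.Prime 17) := ⟨by norm_num⟩
  obtain ⟨Q₀⟩ : Nonempty (Sylow 5 G) := inferInstance
  rcases (o4080_five hG Q₀).2 with ⟨h51, -⟩ | ⟨h136, -⟩
  · exfalso
    have hC : ∀ Q : Sylow 5 G,
        Nat.card (Subgroup.centralizer ((Q : Subgroup G) : Set G)) = 20 ∨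
          Nat.card (Subgroup.centralizer ((Q : Subgroup G) : Set G)) = 40 := by
      intro Q
      rcases (o4080_five hG Q).2 with ⟨-, h⟩ | ⟨h, -⟩
      · exact h
      · rw [h51] at h
        omega
    have hW5 := card_div_elts_ge (G := G) 5 4 (o4080_card_five hG)
      (fun Q => by rcases hC Q with h | h <;> rw [h]; norm_num)
    rw [h51] at hW5
    have hW17 := o4080_W17 hG
    have hW3 := o4080_W3 hG
    obtain ⟨W3, hW3def⟩ : ∃ W : Set G, W = {y : G | 3 ∣ orderOf y} := ⟨_, rfl⟩
    obtain ⟨W5, hW5def⟩ : ∃ W : Set G, W = {y : G | 5 ∣ orderOf y} := ⟨_, rfl⟩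
    obtain ⟨W17, hW17def⟩ : ∃ W : Set G, W = {y : G | 17 ∣ orderOf y} := ⟨_, rfl⟩
    rw [← hW3def] at hW3
    rw [← hW5def] at hW5
    rw [← hW17def] at hW17
    have hd35 : Disjoint W3 W5 := by
      rw [Set.disjoint_left]
      intro y hy3 hy5
      rw [hW3def] at hy3
      rw [hW5def] at hy5
      have hy3' : 3 ∣ orderOf y := hy3
      have hy5' : 5 ∣ orderOf y := hy5
      have hy0 : orderOf y ≠ 0 := (orderOf_pos y).ne'
      have hz5 := orderOf_pow_orderOf_div hy0 hy5'
      have hz3 := orderOf_pow_orderOf_div hy0 hy3'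
      obtain ⟨Q, hQeq, hQ⟩ := exists_sylow_of_orderOf_prime 5 (o4080_card_five hG) _ hz5
      have hmem := hQ (y ^ (orderOf y / 3)) (((Commute.refl y).pow_pow _ _).eq)
      have hd := Subgroup.orderOf_dvd_natCard _ hmem
      rw [hz3] at hd
      rcases hC Q with h | h <;> rw [h] at hd <;> omega
    have hd17 : Disjoint W17 (W3 ∪ W5) := by
      rw [Set.disjoint_left]
      intro y hy17 hy
      rw [hW17def] at hy17
      have ho := o4080_orderOf_seventeen hG y hy17
      rcases hy with hy | hy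
      · rw [hW3def] at hy
        have hy' : 3 ∣ orderOf y := hy
        rw [ho] at hy'
        omega
      · rw [hW5def] at hy
        have hy' : 5 ∣ orderOf y := hy
        rw [ho] at hy'
        omega
    have hd1 : Disjoint (W17 ∪ (W3 ∪ W5)) ({1} : Set G) := by
      rw [Set.disjoint_singleton_right]
      rintro (h | h | h)
      · rw [hW17def] at h
        have h' : 17 ∣ orderOf (1 : G) := h
        rw [orderOf_one] at h'
        omega
      · rw [hW3def] at h
        have h' : 3 ∣ orderOf (1 : G) := h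
        rw [orderOf_one] at h'
        omega
      · rw [hW5def] at h
        have h' : 5 ∣ orderOf (1 : G) := h
        rw [orderOf_one] at h'
        omega
    have hle := Set.ncard_le_card ((W17 ∪ (W3 ∪ W5)) ∪ ({1} : Set G))
    rw [Set.ncard_union_eq hd1 (Set.toFinite _) (Set.toFinite _),
      Set.ncard_union_eq hd17 (Set.toFinite _) (Set.toFinite _),
      Set.ncard_union_eq hd35 (Set.toFinite _) (Set.toFinite _), Set.ncard_singleton, hG] at hle
    omega
  · exact h136

/-- the centralizer of a Sylow 5-subgroup has order 15 -/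
theorem o4080_five_cent (hG : Nat.card G = 4080) (Q : Sylow 5 G) :
    Nat.card (Subgroup.centralizer ((Q : Subgroup G) : Set G)) = 15 := by
  rcases (o4080_five hG Q).2 with ⟨h, -⟩ | ⟨-, h⟩
  · rw [o4080_five_count hG] at h
    omega
  · exact h

/-- two elements of order 3 commuting with an element of order 5 commute -/
theorem o4080_comm_three (hG : Nat.card G = 4080) (b x x' : G) (hb : orderOf b = 5)
    (hx : orderOf x = 3) (hc : b * x = x * b) (hc' : b * x' = x' * b) : x * x' = x' * x := by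
  have h5 : Fact (Nat.Prime 5) := ⟨by norm_num⟩
  obtain ⟨Q, hQeq, hQ⟩ := exists_sylow_of_orderOf_prime 5 (o4080_card_five hG) b hb
  have hC15 := o4080_five_cent hG Q
  have hxC := hQ x hc
  have hx'C := hQ x' hc'
  have hbC := hQ b rfl
  have hcomm : Commute x b := (show Commute b x from hc).symm
  have ho : orderOf (x * b) = 15 := by
    rw [hcomm.orderOf_mul_eq_mul_orderOf_of_coprime (by rw [hx, hb]; norm_num), hx, hb]
  have hle : Subgroup.zpowers (x * b) ≤ Subgroup.centralizer ((Q : Subgroup G) : Set G) :=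
    Subgroup.zpowers_le.mpr (Subgroup.mul_mem _ hxC hbC)
  have hCeq : Subgroup.zpowers (x * b) = Subgroup.centralizer ((Q : Subgroup G) : Set G) :=
    Subgroup.eq_of_le_of_card_ge hle (by rw [hC15, Nat.card_zpowers, ho])
  have key : ∀ u v : G, u ∈ Subgroup.zpowers (x * b) → v ∈ Subgroup.zpowers (x * b) →
      u * v = v * u := by
    intro u v hu hv
    obtain ⟨i, rfl⟩ := Subgroup.mem_zpowers_iff.mp hu
    obtain ⟨j, rfl⟩ := Subgroup.mem_zpowers_iff.mp hv
    exact (Commute.zpow_zpow_self (x * b) i j).eq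
  rw [← hCeq] at hxC hx'C
  exact key x x' hxC hx'C

/-- the number of Sylow 3-subgroups is 136 -/
theorem o4080_three_count (hG : Nat.card G = 4080) : Nat.card (Sylow 3 G) = 136 := by
  classical
  have h5 : Fact (Nat.Prime 5) := ⟨by norm_num⟩
  have h3 : Fact (Nat.Prime 3) := ⟨by norm_num⟩
  obtain ⟨Q⟩ : Nonempty (Sylow 5 G) := inferInstance
  have hQ5 : Nat.card (Q : Subgroup G) = 5 := o4080_card_five hG Q
  have hC15 := o4080_five_cent hG Q
  obtain ⟨x, hxC, hx⟩ := exists_mem_orderOf_prime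
    (Subgroup.centralizer ((Q : Subgroup G) : Set G)) 3 (by rw [hC15]; norm_num)
  obtain ⟨b, hbQ, hb⟩ := exists_mem_orderOf_prime (Q : Subgroup G) 5 (by rw [hQ5])
  have hbx : b * x = x * b := by
    rw [Subgroup.mem_centralizer_iff] at hxC
    exact hxC b hbQ
  obtain ⟨P, hPeq, hP⟩ := exists_sylow_of_orderOf_prime 3 (o4080_card_three hG) x hx
  have hbC : b ∈ Subgroup.centralizer ((P : Subgroup G) : Set G) := hP b hbx.symm
  obtain ⟨hP3, hn1, hmod, -, -⟩ :=
    sylow_setup (p := 3) 1360 (by rw [hG]) (by norm_num) (by norm_num) P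
  obtain ⟨-, k, hk, hnk⟩ := o4080_three hG P
  have h5k : 5 ∣ 3 * k := by
    rw [← hk, ← hb]
    exact Subgroup.orderOf_dvd_natCard _ hbC
  have h5k' : 5 ∣ k := by omega
  obtain ⟨k', rfl⟩ := h5k'
  have hfac := card_dvd_factorial_sylow (p := 3) hn1
  rw [hG] at hfac
  have := Fintype.ofFinite (Sylow 3 G)
  have hb5 : b * b * b * b * b = 1 := by
    have h : b ^ 5 = 1 := by rw [← hb]; exact pow_orderOf_eq_one b
    rw [← h]
    simp [pow_succ]
  let f : Function.End (Sylow 3 G) := fun R => b • R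
  have hf5 : f ^ 5 ^ 1 = 1 := by
    funext R
    show b • b • b • b • b • R = R
    rw [← mul_smul, ← mul_smul, ← mul_smul, ← mul_smul, hb5, one_smul]
  have hfix := Equiv.Perm.card_fixedPoints_modEq (p := 5) (n := 1) hf5
  rw [← Nat.card_eq_fintype_card] at hfix
  obtain ⟨n, hn⟩ : ∃ n, n = Nat.card (Sylow 3 G) := ⟨_, rfl⟩
  rw [← hn] at hmod hnk hn1 hfac hfix ⊢
  have hnk2 : n * k' = 136 := by
    have : n * (5 * k') = 5 * (n * k') := by ring
    omega
  have hnd : n ∣ 136 := Dvd.intro _ hnk2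
  have hnle : n ≤ 136 := Nat.le_of_dvd (by norm_num) hnd
  have hcases : n = 4 ∨ n = 34 ∨ n = 136 := by
    clear hnk hn hfac hnk2 hfix
    interval_cases n <;> omega
  rcases hcases with rfl | rfl | rfl
  · exfalso
    revert hfac
    decide
  · exfalso
    have hlt : 1 < Fintype.card (Function.fixedPoints f) := by
      unfold Nat.ModEq at hfix
      omega
    obtain ⟨R₁, R₂, hne⟩ := Fintype.one_lt_card_iff.mp hlt
    have hR₁ : b • R₁.1 = R₁.1 := R₁.2
    have hR₂ : b • R₂.1 = R₂.1 := R₂.2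
    have hne' : R₁.1 ≠ R₂.1 := fun h => hne (Subtype.ext h)
    have hco : Nat.Coprime (orderOf b) (3 - 1) := by
      rw [hb]
      norm_num
    have hbC₁ := mem_centralizer_of_smul_eq R₁.1 (o4080_card_three hG R₁.1) b hR₁ hco
    have hbC₂ := mem_centralizer_of_smul_eq R₂.1 (o4080_card_three hG R₂.1) b hR₂ hco
    obtain ⟨x₁, hx₁R, hx₁⟩ := exists_mem_orderOf_prime (R₁.1 : Subgroup G) 3
      (by rw [show Nat.card (R₁.1 : Subgroup G) = 3 from o4080_card_three hG R₁.1])
    obtain ⟨x₂, hx₂R, hx₂⟩ := exists_mem_orderOf_prime (R₂.1 : Subgroup G) 3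
      (by rw [show Nat.card (R₂.1 : Subgroup G) = 3 from o4080_card_three hG R₂.1])
    have hbx₁ : b * x₁ = x₁ * b := by
      rw [Subgroup.mem_centralizer_iff] at hbC₁
      exact (hbC₁ x₁ hx₁R).symm
    have hbx₂ : b * x₂ = x₂ * b := by
      rw [Subgroup.mem_centralizer_iff] at hbC₂
      exact (hbC₂ x₂ hx₂R).symm
    have hcomm : Commute x₁ x₂ := o4080_comm_three hG b x₁ x₂ hb hx₁ hbx₁ hbx₂
    have hx₁ne : x₁ ≠ 1 := by
      rintro rfl
      rw [orderOf_one] at hx₁
      omega
    have hx₂ne : x₂ ≠ 1 := by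
      rintro rfl
      rw [orderOf_one] at hx₂
      omega
    have hz : Subgroup.zpowers x₁ = (R₁.1 : Subgroup G) :=
      zpowers_eq_of_card_prime R₁.1 (o4080_card_three hG R₁.1) x₁ hx₁R hx₁ne
    have hx₂C : x₂ ∈ Subgroup.centralizer ((R₁.1 : Subgroup G) : Set G) := by
      rw [← hz, Subgroup.mem_centralizer_iff]
      intro h hh
      obtain ⟨i, rfl⟩ := Subgroup.mem_zpowers_iff.mp hh
      exact (Commute.zpow_left hcomm i).eq
    have hx₂R₁ : x₂ ∈ (R₁.1 : Subgroup G) := by
      apply mem_sylow_of_orderOf_pow R₁.1 x₂ 1 (by rw [hx₂, pow_one])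
      exact Sylow.smul_eq_iff_mem_normalizer.mpr (Subgroup.centralizer_le_normalizer _ hx₂C)
    exact hx₂ne (sylow_prime_TI 3 (o4080_card_three hG) R₁.1 R₂.1 hne' x₂ hx₂R₁ hx₂R)
  · rfl

/-- the centralizer of a Sylow 3-subgroup has order 15 -/
theorem o4080_three_cent (hG : Nat.card G = 4080) (P : Sylow 3 G) :
    Nat.card (Subgroup.centralizer ((P : Subgroup G) : Set G)) = 15 := by
  obtain ⟨-, k, hk, hnk⟩ := o4080_three hG P
  rw [o4080_three_count hG] at hnk
  rw [hk]
  omega

end Ord4080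

end Cfsg.Agent.Lib.helper18
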