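import Mathlib
import Cfsg.Agent.Lib.helper18.Ord4080c
import Cfsg.Agent.S1230

/-!
Simple groups of order 4080: involution centralizers are elementary abelian of order 16, hence
the group is `PSL(2, F)` for a field `F` with 16 elements.
-/

set_option autoImplicit false

namespace Cfsg.Agent.Lib.helper18

open MulAction
open Cfsg.Agent.Lib.helper75

section Ord4080

variable {G : Type*} [Group G] [Finite G] [IsSimpleGroup G]

/-- the order of an element commuting with an involution is prime to 3, 5 and 17 -/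
theorem o4080_invol_cent_order (hG : Nat.card G = 4080) (t : G) (ht : orderOf t = 2) (c : G)
    (hc : t * c = c * t) : ¬ 3 ∣ orderOf c ∧ ¬ 5 ∣ orderOf c ∧ ¬ 17 ∣ orderOf c := by
  have hp3 : Fact (Nat.Prime 3) := ⟨by norm_num⟩
  have hp5 : Fact (Nat.Prime 5) := ⟨by norm_num⟩
  have hc0 : orderOf c ≠ 0 := (orderOf_pos c).ne'
  have hcomm : Commute t c := hc
  refine ⟨?_, ?_, ?_⟩
  · intro h
    have ho := orderOf_pow_orderOf_div hc0 h
    have hcm : Commute t (c ^ (orderOf c / 3)) := hcomm.pow_right _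
    obtain ⟨P, -, hP⟩ := exists_sylow_of_orderOf_prime 3 (o4080_card_three hG) _ ho
    have hmem := hP t hcm.symm.eq
    have hd := Subgroup.orderOf_dvd_natCard _ hmem
    rw [o4080_three_cent hG P, ht] at hd
    omega
  · intro h
    have ho := orderOf_pow_orderOf_div hc0 h
    have hcm : Commute t (c ^ (orderOf c / 5)) := hcomm.pow_right _
    obtain ⟨P, -, hP⟩ := exists_sylow_of_orderOf_prime 5 (o4080_card_five hG) _ ho
    have hmem := hP t hcm.symm.eq
    have hd := Subgroup.orderOf_dvd_natCard _ hmem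
    rw [o4080_five_cent hG P, ht] at hd
    omega
  · intro h
    have ho := orderOf_pow_orderOf_div hc0 h
    have hcm : Commute t (c ^ (orderOf c / 17)) := hcomm.pow_right _
    have hmem := o4080_comm_seventeen hG _ t ho hcm.symm.eq
    have h1 := Subgroup.orderOf_dvd_natCard _ hmem
    rw [Nat.card_zpowers, ho, ht] at h1
    omega

/-- at most 255 nontrivial elements lie outside the Sylow 3-subgroups and have order prime to
5 and 17 -/
theorem o4080_count (hG : Nat.card G = 4080) (S : Set G) (h1 : (1 : G) ∉ S)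
    (h3 : ∀ g ∈ S, ∀ P : Sylow 3 G, g ∉ P) (h5 : ∀ g ∈ S, ¬ 5 ∣ orderOf g)
    (h17 : ∀ g ∈ S, ¬ 17 ∣ orderOf g) : S.ncard ≤ 255 := by
  have hp3 : Fact (Nat.Prime 3) := ⟨by norm_num⟩
  have hp5 : Fact (Nat.Prime 5) := ⟨by norm_num⟩
  have hp17 : Fact (Nat.Prime 17) := ⟨by norm_num⟩
  have A3 := card_union_sylow_TI 3 3 (o4080_card_three hG)
    (sylow_prime_TI 3 (o4080_card_three hG))
  rw [o4080_three_count hG] at A3
  have hW5 := card_div_elts_ge (G := G) 5 3 (o4080_card_five hG)
    (fun Q => by rw [o4080_five_cent hG Q])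
  rw [o4080_five_count hG] at hW5
  have hW17 := o4080_W17 hG
  obtain ⟨U3, hU3⟩ : ∃ U : Set G, U = {g : G | g ≠ 1 ∧ ∃ P : Sylow 3 G, g ∈ P} := ⟨_, rfl⟩
  obtain ⟨W5, hW5def⟩ : ∃ W : Set G, W = {y : G | 5 ∣ orderOf y} := ⟨_, rfl⟩
  obtain ⟨W17, hW17def⟩ : ∃ W : Set G, W = {y : G | 17 ∣ orderOf y} := ⟨_, rfl⟩
  rw [← hU3] at A3
  rw [← hW5def] at hW5
  rw [← hW17def] at hW17
  have hU3ord : ∀ g ∈ U3, orderOf g ∣ 3 := by
    intro g hg
    rw [hU3] at hg
    obtain ⟨-, P, hP⟩ := hg
    have h := Subgroup.orderOf_dvd_natCard _ (show g ∈ (P : Subgroup G) from hP)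
    rwa [show Nat.card (P : Subgroup G) = 3 from o4080_card_three hG P] at h
  have hd35 : Disjoint U3 W5 := by
    rw [Set.disjoint_left]
    intro y hy3 hy5
    rw [hW5def] at hy5
    have hy5' : 5 ∣ orderOf y := hy5
    have := hy5'.trans (hU3ord y hy3)
    omega
  have hd17 : Disjoint W17 (U3 ∪ W5) := by
    rw [Set.disjoint_left]
    intro y hy17 hy
    rw [hW17def] at hy17
    have ho := o4080_orderOf_seventeen hG y hy17
    rcases hy with hy | hy
    · have := hU3ord y hy
      rw [ho] at this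
      omega
    · rw [hW5def] at hy
      have hy' : 5 ∣ orderOf y := hy
      rw [ho] at hy'
      omega
  have hdS : Disjoint S (W17 ∪ (U3 ∪ W5)) := by
    rw [Set.disjoint_left]
    intro g hgS hg
    rcases hg with hg | hg | hg
    · rw [hW17def] at hg
      exact h17 g hgS hg
    · rw [hU3] at hg
      obtain ⟨-, P', hP'⟩ := hg
      exact h3 g hgS P' hP'
    · rw [hW5def] at hg
      exact h5 g hgS hg
  have hd1 : Disjoint (S ∪ (W17 ∪ (U3 ∪ W5))) ({1} : Set G) := by
    rw [Set.disjoint_singleton_right]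
    rintro (h | h | h | h)
    · exact h1 h
    · rw [hW17def] at h
      have h' : 17 ∣ orderOf (1 : G) := h
      rw [orderOf_one] at h'
      omega
    · rw [hU3] at h
      exact h.1 rfl
    · rw [hW5def] at h
      have h' : 5 ∣ orderOf (1 : G) := h
      rw [orderOf_one] at h'
      omega
  have hle := Set.ncard_le_card ((S ∪ (W17 ∪ (U3 ∪ W5))) ∪ ({1} : Set G))
  rw [Set.ncard_union_eq hd1 (Set.toFinite _) (Set.toFinite _),
    Set.ncard_union_eq hdS (Set.toFinite _) (Set.toFinite _),
    Set.ncard_union_eq hd17 (Set.toFinite _) (Set.toFinite _),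
    Set.ncard_union_eq hd35 (Set.toFinite _) (Set.toFinite _), A3, Set.ncard_singleton,
    hG] at hle
  omega

/-- if there is an involution, every nontrivial element outside the Sylow 3-subgroups and of
order prime to 5 and 17 is an involution -/
theorem o4080_invol_class (hG : Nat.card G = 4080) (t : G) (ht : orderOf t = 2) (y : G)
    (hy1 : y ≠ 1) (hy3 : ∀ P : Sylow 3 G, y ∉ P) (hy5 : ¬ 5 ∣ orderOf y)
    (hy17 : ¬ 17 ∣ orderOf y) : orderOf y = 2 := by
  have hp3 : Fact (Nat.Prime 3) := ⟨by norm_num⟩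
  have hp5 : Fact (Nat.Prime 5) := ⟨by norm_num⟩
  have hp17 : Fact (Nat.Prime 17) := ⟨by norm_num⟩
  obtain ⟨Y, hY⟩ : ∃ Y : Set G, Y = {y : G | y ≠ 1 ∧ (∀ P : Sylow 3 G, y ∉ P) ∧
      ¬ 5 ∣ orderOf y ∧ ¬ 17 ∣ orderOf y} := ⟨_, rfl⟩
  have hYle : Y.ncard ≤ 255 := by
    apply o4080_count hG
    · intro h
      rw [hY] at h
      exact h.1 rfl
    · intro g hg
      rw [hY] at hg
      exact hg.2.1
    · intro g hg
      rw [hY] at hg
      exact hg.2.2.1
    · intro g hg
      rw [hY] at hg
      exact hg.2.2.2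
  have hsub : MulAction.orbit (ConjAct G) t ⊆ Y := by
    intro g hg
    have ho := orderOf_of_mem_conj_orbit t g hg
    rw [ht] at ho
    rw [hY]
    refine ⟨?_, ?_, ?_, ?_⟩
    · rintro rfl
      rw [orderOf_one] at ho
      omega
    · intro P hgP
      have h := Subgroup.orderOf_dvd_natCard _ (show g ∈ (P : Subgroup G) from hgP)
      rw [show Nat.card (P : Subgroup G) = 3 from o4080_card_three hG P, ho] at h
      omega
    · rw [ho]
      omega
    · rw [ho]
      omega
  have hcc := conj_class_card t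
  rw [hG] at hcc
  have hCdvd : Nat.card (Subgroup.centralizer ({t} : Set G)) ∣ 4080 := by
    rw [← hG]
    exact Subgroup.card_subgroup_dvd_card _
  have hC3 : ¬ 3 ∣ Nat.card (Subgroup.centralizer ({t} : Set G)) := by
    intro h
    obtain ⟨x, hxC, hx⟩ := exists_mem_orderOf_prime _ 3 h
    rw [Subgroup.mem_centralizer_singleton_iff] at hxC
    have := (o4080_invol_cent_order hG t ht x hxC.symm).1
    rw [hx] at this
    exact this dvd_rfl
  have hC5 : ¬ 5 ∣ Nat.card (Subgroup.centralizer ({t} : Set G)) := by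
    intro h
    obtain ⟨x, hxC, hx⟩ := exists_mem_orderOf_prime _ 5 h
    rw [Subgroup.mem_centralizer_singleton_iff] at hxC
    have := (o4080_invol_cent_order hG t ht x hxC.symm).2.1
    rw [hx] at this
    exact this dvd_rfl
  have hC17 : ¬ 17 ∣ Nat.card (Subgroup.centralizer ({t} : Set G)) := by
    intro h
    obtain ⟨x, hxC, hx⟩ := exists_mem_orderOf_prime _ 17 h
    rw [Subgroup.mem_centralizer_singleton_iff] at hxC
    have := (o4080_invol_cent_order hG t ht x hxC.symm).2.2
    rw [hx] at this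
    exact this dvd_rfl
  have hC16 : Nat.card (Subgroup.centralizer ({t} : Set G)) ≤ 16 := by
    have hco : Nat.Coprime (Nat.card (Subgroup.centralizer ({t} : Set G))) 255 := by
      have h255 : (255 : ℕ) = 3 * 5 * 17 := by norm_num
      rw [h255]
      apply Nat.Coprime.mul_right
      · apply Nat.Coprime.mul_right
        · exact ((Nat.Prime.coprime_iff_not_dvd (by norm_num : Nat.Prime 3)).mpr hC3).symm
        · exact ((Nat.Prime.coprime_iff_not_dvd (by norm_num : Nat.Prime 5)).mpr hC5).symm
      · exact ((Nat.Prime.coprime_iff_not_dvd (by norm_num : Nat.Prime 17)).mpr hC17).symm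
    have h16 : Nat.card (Subgroup.centralizer ({t} : Set G)) ∣ 16 := by
      have h4080 : (4080 : ℕ) = 255 * 16 := by norm_num
      rw [h4080] at hCdvd
      exact hco.dvd_of_dvd_mul_left hCdvd
    exact Nat.le_of_dvd (by norm_num) h16
  have hcls : 255 ≤ (MulAction.orbit (ConjAct G) t).ncard := by
    by_contra hlt
    have h254 : (MulAction.orbit (ConjAct G) t).ncard ≤ 254 := by omega
    have := Nat.mul_le_mul h254 hC16
    omega
  have heq : MulAction.orbit (ConjAct G) t = Y :=
    Set.eq_of_subset_of_ncard_le hsub (hYle.trans hcls) (Set.toFinite _)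
  have hyY : y ∈ Y := by
    rw [hY]
    exact ⟨hy1, hy3, hy5, hy17⟩
  rw [← heq] at hyY
  rw [orderOf_of_mem_conj_orbit t y hyY, ht]

/-- an element commuting with an involution has square one -/
theorem o4080_invol_cent_sq (hG : Nat.card G = 4080) (t : G) (ht : orderOf t = 2) (c : G)
    (hc : t * c = c * t) : c ^ 2 = 1 := by
  by_cases hc1 : c = 1
  · rw [hc1, one_pow]
  obtain ⟨h3, h5, h17⟩ := o4080_invol_cent_order hG t ht c hc
  have ho : orderOf c = 2 := by
    apply o4080_invol_class hG t ht c hc1 _ h5 h17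
    intro P hcP
    apply hc1
    apply eq_one_of_mem_of_coprime (P : Subgroup G) 3 (o4080_card_three hG P) c hcP
    exact ((Nat.Prime.coprime_iff_not_dvd (by norm_num : Nat.Prime 3)).mpr h3).symm
  rw [← ho]
  exact pow_orderOf_eq_one c

/-- a simple group of order 4080 is `PSL(2, F)` for a field `F` with 16 elements -/
theorem o4080_psl (hG : Nat.card G = 4080) :
    ∃ (F : Type) (_ : Field F) (_ : Fintype F), Fintype.card F = 16 ∧
      Nonempty (G ≃* Matrix.ProjectiveSpecialLinearGroup (Fin 2) F) := by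
  have hp2 : Fact (Nat.Prime 2) := ⟨Nat.prime_two⟩
  have hp3 : Fact (Nat.Prime 3) := ⟨by norm_num⟩
  obtain ⟨T⟩ : Nonempty (Sylow 2 G) := inferInstance
  have hT16 : Nat.card (T : Subgroup G) = 16 :=
    sylow_card_pow 2 4 255 (by norm_num) (by rw [hG]; norm_num) T
  obtain ⟨t₀, -, ht₀⟩ := exists_mem_orderOf_prime (T : Subgroup G) 2 (by rw [hT16]; norm_num)
  have hnc : ¬ IsCyclic (T : Subgroup G) := by
    intro hcyc
    obtain ⟨g, hg⟩ := IsCyclic.exists_generator (α := (T : Subgroup G))
    have hog := orderOf_eq_card_of_forall_mem_zpowers hg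
    rw [hT16] at hog
    have hog' : orderOf (g : G) = 16 := by
      rw [Subgroup.orderOf_coe]
      exact hog
    have ho8 : orderOf ((g : G) ^ 2) = 8 := by
      rw [orderOf_pow' (g : G) (by norm_num), hog']
      norm_num
    have h2 : orderOf ((g : G) ^ 2) = 2 := by
      apply o4080_invol_class hG t₀ ht₀
      · intro h
        rw [h, orderOf_one] at ho8
        omega
      · intro P hP
        have h := Subgroup.orderOf_dvd_natCard _ (show (g : G) ^ 2 ∈ (P : Subgroup G) from hP)
        rw [show Nat.card (P : Subgroup G) = 3 from o4080_card_three hG P, ho8] at h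
        omega
      · rw [ho8]
        omega
      · rw [ho8]
        omega
    omega
  have hnn : ¬ (T : Subgroup G).Normal := by
    intro hn
    rcases hn.eq_bot_or_eq_top with hb | ht
    · rw [hb, Subgroup.card_bot] at hT16
      omega
    · rw [ht, Subgroup.card_top, hG] at hT16
      omega
  have hC : ∀ t : G, orderOf t = 2 →
      IsMulCommutative (Subgroup.centralizer ({t} : Set G)) ∧
        ∀ c ∈ Subgroup.centralizer ({t} : Set G), c ^ 2 = 1 := by
    intro t ht
    have hsq : ∀ c ∈ Subgroup.centralizer ({t} : Set G), c ^ 2 = 1 := by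
      intro c hc
      rw [Subgroup.mem_centralizer_singleton_iff] at hc
      exact o4080_invol_cent_sq hG t ht c hc.symm
    refine ⟨⟨⟨fun a b => ?_⟩⟩, hsq⟩
    apply Subtype.ext
    have ha := hsq a a.2
    have hb := hsq b b.2
    have hab := hsq (a * b) (Subgroup.mul_mem _ a.2 b.2)
    show (a : G) * b = b * a
    have h1 : (a : G) * b * (a * b) = 1 := by rw [← pow_two]; exact hab
    have h2 : (a : G) * a = 1 := by rw [← pow_two]; exact ha
    have h3 : (b : G) * b = 1 := by rw [← pow_two]; exact hb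
    have ha' : (a : G)⁻¹ = a := inv_eq_of_mul_eq_one_left h2
    have hb' : (b : G)⁻¹ = b := inv_eq_of_mul_eq_one_left h3
    have hab' : ((a : G) * b)⁻¹ = a * b := inv_eq_of_mul_eq_one_left h1
    rw [← hab', mul_inv_rev, ha', hb']
  obtain ⟨F, hF1, hF2, hFc, hiso⟩ := Cfsg.Agent.S1230.result T hnc hnn hC
  exact ⟨F, hF1, hF2, hFc.trans hT16, hiso⟩

end Ord4080

end Cfsg.Agent.Lib.helper18
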