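import Mathlib
import Cfsg.Agent.Lib.helper68.HallPet
import Cfsg.Agent.Lib.helper79.PearlX

set_option autoImplicit false

namespace Cfsg.Agent.Lib.helper79.P3

open Cfsg.Agent.Lib.helper68 Cfsg.Agent.Lib.helper79

/-- NONUNIF sub-piece (a), core form (FRAT and ZC as hypotheses): a non-uniform `h ∉ P_2` centralizes some
`u ∈ P_2 ∖ P_(n-1)`. -/
theorem h18_p3_nonunif_a {G : Type*} [Group G] [Finite G] (n : ℕ) (hn : 4 ≤ n) (hG : Nat.card G = 3 ^ n) (x : G)
    (hC : Nat.card (Subgroup.centralizer ({x} : Set G)) = 3 ^ 2)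
    (hfrat : ∀ H : Subgroup G, H ⊔ gam G 2 = ⊤ → H = ⊤)
    (hZ : Nat.card (Subgroup.center G) = 3)
    (h : G) (hh : h ∉ gam G 2)
    (hCh : Nat.card (Subgroup.centralizer ({h} : Set G)) ≠ 3 ^ 2) :
    ∃ u ∈ gam G 2, u ∉ gam G (n - 1) ∧ com u h = 1 := by
  have : Fact (Nat.Prime 3) := ⟨Nat.prime_three⟩
  have hcardn1 : Nat.card (gam G (n - 1)) = 3 := by
    have h1 := h79_px_card 3 n hG x hC (by omega) (n - 1) (by omega) (by omega)
    rw [h1, show n - (n - 1) = 1 by omega, pow_one]
  have hcardn : Nat.card (gam G n) = 1 := by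
    have h1 := h79_px_card 3 n hG x hC (by omega) n (by omega) le_rfl
    rw [h1, Nat.sub_self, pow_zero]
  have hbot : gam G n = ⊥ := Subgroup.card_eq_one.mp hcardn
  have hcen : gam G (n - 1) ≤ Subgroup.center G := by
    intro g hg
    rw [Subgroup.mem_center_iff]
    intro y
    have hy1 : y ∈ gam G 1 := by simp [gam]
    have h1 : com g y ∈ gam G (n - 1 + 1) := com_mem hg hy1
    rw [show n - 1 + 1 = n by omega, hbot, Subgroup.mem_bot] at h1
    unfold com at h1
    have h2 : y * g * (g⁻¹ * y⁻¹ * g * y) = g * y := by group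
    rw [h1, mul_one] at h2
    exact h2
  have hceq : gam G (n - 1) = Subgroup.center G :=
    Subgroup.eq_of_le_of_card_ge hcen (by rw [hZ, hcardn1])
  have hhC : h ∈ Subgroup.centralizer ({h} : Set G) := by
    rw [Subgroup.mem_centralizer_iff]
    intro k hk
    rw [Set.mem_singleton_iff] at hk
    subst hk
    rfl
  have hn1C : gam G (n - 1) ≤ Subgroup.centralizer ({h} : Set G) := by
    rw [hceq]
    exact Subgroup.center_le_centralizer _
  have hn12 : gam G (n - 1) ≤ gam G 2 := gam_antitone (by omega)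
  have hDge : 3 ≤ Nat.card (Subgroup.centralizer ({h} : Set G) ⊓ gam G 2 : Subgroup G) := by
    rw [← hcardn1]
    exact Subgroup.card_le_of_le (le_inf hn1C hn12)
  obtain ⟨k, -, hk⟩ := (Nat.dvd_prime_pow Nat.prime_three).mp
    (hG ▸ Subgroup.card_subgroup_dvd_card (Subgroup.centralizer ({h} : Set G)))
  have hDne : (Subgroup.centralizer ({h} : Set G) ⊓ gam G 2 : Subgroup G)
      ≠ Subgroup.centralizer ({h} : Set G) := by
    intro he
    have : h ∈ (Subgroup.centralizer ({h} : Set G) ⊓ gam G 2 : Subgroup G) := by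
      rw [he]; exact hhC
    exact hh (Subgroup.mem_inf.mp this).2
  have hk3 : 3 ≤ k := by
    by_contra hlt
    have hk2 : k ≤ 2 := by omega
    rcases Nat.lt_or_ge k 2 with h1 | h1
    · have hle : Nat.card (Subgroup.centralizer ({h} : Set G)) ≤ 3 := by
        rw [hk]
        calc 3 ^ k ≤ 3 ^ 1 := Nat.pow_le_pow_right (by norm_num) (by omega)
          _ = 3 := by norm_num
      exact hDne (Subgroup.eq_of_le_of_card_ge inf_le_left (le_trans hle hDge))
    · have hk2' : k = 2 := by omega
      rw [hk2'] at hk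
      exact hCh hk
  have h27 : 27 ≤ Nat.card (Subgroup.centralizer ({h} : Set G)) := by
    rw [hk]
    calc 27 = 3 ^ 3 := by norm_num
      _ ≤ 3 ^ k := Nat.pow_le_pow_right (by norm_num) hk3
  have hne : Subgroup.centralizer ({h} : Set G) ⊔ gam G 2 ≠ ⊤ := by
    intro htop
    have hCtop := hfrat _ htop
    have hhc : h ∈ Subgroup.center G := by
      rw [Subgroup.mem_center_iff]
      intro g
      have hg : g ∈ Subgroup.centralizer ({h} : Set G) := by rw [hCtop]; exact Subgroup.mem_top g
      rw [Subgroup.mem_centralizer_iff] at hg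
      exact (hg h (Set.mem_singleton h)).symm
    rw [← hceq] at hhc
    exact hh (hn12 hhc)
  have hidx : (gam G 2).index = 3 ^ 2 := h79_px_index 3 n hG x hC (by omega) 2 le_rfl (by omega)
  have hrel : (gam G 2).relIndex (Subgroup.centralizer ({h} : Set G) ⊔ gam G 2)
      * (Subgroup.centralizer ({h} : Set G) ⊔ gam G 2).index = 3 ^ 2 := by
    rw [← hidx]
    exact Subgroup.relIndex_mul_index (H := gam G 2)
      (K := Subgroup.centralizer ({h} : Set G) ⊔ gam G 2) le_sup_right
  have hi1 : (Subgroup.centralizer ({h} : Set G) ⊔ gam G 2).index ≠ 1 := by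
    rw [Ne, Subgroup.index_eq_one]
    exact hne
  have hr3 : (gam G 2).relIndex (Subgroup.centralizer ({h} : Set G)) ≤ 3 := by
    rw [← Subgroup.relIndex_sup_right]
    generalize (gam G 2).relIndex (Subgroup.centralizer ({h} : Set G) ⊔ gam G 2) = a at hrel
    generalize (Subgroup.centralizer ({h} : Set G) ⊔ gam G 2).index = b at hrel hi1
    have hrel9 : a * b = 9 := by rw [hrel]; norm_num
    have hb : b ∣ 9 := Dvd.intro_left a hrel9
    have hb9 : b ≤ 9 := Nat.le_of_dvd (by norm_num) hb
    interval_cases b <;> omega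
  have hmul : Nat.card (Subgroup.centralizer ({h} : Set G) ⊓ gam G 2 : Subgroup G)
      * (gam G 2).relIndex (Subgroup.centralizer ({h} : Set G))
      = Nat.card (Subgroup.centralizer ({h} : Set G)) := by
    have h1 := Subgroup.relIndex_mul_relIndex (⊥ : Subgroup G)
      (Subgroup.centralizer ({h} : Set G) ⊓ gam G 2) (Subgroup.centralizer ({h} : Set G))
      bot_le inf_le_left
    rw [Subgroup.relIndex_bot_left, Subgroup.relIndex_bot_left, Subgroup.inf_relIndex_left] at h1
    exact h1
  have hD9 : 9 ≤ Nat.card (Subgroup.centralizer ({h} : Set G) ⊓ gam G 2 : Subgroup G) := by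
    have h1 : Nat.card (Subgroup.centralizer ({h} : Set G) ⊓ gam G 2 : Subgroup G)
        * (gam G 2).relIndex (Subgroup.centralizer ({h} : Set G))
        ≤ Nat.card (Subgroup.centralizer ({h} : Set G) ⊓ gam G 2 : Subgroup G) * 3 :=
      Nat.mul_le_mul_left _ hr3
    omega
  have hnot : ¬ (Subgroup.centralizer ({h} : Set G) ⊓ gam G 2 : Subgroup G) ≤ gam G (n - 1) := by
    intro hle
    have := Subgroup.card_le_of_le hle
    omega
  obtain ⟨u, huD, hun⟩ := SetLike.not_le_iff_exists.mp hnot
  obtain ⟨huC, hu2⟩ := Subgroup.mem_inf.mp huD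
  refine ⟨u, hu2, hun, ?_⟩
  rw [Subgroup.mem_centralizer_iff] at huC
  have e : h * u = u * h := huC h (Set.mem_singleton h)
  unfold com
  calc u⁻¹ * h⁻¹ * u * h = u⁻¹ * h⁻¹ * (u * h) := by group
    _ = u⁻¹ * h⁻¹ * (h * u) := by rw [e]
    _ = 1 := by group

end Cfsg.Agent.Lib.helper79.P3
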