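import Mathlib
import Cfsg.Agent.Lib.helper68.HallPet
import Cfsg.Agent.Lib.helper79.PearlX
import Cfsg.Agent.Lib.helper18.P3NUa
import Cfsg.Agent.Lib.helper37.P3ZC
import Cfsg.Agent.Lib.helper58.P3FRAT

set_option autoImplicit false

namespace Cfsg.Agent.Lib.helper79.P3

open Cfsg.Agent.Lib.helper68

/-- NUA in the exact form of the NONUNIF sub-split (racer copy). -/
theorem h18_p3_nu_a {G : Type*} [Group G] [Finite G] (n : ℕ) (hn : 4 ≤ n) (hG : Nat.card G = 3 ^ n) (x : G)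
    (hx : x ^ 3 = 1) (hC : Nat.card (Subgroup.centralizer ({x} : Set G)) = 3 ^ 2) (h : G) (hh : h ∉ gam G 2)
    (hCh : Nat.card (Subgroup.centralizer ({h} : Set G)) ≠ 3 ^ 2) :
    ∃ u ∈ gam G 2, u ∉ gam G (n - 1) ∧ com u h = 1 :=
  h18_p3_nonunif_a n hn hG x hC (fun H hH => p3_frat n (by omega) hG H hH)
    (p3_center_card n (by omega) hG x hC) h hh hCh

end Cfsg.Agent.Lib.helper79.P3
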