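import Mathlib
import Cfsg.Agent.Lib.helper68.HallPet
import Cfsg.Agent.Lib.helper79.PearlX

set_option autoImplicit false

namespace Cfsg.Agent.Lib.helper79.P3

open Cfsg.Agent.Lib.helper68 Cfsg.Agent.Lib.helper79

/-- On the abelian normal `P_2` the two commutator maps commute. -/
theorem h18_nub_comm {G : Type*} [Group G]
    (hab : ∀ a ∈ gam G 2, ∀ b ∈ gam G 2, a * b = b * a) (h x v : G) (hv : v ∈ gam G 2) :
    com (com v h) x = com (com v x) h := by
  have hconj : ∀ (m : G), m ∈ gam G 2 → ∀ g : G, g⁻¹ * m * g ∈ gam G 2 := by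
    intro m hm g
    have := (gam_normal (H := G) 2).conj_mem m hm g⁻¹
    simpa using this
  obtain ⟨b, hb⟩ : ∃ b, b = h⁻¹ * v * h := ⟨_, rfl⟩
  obtain ⟨c, hc⟩ : ∃ c, c = x⁻¹ * v * x := ⟨_, rfl⟩
  obtain ⟨d, hd⟩ : ∃ d, d = x⁻¹ * (h⁻¹ * v * h) * x := ⟨_, rfl⟩
  obtain ⟨k, hk⟩ : ∃ k, k = com x h := ⟨_, rfl⟩
  have hbA : b ∈ gam G 2 := by rw [hb]; exact hconj v hv h
  have hcA : c ∈ gam G 2 := by rw [hc]; exact hconj v hv x
  have hdA : d ∈ gam G 2 := by rw [hd]; exact hconj _ (hconj v hv h) x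
  have hkA : k ∈ gam G 2 := by
    rw [hk]
    have h1 : ∀ g : G, g ∈ gam G 1 := fun g => by simp [gam]
    exact com_mem (h1 x) (h1 h)
  have e1 : v * c⁻¹ = c⁻¹ * v := hab v hv c⁻¹ ((gam G 2).inv_mem hcA)
  have e2 : b⁻¹ * c⁻¹ = c⁻¹ * b⁻¹ := hab _ ((gam G 2).inv_mem hbA) _ ((gam G 2).inv_mem hcA)
  have e3 : b⁻¹ * v = v * b⁻¹ := hab _ ((gam G 2).inv_mem hbA) v hv
  have e4 : d * k = k * d := hab d hdA k hkA
  have l1 : com (com v h) x = b⁻¹ * v * (c⁻¹ * d) := by
    rw [hb, hc, hd]; unfold com; group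
  have l2 : com (com v x) h = c⁻¹ * v * (b⁻¹ * (k⁻¹ * d * k)) := by
    rw [hb, hc, hd, hk]; unfold com; group
  have l3 : k⁻¹ * d * k = d := by
    calc k⁻¹ * d * k = k⁻¹ * (d * k) := by group
      _ = k⁻¹ * (k * d) := by rw [e4]
      _ = d := by group
  rw [l1, l2, l3]
  calc b⁻¹ * v * (c⁻¹ * d) = b⁻¹ * (v * c⁻¹) * d := by group
    _ = b⁻¹ * (c⁻¹ * v) * d := by rw [e1]
    _ = (b⁻¹ * c⁻¹) * v * d := by group
    _ = (c⁻¹ * b⁻¹) * v * d := by rw [e2]
    _ = c⁻¹ * (b⁻¹ * v) * d := by group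
    _ = c⁻¹ * (v * b⁻¹) * d := by rw [e3]
    _ = c⁻¹ * v * (b⁻¹ * d) := by group

/-- NUB (racer copy): the Y-shift `[P_j, h] ≤ P_(j+2)`. -/
theorem h18_p3_nu_b {G : Type*} [Group G] [Finite G] (n : ℕ) (hn : 4 ≤ n) (hG : Nat.card G = 3 ^ n) (x : G)
    (hx : x ^ 3 = 1) (hC : Nat.card (Subgroup.centralizer ({x} : Set G)) = 3 ^ 2)
    (hab : ∀ a ∈ gam G 2, ∀ b ∈ gam G 2, a * b = b * a) (h u : G)
    (hu2 : u ∈ gam G 2) (hun : u ∉ gam G (n - 1)) (huh : com u h = 1) :
    ∀ j, 2 ≤ j → ∀ v ∈ gam G j, com v h ∈ gam G (j + 2) := by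
  have : Fact (Nat.Prime 3) := ⟨Nat.prime_three⟩
  have hg1 : ∀ g : G, g ∈ gam G 1 := fun g => by simp [gam]
  have hcard : ∀ i, 2 ≤ i → i ≤ n → Nat.card (gam G i) = 3 ^ (n - i) :=
    fun i hi hin => h79_px_card 3 n hG x hC (by omega) i hi hin
  have hbot : gam G n = ⊥ := by
    apply Subgroup.card_eq_one.mp
    rw [hcard n (by omega) le_rfl, Nat.sub_self, pow_zero]
  have hcom1 : ∀ g : G, com 1 g = 1 := by intro g; unfold com; group
  have hXY : ∀ v ∈ gam G 2, com (com v h) x = com (com v x) h :=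
    fun v hv => h18_nub_comm hab h x v hv
  have hw : ∀ k i, 2 ≤ i → i + k = n - 1 → ∀ u' ∈ gam G i, u' ∉ gam G (n - 1) → com u' h = 1 →
      ∃ w ∈ gam G (n - 2), w ∉ gam G (n - 1) ∧ com w h = 1 := by
    intro k
    induction k with
    | zero =>
      intro i hi hik u' hu' hun' _
      exfalso
      have hi' : i = n - 1 := by omega
      rw [hi'] at hu'
      exact hun' hu'
    | succ k ih =>
      intro i hi hik u' hu' hun' hcu
      by_cases hmem : u' ∈ gam G (i + 1)
      · exact ih (i + 1) (by omega) (by omega) u' hmem hun' hcu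
      · rcases Nat.eq_or_lt_of_le (show i ≤ n - 2 by omega) with hieq | hilt
        · rw [hieq] at hu'
          exact ⟨u', hu', hun', hcu⟩
        · have hun2 := h79_px_unis 3 n hG x hC (by omega) i hi (by omega) u' hu' hmem
          refine ih (i + 1) (by omega) (by omega) (com u' x) hun2.1 ?_ ?_
          · intro hcon
            exact hun2.2 (gam_antitone (by omega) hcon)
          · rw [← hXY u' (gam_antitone hi hu'), hcu, hcom1]
  have hcen : ∀ g ∈ gam G (n - 1), ∀ y : G, com g y = 1 := by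
    intro g hg y
    have h1 : com g y ∈ gam G (n - 1 + 1) := com_mem hg (hg1 y)
    rw [show n - 1 + 1 = n by omega, hbot, Subgroup.mem_bot] at h1
    exact h1
  have hcomm_of : ∀ a b : G, com a b = 1 → b * a = a * b := by
    intro a b hab'
    unfold com at hab'
    have h2 : b * a * (a⁻¹ * b⁻¹ * a * b) = a * b := by group
    rw [hab', mul_one] at h2
    exact h2
  have hcom_of : ∀ a b : G, b * a = a * b → com a b = 1 := by
    intro a b e
    unfold com
    calc a⁻¹ * b⁻¹ * a * b = a⁻¹ * b⁻¹ * (a * b) := by group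
      _ = a⁻¹ * b⁻¹ * (b * a) := by rw [e]
      _ = 1 := by group
  obtain ⟨w, hw2, hwn, hwh⟩ := hw (n - 3) 2 le_rfl (by omega) u hu2 hun huh
  have hbase : ∀ v ∈ gam G (n - 2), com v h = 1 := by
    have hKle : gam G (n - 1) ≤ gam G (n - 2) ⊓ Subgroup.centralizer ({h} : Set G) := by
      intro g hg
      refine Subgroup.mem_inf.mpr ⟨gam_antitone (by omega) hg, ?_⟩
      rw [Subgroup.mem_centralizer_iff]
      intro k hk
      rw [Set.mem_singleton_iff] at hk
      rw [hk]
      exact hcomm_of g h (hcen g hg h)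
    have hwK : w ∈ gam G (n - 2) ⊓ Subgroup.centralizer ({h} : Set G) := by
      refine Subgroup.mem_inf.mpr ⟨hw2, ?_⟩
      rw [Subgroup.mem_centralizer_iff]
      intro k hk
      rw [Set.mem_singleton_iff] at hk
      rw [hk]
      exact hcomm_of w h hwh
    have hc1 : Nat.card (gam G (n - 1)) = 3 := by
      rw [hcard (n - 1) (by omega) (by omega), show n - (n - 1) = 1 by omega, pow_one]
    have hc2 : Nat.card (gam G (n - 2)) = 9 := by
      rw [hcard (n - 2) (by omega) (by omega), show n - (n - 2) = 2 by omega]; norm_num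
    have hdvd : Nat.card (gam G (n - 2) ⊓ Subgroup.centralizer ({h} : Set G) : Subgroup G) ∣ 9 := by
      rw [← hc2]
      exact Subgroup.card_dvd_of_le inf_le_left
    have hge : 3 ≤ Nat.card (gam G (n - 2) ⊓ Subgroup.centralizer ({h} : Set G) : Subgroup G) := by
      rw [← hc1]
      exact Subgroup.card_le_of_le hKle
    have hne3 : Nat.card (gam G (n - 2) ⊓ Subgroup.centralizer ({h} : Set G) : Subgroup G) ≠ 3 := by
      intro h3
      have heq := Subgroup.eq_of_le_of_card_ge hKle (by rw [h3, hc1])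
      rw [← heq] at hwK
      exact hwn hwK
    have h9 : Nat.card (gam G (n - 2) ⊓ Subgroup.centralizer ({h} : Set G) : Subgroup G) = 9 := by
      generalize Nat.card (gam G (n - 2) ⊓ Subgroup.centralizer ({h} : Set G) : Subgroup G) = c
        at hdvd hge hne3 ⊢
      have hle : c ≤ 9 := Nat.le_of_dvd (by norm_num) hdvd
      interval_cases c <;> first | omega | (exfalso; revert hdvd; decide)
    have hKeq : gam G (n - 2) ⊓ Subgroup.centralizer ({h} : Set G) = gam G (n - 2) :=
      Subgroup.eq_of_le_of_card_ge inf_le_left (by rw [h9, hc2])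
    intro v hv
    rw [← hKeq] at hv
    have hvc := (Subgroup.mem_inf.mp hv).2
    rw [Subgroup.mem_centralizer_iff] at hvc
    exact hcom_of v h (hvc h (Set.mem_singleton h))
  have hmain : ∀ k j, 2 ≤ j → j + k = n - 2 → ∀ v ∈ gam G j, com v h ∈ gam G (j + 2) := by
    intro k
    induction k with
    | zero =>
      intro j hj hjk v hv
      have hj' : j = n - 2 := by omega
      rw [hj'] at hv
      rw [hbase v hv]
      exact Subgroup.one_mem _
    | succ k ih =>
      intro j hj hjk v hv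
      by_cases hmem : v ∈ gam G (j + 1)
      · exact gam_antitone (by omega) (ih (j + 1) (by omega) (by omega) v hmem)
      · by_contra hcon
        have h1 : com v h ∈ gam G (j + 1) := com_mem hv (hg1 h)
        have h2 := h79_px_unis 3 n hG x hC (by omega) (j + 1) (by omega) (by omega) (com v h) h1 hcon
        have h3 : com v x ∈ gam G (j + 1) := com_mem hv (hg1 x)
        have h4 := ih (j + 1) (by omega) (by omega) (com v x) h3
        rw [← hXY v (gam_antitone hj hv)] at h4
        exact h2.2 h4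
  intro j hj v hv
  rcases Nat.lt_or_ge (n - 2) j with hlt | hle
  · have h1 : com v h ∈ gam G (j + 1) := com_mem hv (hg1 h)
    have h2 : com v h ∈ gam G n := gam_antitone (by omega) h1
    rw [hbot, Subgroup.mem_bot] at h2
    rw [h2]
    exact Subgroup.one_mem _
  · exact hmain (n - 2 - j) j hj (by omega) v hv

end Cfsg.Agent.Lib.helper79.P3
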