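import Mathlib
import Cfsg.Agent.Lib.helper75.PQDefs

/-!
Piece MINV of the S4306 swarm (coordinator helper75): a minimal normal subgroup inside a
solvable normal subgroup is elementary abelian.
-/

set_option autoImplicit false

namespace Cfsg.Agent.Lib.helper18

/-- a solvable minimal normal subgroup is abelian -/
theorem minv_comm {Γ : Type*} [Group Γ] [Finite Γ] (N V : Subgroup Γ)
    (hNs : Group.IsSolvable N) (hVn : V.Normal) (hVN : V ≤ N) (hVne : V ≠ ⊥)
    (hVmin : ∀ U : Subgroup Γ, U.Normal → U ≤ V → U = ⊥ ∨ U = V) :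
    ∀ x ∈ V, ∀ y ∈ V, x * y = y * x := by
  have hVs : Group.IsSolvable V :=
    Group.isSolvable_of_isSolvable_injective (Subgroup.inclusion_injective hVN)
  have hnt : Nontrivial V := (Subgroup.nontrivial_iff_ne_bot V).mpr hVne
  have h1 : ⁅V, V⁆ ≠ V := by
    intro h
    have h2 := Group.IsSolvable.commutator_lt_top_of_nontrivial V
    have h3 : (_root_.commutator V).map V.subtype = (⊤ : Subgroup V).map V.subtype := by
      rw [Subgroup.map_subtype_commutator, h, ← MonoidHom.range_eq_map, Subgroup.range_subtype]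
    have h4 := Subgroup.map_injective V.subtype_injective h3
    exact h2.ne h4
  have h5 : ⁅V, V⁆ ≤ V := by
    have := Subgroup.commutator_le_inf V V
    rwa [inf_idem] at this
  have h6 : ⁅V, V⁆ = ⊥ := by
    rcases hVmin _ (Subgroup.commutator_normal V V) h5 with h | h
    · exact h
    · exact absurd h h1
  rw [Subgroup.commutator_eq_bot_iff_le_centralizer] at h6
  intro x hx y hy
  exact (Subgroup.mem_centralizer_iff.mp (h6 hx) y hy).symm

/-- an abelian minimal normal subgroup has prime exponent -/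
theorem minv_exp {Γ : Type*} [Group Γ] [Finite Γ] (V : Subgroup Γ) (hVn : V.Normal)
    (hVne : V ≠ ⊥) (hVmin : ∀ U : Subgroup Γ, U.Normal → U ≤ V → U = ⊥ ∨ U = V)
    (hcomm : ∀ x ∈ V, ∀ y ∈ V, x * y = y * x) :
    ∃ l : ℕ, l.Prime ∧ ∀ v ∈ V, v ^ l = 1 := by
  have hcard : Nat.card V ≠ 1 := by
    intro h
    exact hVne ((Subgroup.card_eq_one).mp h)
  obtain ⟨l, hl, hlV⟩ := Nat.exists_prime_and_dvd hcard
  have hlF : Fact l.Prime := ⟨hl⟩
  refine ⟨l, hl, ?_⟩
  let W : Subgroup Γ :=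
    { carrier := {v | v ∈ V ∧ v ^ l = 1}
      one_mem' := ⟨V.one_mem, one_pow l⟩
      mul_mem' := by
        rintro x y ⟨hx, hx'⟩ ⟨hy, hy'⟩
        refine ⟨V.mul_mem hx hy, ?_⟩
        rw [(show Commute x y from hcomm x hx y hy).mul_pow, hx', hy', one_mul]
      inv_mem' := by
        rintro x ⟨hx, hx'⟩
        exact ⟨V.inv_mem hx, by rw [inv_pow, hx', inv_one]⟩ }
  have hWn : W.Normal := by
    constructor
    rintro v ⟨hv, hv'⟩ g
    exact ⟨hVn.conj_mem v hv g, by rw [conj_pow, hv', mul_one, mul_inv_cancel]⟩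
  have hWV : W ≤ V := fun v hv => hv.1
  have hWne : W ≠ ⊥ := by
    obtain ⟨x, hx⟩ := exists_prime_orderOf_dvd_card' (G := V) l hlV
    intro h
    have h1 : (x : Γ) ∈ W := by
      refine ⟨x.2, ?_⟩
      have h2 : x ^ l = 1 := by rw [← hx]; exact pow_orderOf_eq_one x
      simpa using congrArg Subtype.val h2
    rw [h, Subgroup.mem_bot] at h1
    have h3 : x = 1 := Subtype.ext h1
    rw [h3, orderOf_one] at hx
    exact hl.one_lt.ne hx
  rcases hVmin W hWn hWV with h | h
  · exact absurd h hWne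
  · intro v hv
    have h1 : v ∈ W := by rw [h]; exact hv
    exact h1.2

end Cfsg.Agent.Lib.helper18

namespace Cfsg.Agent.Lib.helper75.PQ

/-- MINV: a minimal normal subgroup inside a solvable normal subgroup is elementary abelian. -/
theorem minimal_normal_elementary {Γ : Type*} [Group Γ] [Finite Γ] (N V : Subgroup Γ)
    (hNs : Group.IsSolvable N) (hVn : V.Normal) (hVN : V ≤ N) (hVne : V ≠ ⊥)
    (hVmin : ∀ U : Subgroup Γ, U.Normal → U ≤ V → U = ⊥ ∨ U = V) :
    ∃ l : ℕ, l.Prime ∧ (∀ v ∈ V, v ^ l = 1) ∧ (∀ v ∈ V, ∀ v' ∈ V, v * v' = v' * v) := by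
  have hcomm := Cfsg.Agent.Lib.helper18.minv_comm N V hNs hVn hVN hVne hVmin
  obtain ⟨l, hl, hexp⟩ := Cfsg.Agent.Lib.helper18.minv_exp V hVn hVne hVmin hcomm
  exact ⟨l, hl, hexp, hcomm⟩

end Cfsg.Agent.Lib.helper75.PQ
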