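import Mathlib
import Cfsg.Agent.Lib.helper68.HallPet
import Cfsg.Agent.Lib.helper65.PearlDefs
import Cfsg.Agent.Lib.helper65.PearlBasic
import Cfsg.Agent.Lib.helper43.PearlD1

/-!
# S5238L piece A1 (racing copy, helper18)

Removing an atom `a ^ (n.choose k)` does not change the high differences.
-/

set_option autoImplicit false

namespace Cfsg.Agent.Lib.helper65.PearlPow

open Cfsg.Agent.Lib.helper68

variable {H : Type*} [Group H]

theorem h18_atom_remove {v : ℕ} (hv : 1 ≤ v) {s : ℕ → H} (hs : PolySeq v s) (k : ℕ) (hk : 1 ≤ k)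
    (a : H) (ha : a ∈ gam H (k + v)) (j : ℕ) (hj : k + 1 ≤ j) :
    Rel (v + j + 1) (dl^[j] s) (dl^[j] (fun n => (a ^ (n.choose k))⁻¹ * s n)) := by
  obtain ⟨s', hs'⟩ : ∃ s' : ℕ → H, s' = fun n => (a ^ (n.choose k))⁻¹ * s n := ⟨_, rfl⟩
  rw [← hs']
  have claim : ∀ i m, i + m = k →
      Rel (v + i + 1) (fun n => (a ^ (n.choose m))⁻¹ * dl^[i] s n) (dl^[i] s') := by
    intro i
    induction i with
    | zero =>
      intro m hm
      have hmk : m = k := by omega
      subst hmk
      exact rel_of_eq _ hs'.symm
    | succ i ih =>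
      intro m hm
      have IH := ih (m + 1) (by omega)
      obtain ⟨r, hr_def⟩ : ∃ r : ℕ → H, r = dl^[i] s := ⟨_, rfl⟩
      have hr : PolySeq (v + i) r := by rw [hr_def]; exact polyseq_dl_iter hs i
      rw [← hr_def] at IH
      have ht : PolySeq v (fun n => (a ^ (n.choose (m + 1)))⁻¹ * r n) :=
        PolySeq.mul (PolySeq.inv (PolySeq.atom (m + 1) v a (gam_antitone (by omega) ha)))
          (PolySeq.mono (by omega) hr)
      have h1 := rel_dl ht IH
      have h2 : Rel (v + i + 1 + 1) (fun n => (a ^ (n.choose m))⁻¹ * dl r n)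
          (dl (fun n => (a ^ (n.choose (m + 1)))⁻¹ * r n)) := by
        unfold Rel
        have e : (fun n : ℕ => ((a ^ (n.choose m))⁻¹ * dl r n)⁻¹ *
            dl (fun n => (a ^ (n.choose (m + 1)))⁻¹ * r n) n) =
            fun n => (dl r n)⁻¹ * com ((a ^ (n.choose m))⁻¹) (r n) * dl r n := by
          funext n
          unfold dl com
          beta_reduce
          rw [Nat.choose_succ_succ', pow_add]
          group
        rw [e]
        have hc : PolySeq (v + i + 1 + 1) (fun n => com ((a ^ (n.choose m))⁻¹) (r n)) :=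
          PolySeq.mono (by omega)
            (PolySeq.comm
              (PolySeq.inv (PolySeq.atom m (v + i + 1) a (gam_antitone (by omega) ha))) hr)
        exact polyseq_conj hc (PolySeq.diff hr)
      have h3 := rel_trans h2 h1
      rw [Function.iterate_succ_apply', Function.iterate_succ_apply', ← hr_def]
      exact h3
  have base : Rel (v + (k + 1) + 1) (dl^[k + 1] s) (dl^[k + 1] s') := by
    have c := claim k 0 (by omega)
    obtain ⟨r, hr_def⟩ : ∃ r : ℕ → H, r = dl^[k] s := ⟨_, rfl⟩
    have hr : PolySeq (v + k) r := by rw [hr_def]; exact polyseq_dl_iter hs k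
    rw [← hr_def] at c
    have ht : PolySeq v (fun n => (a ^ (n.choose 0))⁻¹ * r n) :=
      PolySeq.mul (PolySeq.inv (PolySeq.atom 0 v a (gam_antitone (by omega) ha)))
        (PolySeq.mono (by omega) hr)
    have h1 := rel_dl ht c
    have e : dl (fun n => (a ^ (n.choose 0))⁻¹ * r n) = dl r := by
      funext n
      unfold dl
      beta_reduce
      rw [Nat.choose_zero_right, Nat.choose_zero_right]
      group
    rw [e] at h1
    rw [Function.iterate_succ_apply', Function.iterate_succ_apply', ← hr_def]
    exact h1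
  induction j, hj using Nat.le_induction with
  | base => exact base
  | succ j hj ih =>
    have h1 := rel_dl (polyseq_dl_iter hs j) ih
    rw [Function.iterate_succ_apply', Function.iterate_succ_apply']
    exact h1

end Cfsg.Agent.Lib.helper65.PearlPow
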