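import Mathlib

/-!
# S5238C piece C10 (racing copy, helper18): an element with central commutators lies in `E`
-/

set_option autoImplicit false

namespace Cfsg.Agent.Lib.helper45.PearlC

theorem h18_in_E {G : Type*} [Group G] [Finite G] (p : ℕ) [Fact p.Prime] (n : ℕ)
    (hG : Nat.card G = p ^ n) (E : Subgroup G) (hE : Nat.card ↥E = p ^ 3)
    (hna : ¬ IsMulCommutative ↥E) (hC : Subgroup.centralizer (E : Set G) ≤ E)
    (hCp : Nat.card ↥(Subgroup.centralizer (E : Set G)) = p)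
    (hZ : Subgroup.center G = Subgroup.centralizer (E : Set G))
    (w : G) (hw : ∀ g : G, w * g * w⁻¹ * g⁻¹ ∈ Subgroup.center G)
    (hidx : Nat.card G ≤ p * Nat.card ↥(Subgroup.centralizer ({w} : Set G)))
    (hstep : ∀ A B C : Subgroup G, C ≤ B →
      Nat.card ↥(A ⊓ B) * Nat.card ↥C ≤ Nat.card ↥(A ⊓ C) * Nat.card ↥B)
    (hcg : ∀ (D : Subgroup G), D ≤ E → Nat.card ↥E ≤ p * Nat.card ↥D → ∀ e ∈ E, e ∉ D →
      ∀ g : G, (∀ d ∈ D, d * g = g * d) → e * g = g * e →
        g ∈ Subgroup.centralizer (E : Set G))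
    (hcc : ∀ a b : G, a ∈ E → b ∈ E → a * b * a⁻¹ * b⁻¹ ∈ Subgroup.centralizer (E : Set G))
    (hpow : ∀ c : G, c ∈ Subgroup.center G → c ≠ 1 → ∀ z : G, z ∈ Subgroup.center G →
      ∃ k : ℕ, z = c ^ k)
    (hadj : ∀ (d e w c : G) (k : ℕ), (∀ g : G, c * g = g * c) → d * e * d⁻¹ * e⁻¹ = c →
      w * e * w⁻¹ * e⁻¹ = c ^ k → d * w = w * d → e * (w * (d ^ k)⁻¹) = (w * (d ^ k)⁻¹) * e) :
    w ∈ E := by
  have hp : p.Prime := Fact.out
  obtain ⟨Cw, hCw⟩ : ∃ Cw : Subgroup G, Cw = Subgroup.centralizer ({w} : Set G) := ⟨_, rfl⟩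
  rw [← hCw] at hidx
  have hmemCw : ∀ g : G, g ∈ Cw ↔ w * g = g * w := by
    intro g
    rw [hCw, Subgroup.mem_centralizer_iff]
    constructor
    · intro h
      exact h w (Set.mem_singleton w)
    · intro h y hy
      rw [Set.mem_singleton_iff] at hy
      rw [hy]
      exact h
  have hDE : E ⊓ Cw ≤ E := inf_le_left
  -- (1) index bound
  have hidxD : Nat.card ↥E ≤ p * Nat.card ↥(E ⊓ Cw : Subgroup G) := by
    have h1 := hstep E ⊤ Cw le_top
    rw [inf_top_eq, Subgroup.card_top] at h1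
    have hpos : 0 < Nat.card ↥Cw := Nat.card_pos
    have h2 : Nat.card ↥E * Nat.card ↥Cw ≤ (p * Nat.card ↥(E ⊓ Cw : Subgroup G)) * Nat.card ↥Cw := by
      calc Nat.card ↥E * Nat.card ↥Cw ≤ Nat.card ↥(E ⊓ Cw : Subgroup G) * Nat.card G := h1
        _ ≤ Nat.card ↥(E ⊓ Cw : Subgroup G) * (p * Nat.card ↥Cw) := Nat.mul_le_mul_left _ hidx
        _ = (p * Nat.card ↥(E ⊓ Cw : Subgroup G)) * Nat.card ↥Cw := by ring
    exact Nat.le_of_mul_le_mul_right h2 hpos
  by_cases hECw : E ≤ Cw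
  · -- `w` centralizes `E`
    apply hC
    rw [Subgroup.mem_centralizer_iff]
    intro h hh
    exact ((hmemCw h).1 (hECw hh)).symm
  · obtain ⟨e, he, heCw⟩ : ∃ e ∈ E, e ∉ Cw := by
      by_contra hcon
      apply hECw
      intro e he
      by_contra heC
      exact hcon ⟨e, he, heC⟩
    have heD : e ∉ (E ⊓ Cw : Subgroup G) := fun h => heCw h.2
    -- card D = p ^ 2
    have hDcard : Nat.card ↥(E ⊓ Cw : Subgroup G) = p ^ 2 := by
      have hdvd : Nat.card ↥(E ⊓ Cw : Subgroup G) ∣ p ^ 3 := by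
        rw [← hE]
        exact Subgroup.card_dvd_of_le hDE
      obtain ⟨j, hj, hjc⟩ := (Nat.dvd_prime_pow hp).1 hdvd
      rw [hjc, hE] at hidxD
      have hj2 : 2 ≤ j := by
        by_contra hlt
        have hj1 : j ≤ 1 := by omega
        have h3 : p * p ^ j ≤ p * p ^ 1 :=
          Nat.mul_le_mul_left _ (Nat.pow_le_pow_right hp.pos hj1)
        have h4 : p ^ 3 ≤ p ^ 2 := by
          calc p ^ 3 ≤ p * p ^ j := hidxD
            _ ≤ p * p ^ 1 := h3
            _ = p ^ 2 := by ring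
        have := (Nat.pow_le_pow_iff_right hp.one_lt).1 h4
        omega
      have hj3 : j ≠ 3 := by
        intro h3
        rw [h3] at hjc
        have heq : (E ⊓ Cw : Subgroup G) = E :=
          Subgroup.eq_of_le_of_card_ge hDE (by rw [hjc, hE])
        have he' : e ∈ (E ⊓ Cw : Subgroup G) := by
          rw [heq]
          exact he
        exact heD he'
      have hj' : j = 2 := by omega
      rw [hjc, hj']
    have hDcomm : ∀ a ∈ (E ⊓ Cw : Subgroup G), ∀ b ∈ (E ⊓ Cw : Subgroup G), a * b = b * a := by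
      intro a ha b hb
      have h1 := IsPGroup.commutative_of_card_eq_prime_sq hDcard
        (⟨a, ha⟩ : ↥(E ⊓ Cw : Subgroup G)) ⟨b, hb⟩
      exact congrArg Subtype.val h1
    -- (4) some `d ∈ D` does not commute with `e`
    obtain ⟨d, hd, hde⟩ : ∃ d ∈ (E ⊓ Cw : Subgroup G), d * e ≠ e * d := by
      by_contra hcon
      push Not at hcon
      have hDC : (E ⊓ Cw : Subgroup G) ≤ Subgroup.centralizer (E : Set G) := by
        intro d' hd'
        exact hcg _ hDE hidxD e he heD d' (fun d hd => hDcomm d hd d' hd') ((hcon d' hd').symm)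
      have h1 := Subgroup.card_le_of_le hDC
      rw [hDcard, hCp] at h1
      have h2 : p * p ≤ p * 1 := by
        calc p * p = p ^ 2 := by ring
          _ ≤ p := h1
          _ = p * 1 := by ring
      have := Nat.le_of_mul_le_mul_left h2 hp.pos
      have := hp.two_le
      omega
    -- (5)
    have hc_cen : d * e * d⁻¹ * e⁻¹ ∈ Subgroup.center G := by
      rw [hZ]
      exact hcc d e hd.1 he
    have hc1 : d * e * d⁻¹ * e⁻¹ ≠ 1 := by
      intro h
      apply hde
      have h2 : d * e = (d * e * d⁻¹ * e⁻¹) * (e * d) := by group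
      rw [h2, h, one_mul]
    obtain ⟨k, hk⟩ := hpow _ hc_cen hc1 _ (hw e)
    have hcentral : ∀ g : G, (d * e * d⁻¹ * e⁻¹) * g = g * (d * e * d⁻¹ * e⁻¹) := by
      intro g
      exact (Subgroup.mem_center_iff.mp hc_cen g).symm
    have hdw : d * w = w * d := ((hmemCw d).1 hd.2).symm
    have hge := hadj d e w _ k hcentral rfl hk hdw
    have hgD : ∀ d' ∈ (E ⊓ Cw : Subgroup G), d' * (w * (d ^ k)⁻¹) = (w * (d ^ k)⁻¹) * d' := by
      intro d' hd'
      have h1 : d' * w = w * d' := ((hmemCw d').1 hd'.2).symm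
      have h2 : Commute d' d := hDcomm d' hd' d hd
      have h3 : d' * (d ^ k)⁻¹ = (d ^ k)⁻¹ * d' := ((h2.pow_right k).inv_right).eq
      rw [← mul_assoc, h1, mul_assoc, h3, ← mul_assoc]
    have hgE : w * (d ^ k)⁻¹ ∈ E := hC (hcg _ hDE hidxD e he heD _ hgD hge)
    have hfin : w = (w * (d ^ k)⁻¹) * d ^ k := by group
    rw [hfin]
    exact E.mul_mem hgE (E.pow_mem hd.1 k)

end Cfsg.Agent.Lib.helper45.PearlC
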