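import Mathlib
import Cfsg.Agent.Lib.helper68.HallPet
import Cfsg.Agent.Lib.helper18.PearlBase
import Cfsg.Agent.Lib.helper40.PearlUni
import Cfsg.Agent.Lib.helper30.PearlF3
import Cfsg.Agent.Lib.helper10.PearlEnd
import Cfsg.Agent.Lib.helper97.PGen
import Cfsg.Agent.S0012

/-!
# S5238 (rest), block G: assembly of `pearl_rank` from the landed lemmas, `F4` as a hypothesis

`h18_pearl_rank_core`: everything except the `F4` step (given in the shape of the `F4` lemmas:
from `gam G n = ⊥`, onto, uniserial and `F3`).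
-/

set_option autoImplicit false

namespace Cfsg.Agent.Lib.helper18.PearlRank

open Cfsg.Agent.Lib.helper68

theorem h18_pearl_rank_core {G : Type*} [Group G] [Finite G] (p : ℕ) [Fact p.Prime] (hp2 : p ≠ 2)
    (n : ℕ) (hG : Nat.card G = p ^ n) (x : G) (hx : x ^ p = 1)
    (hC : Nat.card (Subgroup.centralizer ({x} : Set G)) = p ^ 2)
    (hF4 : gam G n = ⊥ →
      (∀ i, 1 ≤ i → ∀ m ∈ gam G (i + 1), ∃ g ∈ gam G i, com x g = m) →
      (∀ i, 2 ≤ i → i + 2 ≤ n → ∀ m ∈ gam G i, m ∉ gam G (i + 1) → com m x ∉ gam G (i + 2)) →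
      (∀ i, 2 ≤ i → ∀ m ∈ gam G i, m ^ p ∈ gam G (i + p - 1)) →
      ∀ i, 2 ≤ i → i + p ≤ n → ∀ m ∈ gam G i, m ∉ gam G (i + 1) → m ^ p ∉ gam G (i + p))
    (H : Subgroup G) : ∃ T : Finset G, T.card ≤ p ∧ Subgroup.closure (T : Set G) = H := by
  classical
  have hp : p.Prime := Fact.out
  have hGp : IsPGroup p G := IsPGroup.of_card hG
  obtain ⟨hcard, hx2, honto1, hconj⟩ :=
    Cfsg.Agent.Lib.helper18.PearlBase.h18_pearl_base p n hG x hC
  have hn2 : 2 ≤ n := by
    have h1 : p ^ 2 ∣ p ^ n := by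
      rw [← hC, ← hG]
      exact Subgroup.card_subgroup_dvd_card _
    exact (Nat.pow_dvd_pow_iff_le_right hp.one_lt).mp h1
  have hanti : ∀ i, gam G (i + 1) ≤ gam G i := fun i => gam_antitone (Nat.le_succ i)
  have hnil : gam G n = ⊥ := by
    have h1 := hcard n hn2 le_rfl
    rw [Nat.sub_self, pow_zero] at h1
    exact Subgroup.eq_bot_of_card_eq _ h1
  have hF3 : ∀ i, 2 ≤ i → ∀ m ∈ gam G i, m ^ p ∈ gam G (i + p - 1) := fun i hi m hm =>
    Cfsg.Agent.Lib.helper30.h30_pearl_f3 p hGp x hx (hconj hx) i hi m hm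
  have htop : ∀ h : G, h ∈ gam G 1 := by
    intro h
    show h ∈ (⊤ : Subgroup G).lowerCentralSeries 0
    exact Subgroup.mem_top h
  have hcomm : ∀ i, 2 ≤ i → ∀ g ∈ gam G i, ∀ h : G,
      com g h ∈ gam G (i + 1) ∧ com h g ∈ gam G (i + 1) := by
    intro i _ g hg h
    refine ⟨com_mem hg (htop h), ?_⟩
    have h1 := com_mem (htop h) hg
    rw [add_comm] at h1
    exact h1
  have hpow : ∀ i, 2 ≤ i → i + p ≤ n → ∀ m ∈ gam G i, m ∉ gam G (i + 1) →
      m ^ p ∈ gam G (i + p - 1) ∧ m ^ p ∉ gam G (i + p) := by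
    intro i hi hin m hm hm'
    have hn3 : 3 ≤ n := by
      have := hp.two_le
      omega
    have hxP : x ∉ gam G 2 := hx2 hn3
    refine ⟨hF3 i hi m hm, ?_⟩
    apply hF4 hnil ?_ ?_ hF3 i hi hin m hm hm'
    · intro w hw y hy
      rcases Nat.lt_or_ge w 2 with hw2 | hw2
      · have hw1 : w = 1 := by omega
        subst hw1
        obtain ⟨g, hg⟩ := honto1 y hy
        exact ⟨g, htop g, hg⟩
      · rcases Nat.lt_or_ge n (w + 1) with hwn | hwn
        · have h1 : y ∈ gam G n := gam_antitone (by omega) hy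
          rw [hnil, Subgroup.mem_bot] at h1
          refine ⟨1, Subgroup.one_mem _, ?_⟩
          rw [h1]
          unfold com
          group
        · exact Cfsg.Agent.Lib.helper40.PearlUni.pearl_onto p n (gam G) hanti hcard hcomm x hxP hC
            w hw2 hwn y hy
    · intro i' hi' hin' m' hm1 hm2
      exact Cfsg.Agent.Lib.helper40.PearlUni.pearl_uniserial p n (gam G) hanti hcard hcomm x hxP
        hC i' hi' hin' m' hm1 hm2
  have hgam2 : gam G 2 ≤ frattini G := by
    have h2 := (Cfsg.Agent.S0012.result p hGp).1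
    have h3 : gam G 2 = commutator G := by
      show (⊤ : Subgroup G).lowerCentralSeries 1 = commutator G
      exact Subgroup.top_lowerCentralSeries_one
    rw [h3]
    exact h2
  have hfr : ∀ K : Subgroup G, K ⊔ gam G 2 = ⊤ → K = ⊤ := by
    intro K hK
    apply frattini_nongenerating
    rw [eq_top_iff, ← hK]
    exact sup_le_sup_left hgam2 K
  have hgen : ∃ a b : G, Subgroup.closure {a, b} = ⊤ := by
    have hidx2 : (gam G 2).index = p ^ 2 := by
      have h1 := Subgroup.card_mul_index (gam G 2)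
      rw [hcard 2 le_rfl hn2, hG] at h1
      have h2 : p ^ n = p ^ (n - 2) * p ^ 2 := by
        rw [← pow_add]
        congr 1
        omega
      rw [h2] at h1
      exact Nat.eq_of_mul_eq_mul_left (pow_pos hp.pos _) h1
    have hdvd : (frattini G).index ∣ p ^ 2 := by
      rw [← hidx2]
      exact Subgroup.index_dvd_of_le hgam2
    obtain ⟨d, hd, hfd⟩ := (Nat.dvd_prime_pow hp).1 hdvd
    have hQ : Nat.card (G ⧸ frattini G) = p ^ d := by
      rw [← Subgroup.index_eq_card, hfd]
    obtain ⟨T, hTc, hT⟩ := Cfsg.Agent.Lib.helper97.helper97_burnside_basis p d hQ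
    obtain h0 | h1 | h2 : T.card = 0 ∨ T.card = 1 ∨ T.card = 2 := by omega
    · rw [Finset.card_eq_zero] at h0
      rw [h0, Finset.coe_empty, Subgroup.closure_empty] at hT
      refine ⟨1, 1, ?_⟩
      rw [eq_top_iff, ← hT]
      exact bot_le
    · obtain ⟨a, rfl⟩ := Finset.card_eq_one.mp h1
      refine ⟨a, a, ?_⟩
      rw [Set.pair_eq_singleton]
      rw [Finset.coe_singleton] at hT
      exact hT
    · obtain ⟨a, b, -, rfl⟩ := Finset.card_eq_two.mp h2
      refine ⟨a, b, ?_⟩
      rw [Finset.coe_pair] at hT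
      exact hT
  exact Cfsg.Agent.Lib.helper91.PearlEnd.h10_pearl_end p hp2 n hG (gam G)
    (fun i => inferInstance) hanti hcard hfr hgen hpow H

end Cfsg.Agent.Lib.helper18.PearlRank
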