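import Mathlib
import Cfsg.Agent.Lib.helper68.HallPet
import Cfsg.Agent.Lib.helper18.PearlRank
import Cfsg.Agent.Lib.helper8.PearlF4

/-!
# S5238 (rest), block G: `pearl_rank`

In a `p`-group (`p` odd) with an element `x` of order dividing `p` whose centralizer has order `p ^ 2`,
every subgroup is generated by at most `p` elements.
Assembly: `h18_pearl_base` (orders of the lower central series, `x ∉ γ₂`, `x γ₂ = x^G`),
helper40 `PearlUni` (onto / uniserial), helper30 `F3`, helper8 `F4`, helper10 `pearl_end`.
-/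

set_option autoImplicit false

namespace Cfsg.Agent.Lib.helper18.PearlRank

open Cfsg.Agent.Lib.helper68

theorem h18_pearl_rank {G : Type*} [Group G] [Finite G] (p : ℕ) [Fact p.Prime] (hp2 : p ≠ 2)
    (n : ℕ) (hG : Nat.card G = p ^ n) (x : G) (hx : x ^ p = 1)
    (hC : Nat.card (Subgroup.centralizer ({x} : Set G)) = p ^ 2) (H : Subgroup G) :
    ∃ T : Finset G, T.card ≤ p ∧ Subgroup.closure (T : Set G) = H :=
  h18_pearl_rank_core p hp2 n hG x hx hC
    (fun hnil honto huni hF3 i hi hin m hm hm' =>
      Cfsg.Agent.Lib.helper8.h8_pearl_f4 p hp2 n hnil x hx honto huni hF3 i hi hin m hm hm') H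

end Cfsg.Agent.Lib.helper18.PearlRank
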