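import Mathlib
import Cfsg.Prelude.Def_ClassicalGeometry

/-!
Permutation modules: matrices of permutations on a complement of the all-ones vector, and
transfer of isometry groups along ring isomorphisms.
-/

set_option autoImplicit false

namespace Cfsg.Agent.Lib.helper18

open Matrix

section Pm

variable {n : Type*} [Fintype n] [DecidableEq n] (R : Type*) [CommRing R]

/-- The permutation matrix with `Pm π *ᵥ e_j = e_{π j}`. -/
def Pm (π : Equiv.Perm n) : Matrix n n R := Matrix.of fun i j => if i = π j then 1 else 0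

/-- The all-ones matrix. -/
def Jm (n : Type*) (R : Type*) [CommRing R] : Matrix n n R := Matrix.of fun _ _ => 1

omit [Fintype n] in
lemma Pm_apply (π : Equiv.Perm n) (i j : n) : Pm R π i j = if i = π j then 1 else 0 := rfl

omit [Fintype n] in
lemma Pm_one : Pm R (1 : Equiv.Perm n) = 1 := by
  ext i j
  by_cases h : i = j
  · subst h
    simp [Pm]
  · simp [Pm, h]

lemma Pm_mul (π τ : Equiv.Perm n) : Pm R (π * τ) = Pm R π * Pm R τ := by
  ext i j
  simp only [Pm, Matrix.mul_apply, Matrix.of_apply, Equiv.Perm.coe_mul, Function.comp_apply]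
  rw [Finset.sum_eq_single (τ j)]
  · by_cases h : i = π (τ j) <;> simp [h]
  · intro k _ hk
    simp [hk]
  · intro h
    exact absurd (Finset.mem_univ _) h

lemma Jm_mul_Pm (π : Equiv.Perm n) : Jm n R * Pm R π = Jm n R := by
  ext i j
  simp [Jm, Pm, Matrix.mul_apply]

lemma Pm_mulVec (π : Equiv.Perm n) (x : n → R) : Pm R π *ᵥ x = x ∘ π.symm := by
  ext i
  simp only [Pm, Matrix.mulVec, dotProduct, Matrix.of_apply, Function.comp_apply]
  rw [Finset.sum_eq_single (π.symm i)]
  · simp
  · intro j _ hj
    have : i ≠ π j := fun h => hj (by rw [h, Equiv.symm_apply_apply])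
    simp [this]
  · intro h
    exact absurd (Finset.mem_univ _) h

omit [Fintype n] in
lemma Pm_eq_one [Nontrivial R] (π : Equiv.Perm n) (h : Pm R π = 1) : π = 1 := by
  ext j
  have := congrFun (congrFun h (π j)) j
  simp only [Pm, Matrix.of_apply, if_true, Matrix.one_apply] at this
  by_contra hne
  have hne' : ¬ π j = j := hne
  rw [if_neg hne'] at this
  exact one_ne_zero this

end Pm

section skeleton

variable {n ι : Type*} [Fintype n] [DecidableEq n] [Fintype ι] [DecidableEq ι]
  {R : Type*} [CommRing R]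

/-- The data of a complement to the all-ones vector in the permutation module. -/
structure PermData (C : Matrix ι n R) (D : Matrix n ι R) (c : R) : Prop where
  CD : C * D = 1
  DC : D * C = 1 - c • Jm n R
  JD : Jm n R * D = 0

/-- The matrix of a permutation on the complement. -/
def Nm (C : Matrix ι n R) (D : Matrix n ι R) (π : Equiv.Perm n) : Matrix ι ι R :=
  C * Pm R π * D

variable {C : Matrix ι n R} {D : Matrix n ι R} {c : R}

lemma D_mul_Nm (h : PermData C D c) (π : Equiv.Perm n) : D * Nm C D π = Pm R π * D := by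
  unfold Nm
  rw [← Matrix.mul_assoc, ← Matrix.mul_assoc, h.DC, Matrix.sub_mul, Matrix.sub_mul,
    Matrix.one_mul, Matrix.smul_mul, Jm_mul_Pm, Matrix.smul_mul, h.JD, smul_zero, sub_zero]

lemma Nm_one (h : PermData C D c) : Nm C D (1 : Equiv.Perm n) = 1 := by
  unfold Nm
  rw [Pm_one, Matrix.mul_one, h.CD]

lemma Nm_mul (h : PermData C D c) (π τ : Equiv.Perm n) :
    Nm C D (π * τ) = Nm C D π * Nm C D τ := by
  have e := D_mul_Nm h τ
  unfold Nm at e ⊢
  rw [Matrix.mul_assoc (C * Pm R π) D, e, Pm_mul]
  simp only [Matrix.mul_assoc]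

lemma D_Nm_C (h : PermData C D c) (π : Equiv.Perm n) :
    D * Nm C D π * C = Pm R π * (1 - c • Jm n R) := by
  rw [D_mul_Nm h, Matrix.mul_assoc, h.DC]

lemma Nm_injective [Nontrivial R] (h : PermData C D c) (π : Equiv.Perm n)
    (hπ : Nm C D π = 1) : π = 1 := by
  have e := D_mul_Nm h π
  rw [hπ, Matrix.mul_one] at e
  -- `D = Pm π * D`, hence `D C = Pm π D C`
  have e2 : D * C = Pm R π * (D * C) := by rw [← Matrix.mul_assoc, ← e]
  rw [h.DC, Matrix.mul_sub, Matrix.mul_one, Matrix.mul_smul] at e2
  have e3 : Pm R π * Jm n R = Jm n R := by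
    ext i j
    simp only [Pm, Jm, Matrix.mul_apply, Matrix.of_apply, mul_one]
    rw [Finset.sum_eq_single (π.symm i)]
    · simp
    · intro k _ hk
      have : i ≠ π k := fun h => hk (by rw [h, Equiv.symm_apply_apply])
      simp [this]
    · intro h
      exact absurd (Finset.mem_univ _) h
  rw [e3] at e2
  exact Pm_eq_one R π (sub_left_injective e2).symm

/-- The matrices `Nm` as a monoid homomorphism. -/
def NmHom (h : PermData C D c) : Equiv.Perm n →* Matrix ι ι R where
  toFun := Nm C D
  map_one' := Nm_one h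
  map_mul' := Nm_mul h

lemma Nm_preserves (h : PermData C D c) (q : (n → R) → R)
    (hq : ∀ (π : Equiv.Perm n) (y : n → R), q (y ∘ π.symm) = q y) (π : Equiv.Perm n)
    (v : ι → R) : q (D *ᵥ (Nm C D π *ᵥ v)) = q (D *ᵥ v) := by
  rw [Matrix.mulVec_mulVec, D_mul_Nm h, ← Matrix.mulVec_mulVec, Pm_mulVec, hq]

end skeleton

section transfer

variable {ι : Type} [Fintype ι] [DecidableEq ι] {R S : Type*} [Field R] [Field S]

lemma mem_isometryGroup_iff (Q : (ι → R) → R) (g : GL ι R) :
    g ∈ Cfsg.isometryGroup R Q ↔ ∀ u, Q ((g : Matrix ι ι R) *ᵥ u) = Q u :=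
  ⟨fun h u => h u u, fun h u _ => h u⟩

/-- Transfer of `GL` along a ring isomorphism. -/
def glCongr (r : R ≃+* S) : GL ι R ≃* GL ι S :=
  Units.mapEquiv (RingEquiv.mapMatrix r).toMulEquiv

lemma glCongr_val (r : R ≃+* S) (g : GL ι R) :
    ((glCongr r g : GL ι S) : Matrix ι ι S) = (g : Matrix ι ι R).map r := rfl

lemma glCongr_symm_apply (r : R ≃+* S) (g : GL ι S) :
    (glCongr r).symm g = glCongr r.symm g := rfl

lemma glCongr_mem (r : R ≃+* S) (QR : (ι → R) → R) (QS : (ι → S) → S)
    (h : ∀ v, QS (r ∘ v) = r (QR v)) (g : GL ι R) (hg : g ∈ Cfsg.isometryGroup R QR) :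
    glCongr r g ∈ Cfsg.isometryGroup S QS := by
  rw [mem_isometryGroup_iff] at hg ⊢
  intro u
  rw [glCongr_val]
  obtain ⟨u₀, rfl⟩ : ∃ u₀ : ι → R, u = r ∘ u₀ := ⟨r.symm ∘ u, by funext i; simp⟩
  have e : (g : Matrix ι ι R).map r *ᵥ (r ∘ u₀) = r ∘ ((g : Matrix ι ι R) *ᵥ u₀) := by
    funext i
    exact (RingHom.map_mulVec (r : R →+* S) _ u₀ i).symm
  rw [e, h, h, hg]

lemma glCongr_symm_mem (r : R ≃+* S) (QR : (ι → R) → R) (QS : (ι → S) → S)
    (h : ∀ v, QS (r ∘ v) = r (QR v)) (g : GL ι S) (hg : g ∈ Cfsg.isometryGroup S QS) :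
    glCongr r.symm g ∈ Cfsg.isometryGroup R QR := by
  apply glCongr_mem r.symm QS QR _ g hg
  intro v
  have := h (r.symm ∘ v)
  have e : r ∘ (r.symm ∘ v) = v := by funext i; simp
  rw [e] at this
  rw [this, RingEquiv.symm_apply_apply]

/-- Transfer of isometry groups along a ring isomorphism. -/
def isometryGroupCongr (r : R ≃+* S) (QR : (ι → R) → R) (QS : (ι → S) → S)
    (h : ∀ v, QS (r ∘ v) = r (QR v)) :
    Cfsg.isometryGroup R QR ≃* Cfsg.isometryGroup S QS where
  toFun x := ⟨glCongr r x.1, glCongr_mem r QR QS h x.1 x.2⟩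
  invFun y := ⟨glCongr r.symm y.1, glCongr_symm_mem r QR QS h y.1 y.2⟩
  left_inv x := Subtype.ext ((glCongr r).symm_apply_apply x.1)
  right_inv y := Subtype.ext ((glCongr r).apply_symm_apply y.1)
  map_mul' x y := Subtype.ext (map_mul (glCongr r) x.1 y.1)

lemma isometryGroupCongr_val (r : R ≃+* S) (QR : (ι → R) → R) (QS : (ι → S) → S)
    (h : ∀ v, QS (r ∘ v) = r (QR v)) (x : Cfsg.isometryGroup R QR) :
    ((isometryGroupCongr r QR QS h x : Cfsg.isometryGroup S QS) : GL ι S) = glCongr r x.1 := rfl

lemma mem_specialIsometryGroup_iff (Q : (ι → R) → R) (x : Cfsg.isometryGroup R Q) :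
    x ∈ Cfsg.specialIsometryGroup R Q ↔ ((x : GL ι R) : Matrix ι ι R).det = 1 := by
  unfold Cfsg.specialIsometryGroup
  rw [MonoidHom.mem_ker, MonoidHom.comp_apply, Units.ext_iff]
  rfl

/-- Transfer of special isometry groups along a ring isomorphism. -/
noncomputable def specialIsometryGroupCongr (r : R ≃+* S) (QR : (ι → R) → R)
    (QS : (ι → S) → S) (h : ∀ v, QS (r ∘ v) = r (QR v)) :
    Cfsg.specialIsometryGroup R QR ≃* Cfsg.specialIsometryGroup S QS := by
  have key : (Cfsg.specialIsometryGroup R QR).map (isometryGroupCongr r QR QS h).toMonoidHom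
      = Cfsg.specialIsometryGroup S QS := by
    have hdet : ∀ x : Cfsg.isometryGroup R QR,
        (((isometryGroupCongr r QR QS h x : Cfsg.isometryGroup S QS) : GL ι S) :
          Matrix ι ι S).det = r ((x : GL ι R) : Matrix ι ι R).det := by
      intro x
      rw [isometryGroupCongr_val, glCongr_val]
      exact (RingHom.map_det (r : R →+* S) _).symm
    ext y
    constructor
    · rintro ⟨x, hx, rfl⟩
      rw [SetLike.mem_coe, mem_specialIsometryGroup_iff] at hx
      rw [mem_specialIsometryGroup_iff]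
      show (((isometryGroupCongr r QR QS h x : Cfsg.isometryGroup S QS) : GL ι S) :
          Matrix ι ι S).det = 1
      rw [hdet, hx, map_one]
    · intro hy
      refine ⟨(isometryGroupCongr r QR QS h).symm y, ?_,
        (isometryGroupCongr r QR QS h).apply_symm_apply y⟩
      rw [SetLike.mem_coe, mem_specialIsometryGroup_iff]
      rw [mem_specialIsometryGroup_iff] at hy
      have := hdet ((isometryGroupCongr r QR QS h).symm y)
      rw [MulEquiv.apply_symm_apply, hy] at this
      exact r.injective (by rw [← this, map_one])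
  exact ((isometryGroupCongr r QR QS h).subgroupMap _).trans (MulEquiv.subgroupCongr key)

end transfer

section count

/-- A group whose elements are determined by data lying in a list has order at most the length of
the list. -/
lemma card_le_of_injective_list {G α : Type*} [Finite G] [DecidableEq α] (f : G → α)
    (hf : Function.Injective f) (L : List α) (hL : ∀ g, f g ∈ L) : Nat.card G ≤ L.length := by
  classical
  haveI := Fintype.ofFinite G
  rw [Nat.card_eq_fintype_card, ← Finset.card_univ]
  calc (Finset.univ : Finset G).card ≤ L.toFinset.card :=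
        Finset.card_le_card_of_injOn f (fun g _ => by simpa using hL g) hf.injOn
    _ ≤ L.length := List.toFinset_card_le L

end count

end Cfsg.Agent.Lib.helper18
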