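import Mathlib
import Cfsg.Prelude.Def_Classical
import Cfsg.Prelude.Def_GeometricClasses
import Cfsg.Agent.Lib.helper24.SfoDefs

/-!
# S5977U piece CONJ (racing copy, helper18)

`h = Φ₂ ∘ T ∘ Φ₁⁻¹` is an isometry of `Q` intertwining `κ₁` and `κ₂`.
-/

set_option autoImplicit false

namespace Cfsg.Agent.Lib.helper2

open Cfsg.Geo Matrix Cfsg.Agent.Lib.helper24

theorem h18_qfu_conj {F : Type*} [Field F] {ι : Type} [Fintype ι] [DecidableEq ι]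
    (Q : (ι → F) → F) (δ : F) [Fact (∀ r : F, r ^ 2 ≠ δ + 0 * r)] (κ₁ κ₂ : Matrix ι ι F)
    (d : ℕ) (Φ₁ Φ₂ : (Fin d → QuadraticAlgebra F δ 0) ≃+ (ι → F))
    (hΦ₁ : ∀ (z : QuadraticAlgebra F δ 0) (k : Fin d → QuadraticAlgebra F δ 0),
        Φ₁ (z • k) = z.re • Φ₁ k + z.im • (κ₁ *ᵥ Φ₁ k))
    (hΦ₂ : ∀ (z : QuadraticAlgebra F δ 0) (k : Fin d → QuadraticAlgebra F δ 0),
        Φ₂ (z • k) = z.re • Φ₂ k + z.im • (κ₂ *ᵥ Φ₂ k))
    (qk₁ qk₂ : (ι → F) → QuadraticAlgebra F δ 0) (hre₁ : ∀ v, (qk₁ v).re = Q v)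
    (hre₂ : ∀ v, (qk₂ v).re = Q v) (T : GL (Fin d) (QuadraticAlgebra F δ 0))
    (hT : ∀ k : Fin d → QuadraticAlgebra F δ 0,
      qk₂ (Φ₂ ((T : Matrix (Fin d) (Fin d) (QuadraticAlgebra F δ 0)) *ᵥ k)) = qk₁ (Φ₁ k)) :
    ∃ h : GL ι F, h ∈ Cfsg.isometryGroup F Q ∧
      (h : Matrix ι ι F) * κ₁ = κ₂ * (h : Matrix ι ι F) := by
  classical
  have hC₁ : ∀ (r : F) (k : Fin d → QuadraticAlgebra F δ 0),
      Φ₁ ((⟨r, 0⟩ : QuadraticAlgebra F δ 0) • k) = r • Φ₁ k := by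
    intro r k; rw [hΦ₁]; simp
  have hC₂ : ∀ (r : F) (k : Fin d → QuadraticAlgebra F δ 0),
      Φ₂ ((⟨r, 0⟩ : QuadraticAlgebra F δ 0) • k) = r • Φ₂ k := by
    intro r k; rw [hΦ₂]; simp
  have hω₁ : ∀ k : Fin d → QuadraticAlgebra F δ 0,
      Φ₁ ((⟨0, 1⟩ : QuadraticAlgebra F δ 0) • k) = κ₁ *ᵥ Φ₁ k := by
    intro k; rw [hΦ₁]; simp
  have hω₂ : ∀ k : Fin d → QuadraticAlgebra F δ 0,
      Φ₂ ((⟨0, 1⟩ : QuadraticAlgebra F δ 0) • k) = κ₂ *ᵥ Φ₂ k := by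
    intro k; rw [hΦ₂]; simp
  have hS₁ : ∀ (r : F) (v : ι → F),
      Φ₁.symm (r • v) = (⟨r, 0⟩ : QuadraticAlgebra F δ 0) • Φ₁.symm v := by
    intro r v
    apply Φ₁.injective
    rw [AddEquiv.apply_symm_apply, hC₁, AddEquiv.apply_symm_apply]
  have hS₂ : ∀ (r : F) (v : ι → F),
      Φ₂.symm (r • v) = (⟨r, 0⟩ : QuadraticAlgebra F δ 0) • Φ₂.symm v := by
    intro r v
    apply Φ₂.injective
    rw [AddEquiv.apply_symm_apply, hC₂, AddEquiv.apply_symm_apply]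
  have hSω₁ : ∀ v : ι → F,
      Φ₁.symm (κ₁ *ᵥ v) = (⟨0, 1⟩ : QuadraticAlgebra F δ 0) • Φ₁.symm v := by
    intro v
    apply Φ₁.injective
    rw [AddEquiv.apply_symm_apply, hω₁, AddEquiv.apply_symm_apply]
  let f : (ι → F) →ₗ[F] (ι → F) :=
    { toFun := fun v => Φ₂ ((T : Matrix (Fin d) (Fin d) (QuadraticAlgebra F δ 0)) *ᵥ Φ₁.symm v)
      map_add' := by
        intro v w
        rw [map_add, Matrix.mulVec_add, map_add]
      map_smul' := by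
        intro r v
        rw [hS₁, Matrix.mulVec_smul, hC₂]
        rfl }
  let g : (ι → F) →ₗ[F] (ι → F) :=
    { toFun := fun v =>
        Φ₁ (((T⁻¹ : GL (Fin d) (QuadraticAlgebra F δ 0)) :
          Matrix (Fin d) (Fin d) (QuadraticAlgebra F δ 0)) *ᵥ Φ₂.symm v)
      map_add' := by
        intro v w
        rw [map_add, Matrix.mulVec_add, map_add]
      map_smul' := by
        intro r v
        rw [hS₂, Matrix.mulVec_smul, hC₁]
        rfl }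
  have hf : ∀ v, f v = Φ₂ ((T : Matrix (Fin d) (Fin d) (QuadraticAlgebra F δ 0)) *ᵥ Φ₁.symm v) :=
    fun _ => rfl
  have hg : ∀ v, g v = Φ₁ (((T⁻¹ : GL (Fin d) (QuadraticAlgebra F δ 0)) :
          Matrix (Fin d) (Fin d) (QuadraticAlgebra F δ 0)) *ᵥ Φ₂.symm v) := fun _ => rfl
  have hfg : f.comp g = LinearMap.id := by
    apply LinearMap.ext
    intro v
    rw [LinearMap.comp_apply, hf, hg, AddEquiv.symm_apply_apply, Matrix.mulVec_mulVec,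
      Units.mul_inv, Matrix.one_mulVec, AddEquiv.apply_symm_apply]
    rfl
  have hgf : g.comp f = LinearMap.id := by
    apply LinearMap.ext
    intro v
    rw [LinearMap.comp_apply, hf, hg, AddEquiv.symm_apply_apply, Matrix.mulVec_mulVec,
      Units.inv_mul, Matrix.one_mulVec, AddEquiv.apply_symm_apply]
    rfl
  refine ⟨⟨LinearMap.toMatrix' f, LinearMap.toMatrix' g, ?_, ?_⟩, ?_, ?_⟩
  · rw [← LinearMap.toMatrix'_comp, hfg, LinearMap.toMatrix'_id]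
  · rw [← LinearMap.toMatrix'_comp, hgf, LinearMap.toMatrix'_id]
  · intro u _
    show Q (LinearMap.toMatrix' f *ᵥ u) = Q u
    rw [LinearMap.toMatrix'_mulVec, hf, ← hre₂, hT, AddEquiv.apply_symm_apply, hre₁]
  · show LinearMap.toMatrix' f * κ₁ = κ₂ * LinearMap.toMatrix' f
    apply Matrix.toLin'.injective
    apply LinearMap.ext
    intro v
    rw [Matrix.toLin'_apply, Matrix.toLin'_apply, ← Matrix.mulVec_mulVec, ← Matrix.mulVec_mulVec,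
      LinearMap.toMatrix'_mulVec, LinearMap.toMatrix'_mulVec, hf, hf, hSω₁, Matrix.mulVec_smul, hω₂]

end Cfsg.Agent.Lib.helper2
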