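import Mathlib
import Cfsg.Agent.Lib.helper26.Fix2e

set_option autoImplicit false

namespace Cfsg.Agent.Lib.helper18.S1237

open Cfsg.Agent.Lib.helper26

/-- inversion as an automorphism of a commutative group. -/
def g1Inv {T : Type*} [Group T] (hab : ∀ a b : T, a * b = b * a) : MulAut T where
  toFun x := x⁻¹
  invFun x := x⁻¹
  left_inv x := inv_inv x
  right_inv x := inv_inv x
  map_mul' a b := by rw [mul_inv_rev, hab]

theorem g1Inv_apply {T : Type*} [Group T] (hab : ∀ a b : T, a * b = b * a) (x : T) :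
    g1Inv hab x = x⁻¹ := rfl

/-- PIECE G1 (ABELIAN). Uses helper26 Fix2 (abelian_class with t = inversion). -/
theorem abelian_case {T : Type*} [Group T] [Finite T] (hT : IsPGroup 2 T) (V : Subgroup T)
    (hV : ∀ x : T, x ∈ V ↔ x * x = 1) (hV4 : Nat.card V = 4)
    (ρ : MulAut T) (hρ : Fpf3.Hyp ρ) (hab : ∀ a b : T, a * b = b * a) :
    ∃ n : ℕ, 1 ≤ n ∧ Nonempty (T ≃* Multiplicative (ZMod (2 ^ n) × ZMod (2 ^ n))) := by
  classical
  have hfixiff : ∀ x : T, g1Inv hab x = x ↔ x ∈ V := by
    intro x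
    rw [g1Inv_apply, hV, inv_eq_iff_mul_eq_one]
  have hH : Fix2.Hyp2 ρ (g1Inv hab) := by
    refine ⟨hρ, ?_, ?_, hT, ?_⟩
    · intro x
      rw [g1Inv_apply, g1Inv_apply, inv_inv]
    · intro x
      rw [g1Inv_apply, g1Inv_apply, map_inv]
    · have : Nat.card {x : T // g1Inv hab x = x} = Nat.card V :=
        Nat.card_congr (Equiv.subtypeEquivRight hfixiff)
      rw [this, hV4]
  rcases Fix2.abelian_class hH hab with ⟨h16, hsq⟩ | ⟨n, ⟨e⟩⟩
  · exfalso
    have htop : V = ⊤ := by
      rw [eq_top_iff]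
      intro x _
      rw [hV, ← pow_two]
      exact hsq x
    rw [htop, Subgroup.card_top] at hV4
    omega
  · refine ⟨n, ?_, ⟨e.trans (MulEquiv.prodMultiplicative _ _).symm⟩⟩
    by_contra hn
    have hn0 : n = 0 := by omega
    subst hn0
    have hc := Nat.card_congr e.toEquiv
    have hle : Nat.card V ≤ Nat.card T := Subgroup.card_le_card_group V
    rw [hV4, hc] at hle
    have h1 : Nat.card (Multiplicative (ZMod (2 ^ 0)) × Multiplicative (ZMod (2 ^ 0))) = 1 := by
      rw [Nat.card_prod]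
      have : Nat.card (Multiplicative (ZMod (2 ^ 0))) = 1 := by
        rw [Nat.card_congr Multiplicative.toAdd, Nat.card_zmod, pow_zero]
      rw [this]
    rw [h1] at hle
    omega

end Cfsg.Agent.Lib.helper18.S1237
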