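import Mathlib
import Cfsg.Prelude.Def_CaseTheorems

set_option autoImplicit false

namespace Cfsg.Agent.Lib.helper18.S1237

open Function

theorem p0_pow_apply {T : Type*} [Group T] (φ : MulAut T) (k : ℕ) (x : T) :
    (φ ^ k) x = (⇑φ)^[k] x := by
  induction k generalizing x with
  | zero => rfl
  | succ k ih => rw [pow_succ, MulAut.mul_apply, ih, Function.iterate_succ_apply]

theorem p0_aut_center {T : Type*} [Group T] (σ : MulAut T) (z : T)
    (hz : z ∈ Subgroup.center T) : σ z ∈ Subgroup.center T := by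
  rw [Subgroup.mem_center_iff] at hz ⊢
  intro g
  obtain ⟨g', rfl⟩ := σ.surjective g
  rw [← map_mul, ← map_mul, hz g']

theorem p0_order_two_iff {T : Type*} [Group T] (x : T) : orderOf x = 2 ↔ x * x = 1 ∧ x ≠ 1 := by
  have : Fact (Nat.Prime 2) := ⟨Nat.prime_two⟩
  rw [← pow_two]
  exact orderOf_eq_prime_iff

/-- PIECE P0 (SETUP). Mathlib + Prelude. -/
theorem setup {T : Type*} [Group T] [Finite T] (hT : IsPGroup 2 T) (h2 : Cfsg.PRankLE 2 2 T)
    (h1 : ¬ Cfsg.PRankLE 2 1 T) (φ : MulAut T)
    (htrans : ∀ s t : T, orderOf s = 2 → orderOf t = 2 → ∃ k : ℕ, (φ ^ k) s = t) :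
    ∃ (V : Subgroup T) (ψ : MulAut T) (k : ℕ), (∀ x : T, x ∈ V ↔ x * x = 1) ∧ Nat.card V = 4 ∧
      V ≤ Subgroup.center T ∧ ψ ^ 3 ^ k = 1 ∧ ∀ y : T, ψ y = y → y = 1 := by
  classical
  have : Fact (Nat.Prime 2) := ⟨Nat.prime_two⟩
  -- the witness of rank ≥ 2
  unfold Cfsg.PRankLE at h1
  simp only [not_forall] at h1
  obtain ⟨A, hAc, hA2, hAcard⟩ := h1
  have hAcard' : 2 < Nat.card A := by
    rw [pow_one] at hAcard
    omega
  have hTnt : Nontrivial T := by
    have hAnt : Nontrivial A := Finite.one_lt_card_iff_nontrivial.mp (by omega)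
    obtain ⟨a, b, hab⟩ := hAnt
    exact ⟨a.1, b.1, fun h => hab (Subtype.ext h)⟩
  -- a central involution
  have hcn : Nontrivial (Subgroup.center T) := hT.center_nontrivial
  have h2c : 2 ∣ Nat.card (Subgroup.center T) := by
    obtain ⟨n, hn⟩ := IsPGroup.iff_card.mp (hT.to_subgroup (Subgroup.center T))
    have h1lt : 1 < Nat.card (Subgroup.center T) := Finite.one_lt_card_iff_nontrivial.mpr hcn
    rw [hn] at h1lt ⊢
    have hn0 : n ≠ 0 := by
      intro h
      rw [h, pow_zero] at h1lt
      omega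
    exact dvd_pow_self 2 hn0
  obtain ⟨z', hz'⟩ := exists_prime_orderOf_dvd_card' 2 h2c
  have hzc : (z' : T) ∈ Subgroup.center T := z'.2
  have hz : orderOf (z' : T) = 2 := by rw [Subgroup.orderOf_coe, hz']
  -- every involution is central
  have hinvc : ∀ x : T, x * x = 1 → x ∈ Subgroup.center T := by
    intro x hx
    by_cases hx1 : x = 1
    · rw [hx1]
      exact Subgroup.one_mem _
    · have hxo : orderOf x = 2 := (p0_order_two_iff x).mpr ⟨hx, hx1⟩
      obtain ⟨k, hk⟩ := htrans _ x hz hxo
      rw [← hk]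
      exact p0_aut_center (φ ^ k) _ hzc
  let V : Subgroup T :=
    { carrier := {x | x * x = 1}
      one_mem' := mul_one 1
      mul_mem' := by
        intro a b ha hb
        have ha' : a * a = 1 := ha
        have hb' : b * b = 1 := hb
        have hbc := Subgroup.mem_center_iff.mp (hinvc b hb') a
        change a * b * (a * b) = 1
        calc a * b * (a * b) = a * (b * a) * b := by group
          _ = a * (a * b) * b := by rw [← hbc]
          _ = (a * a) * (b * b) := by group
          _ = 1 := by rw [ha', hb', mul_one]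
      inv_mem' := by
        intro a ha
        have ha' : a * a = 1 := ha
        change a⁻¹ * a⁻¹ = 1
        rw [← mul_inv_rev, ha', inv_one] }
  have hVmem : ∀ x : T, x ∈ V ↔ x * x = 1 := fun x => Iff.rfl
  have hVc : V ≤ Subgroup.center T := fun x hx => hinvc x ((hVmem x).mp hx)
  have hVcomm : IsMulCommutative V := by
    refine ⟨⟨fun a b => Subtype.ext ?_⟩⟩
    exact (Subgroup.mem_center_iff.mp (hVc a.2) b.1).symm
  have hV4 : Nat.card V = 4 := by
    have hle : Nat.card V ≤ 2 ^ 2 := h2 V hVcomm (fun a ha => by rw [pow_two]; exact (hVmem a).mp ha)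
    have hAV : A ≤ V := fun a ha => (hVmem a).mpr (by rw [← pow_two]; exact hA2 a ha)
    have hge : Nat.card A ≤ Nat.card V := Subgroup.card_le_of_le hAV
    obtain ⟨m, hm⟩ := IsPGroup.iff_card.mp (hT.to_subgroup V)
    rw [hm] at hle hge ⊢
    have hm3 : m < 3 := by
      by_contra hcon
      have : 2 ^ 3 ≤ 2 ^ m := Nat.pow_le_pow_right (by norm_num) (by omega)
      omega
    interval_cases m <;> omega
  -- the order of φ
  have hm0 : orderOf φ ≠ 0 := (orderOf_pos φ).ne'
  obtain ⟨k, m', hm'3, hmeq⟩ := Nat.exists_eq_pow_mul_and_not_dvd hm0 3 (by norm_num)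
  -- minimal period of every involution is 3
  have hper : ∀ v : T, orderOf v = 2 → minimalPeriod (⇑φ) v = 3 := by
    intro v hv
    have hpp : IsPeriodicPt (⇑φ) (orderOf φ) v := by
      change (⇑φ)^[orderOf φ] v = v
      rw [← p0_pow_apply, pow_orderOf_eq_one]
      rfl
    have hnpos : 0 < minimalPeriod (⇑φ) v := hpp.minimalPeriod_pos (orderOf_pos φ)
    have hord : ∀ i : ℕ, orderOf ((⇑φ)^[i] v) = 2 := by
      intro i
      rw [← p0_pow_apply, MulEquiv.orderOf_eq, hv]
    have hmemV : ∀ i : ℕ, (⇑φ)^[i] v ∈ V := fun i =>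
      (hVmem _).mpr ((p0_order_two_iff _).mp (hord i)).1
    let f : Option (Fin (minimalPeriod (⇑φ) v)) → V := fun o =>
      match o with
      | none => ⟨1, Subgroup.one_mem V⟩
      | some i => ⟨(⇑φ)^[i.val] v, hmemV i.val⟩
    have hfinj : Function.Injective f := by
      intro a b hab
      rcases a with _ | i <;> rcases b with _ | j
      · rfl
      · exfalso
        have h := congrArg Subtype.val hab
        change (1 : T) = (⇑φ)^[j.val] v at h
        exact ((p0_order_two_iff _).mp (hord j.val)).2 h.symm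
      · exfalso
        have h := congrArg Subtype.val hab
        change (⇑φ)^[i.val] v = (1 : T) at h
        exact ((p0_order_two_iff _).mp (hord i.val)).2 h
      · have h := congrArg Subtype.val hab
        change (⇑φ)^[i.val] v = (⇑φ)^[j.val] v at h
        have := iterate_injOn_Iio_minimalPeriod (f := ⇑φ) (x := v) (Set.mem_Iio.mpr i.isLt)
          (Set.mem_Iio.mpr j.isLt) h
        rw [Fin.ext this]
    have hfsurj : Function.Surjective f := by
      rintro ⟨w, hw⟩
      by_cases hw1 : w = 1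
      · exact ⟨none, Subtype.ext hw1.symm⟩
      · have hwo : orderOf w = 2 := (p0_order_two_iff w).mpr ⟨(hVmem w).mp hw, hw1⟩
        obtain ⟨j, hj⟩ := htrans v w hv hwo
        refine ⟨some ⟨j % minimalPeriod (⇑φ) v, Nat.mod_lt _ hnpos⟩, Subtype.ext ?_⟩
        change (⇑φ)^[j % minimalPeriod (⇑φ) v] v = w
        rw [iterate_mod_minimalPeriod_eq, ← p0_pow_apply, hj]
    have hcard := Nat.card_congr (Equiv.ofBijective f ⟨hfinj, hfsurj⟩)
    rw [hV4, Nat.card_eq_fintype_card, Fintype.card_option, Fintype.card_fin] at hcard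
    omega
  have hψinv : ∀ v : T, orderOf v = 2 → (φ ^ m') v ≠ v := by
    intro v hv hfix
    have hpp : IsPeriodicPt (⇑φ) m' v := by
      change (⇑φ)^[m'] v = v
      rw [← p0_pow_apply]
      exact hfix
    have := hpp.minimalPeriod_dvd
    rw [hper v hv] at this
    exact hm'3 this
  refine ⟨V, φ ^ m', k, hVmem, hV4, hVc, ?_, ?_⟩
  · rw [← pow_mul, mul_comm, ← hmeq, pow_orderOf_eq_one]
  · intro y hy
    by_contra hy1
    obtain ⟨a, ha⟩ := (IsPGroup.iff_orderOf.mp hT) y
    have ha0 : a ≠ 0 := by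
      intro h
      rw [h, pow_zero, orderOf_eq_one_iff] at ha
      exact hy1 ha
    have hw2 : orderOf (y ^ (2 ^ (a - 1))) = 2 := by
      rw [p0_order_two_iff]
      constructor
      · rw [← pow_add, ← two_mul, ← pow_succ', show a - 1 + 1 = a by omega, ← ha,
          pow_orderOf_eq_one]
      · intro h
        have h1 := orderOf_dvd_of_pow_eq_one h
        rw [ha] at h1
        have h2 := Nat.le_of_dvd (by positivity) h1
        have h3 : 2 ^ (a - 1) < 2 ^ a := Nat.pow_lt_pow_right (by norm_num) (by omega)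
        omega
    apply hψinv _ hw2
    rw [map_pow, hy]

end Cfsg.Agent.Lib.helper18.S1237
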