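import Cfsg.Agent.Lib.helper18.S3664GF8
import Cfsg.Agent.Lib.helper8.SzAut4

set_option autoImplicit false

/-!
# S3664: the group `Sz(8) : Aut(F_8)` and its module `M_4(F_8)` (helper18)

* `S8`  : the Suzuki group over the concrete field `K8` with 8 elements (helper8 library, `m = 1`);
* `G8`  : the semidirect product `S8 ⋊ Aut(K8)` (field automorphisms act entrywise, `szAut`);
* `A8`  : the 4 × 4 matrices over `K8` (an elementary abelian 2-group of order `2^48`);
* `act` : `⟨g, φ⟩ • M = g * φ(M) * Frob(g)⁻¹`, `Frob` the entrywise squaring.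
-/

namespace Cfsg.Agent.Lib.helper18.S3664

open Cfsg.Agent.Lib.helper8

/-- the Suzuki group `Sz(8)` -/
abbrev S8 : Type := ↥(Cfsg.Sz K8 1)

theorem h11 : 1 ≤ 1 := le_refl 1

/-- the field automorphisms of `K8` act on `Sz(8)` (entrywise) -/
noncomputable def szAutHom : (K8 ≃+* K8) →* MulAut S8 where
  toFun φ := szAut h11 K8.card_eq' φ
  map_one' := by
    apply MulEquiv.ext
    intro g
    apply Subtype.ext
    rw [szAut_coe]
    apply Subtype.ext
    ext i j
    simp [Matrix.SpecialLinearGroup.map_apply_coe]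
  map_mul' φ ψ := by
    apply MulEquiv.ext
    intro g
    apply Subtype.ext
    rw [MulAut.mul_apply, szAut_coe, szAut_coe, szAut_coe]
    apply Subtype.ext
    ext i j
    simp [Matrix.SpecialLinearGroup.map_apply_coe]

theorem szAutHom_apply (φ : K8 ≃+* K8) : szAutHom φ = szAut h11 K8.card_eq' φ := rfl

/-- `Sz(8) : Aut(F_8)` -/
abbrev G8 : Type := S8 ⋊[szAutHom] (K8 ≃+* K8)

instance : Finite (K8 ≃+* K8) :=
  Finite.of_injective (fun φ : K8 ≃+* K8 => (φ : K8 → K8)) DFunLike.coe_injective

instance : Finite G8 := Finite.of_equiv _ (SemidirectProduct.equivProd (φ := szAutHom)).symm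

/-- the module: 4 × 4 matrices over `K8` -/
abbrev A8 : Type := Matrix (Fin 4) (Fin 4) K8

/-- the matrix of an element of `Sz(8)` -/
def smat (g : S8) : Matrix (Fin 4) (Fin 4) K8 :=
  ((g : Matrix.SpecialLinearGroup (Fin 4) K8) : Matrix (Fin 4) (Fin 4) K8)

/-- the action of `G8` on `A8`: `⟨g, φ⟩ • M = g * φ(M) * Frob(g⁻¹)` -/
def act (x : G8) (M : A8) : A8 :=
  smat x.left * M.map (fun a => x.right a) * (smat x.left⁻¹).map (fun a => a ^ 2)

end Cfsg.Agent.Lib.helper18.S3664
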