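import Mathlib

set_option autoImplicit false

/-!
# The field with 8 elements, concretely (helper18, for S3664)

`K8` is `F_2[t]/(t^3 + t + 1)`; the element `a0 + a1 t + a2 t^2` has code `a0 + 2 a1 + 4 a2 < 8`.
Addition is `xor` of the codes; multiplication and inversion are read off tables packed into
natural numbers (pattern of `Cfsg.Agent.Lib.helper94.U34K`).
-/

namespace Cfsg.Agent.Lib.helper18.S3664

def k8addc (x y : Nat) : Nat := (x ^^^ y) % 8

def k8mulc (x y : Nat) : Nat :=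
  (23691910682714665197238709536041582193718400246807875409196429481426745819136 >>> (4 * (8 * (x % 8) + y % 8))) % 8

def k8invc (x : Nat) : Nat := (1126655248 >>> (4 * (x % 8))) % 8

theorem k8addc_lt (x y : Nat) : k8addc x y < 8 := Nat.mod_lt _ (by norm_num)
theorem k8mulc_lt (x y : Nat) : k8mulc x y < 8 := Nat.mod_lt _ (by norm_num)
theorem k8invc_lt (x : Nat) : k8invc x < 8 := Nat.mod_lt _ (by norm_num)

/-- the field with 8 elements -/
structure K8 where
  c : Nat
  h : c < 8

namespace K8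

theorem ext' {a b : K8} (h : a.c = b.c) : a = b := by
  cases a; cases b; simp only at h; subst h; rfl

theorem ext_iff' {a b : K8} : a = b ↔ a.c = b.c := ⟨fun h => by rw [h], ext'⟩

instance : DecidableEq K8 := fun a b => decidable_of_iff (a.c = b.c) ext_iff'.symm

/-- the element with a given code -/
def ofN (n : Nat) : K8 := ⟨n % 8, Nat.mod_lt _ (by norm_num)⟩

instance : Zero K8 := ⟨⟨0, by norm_num⟩⟩
instance : One K8 := ⟨⟨1, by norm_num⟩⟩
instance : Add K8 := ⟨fun a b => ⟨k8addc a.c b.c, k8addc_lt _ _⟩⟩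
instance : Neg K8 := ⟨fun a => a⟩
instance : Mul K8 := ⟨fun a b => ⟨k8mulc a.c b.c, k8mulc_lt _ _⟩⟩
instance : Inv K8 := ⟨fun a => ⟨k8invc a.c, k8invc_lt _⟩⟩

@[simp] theorem zero_c : (0 : K8).c = 0 := rfl
@[simp] theorem one_c : (1 : K8).c = 1 := rfl
@[simp] theorem add_c (a b : K8) : (a + b).c = k8addc a.c b.c := rfl
@[simp] theorem neg_c (a : K8) : (-a).c = a.c := rfl
@[simp] theorem mul_c (a b : K8) : (a * b).c = k8mulc a.c b.c := rfl
@[simp] theorem inv_c (a : K8) : (a⁻¹).c = k8invc a.c := rfl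
@[simp] theorem ofN_c (n : Nat) : (ofN n).c = n % 8 := rfl

theorem ofN_c_self (a : K8) : ofN a.c = a := ext' (Nat.mod_eq_of_lt a.h)

theorem c3a : ∀ a, a < 8 → ∀ b, b < 8 → ∀ c, c < 8 →
    k8addc (k8addc a b) c = k8addc a (k8addc b c) := by
  decide +kernel

theorem c3m : ∀ a, a < 8 → ∀ b, b < 8 → ∀ c, c < 8 →
    k8mulc (k8mulc a b) c = k8mulc a (k8mulc b c) := by
  decide +kernel

theorem c3d : ∀ a, a < 8 → ∀ b, b < 8 → ∀ c, c < 8 →
    k8mulc a (k8addc b c) = k8addc (k8mulc a b) (k8mulc a c) := by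
  decide +kernel

theorem c2 : ∀ a, a < 8 → ∀ b, b < 8 → k8mulc a b = k8mulc b a := by
  decide +kernel

theorem c1 : ∀ a, a < 8 →
    k8addc 0 a = a ∧ k8addc a a = 0 ∧ k8mulc 1 a = a ∧
    (a ≠ 0 → k8mulc a (k8invc a) = 1) := by
  decide +kernel

instance instField : Field K8 :=
  Field.ofMinimalAxioms K8
    (fun a b c => ext' (c3a a.c a.h b.c b.h c.c c.h))
    (fun a => ext' (c1 a.c a.h).1)
    (fun a => ext' (c1 a.c a.h).2.1)
    (fun a b c => ext' (c3m a.c a.h b.c b.h c.c c.h))
    (fun a b => ext' (c2 a.c a.h b.c b.h))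
    (fun a => ext' (c1 a.c a.h).2.2.1)
    (fun a ha => ext' ((c1 a.c a.h).2.2.2 (fun h0 => ha (ext' h0))))
    (ext' (by decide))
    (fun a b c => ext' (c3d a.c a.h b.c b.h c.c c.h))
    ⟨0, 1, fun h => by
      have := congrArg K8.c h
      simp at this⟩

/-- codes as an equivalence with `Fin 8` -/
def equivFin : K8 ≃ Fin 8 where
  toFun a := ⟨a.c, a.h⟩
  invFun i := ⟨i.1, i.2⟩
  left_inv _ := rfl
  right_inv _ := rfl

instance : Fintype K8 := Fintype.ofEquiv (Fin 8) equivFin.symm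

theorem card_eq : Fintype.card K8 = 8 := by
  rw [Fintype.card_congr equivFin, Fintype.card_fin]

/-- the cardinality in the shape used by the Suzuki-group library (`m = 1`) -/
theorem card_eq' : Fintype.card K8 = 2 ^ (2 * 1 + 1) := by
  rw [card_eq]; norm_num

theorem two_eq_zero : (2 : K8) = 0 := by
  have h : (2 : K8) = 1 + 1 := by norm_num
  rw [h]
  exact ext' (by decide)

instance : CharP K8 2 := CharTwo.of_one_ne_zero_of_two_eq_zero one_ne_zero two_eq_zero

end K8

end Cfsg.Agent.Lib.helper18.S3664
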