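import Mathlib

/-!
# Piece C1 of S4067 (Laffey–MacHale): counting commuting pairs

If `|G| < p * k(G)` (`p` the least prime divisor of `|G|`), then the number of elements whose
centralizer has index `> p` is `< (p ^ 2 - 1) |Z(G)|`.
-/

set_option autoImplicit false

namespace Cfsg.Agent.Lib.helper18.S4067

open Subgroup MulAction

variable {G : Type*} [Group G] [Finite G]

/-- The sum of the orders of the centralizers is `k(G) |G|`. -/
theorem sum_card_centralizer [Fintype G] :
    ∑ g : G, Nat.card (centralizer ({g} : Set G)) = Nat.card (ConjClasses G) * Nat.card G := by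
  classical
  rw [← card_comm_eq_card_conjClasses_mul_card, Nat.card_eq_fintype_card,
    Fintype.card_congr (Equiv.subtypeProdEquivSigmaSubtype Commute), Fintype.card_sigma]
  refine Finset.sum_congr rfl (fun g _ => ?_)
  rw [Nat.card_eq_fintype_card]
  refine Fintype.card_congr (Equiv.subtypeEquivRight (fun h => ?_))
  rw [mem_centralizer_iff]
  constructor
  · intro hc
    exact hc g rfl
  · intro hc k hk
    rw [Set.mem_singleton_iff] at hk
    subst hk
    exact hc

/-- C1 -/
theorem card_big_lt (hk : Nat.card G < (Nat.card G).minFac * Nat.card (ConjClasses G)) :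
    Nat.card {g : G // (Nat.card G).minFac < (centralizer ({g} : Set G)).index}
      < ((Nat.card G).minFac ^ 2 - 1) * Nat.card (center G) := by
  classical
  have := Fintype.ofFinite G
  have hsum := sum_card_centralizer (G := G)
  generalize hn : Nat.card G = n at hk hsum ⊢
  generalize hp : n.minFac = p at hk ⊢
  generalize Nat.card (ConjClasses G) = k at hk hsum
  have hn0 : 0 < n := by rw [← hn]; exact Nat.card_pos
  have hp1 : 1 ≤ p := by rw [← hp]; exact Nat.minFac_pos n
  have hpt : ∀ g : G, p * (p + 1) * Nat.card (centralizer ({g} : Set G))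
      + n * (if p < (centralizer ({g} : Set G)).index then 1 else 0)
      + n * (p + 1) * (if g ∈ center G then 1 else 0)
      ≤ n * (p + 1) + n * (p * (p + 1)) * (if g ∈ center G then 1 else 0) := by
    intro g
    have hai : Nat.card (centralizer ({g} : Set G)) * (centralizer ({g} : Set G)).index = n := by
      rw [Subgroup.card_mul_index, hn]
    generalize Nat.card (centralizer ({g} : Set G)) = a at hai
    have hi1 : (centralizer ({g} : Set G)).index = 1 ↔ g ∈ center G := by
      rw [Subgroup.index_eq_one, Subgroup.centralizer_eq_top_iff_subset, Set.singleton_subset_iff]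
      rfl
    generalize (centralizer ({g} : Set G)).index = i at hai hi1
    by_cases hgZ : g ∈ center G
    · have hi : i = 1 := hi1.mpr hgZ
      have hnb : ¬ p < i := by omega
      rw [if_neg hnb, if_pos hgZ]
      rw [hi, mul_one] at hai
      rw [hai]
      nlinarith
    · have hi : i ≠ 1 := fun h => hgZ (hi1.mp h)
      have hidvd : i ∣ n := ⟨a, by rw [← hai, mul_comm]⟩
      have hi0 : i ≠ 0 := by
        intro h
        rw [h, mul_zero] at hai
        omega
      have hpi : p ≤ i := by
        rw [← hp]
        exact Nat.minFac_le_of_dvd (by omega) hidvd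
      rw [if_neg hgZ]
      by_cases hbig : p < i
      · rw [if_pos hbig]
        have h1 : a * (p + 1) ≤ a * i := Nat.mul_le_mul_left a hbig
        nlinarith
      · rw [if_neg hbig]
        have h1 : a * p ≤ a * i := Nat.mul_le_mul_left a hpi
        nlinarith
  have hS := Finset.sum_le_sum (fun g (_ : g ∈ (Finset.univ : Finset G)) => hpt g)
  simp only [Finset.sum_add_distrib, ← Finset.mul_sum, Finset.sum_boole, Finset.sum_const,
    Finset.card_univ, smul_eq_mul, Nat.cast_id] at hS
  rw [hsum] at hS
  have hb : Nat.card {g : G // p < (centralizer ({g} : Set G)).index}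
      = (Finset.univ.filter (fun g : G => p < (centralizer ({g} : Set G)).index)).card := by
    rw [Nat.card_eq_fintype_card, Fintype.card_subtype]
  have hz : Nat.card (center G) = (Finset.univ.filter (fun g : G => g ∈ center G)).card := by
    rw [Nat.card_eq_fintype_card, Fintype.card_subtype]
  rw [hb, hz]
  generalize (Finset.univ.filter (fun g : G => p < (centralizer ({g} : Set G)).index)).card = b
    at hS
  generalize (Finset.univ.filter (fun g : G => g ∈ center G)).card = z at hS
  have hcn : Fintype.card G = n := by rw [← hn, Nat.card_eq_fintype_card]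
  rw [hcn] at hS
  have hS' : n * (p * (p + 1) * k + b + (p + 1) * z) ≤ n * (n * (p + 1) + p * (p + 1) * z) := by
    nlinarith
  have hS'' := Nat.le_of_mul_le_mul_left hS' hn0
  have hk' : (n + 1) * (p + 1) ≤ p * k * (p + 1) := Nat.mul_le_mul_right _ hk
  have hfin : b + z + 1 ≤ p ^ 2 * z := by nlinarith
  rw [Nat.sub_mul, one_mul]
  omega

end Cfsg.Agent.Lib.helper18.S4067
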