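import Mathlib

/-!
# Piece C3b of S4067 (Laffey–MacHale): `|G'| = p`

In a group of class two with few "big" elements, two non-commuting elements whose centralizers
have index `p` force the commutator subgroup to have order `p`.
-/

set_option autoImplicit false

namespace Cfsg.Agent.Lib.helper18.S4067

open Subgroup MulAction
open scoped commutatorElement

section classTwo

variable {G : Type*} [Group G]

theorem c3b_comm_central (hc : commutator G ≤ center G) (a b : G) : ⁅a, b⁆ ∈ center G :=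
  hc (by rw [_root_.commutator_def]; exact commutator_mem_commutator (mem_top a) (mem_top b))

theorem c3b_comm_mul_left (hc : commutator G ≤ center G) (a b v : G) :
    ⁅a * b, v⁆ = ⁅a, v⁆ * ⁅b, v⁆ := by
  have h := c3b_comm_central hc b v
  rw [mem_center_iff] at h
  have e1 : ⁅a * b, v⁆ = a * ⁅b, v⁆ * (v * a⁻¹ * v⁻¹) := by
    simp only [commutatorElement_def]
    group
  have e2 : ⁅b, v⁆ * a * (v * a⁻¹ * v⁻¹) = ⁅b, v⁆ * ⁅a, v⁆ := by
    simp only [commutatorElement_def]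
    group
  rw [e1, h a, e2]
  exact (h ⁅a, v⁆).symm

theorem c3b_comm_mul_right (hc : commutator G ≤ center G) (a u v : G) :
    ⁅a, u * v⁆ = ⁅a, u⁆ * ⁅a, v⁆ := by
  have h := c3b_comm_central hc a v
  rw [mem_center_iff] at h
  have e1 : ⁅a, u * v⁆ = a * u * a⁻¹ * (⁅a, v⁆ * u⁻¹) := by
    simp only [commutatorElement_def]
    group
  have e2 : a * u * a⁻¹ * (u⁻¹ * ⁅a, v⁆) = ⁅a, u⁆ * ⁅a, v⁆ := by
    simp only [commutatorElement_def]
    group
  rw [e1, ← h u⁻¹, e2]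

/-- `v ↦ ⁅g, v⁆` as a homomorphism (class two). -/
def c3bPhi (hc : commutator G ≤ center G) (g : G) : G →* G :=
  MonoidHom.mk' (fun v => ⁅g, v⁆) (fun u v => c3b_comm_mul_right hc g u v)

/-- `a ↦ ⁅a, v⁆` as a homomorphism (class two). -/
def c3bPsi (hc : commutator G ≤ center G) (v : G) : G →* G :=
  MonoidHom.mk' (fun a => ⁅a, v⁆) (fun a b => c3b_comm_mul_left hc a b v)

theorem c3bPhi_apply (hc : commutator G ≤ center G) (g v : G) : c3bPhi hc g v = ⁅g, v⁆ := rfl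

theorem c3bPsi_apply (hc : commutator G ≤ center G) (v a : G) : c3bPsi hc v a = ⁅a, v⁆ := rfl

theorem c3bPhi_ker (hc : commutator G ≤ center G) (g : G) :
    (c3bPhi hc g).ker = centralizer ({g} : Set G) := by
  ext v
  rw [MonoidHom.mem_ker, c3bPhi_apply, commutatorElement_eq_one_iff_mul_comm,
    mem_centralizer_iff]
  constructor
  · intro h k hk
    rw [Set.mem_singleton_iff] at hk
    subst hk
    exact h
  · intro h
    exact h g rfl

theorem c3bPhi_card_range (hc : commutator G ≤ center G) (g : G) :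
    Nat.card (c3bPhi hc g).range = (centralizer ({g} : Set G)).index := by
  rw [← c3bPhi_ker hc g, Subgroup.index_ker]

theorem c3b_comm_family (hc : commutator G ≤ center G) (x y w ζ : G) (hζ : ζ ∈ center G)
    (i j : ℤ) (v : G) :
    ⁅w * x ^ i * y ^ j * ζ, v⁆ = ⁅w, v⁆ * ⁅x, v⁆ ^ i * ⁅y, v⁆ ^ j := by
  have h1 : ⁅ζ, v⁆ = 1 := by
    rw [commutatorElement_eq_one_iff_mul_comm]
    exact ((mem_center_iff.mp hζ) v).symm
  have h2 : c3bPsi hc v (w * x ^ i * y ^ j * ζ)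
      = c3bPsi hc v w * c3bPsi hc v x ^ i * c3bPsi hc v y ^ j * c3bPsi hc v ζ := by
    rw [map_mul, map_mul, map_mul, map_zpow, map_zpow]
  simp only [c3bPsi_apply] at h2
  rw [h2, h1, mul_one]

theorem c3b_zpowers_eq [Finite G] {p : ℕ} (hp : p.Prime) (H : Subgroup G) (hH : Nat.card H = p)
    (a : G) (ha : a ∈ H) (ha1 : a ≠ 1) : zpowers a = H := by
  have hle : zpowers a ≤ H := (zpowers_le).mpr ha
  have hdvd : Nat.card (zpowers a) ∣ Nat.card H := Subgroup.card_dvd_of_le hle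
  rw [hH] at hdvd
  rcases (Nat.dvd_prime hp).mp hdvd with h1 | h1
  · exfalso
    apply ha1
    rw [Nat.card_zpowers] at h1
    exact orderOf_eq_one_iff.mp h1
  · exact Subgroup.eq_of_le_of_card_ge hle (by rw [h1, hH])

end classTwo

variable {G : Type*} [Group G] [Finite G]

/-- C3b -/
theorem card_commutator_of_small_pair
    (hb : Nat.card {g : G // (Nat.card G).minFac < (centralizer ({g} : Set G)).index}
      < ((Nat.card G).minFac ^ 2 - 1) * Nat.card (center G))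
    (hc : commutator G ≤ center G) (x y : G) (hxy : x * y ≠ y * x)
    (hx : (centralizer ({x} : Set G)).index = (Nat.card G).minFac)
    (hy : (centralizer ({y} : Set G)).index = (Nat.card G).minFac) :
    Nat.card (commutator G) = (Nat.card G).minFac := by
  classical
  have hG1 : Nat.card G ≠ 1 := by
    intro h
    have hsub : Subsingleton G := (Nat.card_eq_one_iff_unique.mp h).1
    exact hxy (Subsingleton.elim _ _)
  have hp : (Nat.card G).minFac.Prime := Nat.minFac_prime hG1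
  generalize (Nat.card G).minFac = p at hb hx hy hp ⊢
  have he1 : ⁅x, y⁆ ≠ 1 := by
    rw [Ne, commutatorElement_eq_one_iff_mul_comm]
    exact hxy
  have hDx : zpowers ⁅x, y⁆ = (c3bPhi hc x).range :=
    c3b_zpowers_eq hp _ (by rw [c3bPhi_card_range, hx]) _ ⟨y, rfl⟩ he1
  have hDy : zpowers ⁅x, y⁆ = (c3bPhi hc y).range :=
    c3b_zpowers_eq hp _ (by rw [c3bPhi_card_range, hy]) _
      (by rw [← commutatorElement_inv]; exact inv_mem ⟨x, rfl⟩) he1
  have hDcard : Nat.card (zpowers ⁅x, y⁆) = p := by rw [hDx, c3bPhi_card_range, hx]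
  have hord : orderOf ⁅x, y⁆ = p := by rw [← Nat.card_zpowers, hDcard]
  have hord' : orderOf ⁅y, x⁆ = p := by rw [← commutatorElement_inv, orderOf_inv, hord]
  by_contra hne
  have hex : ∃ w v₀ : G, ⁅w, v₀⁆ ∉ zpowers ⁅x, y⁆ := by
    by_contra hall
    have hall' : ∀ a b : G, ⁅a, b⁆ ∈ zpowers ⁅x, y⁆ := fun a b => by
      by_contra h
      exact hall ⟨a, b, h⟩
    apply hne
    have h1 : commutator G ≤ zpowers ⁅x, y⁆ := by
      rw [commutator_eq_closure, closure_le]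
      rintro _ ⟨a, b, rfl⟩
      exact hall' a b
    have h2 : zpowers ⁅x, y⁆ ≤ commutator G := by
      rw [zpowers_le, _root_.commutator_def]
      exact commutator_mem_commutator (mem_top x) (mem_top y)
    rw [← le_antisymm h2 h1, hDcard]
  obtain ⟨w₀, v₀, hw₀⟩ := hex
  have hxv : ∀ v : G, ⁅x, v⁆ ∈ zpowers ⁅x, y⁆ := fun v => by
    rw [hDx]
    exact ⟨v, rfl⟩
  have hyv : ∀ v : G, ⁅y, v⁆ ∈ zpowers ⁅x, y⁆ := fun v => by
    rw [hDy]
    exact ⟨v, rfl⟩
  have hcancel : ∀ (u ζ : G), ζ ∈ center G → ∀ i j : ℤ,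
      ⁅u * x ^ i * y ^ j * ζ, v₀⁆ ∈ zpowers ⁅x, y⁆ → ⁅u, v₀⁆ ∈ zpowers ⁅x, y⁆ := by
    intro u ζ hζ i j h
    rw [c3b_comm_family hc x y u ζ hζ i j v₀] at h
    have h1 := (Subgroup.mul_mem_cancel_right (zpowers ⁅x, y⁆) (zpow_mem (hyv v₀) j)).mp h
    exact (Subgroup.mul_mem_cancel_right (zpowers ⁅x, y⁆) (zpow_mem (hxv v₀) i)).mp h1
  obtain ⟨s, hs⟩ := mem_zpowers_iff.mp (show ⁅w₀, x⁆ ∈ zpowers ⁅x, y⁆ by
    rw [← commutatorElement_inv x w₀]
    exact inv_mem (hxv w₀))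
  obtain ⟨t, ht⟩ := mem_zpowers_iff.mp (show ⁅w₀, y⁆ ∈ zpowers ⁅x, y⁆ by
    rw [← commutatorElement_inv y w₀]
    exact inv_mem (hyv w₀))
  obtain ⟨w, hw⟩ : ∃ w : G, w = w₀ * x ^ (-t) * y ^ s * 1 := ⟨_, rfl⟩
  have hwx : ⁅w, x⁆ = 1 := by
    rw [hw, c3b_comm_family hc x y w₀ 1 (one_mem _) (-t) s x, commutatorElement_self, one_zpow,
      mul_one, ← hs, ← commutatorElement_inv x y, inv_zpow, mul_inv_cancel]
  have hwy : ⁅w, y⁆ = 1 := by
    rw [hw, c3b_comm_family hc x y w₀ 1 (one_mem _) (-t) s y, commutatorElement_self, one_zpow,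
      mul_one, ← ht, zpow_neg, mul_inv_cancel]
  have hwv : ⁅w, v₀⁆ ∉ zpowers ⁅x, y⁆ := by
    intro h
    rw [hw] at h
    exact hw₀ (hcancel w₀ 1 (one_mem _) (-t) s h)
  have : NeZero p := ⟨hp.ne_zero⟩
  obtain ⟨f, hf⟩ : ∃ f : {ij : Fin p × Fin p // ij ≠ 0} × center G → G,
      ∀ t, f t = w * x ^ ((t.1.1.1 : ℕ) : ℤ) * y ^ ((t.1.1.2 : ℕ) : ℤ) * (t.2 : G) :=
    ⟨_, fun _ => rfl⟩
  have hfy : ∀ t, ⁅f t, y⁆ = ⁅x, y⁆ ^ (t.1.1.1 : ℕ) := by
    intro t
    rw [hf, c3b_comm_family hc x y w _ t.2.2, hwy, commutatorElement_self, one_zpow, mul_one,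
      one_mul, zpow_natCast]
  have hfx : ∀ t, ⁅f t, x⁆ = ⁅y, x⁆ ^ (t.1.1.2 : ℕ) := by
    intro t
    rw [hf, c3b_comm_family hc x y w _ t.2.2, hwx, commutatorElement_self, one_zpow, mul_one,
      one_mul, zpow_natCast]
  have hinj : Function.Injective f := by
    intro t t' h
    have h1 : ⁅x, y⁆ ^ (t.1.1.1 : ℕ) = ⁅x, y⁆ ^ (t'.1.1.1 : ℕ) := by rw [← hfy, ← hfy, h]
    have h2 : ⁅y, x⁆ ^ (t.1.1.2 : ℕ) = ⁅y, x⁆ ^ (t'.1.1.2 : ℕ) := by rw [← hfx, ← hfx, h]
    have h3 : (t.1.1.1 : ℕ) = (t'.1.1.1 : ℕ) :=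
      pow_injOn_Iio_orderOf (by rw [hord]; exact t.1.1.1.2) (by rw [hord]; exact t'.1.1.1.2) h1
    have h4 : (t.1.1.2 : ℕ) = (t'.1.1.2 : ℕ) :=
      pow_injOn_Iio_orderOf (by rw [hord']; exact t.1.1.2.2) (by rw [hord']; exact t'.1.1.2.2) h2
    rw [hf, hf, h3, h4] at h
    have h5 : (t.2 : G) = (t'.2 : G) := mul_left_cancel h
    exact Prod.ext (Subtype.ext (Prod.ext (Fin.ext h3) (Fin.ext h4))) (Subtype.ext h5)
  have hbig : ∀ t, p < (centralizer ({f t} : Set G)).index := by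
    intro t
    by_contra hnb
    have hle : (centralizer ({f t} : Set G)).index ≤ p := Nat.le_of_not_lt hnb
    have hne0 : (t.1.1.1 : ℕ) ≠ 0 ∨ (t.1.1.2 : ℕ) ≠ 0 := by
      by_contra h
      have h1 : (t.1.1.1 : ℕ) = 0 := by
        by_contra h'
        exact h (Or.inl h')
      have h2 : (t.1.1.2 : ℕ) = 0 := by
        by_contra h'
        exact h (Or.inr h')
      exact t.1.2 (Prod.ext (Fin.ext (by rw [h1]; rfl)) (Fin.ext (by rw [h2]; rfl)))
    have hrange : ∃ a ∈ zpowers ⁅x, y⁆, a ≠ 1 ∧ a ∈ (c3bPhi hc (f t)).range := by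
      rcases hne0 with h | h
      · refine ⟨⁅x, y⁆ ^ (t.1.1.1 : ℕ), pow_mem (mem_zpowers _) _, ?_, ⟨y, hfy t⟩⟩
        exact pow_ne_one_of_lt_orderOf h (by rw [hord]; exact t.1.1.1.2)
      · refine ⟨⁅y, x⁆ ^ (t.1.1.2 : ℕ), pow_mem (by
          rw [← commutatorElement_inv x y]
          exact inv_mem (mem_zpowers _)) _, ?_, ⟨x, hfx t⟩⟩
        exact pow_ne_one_of_lt_orderOf h (by rw [hord']; exact t.1.1.2.2)
    obtain ⟨a, haD, ha1, har⟩ := hrange
    have hDa : zpowers a = zpowers ⁅x, y⁆ := c3b_zpowers_eq hp _ hDcard a haD ha1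
    have hle2 : zpowers ⁅x, y⁆ ≤ (c3bPhi hc (f t)).range := by
      rw [← hDa]
      exact (zpowers_le).mpr har
    have heq : zpowers ⁅x, y⁆ = (c3bPhi hc (f t)).range :=
      Subgroup.eq_of_le_of_card_ge hle2 (by rw [c3bPhi_card_range, hDcard]; exact hle)
    have hmem : ⁅f t, v₀⁆ ∈ zpowers ⁅x, y⁆ := by
      rw [heq]
      exact ⟨v₀, rfl⟩
    rw [hf] at hmem
    exact hwv (hcancel w _ t.2.2 _ _ hmem)
  have hinj' : Function.Injective
      (fun t => (⟨f t, hbig t⟩ : {g : G // p < (centralizer ({g} : Set G)).index})) := by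
    intro t t' h
    exact hinj (congrArg Subtype.val h)
  have hcard := Nat.card_le_card_of_injective _ hinj'
  rw [Nat.card_prod] at hcard
  have hcnt : Nat.card {ij : Fin p × Fin p // ij ≠ 0} = p ^ 2 - 1 := by
    rw [Nat.card_eq_fintype_card, Fintype.card_subtype_compl, Fintype.card_subtype_eq,
      Fintype.card_prod, Fintype.card_fin, sq]
  rw [hcnt] at hcard
  exact absurd hb (not_lt.mpr hcard)

end Cfsg.Agent.Lib.helper18.S4067
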