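import Mathlib
import Cfsg.Agent.Lib.helper26.S4409Defs
import Cfsg.Agent.Lib.helper16.S4409_QZ
import Cfsg.Agent.Lib.helper54.S4409_SPEC

/-!
S4409 split project (architect helper26), piece CP32 (racing copy `h18_cp32`): the central product of
two quaternion groups with amalgamated centres is extraspecial of order 32.
-/

set_option autoImplicit false

namespace Cfsg.Agent.Lib.helper26.S4409

variable {G : Type*} [Group G]

open scoped commutatorElement

theorem h18_mem_zpowers_invol (z g : G) (hz : z * z = 1) (hg : g ∈ Subgroup.zpowers z) :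
    g = 1 ∨ g = z := by
  obtain ⟨k, rfl⟩ := Subgroup.mem_zpowers_iff.mp hg
  have h2 : z ^ (2 : ℤ) = 1 := by rw [zpow_two]; exact hz
  rcases Int.even_or_odd' k with ⟨j, rfl | rfl⟩
  · left; rw [zpow_mul, h2, one_zpow]
  · right; rw [zpow_add_one, zpow_mul, h2, one_zpow, one_mul]

theorem h18_q8_pow4 (M : Subgroup G) (hQ : IsQ8 M) (m : G) (hm : m ∈ M) : m * m * (m * m) = 1 := by
  obtain ⟨e⟩ := hQ
  have h1 : ∀ x : QuaternionGroup 2, x * x * (x * x) = 1 := by decide
  have h2 := h1 (e ⟨m, hm⟩)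
  rw [← map_mul, ← map_mul] at h2
  have h3 := e.injective (h2.trans (map_one e).symm)
  exact congrArg Subtype.val h3

theorem h18_q8_noncomm (M : Subgroup G) (hQ : IsQ8 M) : ∃ m ∈ M, ∃ m' ∈ M, m * m' ≠ m' * m := by
  obtain ⟨e⟩ := hQ
  have h1 : (QuaternionGroup.a 1 : QuaternionGroup 2) * QuaternionGroup.xa 0 ≠
      QuaternionGroup.xa 0 * QuaternionGroup.a 1 := by decide
  refine ⟨(e.symm (QuaternionGroup.a 1) : G), (e.symm (QuaternionGroup.a 1)).2,
    (e.symm (QuaternionGroup.xa 0) : G), (e.symm (QuaternionGroup.xa 0)).2, ?_⟩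
  intro h
  apply h1
  have h2 : e.symm (QuaternionGroup.a 1) * e.symm (QuaternionGroup.xa 0) =
      e.symm (QuaternionGroup.xa 0) * e.symm (QuaternionGroup.a 1) := Subtype.ext h
  rw [← map_mul, ← map_mul] at h2
  exact e.symm.injective h2

/-- CP32 (racing copy, verbatim statement). -/
theorem h18_cp32 [Finite G] (M C : Subgroup G) (hM : IsQ8 M) (hC : IsQ8 C)
    (hMC : C ≤ Subgroup.centralizer (M : Set G)) (hne : M ⊓ C ≠ ⊥) :
    Cfsg.IsExtraspecial 2 ↥(M ⊔ C : Subgroup G) ∧ Nat.card ↥(M ⊔ C : Subgroup G) = 32 := by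
  classical
  have hcomm : ∀ m ∈ M, ∀ c ∈ C, m * c = c * m := fun m hm c hc =>
    (Subgroup.mem_centralizer_iff.mp (hMC hc)) m hm
  obtain ⟨z, hzM, hz1, hzz, huM, hZM, hcardM⟩ := qz M hM
  obtain ⟨z', hz'C, hz'1, hz'z', huC, hZC, hcardC⟩ := qz C hC
  have hMCz : ∀ g, g ∈ M → g ∈ C → g = 1 ∨ g = z := by
    intro g hgM hgC
    have hmem : g ∈ M ⊓ Subgroup.centralizer (M : Set G) := ⟨hgM, hMC hgC⟩
    rw [hZM] at hmem
    exact h18_mem_zpowers_invol z g hzz hmem
  have hMCz' : ∀ g, g ∈ M → g ∈ C → g = 1 ∨ g = z' := by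
    intro g hgM hgC
    have hmem : g ∈ C ⊓ Subgroup.centralizer (C : Set G) :=
      Subgroup.mem_inf.mpr ⟨hgC, Subgroup.mem_centralizer_iff.mpr
        (fun c hc => (hcomm g hgM c hc).symm)⟩
    rw [hZC] at hmem
    exact h18_mem_zpowers_invol z' g hz'z' hmem
  obtain ⟨g, hg, hg1⟩ : ∃ g ∈ M ⊓ C, g ≠ 1 := by
    by_contra hcon
    apply hne
    rw [Subgroup.eq_bot_iff_forall]
    intro x hx
    by_contra hx1
    exact hcon ⟨x, hx, hx1⟩
  have hgz : g = z := (hMCz g hg.1 hg.2).resolve_left hg1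
  have hgz' : g = z' := (hMCz' g hg.1 hg.2).resolve_left hg1
  have hzz' : z' = z := hgz'.symm.trans hgz
  have hzC : z ∈ C := by rw [← hzz']; exact hz'C
  have hZC' : C ⊓ Subgroup.centralizer (C : Set G) = Subgroup.zpowers z := by rw [← hzz']; exact hZC
  have hzcM : ∀ m ∈ M, m * z = z * m := by
    intro m hm
    have hmem : z ∈ M ⊓ Subgroup.centralizer (M : Set G) := by
      rw [hZM]; exact Subgroup.mem_zpowers z
    exact (Subgroup.mem_centralizer_iff.mp hmem.2) m hm
  have hzcC : ∀ c ∈ C, c * z = z * c := by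
    intro c hc
    have hmem : z ∈ C ⊓ Subgroup.centralizer (C : Set G) := by
      rw [hZC']; exact Subgroup.mem_zpowers z
    exact (Subgroup.mem_centralizer_iff.mp hmem.2) c hc
  have hsqM : ∀ m ∈ M, m * m = 1 ∨ m * m = z := fun m hm =>
    huM (m * m) (mul_mem hm hm) (h18_q8_pow4 M hM m hm)
  have hsqC : ∀ c ∈ C, c * c = 1 ∨ c * c = z := fun c hc =>
    (huC (c * c) (mul_mem hc hc) (h18_q8_pow4 C hC c hc)).imp id (fun h => h.trans hzz')
  let φ : ↥M × ↥C →* G :=
    MonoidHom.noncommCoprod M.subtype C.subtype (fun m c => hcomm m m.2 c c.2)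
  have hφ : ∀ x : ↥M × ↥C, φ x = (x.1 : G) * (x.2 : G) := fun x => rfl
  have hrange : φ.range = M ⊔ C := by
    have h0 := MonoidHom.noncommCoprod_range M.subtype C.subtype
      (fun m c => hcomm m m.2 c c.2)
    rw [Subgroup.range_subtype, Subgroup.range_subtype] at h0
    exact h0
  have hdec : ∀ g ∈ M ⊔ C, ∃ m ∈ M, ∃ c ∈ C, g = m * c := by
    intro g hg
    rw [← hrange] at hg
    obtain ⟨⟨m, c⟩, rfl⟩ := hg
    exact ⟨m, m.2, c, c.2, rfl⟩
  have hker : Nat.card φ.ker = 2 := by
    let g₀ : ↥M × ↥C := (⟨z, hzM⟩, ⟨z, hzC⟩)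
    have hg₀ : g₀ ∈ φ.ker := by
      rw [MonoidHom.mem_ker, hφ]; exact hzz
    have hkz : φ.ker = Subgroup.zpowers g₀ := by
      apply le_antisymm
      · rintro ⟨m, c⟩ hmc
        rw [MonoidHom.mem_ker, hφ] at hmc
        have hmC : (m : G) ∈ C := by
          have h1 : (m : G) = (c : G)⁻¹ := eq_inv_of_mul_eq_one_left hmc
          rw [h1]; exact inv_mem c.2
        rcases hMCz m m.2 hmC with h1 | h1
        · have hc1 : (c : G) = 1 := by
            have h2 : (m : G) * (c : G) = 1 := hmc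
            rw [h1, one_mul] at h2; exact h2
          have h3 : (m, c) = (1 : ↥M × ↥C) := Prod.ext (Subtype.ext h1) (Subtype.ext hc1)
          rw [h3]; exact one_mem _
        · have hc1 : (c : G) = z := by
            have h2 : (m : G) * (c : G) = 1 := hmc
            rw [h1] at h2
            have h4 : (c : G) = z⁻¹ := eq_inv_of_mul_eq_one_right h2
            rw [h4]; exact inv_eq_of_mul_eq_one_left hzz
          have h3 : (m, c) = g₀ := Prod.ext (Subtype.ext h1) (Subtype.ext hc1)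
          rw [h3]; exact Subgroup.mem_zpowers g₀
      · exact (Subgroup.zpowers_le).mpr hg₀
    rw [hkz, Nat.card_zpowers]
    apply orderOf_eq_prime
    · rw [pow_two]
      exact Prod.ext (Subtype.ext hzz) (Subtype.ext hzz)
    · intro h
      exact hz1 (congrArg (fun x : ↥M × ↥C => (x.1 : G)) h)
  have hcard : Nat.card ↥(M ⊔ C : Subgroup G) = 32 := by
    have h1 := Subgroup.card_mul_index φ.ker
    rw [Subgroup.index_ker, hker, Nat.card_prod, hcardM, hcardC] at h1
    have h2 : Nat.card ↥φ.range = Nat.card ↥(M ⊔ C : Subgroup G) :=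
      congrArg (fun S : Subgroup G => Nat.card ↥S) hrange
    omega
  have hzP : z ∈ M ⊔ C := Subgroup.mem_sup_left hzM
  let zP : ↥(M ⊔ C : Subgroup G) := ⟨z, hzP⟩
  have hzcen : ∀ g ∈ M ⊔ C, g * z = z * g := by
    intro g hg
    obtain ⟨m, hm, c, hc, rfl⟩ := hdec g hg
    rw [mul_assoc, hzcC c hc, ← mul_assoc, hzcM m hm, mul_assoc]
  have hsq : ∀ g ∈ M ⊔ C, g * g = 1 ∨ g * g = z := by
    intro g hg
    obtain ⟨m, hm, c, hc, rfl⟩ := hdec g hg
    have e : m * c * (m * c) = (m * m) * (c * c) := by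
      rw [mul_assoc m c, ← mul_assoc c m c, ← hcomm m hm c hc, mul_assoc m c c, ← mul_assoc m m]
    rw [e]
    rcases hsqM m hm with h1 | h1 <;> rcases hsqC c hc with h2 | h2 <;> rw [h1, h2]
    · left; exact one_mul 1
    · right; exact one_mul z
    · right; exact mul_one z
    · left; exact hzz
  have hcen : Subgroup.center ↥(M ⊔ C : Subgroup G) = Subgroup.zpowers zP := by
    apply le_antisymm
    · intro p hp
      rw [Subgroup.mem_center_iff] at hp
      obtain ⟨m, hm, c, hc, hpe⟩ := hdec p p.2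
      have hmz : m = 1 ∨ m = z := by
        have hmem : m ∈ M ⊓ Subgroup.centralizer (M : Set G) := by
          refine Subgroup.mem_inf.mpr ⟨hm, Subgroup.mem_centralizer_iff.mpr ?_⟩
          intro m' hm'
          have h1 := congrArg Subtype.val (hp ⟨m', Subgroup.mem_sup_left hm'⟩)
          have h2 : m' * (m * c) = m * c * m' := by rw [← hpe]; exact h1
          have h3 : m * c * m' = m * m' * c := by
            rw [mul_assoc, ← hcomm m' hm' c hc, ← mul_assoc]
          rw [h3, ← mul_assoc] at h2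
          exact mul_right_cancel h2
        rw [hZM] at hmem
        exact h18_mem_zpowers_invol z m hzz hmem
      have hcz : c = 1 ∨ c = z := by
        have hmem : c ∈ C ⊓ Subgroup.centralizer (C : Set G) := by
          refine Subgroup.mem_inf.mpr ⟨hc, Subgroup.mem_centralizer_iff.mpr ?_⟩
          intro c' hc'
          have h1 := congrArg Subtype.val (hp ⟨c', Subgroup.mem_sup_right hc'⟩)
          have h2 : c' * (m * c) = m * c * c' := by rw [← hpe]; exact h1
          have h3 : c' * (m * c) = m * (c' * c) := by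
            rw [← mul_assoc, ← hcomm m hm c' hc', mul_assoc]
          rw [h3, mul_assoc] at h2
          exact mul_left_cancel h2
        rw [hZC'] at hmem
        exact h18_mem_zpowers_invol z c hzz hmem
      have hpz : (p : G) = 1 ∨ (p : G) = z := by
        rw [hpe]
        rcases hmz with h1 | h1 <;> rcases hcz with h2 | h2 <;> rw [h1, h2]
        · left; exact one_mul 1
        · right; exact one_mul z
        · right; exact mul_one z
        · left; exact hzz
      rcases hpz with h1 | h1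
      · have h4 : p = 1 := Subtype.ext h1
        rw [h4]; exact one_mem _
      · have h4 : p = zP := Subtype.ext h1
        rw [h4]; exact Subgroup.mem_zpowers zP
    · rw [Subgroup.zpowers_le, Subgroup.mem_center_iff]
      intro p
      exact Subtype.ext (hzcen p p.2)
  have hsqP : ∀ x : ↥(M ⊔ C : Subgroup G), x * x ∈ Subgroup.center ↥(M ⊔ C : Subgroup G) := by
    intro x
    rw [hcen]
    rcases hsq x x.2 with h1 | h1
    · have h4 : x * x = 1 := Subtype.ext h1
      rw [h4]; exact one_mem _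
    · have h4 : x * x = zP := Subtype.ext h1
      rw [h4]; exact Subgroup.mem_zpowers zP
  have hcomm_eq : _root_.commutator ↥(M ⊔ C : Subgroup G) =
      Subgroup.center ↥(M ⊔ C : Subgroup G) := by
    apply le_antisymm
    · rw [commutator_eq_closure, Subgroup.closure_le]
      rintro _ ⟨a, b, rfl⟩
      have e : ⁅a, b⁆ = (a * a) * ((a⁻¹ * b) * (a⁻¹ * b)) * (b⁻¹ * b⁻¹) := by
        rw [commutatorElement_def]; group
      rw [e]
      exact mul_mem (mul_mem (hsqP a) (hsqP _)) (hsqP _)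
    · rw [hcen, Subgroup.zpowers_le]
      obtain ⟨m₁, hm₁, m₂, hm₂, hnc⟩ := h18_q8_noncomm M hM
      have hk : m₁ * m₂ * m₁⁻¹ * m₂⁻¹ = z := by
        have e : m₁ * m₂ * m₁⁻¹ * m₂⁻¹ =
            (m₁ * m₁) * ((m₁⁻¹ * m₂) * (m₁⁻¹ * m₂)) * (m₂⁻¹ * m₂⁻¹) := by group
        have hk1 : m₁ * m₂ * m₁⁻¹ * m₂⁻¹ ≠ 1 := by
          intro h
          apply hnc
          have h5 := mul_inv_eq_one.mp h
          exact mul_inv_eq_iff_eq_mul.mp h5
        have hz3 : ∀ x y w : G, (x = 1 ∨ x = z) → (y = 1 ∨ y = z) → (w = 1 ∨ w = z) →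
            (x * y * w = 1 ∨ x * y * w = z) := by
          rintro x y w (hx | hx) (hy | hy) (hw | hw) <;> rw [hx, hy, hw] <;> simp [hzz]
        have h6 := hz3 _ _ _ (hsqM m₁ hm₁)
          (hsqM (m₁⁻¹ * m₂) (mul_mem (inv_mem hm₁) hm₂)) (hsqM m₂⁻¹ (inv_mem hm₂))
        rw [← e] at h6
        exact h6.resolve_left hk1
      have h7 : zP = ⁅(⟨m₁, Subgroup.mem_sup_left hm₁⟩ : ↥(M ⊔ C : Subgroup G)),
          ⟨m₂, Subgroup.mem_sup_left hm₂⟩⁆ := by
        apply Subtype.ext
        rw [commutatorElement_def]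
        exact hk.symm
      rw [h7]
      exact Subgroup.commutator_mem_commutator (Subgroup.mem_top _) (Subgroup.mem_top _)
  have hP : IsPGroup 2 ↥(M ⊔ C : Subgroup G) :=
    IsPGroup.of_card (n := 5) (by rw [hcard]; norm_num)
  refine ⟨⟨spec hP hcomm_eq hsqP, ?_⟩, hcard⟩
  rw [hcen, Nat.card_zpowers]
  apply orderOf_eq_prime
  · rw [pow_two]; exact Subtype.ext hzz
  · intro h; exact hz1 (congrArg Subtype.val h)

end Cfsg.Agent.Lib.helper26.S4409
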