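import Mathlib

/-!
Piece ARITH of the S4706 split (architect helper80): the counting argument.
-/

set_option autoImplicit false

namespace Cfsg.Agent.Lib.helper18.S4706

theorem s4706_descFactorial_two (j : ℕ) : ((j.descFactorial 2 : ℕ) : ℤ) = (j : ℤ) * (j - 1) := by
  rcases j with _ | j
  · simp
  · simp [Nat.descFactorial]
    ring

theorem s4706_descFactorial_three (j : ℕ) :
    ((j.descFactorial 3 : ℕ) : ℤ) = (j : ℤ) * (j - 1) * (j - 2) := by
  rcases j with _ | _ | j
  · simp
  · simp [Nat.descFactorial]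
  · simp [Nat.descFactorial]
    ring

/-- (ARITH) the counting argument. -/
theorem count_arith {ι : Type*} [Fintype ι] (f : ι → ℕ) (n : ℕ) (hn : 3 ≤ n)
    (hf : ∀ i, f i ≤ n) (h1 : ∑ i, f i = Fintype.card ι)
    (h2 : ∑ i, (f i).descFactorial 2 = Fintype.card ι)
    (h3 : ∑ i, (f i).descFactorial 3 = Fintype.card ι)
    (hD : (n - 1) * Fintype.card ι ≤ 2 * n * (Finset.univ.filter (fun i => f i = 0)).card) :
    ∀ i, f i ≤ 2 ∨ f i = n := by
  classical
  have c1 : (∑ i, (f i : ℤ)) = (Fintype.card ι : ℤ) := by exact_mod_cast h1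
  have c2 : (∑ i, ((f i).descFactorial 2 : ℤ)) = (Fintype.card ι : ℤ) := by exact_mod_cast h2
  have c3 : (∑ i, ((f i).descFactorial 3 : ℤ)) = (Fintype.card ι : ℤ) := by exact_mod_cast h3
  have hDz : ((n : ℤ) - 1) * (Fintype.card ι : ℤ) ≤
      2 * (n : ℤ) * ((Finset.univ.filter (fun i => f i = 0)).card : ℤ) := by
    have h1n : 1 ≤ n := by omega
    have h := hD
    have hc : (((n - 1 : ℕ) : ℤ)) = (n : ℤ) - 1 := by
      rw [Nat.cast_sub h1n, Nat.cast_one]
    have h' : (((n - 1) * Fintype.card ι : ℕ) : ℤ) ≤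
        ((2 * n * (Finset.univ.filter (fun i => f i = 0)).card : ℕ) : ℤ) := by
      exact_mod_cast h
    rw [Nat.cast_mul, hc] at h'
    rw [Nat.cast_mul, Nat.cast_mul] at h'
    exact_mod_cast h'
  let h : ι → ℤ := fun i =>
    ((f i : ℤ) - 1) * ((f i : ℤ) - 2) * ((n : ℤ) - f i) - (if f i = 0 then 2 * (n : ℤ) else 0)
  have hnonneg : ∀ i, 0 ≤ h i := by
    intro i
    by_cases h0 : f i = 0
    · have : h i = 0 := by
        simp only [h, h0, if_true, Nat.cast_zero]
        ring
      rw [this]
    · have hle : (f i : ℤ) ≤ (n : ℤ) := by exact_mod_cast hf i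
      have hh : h i = ((f i : ℤ) - 1) * ((f i : ℤ) - 2) * ((n : ℤ) - f i) := by
        simp only [h, if_neg h0, sub_zero]
      rw [hh]
      rcases Nat.lt_or_ge (f i) 2 with hlt | hge
      · have h1' : f i = 1 := by omega
        simp [h1']
      · have h2' : (2 : ℤ) ≤ (f i : ℤ) := by exact_mod_cast hge
        exact mul_nonneg (mul_nonneg (by linarith) (by linarith)) (by linarith)
  have hite : (∑ i, (if f i = 0 then 2 * (n : ℤ) else 0)) =
      2 * (n : ℤ) * ((Finset.univ.filter (fun i => f i = 0)).card : ℤ) := by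
    rw [Finset.sum_ite, Finset.sum_const, Finset.sum_const_zero, add_zero, nsmul_eq_mul]
    ring
  have hsum : ∑ i, h i = ((n : ℤ) - 1) * (Fintype.card ι : ℤ) -
      2 * (n : ℤ) * ((Finset.univ.filter (fun i => f i = 0)).card : ℤ) := by
    have e : ∀ i, h i = -((f i).descFactorial 3 : ℤ) + (n : ℤ) * ((f i).descFactorial 2 : ℤ)
        - 2 * (n : ℤ) * (f i : ℤ) + 2 * (n : ℤ) - (if f i = 0 then 2 * (n : ℤ) else 0) := by
      intro i
      simp only [h]
      rw [s4706_descFactorial_two, s4706_descFactorial_three]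
      ring
    rw [Finset.sum_congr rfl (fun i _ => e i)]
    rw [Finset.sum_sub_distrib, Finset.sum_add_distrib, Finset.sum_sub_distrib,
      Finset.sum_add_distrib, Finset.sum_neg_distrib, ← Finset.mul_sum, ← Finset.mul_sum,
      c1, c2, c3, hite, Finset.sum_const, Finset.card_univ, nsmul_eq_mul]
    ring
  have hle0 : ∑ i, h i ≤ 0 := by
    rw [hsum]
    linarith
  have hzero : ∀ i, h i = 0 := by
    have := (Finset.sum_eq_zero_iff_of_nonneg (fun i _ => hnonneg i)).mp
      (le_antisymm hle0 (Finset.sum_nonneg (fun i _ => hnonneg i)))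
    intro i
    exact this i (Finset.mem_univ i)
  intro i
  by_cases h0 : f i = 0
  · left
    omega
  · have hh : ((f i : ℤ) - 1) * ((f i : ℤ) - 2) * ((n : ℤ) - f i) = 0 := by
      have := hzero i
      simp only [h, if_neg h0, sub_zero] at this
      exact this
    rcases mul_eq_zero.mp hh with h12 | hn'
    · rcases mul_eq_zero.mp h12 with ha | hb
      · left
        have : (f i : ℤ) = 1 := by linarith
        have : f i = 1 := by exact_mod_cast this
        omega
      · left
        have : (f i : ℤ) = 2 := by linarith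
        have : f i = 2 := by exact_mod_cast this
        omega
    · right
      have : (f i : ℤ) = (n : ℤ) := by linarith
      exact_mod_cast this

end Cfsg.Agent.Lib.helper18.S4706
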