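import Mathlib
import Cfsg.Agent.Lib.helper32.Sieve2
import Cfsg.Agent.Lib.helper18.SylKill

/-!
Certificates for the elementary exclusion of an order `n` of a non-abelian finite simple group:
Sylow counting at a given prime, Burnside's two-prime theorem for given primes, or the
Brauer–Tuan rule.
-/

set_option autoImplicit false

namespace Cfsg.Agent.Lib.helper18

open Cfsg.Agent.Lib.helper11 Cfsg.Agent.Lib.helper32

/-- primality below `6400` by trial division up to the square root -/
def sPrimeS (p : ℕ) : Bool :=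
  decide (2 ≤ p) && (decide (p < 6400) && (List.range 80).all fun d =>
    decide (d < 2) || (decide (p < d * d) || !decide (p % d = 0)))

theorem sPrimeS_sound {p : ℕ} (h : sPrimeS p = true) : p.Prime := by
  unfold sPrimeS at h
  rw [Bool.and_eq_true, Bool.and_eq_true, decide_eq_true_eq, decide_eq_true_eq,
    List.all_eq_true] at h
  obtain ⟨h2, hlt, hall⟩ := h
  rw [Nat.prime_def_le_sqrt]
  refine ⟨h2, fun m hm2 hms hdvd => ?_⟩
  rw [Nat.le_sqrt] at hms
  have hm80 : m < 80 := by
    by_contra hge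
    have h80 : 80 ≤ m := by omega
    have : 80 * 80 ≤ m * m := Nat.mul_le_mul h80 h80
    omega
  have := hall m (List.mem_range.mpr hm80)
  simp only [Bool.or_eq_true, decide_eq_true_eq, Bool.not_eq_true', decide_eq_false_iff_not]
    at this
  rcases this with h' | h' | h'
  · omega
  · omega
  · exact h' (Nat.mod_eq_zero_of_dvd hdvd)

/-- a certificate `(n, p, k, q)` -/
abbrev Cert := ℕ × ℕ × ℕ × ℕ

/-- check of a certificate: for `k ≠ 0`, Sylow counting at `p ^ k`; for `k = 0`, `p ≠ 0`, the
order is a product of powers of `p` and `q`; for `k = 0`, `p = 0`, the Brauer–Tuan rule -/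
def certOK (x : Cert) : Bool :=
  if x.2.2.1 ≠ 0 then
    sPrimeS x.2.1 && (decide (x.2.1 ^ x.2.2.1 ∣ x.1) &&
      (!decide (x.2.1 ∣ x.1 / x.2.1 ^ x.2.2.1) &&
        sylowKill x.2.1 x.2.2.1 (x.1 / x.2.1 ^ x.2.2.1)))
  else if x.2.1 ≠ 0 then
    sPrimeS x.2.1 && (sPrimeS x.2.2.2 && decide (stripP x.2.2.2 20 (stripP x.2.1 20 x.1) = 1))
  else btKill x.1

theorem card_ne_of_certOK {G : Type*} [Group G] [Finite G] [IsSimpleGroup G]
    (hG : ¬ IsMulCommutative G) (x : Cert) (h : certOK x = true) : Nat.card G ≠ x.1 := by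
  obtain ⟨n, p, k, q⟩ := x
  unfold certOK at h
  simp only at h ⊢
  split_ifs at h with h1 h2
  · rw [Bool.and_eq_true, Bool.and_eq_true, Bool.and_eq_true, decide_eq_true_eq,
      Bool.not_eq_true', decide_eq_false_iff_not] at h
    obtain ⟨hp, hdvd, hnd, hkill⟩ := h
    have := card_ne_of_sylowKill (G := G) (not_isCyclic_of_not_comm hG) p k (n / p ^ k)
      (sPrimeS_sound hp) (Nat.pos_of_ne_zero h1) hnd hkill
    rwa [Nat.mul_div_cancel' hdvd] at this
  · rw [Bool.and_eq_true, Bool.and_eq_true, decide_eq_true_eq] at h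
    obtain ⟨hp, hq, hstrip⟩ := h
    obtain ⟨a, ha⟩ := stripP_spec p 20 n
    obtain ⟨b, hb⟩ := stripP_spec q 20 (stripP p 20 n)
    rw [hstrip, mul_one] at hb
    rw [hb] at ha
    intro hn
    have hsol : Group.IsSolvable G :=
      Cfsg.Agent.S0144.result p q a b (sPrimeS_sound hp) (sPrimeS_sound hq) (by rw [hn, ← ha])
    have hcomm := IsSimpleGroup.comm_iff_isSolvable.mpr hsol
    exact hG ⟨⟨hcomm⟩⟩
  · exact card_ne_of_btKill n h

/-- the orders of the non-abelian simple groups between 3641 and 6232 -/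
def s983Real : List ℕ := [4080, 5616, 6048, 6072]

/-- the orders between 3641 and 6232 excluded by separate arguments -/
def s983Adhoc : List ℕ :=
  [3648, 3744, 4032, 4320, 5040, 5472, 5760, 3780, 3960, 4200, 4212, 4368, 4500, 4680, 4725,
   4760, 4896, 4900, 4960, 5104, 5148, 5220, 5292, 5400, 5460, 5600, 5700, 5724, 5880, 5940,
   6000, 6160]

/-- the check of an entry of a chunk: either the order is in one of the three lists (entries
`(n, 1, 0, 0)`), or the entry is a valid certificate -/
def S983Entry (x : Cert) : Prop :=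
  (x.2.1 = 1 ∧ x.2.2.1 = 0 ∧ (x.1 ∈ s983Real ∨ x.1 ∈ s983Adhoc ∨ x.1 ∈ h18List)) ∨
    certOK x = true

instance (x : Cert) : Decidable (S983Entry x) := by
  unfold S983Entry; infer_instance

/-- a chunk: entries for all the orders from `a` to `a + len - 1` -/
def S983Chunk (a len : ℕ) (certs : List Cert) : Prop :=
  certs.map (fun x => x.1) = List.range' a len ∧ ∀ x ∈ certs, S983Entry x

instance (a len : ℕ) (certs : List Cert) : Decidable (S983Chunk a len certs) := by
  unfold S983Chunk; infer_instance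

theorem s983_of_chunk {G : Type*} [Group G] [Finite G] [IsSimpleGroup G]
    (hG : ¬ IsMulCommutative G) (hadhoc : ∀ n ∈ s983Adhoc, Nat.card G ≠ n) (a len : ℕ)
    (certs : List Cert) (h : S983Chunk a len certs) (h1 : a ≤ Nat.card G)
    (h2 : Nat.card G < a + len) : Nat.card G ∈ s983Real := by
  obtain ⟨hmap, hall⟩ := h
  have hmem : Nat.card G ∈ certs.map (fun x => x.1) := by
    rw [hmap, List.mem_range'_1]
    exact ⟨h1, h2⟩
  rw [List.mem_map] at hmem
  obtain ⟨x, hx, hxn⟩ := hmem
  rcases hall x hx with ⟨-, -, h | h | h⟩ | h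
  · rw [hxn] at h; exact h
  · rw [hxn] at h; exact absurd rfl (hadhoc _ h)
  · rw [hxn] at h; exact absurd rfl (card_ne_of_mem_h18List _ h)
  · exact absurd hxn.symm (card_ne_of_certOK hG x h)

end Cfsg.Agent.Lib.helper18
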