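import Mathlib
import Cfsg.Agent.Lib.helper18.S983C1
import Cfsg.Agent.Lib.helper18.S983C2
import Cfsg.Agent.Lib.helper18.S983C3
import Cfsg.Agent.Lib.helper18.S983C4
import Cfsg.Agent.Lib.helper18.S983C5
import Cfsg.Agent.Lib.helper18.S983C6
import Cfsg.Agent.Lib.helper18.S983C7
import Cfsg.Agent.Lib.helper18.S983C8
import Cfsg.Agent.Lib.helper18.S983C9
import Cfsg.Agent.Lib.helper18.S983C10
import Cfsg.Agent.Lib.helper18.S983C11
import Cfsg.Agent.Lib.helper18.S983C12

/-!
A non-abelian finite simple group of order between 3641 and 6232 has order 4080, 5616, 6048 or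
6072, given the exclusion of the orders of `s983Adhoc`.
-/

set_option autoImplicit false

namespace Cfsg.Agent.Lib.helper18

theorem s983_main {G : Type*} [Group G] [Finite G] [IsSimpleGroup G] (hG : ¬ IsMulCommutative G)
    (hadhoc : ∀ n ∈ s983Adhoc, Nat.card G ≠ n) (h1 : 3640 < Nat.card G)
    (h2 : Nat.card G ≤ 6232) : Nat.card G ∈ s983Real := by
  by_cases c1 : Nat.card G < 3857
  · exact s983_of_chunk hG hadhoc 3641 216 _ s983_chunk1 (by omega) (by omega)
  by_cases c2 : Nat.card G < 4073
  · exact s983_of_chunk hG hadhoc 3857 216 _ s983_chunk2 (by omega) (by omega)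
  by_cases c3 : Nat.card G < 4289
  · exact s983_of_chunk hG hadhoc 4073 216 _ s983_chunk3 (by omega) (by omega)
  by_cases c4 : Nat.card G < 4505
  · exact s983_of_chunk hG hadhoc 4289 216 _ s983_chunk4 (by omega) (by omega)
  by_cases c5 : Nat.card G < 4721
  · exact s983_of_chunk hG hadhoc 4505 216 _ s983_chunk5 (by omega) (by omega)
  by_cases c6 : Nat.card G < 4937
  · exact s983_of_chunk hG hadhoc 4721 216 _ s983_chunk6 (by omega) (by omega)
  by_cases c7 : Nat.card G < 5153
  · exact s983_of_chunk hG hadhoc 4937 216 _ s983_chunk7 (by omega) (by omega)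
  by_cases c8 : Nat.card G < 5369
  · exact s983_of_chunk hG hadhoc 5153 216 _ s983_chunk8 (by omega) (by omega)
  by_cases c9 : Nat.card G < 5585
  · exact s983_of_chunk hG hadhoc 5369 216 _ s983_chunk9 (by omega) (by omega)
  by_cases c10 : Nat.card G < 5801
  · exact s983_of_chunk hG hadhoc 5585 216 _ s983_chunk10 (by omega) (by omega)
  by_cases c11 : Nat.card G < 6017
  · exact s983_of_chunk hG hadhoc 5801 216 _ s983_chunk11 (by omega) (by omega)
  exact s983_of_chunk hG hadhoc 6017 216 _ s983_chunk12 (by omega) (by omega)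

end Cfsg.Agent.Lib.helper18
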