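import Mathlib
import Cfsg.Agent.Lib.helper69.SNDefs
import Cfsg.Agent.S0799
import Cfsg.Agent.Lib.helper81.CTsl2
import Cfsg.Agent.Lib.helper7.CardSL
import Cfsg.Agent.Lib.helper16.Sharp3

/-!
# S4073 piece DICKSON (helper18)

Transport of Dickson's subgroup theorem (landed S0799) to a group `G ≃* PSL₂(GaloisField 2 n)`
with `2 ^ n - 1` prime: the possible non-abelian subgroups.
-/

set_option autoImplicit false

namespace Cfsg.Agent.Lib.helper18.SNG

open Cfsg.Agent.Lib.helper69.SNG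

universe u

/-- `|PSL₂(F)| = q (q² - 1)` in characteristic two. -/
theorem h18_card_psl2_char2 {F : Type} [Field F] [Fintype F] [CharP F 2] {q : ℕ}
    (hF : Fintype.card F = q) :
    Nat.card (Matrix.ProjectiveSpecialLinearGroup (Fin 2) F) = q * (q ^ 2 - 1) := by
  have h2 : (2 : F) = 0 := by
    have := CharP.cast_eq_zero F 2
    exact_mod_cast this
  rw [← Nat.card_congr (Cfsg.Agent.Lib.helper81.h81_sl2_equiv_psl2 h2).toEquiv]
  exact Cfsg.Agent.Lib.helper7.card_SL2 hF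

/-- `|PGL₂(F)| = q (q² - 1)` in characteristic two. -/
theorem h18_card_pgl2_char2 {F : Type} [Field F] [Fintype F] [CharP F 2] {q : ℕ}
    (hF : Fintype.card F = q) :
    Nat.card (Matrix.ProjGenLinGroup (Fin 2) F) = q * (q ^ 2 - 1) := by
  obtain ⟨e⟩ := Cfsg.Agent.Lib.helper16.sl2_mulEquiv_pgl2 F
  rw [← Nat.card_congr e.toEquiv]
  exact Cfsg.Agent.Lib.helper7.card_SL2 hF

/-- A finite field whose order has a power equal to `2 ^ n`, `n` prime, has order `2` or `2 ^ n`,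
and characteristic two. -/
theorem h18_subfield_card {K₀ : Type} [Field K₀] [Fintype K₀] {n m : ℕ} (hn : n.Prime)
    (hm : Fintype.card K₀ ^ m = 2 ^ n) :
    CharP K₀ 2 ∧ (Fintype.card K₀ = 2 ∨ Fintype.card K₀ = 2 ^ n) := by
  obtain ⟨p', hchar⟩ := CharP.exists K₀
  obtain ⟨j, hp', hc⟩ := FiniteField.card K₀ p'
  have hm0 : m ≠ 0 := by
    rintro rfl
    rw [pow_zero] at hm
    have : 2 ≤ 2 ^ n := by
      calc 2 = 2 ^ 1 := by norm_num
        _ ≤ 2 ^ n := Nat.pow_le_pow_right (by norm_num) hn.one_lt.le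
    omega
  rw [hc, ← pow_mul] at hm
  have hjm : (j : ℕ) * m ≠ 0 := Nat.mul_ne_zero j.pos.ne' hm0
  have hp2 : p' = 2 := by
    have h1 : p' ∣ 2 ^ n := by
      rw [← hm]; exact dvd_pow_self p' hjm
    exact (Nat.prime_dvd_prime_iff_eq hp' Nat.prime_two).mp (hp'.dvd_of_dvd_pow h1)
  subst hp2
  have hjn : (j : ℕ) * m = n := Nat.pow_right_injective (le_refl 2) hm
  refine ⟨hchar, ?_⟩
  have hjd : (j : ℕ) ∣ n := Dvd.intro m hjn
  rcases hn.eq_one_or_self_of_dvd (j : ℕ) hjd with h1 | h1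
  · left; rw [hc, h1, pow_one]
  · right; rw [hc, h1]

/-- **[DICKSON]** (from `Cfsg.Agent.S0799.result`) -/
theorem psl2_subgroup_types {G : Type u} [Group G] [Finite G] {n : ℕ} (hn : 2 ≤ n)
    (hp : (2 ^ n - 1).Prime)
    (e : G ≃* Matrix.ProjectiveSpecialLinearGroup (Fin 2) (GaloisField 2 n))
    (K : Subgroup G) (hK : ¬ IsMulCommutative K) :
    (∃ k : ℕ, Odd k ∧ Nonempty (K ≃* DihedralGroup k)) ∨
    (∃ (P : Sylow 2 G) (K' : Subgroup G),
        K' ≤ Subgroup.normalizer ((P : Subgroup G) : Set G) ∧ Nonempty (K ≃* K')) ∨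
    Nonempty (K ≃* alternatingGroup (Fin 4)) ∨ Nonempty (K ≃* Equiv.Perm (Fin 4)) ∨
    Nonempty (K ≃* alternatingGroup (Fin 5)) ∨ Nat.card K = 6 ∨ K = ⊤ := by
  classical
  have hp2 : Fact (Nat.Prime 2) := ⟨Nat.prime_two⟩
  let instFt : Fintype (GaloisField 2 n) := Fintype.ofFinite _
  have hF : Fintype.card (GaloisField 2 n) = 2 ^ n := by
    rw [← Nat.card_eq_fintype_card]; exact GaloisField.card 2 n (by omega)
  have hnp : n.Prime := (Nat.prime_of_pow_sub_one_prime (by omega : n ≠ 1) hp).2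
  have hq2 : 2 ≤ 2 ^ n := by
    calc 2 = 2 ^ 1 := by norm_num
      _ ≤ 2 ^ n := Nat.pow_le_pow_right (by norm_num) (by omega)
  have heven : Even (2 ^ n) := (Nat.even_pow' (by omega)).mpr even_two
  have hodd1 : Odd (2 ^ n + 1) := heven.add_one
  have hodd2 : Odd (2 ^ n - 1) := Nat.Even.sub_odd (by omega) heven odd_one
  have hgcd : Nat.gcd 2 (2 ^ n - 1) = 1 := by
    have h1 : Nat.Coprime 2 (2 ^ n - 1) := by
      rw [Nat.Prime.coprime_iff_not_dvd Nat.prime_two]
      intro h2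
      exact (Nat.not_even_iff_odd.mpr hodd2) (even_iff_two_dvd.mpr h2)
    exact h1
  have hcardG : Nat.card G = 2 ^ n * ((2 ^ n) ^ 2 - 1) := by
    rw [Nat.card_congr e.toEquiv]
    exact h18_card_psl2_char2 hF
  obtain ⟨eK⟩ : Nonempty (K ≃* K.map e.toMonoidHom) := ⟨e.subgroupMap K⟩
  rcases Cfsg.Agent.S0799.result hF 2 (K.map e.toMonoidHom) with
    ⟨k, hk, hcd⟩ | ⟨P, K₁, hK₁, ⟨f⟩⟩ | ⟨⟨f⟩⟩ | ⟨⟨f⟩⟩ | ⟨⟨f⟩⟩ | ⟨K₀, instK, instKf, m, hm, hiso⟩
  · rcases hcd with ⟨hcyc, -⟩ | ⟨⟨f⟩⟩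
    · exfalso
      apply hK
      have hH : IsMulCommutative (K.map e.toMonoidHom) := by
        rw [comm_iff_top]
        intro a b
        obtain ⟨g, hg⟩ := hcyc.exists_generator
        obtain ⟨i, rfl⟩ := Subgroup.mem_zpowers_iff.mp (hg a)
        obtain ⟨j, rfl⟩ := Subgroup.mem_zpowers_iff.mp (hg b)
        exact zpow_mul_comm g i j
      exact comm_of_mulEquiv eK.symm hH
    · left
      refine ⟨k, ?_, ⟨eK.trans f⟩⟩
      rw [hgcd, Nat.div_one, Nat.div_one] at hk
      rcases hk with hk | hk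
      · exact Odd.of_dvd_nat hodd1 hk
      · exact Odd.of_dvd_nat hodd2 hk
  · right; left
    have hrange : (P : Subgroup (Matrix.ProjectiveSpecialLinearGroup (Fin 2) (GaloisField 2 n)))
        ≤ e.toMonoidHom.range := by
      rw [MonoidHom.range_eq_top.mpr e.surjective]; exact le_top
    have hinj : Function.Injective (e.toMonoidHom : G →* _) := e.injective
    refine ⟨P.comapOfInjective e.toMonoidHom hinj hrange, K₁.map e.symm.toMonoidHom, ?_,
      ⟨(eK.trans f).trans (e.symm.subgroupMap K₁)⟩⟩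
    rw [Sylow.coe_comapOfInjective]
    rintro x ⟨y, hy, rfl⟩
    rw [Subgroup.mem_normalizer_iff]
    intro g
    have h1 := Subgroup.mem_normalizer_iff.mp (hK₁ hy) (e g)
    simp only [Subgroup.mem_comap]
    simpa using h1
  · right; right; left; exact ⟨eK.trans f⟩
  · right; right; right; left; exact ⟨eK.trans f⟩
  · right; right; right; right; left; exact ⟨eK.trans f⟩
  · right; right; right; right; right
    obtain ⟨hchar, hc⟩ := h18_subfield_card hnp hm
    have hcardK : Nat.card K = Fintype.card K₀ * (Fintype.card K₀ ^ 2 - 1) := by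
      rw [Nat.card_congr eK.toEquiv]
      rcases hiso with ⟨⟨f⟩⟩ | ⟨⟨f⟩⟩
      · rw [Nat.card_congr f.toEquiv]; exact h18_card_psl2_char2 rfl
      · rw [Nat.card_congr f.toEquiv]; exact h18_card_pgl2_char2 rfl
    rcases hc with hc | hc
    · left
      rw [hcardK, hc]
      norm_num
    · right
      apply Subgroup.eq_top_of_card_eq
      rw [hcardK, hc, hcardG]

end Cfsg.Agent.Lib.helper18.SNG
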