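import Mathlib
import Cfsg.Agent.Lib.helper69.SNDefs
import Cfsg.Agent.S0215

/-!
# S4073 piece E1-CORE, core argument (helper18)

The Z*-theorem step: a non-abelian Sylow 2-subgroup `S` with `|S : Z(S)| = 4` of a simple group
leads to a contradiction, given the two fusion lemmas E1-A and E1-B as hypotheses.
-/

set_option autoImplicit false

namespace Cfsg.Agent.Lib.helper18.SNG

open Cfsg.Agent.Lib.helper69.SNG

universe u

theorem h18_core_aux {G : Type u} [Group G] [Finite G] [IsSimpleGroup G]
    (hna : ¬ IsMulCommutative G) (S : Sylow 2 G) (hS : ¬ IsMulCommutative S)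
    (hcen : (Subgroup.center ↥(S : Subgroup G)).index = 4)
    (hA : ∀ z : G, z ∈ S → z ∈ Subgroup.centralizer ((S : Subgroup G) : Set G) → ∀ g : G,
      g * z * g⁻¹ ∈ S → g * z * g⁻¹ ∈ Subgroup.centralizer ((S : Subgroup G) : Set G) →
      g * z * g⁻¹ = z)
    (hB : ∀ z : G, z ∈ S → z ≠ 1 → z ∈ Subgroup.centralizer ((S : Subgroup G) : Set G) →
      ∀ g : G, g * z * g⁻¹ ∈ S →
      2 * Nat.card ↥((S : Subgroup G) ⊓ Subgroup.centralizer ({g * z * g⁻¹} : Set G))
        = Nat.card S → False) : False := by
  classical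
  have hp2 : Fact (Nat.Prime 2) := ⟨Nat.prime_two⟩
  have hSp : IsPGroup 2 ↥(S : Subgroup G) := S.isPGroup'
  have hSnt : Nontrivial ↥(S : Subgroup G) := by
    by_contra hnt
    rw [not_nontrivial_iff_subsingleton] at hnt
    exact hS ⟨⟨fun a b => Subsingleton.elim _ _⟩⟩
  have hZnt : Nontrivial (Subgroup.center ↥(S : Subgroup G)) := hSp.center_nontrivial
  have h2dvd : 2 ∣ Nat.card (Subgroup.center ↥(S : Subgroup G)) := by
    have hZp : IsPGroup 2 (Subgroup.center ↥(S : Subgroup G)) := hSp.to_subgroup _
    obtain ⟨n, hn⟩ := IsPGroup.iff_card.mp hZp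
    have hn0 : n ≠ 0 := by
      rintro rfl
      rw [pow_zero] at hn
      have := Finite.one_lt_card_iff_nontrivial.mpr hZnt
      omega
    rw [hn]; exact dvd_pow_self 2 hn0
  obtain ⟨z0, hz0⟩ :=
    exists_prime_orderOf_dvd_card' (G := Subgroup.center ↥(S : Subgroup G)) 2 h2dvd
  obtain ⟨z, hzdef⟩ : ∃ z : G, z = ((z0 : ↥(S : Subgroup G)) : G) := ⟨_, rfl⟩
  have hzo : orderOf z = 2 := by
    rw [hzdef, Subgroup.orderOf_coe, Subgroup.orderOf_coe]; exact hz0
  have hzS : z ∈ S := by rw [hzdef]; exact (z0 : ↥(S : Subgroup G)).2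
  have hzc : z ∈ Subgroup.centralizer ((S : Subgroup G) : Set G) := by
    rw [Subgroup.mem_centralizer_iff]
    intro s hs
    have h1 := Subgroup.mem_center_iff.mp z0.2 ⟨s, hs⟩
    have h2 := congrArg Subtype.val h1
    rw [hzdef]
    simpa using h2
  have hz1 : z ≠ 1 := by
    intro h1
    rw [h1, orderOf_one] at hzo
    omega
  by_cases hiso : ∀ g : G, g * z * g⁻¹ ∈ S → g * z * g⁻¹ = z
  · obtain ⟨N, hNn, hNodd, hN⟩ := Cfsg.Agent.S0215.result S z hzo hzS hiso
    rcases IsSimpleGroup.eq_bot_or_eq_top_of_normal N hNn with hb | ht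
    · have hzcen : z ∈ Subgroup.center G := by
        rw [Subgroup.mem_center_iff]
        intro g
        have h1 := hN g
        rw [hb, Subgroup.mem_bot] at h1
        have h2 : z * g * z⁻¹ * g⁻¹ * (g * z) = g * z := by rw [h1, one_mul]
        rw [← h2]; group
      rcases IsSimpleGroup.eq_bot_or_eq_top_of_normal (Subgroup.center G) inferInstance
        with hb2 | ht2
      · rw [hb2, Subgroup.mem_bot] at hzcen; exact hz1 hzcen
      · apply hna
        rw [comm_iff_top]
        intro a b
        have ha : a ∈ Subgroup.center G := ht2 ▸ Subgroup.mem_top a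
        exact (Subgroup.mem_center_iff.mp ha b).symm
    · rw [ht, Subgroup.card_top] at hNodd
      have h2 : 2 ∣ Nat.card G := hzo ▸ orderOf_dvd_natCard z
      exact (Nat.not_even_iff_odd.mpr hNodd) (even_iff_two_dvd.mpr h2)
  · obtain ⟨g, hg⟩ := not_forall.mp hiso
    obtain ⟨hgS, hgne⟩ := Classical.not_imp.mp hg
    by_cases hgc : g * z * g⁻¹ ∈ Subgroup.centralizer ((S : Subgroup G) : Set G)
    · exact hgne (hA z hzS hzc g hgS hgc)
    · apply hB z hzS hz1 hzc g hgS
      obtain ⟨z', hz'⟩ : ∃ z' : G, z' = g * z * g⁻¹ := ⟨_, rfl⟩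
      rw [← hz'] at hgS hgc ⊢
      obtain ⟨w, hw⟩ : ∃ w : ↥(S : Subgroup G), w = ⟨z', hgS⟩ := ⟨_, rfl⟩
      have hwval : (w : G) = z' := by rw [hw]
      obtain ⟨C, hC⟩ : ∃ C : Subgroup ↥(S : Subgroup G), C = Subgroup.centralizer {w} :=
        ⟨_, rfl⟩
      have hmemC : ∀ x : ↥(S : Subgroup G), x ∈ C ↔ w * x = x * w := by
        intro x
        rw [hC, Subgroup.mem_centralizer_iff]
        constructor
        · intro h; exact h w rfl
        · intro h y hy
          rw [Set.mem_singleton_iff] at hy
          rw [hy]; exact h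
      have hZC : Subgroup.center ↥(S : Subgroup G) ≤ C := by
        intro x hx
        rw [hmemC]
        exact (Subgroup.mem_center_iff.mp hx w)
      have hwC : w ∈ C := by rw [hmemC]
      have hwZ : w ∉ Subgroup.center ↥(S : Subgroup G) := by
        intro hwz
        apply hgc
        rw [Subgroup.mem_centralizer_iff]
        intro s hs
        have h1 := Subgroup.mem_center_iff.mp hwz ⟨s, hs⟩
        have h2 := congrArg Subtype.val h1
        rw [← hwval]
        simpa using h2
      have hCtop : C ≠ ⊤ := by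
        intro hCt
        apply hwZ
        rw [Subgroup.mem_center_iff]
        intro s
        have hs : s ∈ C := hCt ▸ Subgroup.mem_top s
        exact ((hmemC s).mp hs).symm
      have hidx : C.index = 2 := by
        have h1 : (Subgroup.center ↥(S : Subgroup G)).relIndex C * C.index = 4 := by
          rw [Subgroup.relIndex_mul_index hZC, hcen]
        have h2 : C.index ≠ 1 := by rwa [Ne, Subgroup.index_eq_one]
        have h3 : (Subgroup.center ↥(S : Subgroup G)).relIndex C ≠ 1 := by
          rw [Ne, Subgroup.relIndex_eq_one]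
          intro hle
          exact hwZ (hle hwC)
        generalize C.index = b at h1 h2
        generalize (Subgroup.center ↥(S : Subgroup G)).relIndex C = a at h1 h3
        have hb4 : b ≤ 4 := Nat.le_of_dvd (by norm_num) (Dvd.intro_left a h1)
        interval_cases b <;> omega
      have hcard : Nat.card C * 2 = Nat.card ↥(S : Subgroup G) := by
        have h1 := C.card_mul_index
        rw [hidx] at h1
        exact h1
      have hmap : Nat.card ↥((S : Subgroup G) ⊓ Subgroup.centralizer ({z'} : Set G))
          = Nat.card C := by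
        apply Nat.card_congr
        refine ⟨fun x => ⟨⟨x.1, x.2.1⟩, ?_⟩, fun y => ⟨y.1.1, y.1.2, ?_⟩,
          fun x => rfl, fun y => rfl⟩
        · rw [hmemC]
          apply Subtype.ext
          have h1 := Subgroup.mem_centralizer_iff.mp x.2.2 z' rfl
          simpa [hwval] using h1
        · show ((y.1 : ↥(S : Subgroup G)) : G) ∈ Subgroup.centralizer ({z'} : Set G)
          rw [Subgroup.mem_centralizer_iff]
          intro y' hy'
          rw [Set.mem_singleton_iff] at hy'
          have h1 := congrArg Subtype.val ((hmemC y.1).mp y.2)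
          rw [hy']
          simpa [hwval] using h1
      rw [hmap]
      have : Nat.card ↥S = Nat.card ↥(S : Subgroup G) := rfl
      omega

end Cfsg.Agent.Lib.helper18.SNG
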