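import Mathlib
import Cfsg.Agent.Lib.helper69.SNDefs
import Cfsg.Agent.Lib.helper18.SNG_E1COREaux
import Cfsg.Agent.Lib.helper53.SNG_NILP
import Cfsg.Agent.Lib.helper53.SNG_TWOCENTER
import Cfsg.Agent.Lib.helper39.SNG_E1A
import Cfsg.Agent.Lib.helper6.SNG_E1B

/-!
# S4073 piece E1-CORE (helper18)

Assembly: Z*-theorem (landed S0215) + TWO-CENTER + NILP + E1-A + E1-B.
-/

set_option autoImplicit false

namespace Cfsg.Agent.Lib.helper18.SNG

open Cfsg.Agent.Lib.helper69.SNG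

universe u

/-- **[E1-CORE]** (assembly: `Cfsg.Agent.S0215.result` (Z*), TWO-CENTER, NILP, E1-A, E1-B) -/
theorem sn_sylow2_core {G : Type u} [Group G] [Finite G] [IsSimpleGroup G]
    (hna : ¬ IsMulCommutative G) (h : SN G) (S : Sylow 2 G) (hS : ¬ IsMulCommutative S)
    (hP2N : ∀ (K : Subgroup G), K ≠ ⊤ → ∀ T : Sylow 2 G, (T : Subgroup G) ≤ K →
      ∃ O : Subgroup G, O ≤ K ∧ K ≤ Subgroup.normalizer (O : Set G) ∧ Odd (Nat.card O) ∧
        O ⊔ (T : Subgroup G) = K) : False := by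
  have hp2 : Fact (Nat.Prime 2) := ⟨Nat.prime_two⟩
  have hSN : SN ↥(S : Subgroup G) := h.subgroup _
  have hnil : Group.IsNilpotent ↥(S : Subgroup G) := S.isPGroup'.isNilpotent
  have hsub : ∀ H : Subgroup ↥(S : Subgroup G), H ≠ ⊤ → IsMulCommutative H :=
    fun H hH => Cfsg.Agent.Lib.helper53.SNG.sn_nilpotent_sub_comm hSN hnil H hH
  have hcen : (Subgroup.center ↥(S : Subgroup G)).index = 4 :=
    Cfsg.Agent.Lib.helper53.SNG.two_group_center_index S.isPGroup' hS hsub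
  exact h18_core_aux hna S hS hcen
    (fun z hzS hzc g hgS hgc =>
      Cfsg.Agent.Lib.helper39.SNG.sn_sylow2_fusion_center h S hS z hzS hzc g hgS hgc)
    (fun z hzS hz1 hzc g hgS hM =>
      Cfsg.Agent.Lib.helper6.SNG.sn_sylow2_fusion_noncenter hna h S hS hP2N z hzS hz1 hzc g hgS hM)

end Cfsg.Agent.Lib.helper18.SNG
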