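import Cfsg.Agent.Lib.helper78.SR_N2a
import Mathlib

/-!
# S3350 split (architect helper70), piece N2b (racing copy by helper18): `h18_exists_normalized`

Normalization of the two coordinatizations.
-/

set_option autoImplicit false
open Equiv MulAction

namespace Cfsg.Agent.Lib.helper70.SR

/-- inline prefixed copy of P3. -/
theorem h18_swap_eq_of_comm_stab (m : ℕ) (hm : 5 ≤ m) (a b i j : Fin m) (_hab : a ≠ b) (hij : i ≠ j)
    (h : ∀ σ : Perm (Fin m), σ a = a → σ b = b → σ * swap i j = swap i j * σ) :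
    swap i j = swap a b := by
  have key : ∀ i j : Fin m, i ≠ j →
      (∀ σ : Perm (Fin m), σ a = a → σ b = b → σ * swap i j = swap i j * σ) → i = a ∨ i = b := by
    intro i j hij h
    by_contra hcon
    have hia : i ≠ a := fun hh => hcon (Or.inl hh)
    have hib : i ≠ b := fun hh => hcon (Or.inr hh)
    -- choose l outside {a, b, i, j}
    have hex : ∃ l : Fin m, l ≠ a ∧ l ≠ b ∧ l ≠ i ∧ l ≠ j := by
      by_contra hno
      have hsub : (Finset.univ : Finset (Fin m)) ⊆ {a, b, i, j} := by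
        intro l _
        by_contra hl
        simp only [Finset.mem_insert, Finset.mem_singleton, not_or] at hl
        exact hno ⟨l, hl.1, hl.2.1, hl.2.2.1, hl.2.2.2⟩
      have h1 := Finset.card_le_card hsub
      have h2 : ({a, b, i, j} : Finset (Fin m)).card ≤ 4 := Finset.card_le_four
      simp only [Finset.card_univ, Fintype.card_fin] at h1
      omega
    obtain ⟨l, hla, hlb, hli, hlj⟩ := hex
    have h1 := h (swap i l) (swap_apply_of_ne_of_ne (Ne.symm hia) (Ne.symm hla))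
      (swap_apply_of_ne_of_ne (Ne.symm hib) (Ne.symm hlb))
    have h2 := congrArg (fun p : Perm (Fin m) => p i) h1
    simp only [Perm.mul_apply, swap_apply_left] at h2
    rw [swap_apply_of_ne_of_ne (Ne.symm hij) (Ne.symm hlj),
      swap_apply_of_ne_of_ne hli hlj] at h2
    exact hlj h2.symm
  have hi := key i j hij h
  have hj := key j i (Ne.symm hij) (by rw [swap_comm j i]; exact h)
  rcases hi with hi | hi <;> rcases hj with hj | hj
  · exact absurd (hi.trans hj.symm) hij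
  · rw [hi, hj]
  · rw [hi, hj, swap_comm]
  · exact absurd (hi.trans hj.symm) hij

/-- a permutation moving `(p, q)` to `(a, b)`. -/
theorem h18_exists_perm_pair (m : ℕ) (p q a b : Fin m) (hpq : p ≠ q) (hab : a ≠ b) :
    ∃ g : Perm (Fin m), g p = a ∧ g q = b := by
  refine ⟨swap (swap p a q) b * swap p a, ?_, ?_⟩
  · rw [Perm.mul_apply, swap_apply_left]
    apply swap_apply_of_ne_of_ne
    · intro h
      have : swap p a p = swap p a q := by rw [swap_apply_left]; exact h
      exact hpq ((swap p a).injective this)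
    · exact hab
  · rw [Perm.mul_apply, swap_apply_left]

/-- conjugated coordinatization. -/
noncomputable def h18_conjIso (m : ℕ) {H : Type*} [Group H] (e : Perm (Fin m) ≃* H)
    (g : Perm (Fin m)) : Perm (Fin m) ≃* H :=
  (MulAut.conj g).trans e

theorem h18_conjIso_apply (m : ℕ) {H : Type*} [Group H] (e : Perm (Fin m) ≃* H)
    (g σ : Perm (Fin m)) : h18_conjIso m e g σ = e (g * σ * g⁻¹) := rfl

theorem h18_conj_swap (m : ℕ) (g : Perm (Fin m)) (i j : Fin m) :
    g * swap i j * g⁻¹ = swap (g i) (g j) := by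
  exact (Equiv.swap_apply_apply g i j).symm

/-- N2b (normalization of the coordinates). -/
theorem h18_exists_normalized (m : ℕ) (hm : 9 ≤ m) {G : Type*} [Group G] (x y : G) (K J : Subgroup G)
    (eK : Perm (Fin m) ≃* K) (eJ : Perm (Fin m) ≃* J)
    (hKx : K ≤ Subgroup.centralizer ({x} : Set G)) (hJy : J ≤ Subgroup.centralizer ({y} : Set G))
    (hyK : ∃ i j : Fin m, i ≠ j ∧ ((eK (swap i j) : K) : G) = y)
    (hxJ : ∃ i j : Fin m, i ≠ j ∧ ((eJ (swap i j) : J) : G) = x)
    (hIK : ∃ a b : Fin m, a ≠ b ∧ K ⊓ J =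
      (stabilizer (Perm (Fin m)) a ⊓ stabilizer (Perm (Fin m)) b).map
        (K.subtype.comp eK.toMonoidHom))
    (hIJ : ∃ a b : Fin m, a ≠ b ∧ K ⊓ J =
      (stabilizer (Perm (Fin m)) a ⊓ stabilizer (Perm (Fin m)) b).map
        (J.subtype.comp eJ.toMonoidHom))
    (hstab : ∀ (a b a' b' : Fin m), a ≠ b → a' ≠ b' →
      ∀ φ : ↥(stabilizer (Perm (Fin m)) a ⊓ stabilizer (Perm (Fin m)) b) ≃*
          ↥(stabilizer (Perm (Fin m)) a' ⊓ stabilizer (Perm (Fin m)) b'),
        ∃ g : Perm (Fin m), g a = a' ∧ g b = b' ∧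
          ∀ σ : ↥(stabilizer (Perm (Fin m)) a ⊓ stabilizer (Perm (Fin m)) b),
            ((φ σ : ↥(stabilizer (Perm (Fin m)) a' ⊓ stabilizer (Perm (Fin m)) b')) :
              Perm (Fin m)) = g * (σ : Perm (Fin m)) * g⁻¹) :
    ∃ (eK' : Perm (Fin m) ≃* K) (eJ' : Perm (Fin m) ≃* J) (a b : Fin m),
      a.val = 0 ∧ b.val = 1 ∧
      (∀ σ : Perm (Fin m), σ a = a → σ b = b → ((eK' σ : K) : G) = ((eJ' σ : J) : G)) ∧
      ((eJ' (swap a b) : J) : G) = x ∧ ((eK' (swap a b) : K) : G) = y := by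
  obtain ⟨a, b, hab, hIK'⟩ := hIK
  obtain ⟨a', b', hab', hIJ'⟩ := hIJ
  obtain ⟨φ, hφ⟩ := exists_stab_iso m K J eK eJ a b a' b' hIK' hIJ'
  obtain ⟨g, hga, hgb, hg⟩ := hstab a b a' b' hab hab' φ
  -- agreement of eK and eJ₁ := eJ ∘ conj g on the stabilizer of a, b
  have hagree : ∀ σ : Perm (Fin m), σ a = a → σ b = b →
      ((eK σ : K) : G) = ((h18_conjIso m eJ g σ : J) : G) := by
    intro σ hσa hσb
    have hmem : σ ∈ stabilizer (Perm (Fin m)) a ⊓ stabilizer (Perm (Fin m)) b :=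
      ⟨hσa, hσb⟩
    have h1 := hφ ⟨σ, hmem⟩
    have h2 := hg ⟨σ, hmem⟩
    rw [h18_conjIso_apply]
    rw [h2] at h1
    exact h1.symm
  -- y = eK (swap a b)
  obtain ⟨i, j, hij, hy⟩ := hyK
  have hy' : swap i j = swap a b := by
    apply h18_swap_eq_of_comm_stab m (by omega) a b i j hab hij
    intro σ hσa hσb
    apply eK.injective
    apply Subtype.ext
    rw [map_mul, map_mul]
    change ((eK σ : K) : G) * ((eK (swap i j) : K) : G) = ((eK (swap i j) : K) : G) * ((eK σ : K) : G)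
    rw [hy, hagree σ hσa hσb]
    have := hJy (h18_conjIso m eJ g σ).2
    rw [Subgroup.mem_centralizer_iff] at this
    exact (this y rfl).symm
  -- x = eJ₁ (swap a b)
  obtain ⟨i', j', hij', hx⟩ := hxJ
  have hx1 : ((h18_conjIso m eJ g (swap (g⁻¹ i') (g⁻¹ j')) : J) : G) = x := by
    rw [h18_conjIso_apply, h18_conj_swap]
    simp only [Perm.coe_inv, Equiv.apply_symm_apply]
    exact hx
  have hx' : swap (g⁻¹ i') (g⁻¹ j') = swap a b := by
    apply h18_swap_eq_of_comm_stab m (by omega) a b _ _ hab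
      (fun h => hij' (g⁻¹.injective h))
    intro σ hσa hσb
    apply (h18_conjIso m eJ g).injective
    apply Subtype.ext
    rw [map_mul, map_mul]
    change ((h18_conjIso m eJ g σ : J) : G) * ((h18_conjIso m eJ g (swap (g⁻¹ i') (g⁻¹ j')) : J) : G)
      = ((h18_conjIso m eJ g (swap (g⁻¹ i') (g⁻¹ j')) : J) : G) * ((h18_conjIso m eJ g σ : J) : G)
    rw [hx1, ← hagree σ hσa hσb]
    have := hKx (eK σ).2
    rw [Subgroup.mem_centralizer_iff] at this
    exact (this x rfl).symm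
  rw [hx'] at hx1
  rw [hy'] at hy
  -- move (a, b) to (0, 1)
  obtain ⟨g', hg'0, hg'1⟩ := h18_exists_perm_pair m ⟨0, by omega⟩ ⟨1, by omega⟩ a b
    (by intro h; simp [Fin.ext_iff] at h) hab
  refine ⟨h18_conjIso m eK g', h18_conjIso m (h18_conjIso m eJ g) g', ⟨0, by omega⟩, ⟨1, by omega⟩,
    rfl, rfl, ?_, ?_, ?_⟩
  · intro σ hσ0 hσ1
    rw [h18_conjIso_apply, h18_conjIso_apply m (h18_conjIso m eJ g)]
    apply hagree
    · have h0 : g'⁻¹ a = ⟨0, by omega⟩ := by rw [← hg'0]; exact g'.symm_apply_apply _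
      rw [Perm.mul_apply, Perm.mul_apply, h0, hσ0, hg'0]
    · have h1 : g'⁻¹ b = ⟨1, by omega⟩ := by rw [← hg'1]; exact g'.symm_apply_apply _
      rw [Perm.mul_apply, Perm.mul_apply, h1, hσ1, hg'1]
  · rw [h18_conjIso_apply m (h18_conjIso m eJ g), h18_conj_swap, hg'0, hg'1]
    exact hx1
  · rw [h18_conjIso_apply, h18_conj_swap, hg'0, hg'1]
    exact hy

end Cfsg.Agent.Lib.helper70.SR
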