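import Mathlib
import Cfsg.Prelude.Def_Classical
import Cfsg.Prelude.Def_GeometricClasses
import Cfsg.Agent.Lib.helper49.WittIso
import Cfsg.Agent.Lib.helper53.SfoBINREP

/-!
# S5977A piece ROTJ (racing copy, helper18)

For an isometry `x` with `x * x = -1` and a nonsingular `e`: the product of the reflections in `e`
and in `s e + t x e` (`s² + t²` a nonsquare) commutes with `x`, has determinant `1` and spinor sign `-1`.
-/

set_option autoImplicit false

namespace Cfsg.Agent.Lib.helper59.Sfk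

open Matrix Cfsg.Geo
open Cfsg.Agent.Lib.helper49 (detHom spinorSign)

theorem h18_sfk_rot_neg {F : Type*} [Field F] [Fintype F] {ι : Type} [Fintype ι] [DecidableEq ι]
    (h2 : (2 : F) ≠ 0) (Q : QuadraticForm F (ι → F))
    (hQ : (QuadraticMap.polarBilin Q).Nondegenerate)
    (x : GL ι F) (hx : x ∈ Cfsg.isometryGroup F (⇑Q))
    (hxx : (x : Matrix ι ι F) * (x : Matrix ι ι F) = -1) (e : ι → F) (he : Q e ≠ 0) :
    ∃ r : ↥(Cfsg.isometryGroup F (⇑Q)),
      ((r : GL ι F) : Matrix ι ι F) * (x : Matrix ι ι F) =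
        (x : Matrix ι ι F) * ((r : GL ι F) : Matrix ι ι F) ∧
      detHom (⇑Q) r = 1 ∧ spinorSign (⇑Q) r = -1 := by
  classical
  have hchar : ringChar F ≠ 2 := by
    intro h
    apply h2
    have := CharP.cast_eq_zero F (ringChar F)
    rw [h] at this
    exact_mod_cast this
  obtain ⟨ν, hν⟩ := FiniteField.exists_nonsquare hchar
  have hν0 : ν ≠ 0 := by
    rintro rfl
    exact hν IsSquare.zero
  obtain ⟨X, hX⟩ : ∃ X : Matrix ι ι F, X = (x : Matrix ι ι F) := ⟨_, rfl⟩
  rw [← hX] at hxx ⊢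
  obtain ⟨f, hf⟩ : ∃ f : ι → F, f = X *ᵥ e := ⟨_, rfl⟩
  have hQf : Q f = Q e := by
    rw [hf, hX]
    exact (Cfsg.Agent.Lib.helper49.mem_isometryGroup_iff (⇑Q) x).1 hx e
  have hpol : ∀ u v : ι → F,
      QuadraticMap.polar (⇑Q) (X *ᵥ u) (X *ᵥ v) = QuadraticMap.polar (⇑Q) u v := by
    intro u v
    rw [hX]
    exact Cfsg.Agent.Lib.helper49.isometry_polar Q ⟨x, hx⟩ u v
  have hXX : ∀ u : ι → F, X *ᵥ (X *ᵥ u) = -u := by
    intro u
    rw [Matrix.mulVec_mulVec, hxx, Matrix.neg_mulVec, Matrix.one_mulVec]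
  have hskew : ∀ y z : ι → F,
      QuadraticMap.polar (⇑Q) (X *ᵥ y) z = -QuadraticMap.polar (⇑Q) y (X *ᵥ z) := by
    intro y z
    have h := hpol y (X *ᵥ z)
    rw [hXX, QuadraticMap.polar_neg_right] at h
    rw [← h, neg_neg]
  have hef : QuadraticMap.polar (⇑Q) e f = 0 := by
    have h := hskew e e
    rw [QuadraticMap.polar_comm, ← hf] at h
    have h' : (2 : F) * QuadraticMap.polar (⇑Q) e f = 0 := by linear_combination h
    exact (mul_eq_zero.1 h').resolve_left h2
  have hQf0 : Q f ≠ 0 := by rw [hQf]; exact he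
  obtain ⟨s, t, hst⟩ := Cfsg.Agent.Lib.helper24.sfo_bin_rep h2 (Q e) (Q f) (ν * Q e) he hQf0
  have hst' : s ^ 2 + t ^ 2 = ν := by
    rw [hQf] at hst
    have h3 : Q e * (s ^ 2 + t ^ 2) = Q e * ν := by linear_combination hst
    exact mul_left_cancel₀ he h3
  subst hst'
  have hQv : Q (s • e + t • f) = (s ^ 2 + t ^ 2) * Q e := by
    rw [QuadraticMap.map_add Q (s • e) (t • f), QuadraticMap.map_smul, QuadraticMap.map_smul,
      QuadraticMap.polar_smul_left, QuadraticMap.polar_smul_right, hef, hQf]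
    simp only [smul_eq_mul, mul_zero, add_zero]
    ring
  have hQv0 : Q (s • e + t • f) ≠ 0 := by
    rw [hQv]
    exact mul_ne_zero hν0 he
  -- the explicit form of the rotation
  have hcomp : ∀ y : ι → F,
      Cfsg.reflectionMatrix (⇑Q) e *ᵥ (Cfsg.reflectionMatrix (⇑Q) (s • e + t • f) *ᵥ y) =
        y + (t * (s * QuadraticMap.polar (⇑Q) f y - t * QuadraticMap.polar (⇑Q) e y) /
              ((s ^ 2 + t ^ 2) * Q e)) • e
          + (-(t * (s * QuadraticMap.polar (⇑Q) e y + t * QuadraticMap.polar (⇑Q) f y)) /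
              ((s ^ 2 + t ^ 2) * Q e)) • f := by
    intro y
    rw [Cfsg.Agent.Lib.helper49.refl_mulVec, Cfsg.Agent.Lib.helper49.refl_mulVec, hQv]
    simp only [QuadraticMap.polar_sub_right, QuadraticMap.polar_smul_right,
      QuadraticMap.polar_add_right, QuadraticMap.polar_add_left, QuadraticMap.polar_smul_left,
      QuadraticMap.polar_self, hef, smul_eq_mul]
    match_scalars <;> field_simp <;> ring
  have hPe : ∀ y : ι → F,
      QuadraticMap.polar (⇑Q) e (X *ᵥ y) = -QuadraticMap.polar (⇑Q) f y := by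
    intro y
    rw [QuadraticMap.polar_comm, hskew, ← hf, QuadraticMap.polar_comm]
  have hPf : ∀ y : ι → F,
      QuadraticMap.polar (⇑Q) f (X *ᵥ y) = QuadraticMap.polar (⇑Q) e y := by
    intro y
    rw [hf, hpol]
  have hXf : X *ᵥ f = -e := by rw [hf, hXX]
  refine ⟨Cfsg.Agent.Lib.helper49.reflG Q e he *
    Cfsg.Agent.Lib.helper49.reflG Q (s • e + t • f) hQv0, ?_, ?_, ?_⟩
  · rw [Subgroup.coe_mul, Units.val_mul, Cfsg.Agent.Lib.helper49.reflG_val,
      Cfsg.Agent.Lib.helper49.reflG_val]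
    apply Matrix.toLin'.injective
    apply LinearMap.ext
    intro y
    rw [Matrix.toLin'_apply, Matrix.toLin'_apply, ← Matrix.mulVec_mulVec, ← Matrix.mulVec_mulVec,
      ← Matrix.mulVec_mulVec, ← Matrix.mulVec_mulVec, hcomp, hcomp, hPe, hPf,
      Matrix.mulVec_add, Matrix.mulVec_add, Matrix.mulVec_smul, Matrix.mulVec_smul, ← hf, hXf]
    match_scalars <;> field_simp <;> ring
  · rw [map_mul, Cfsg.Agent.Lib.helper49.detHom_reflG, Cfsg.Agent.Lib.helper49.detHom_reflG]
    simp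
  · rw [map_mul]
    have hsu := Cfsg.Agent.Lib.helper49.spinorSign_refl h2 Q e he
    have hsv := Cfsg.Agent.Lib.helper49.spinorSign_refl h2 Q (s • e + t • f) hQv0
    have hiff := Cfsg.Agent.Lib.helper49.isSquare_mul_iff h2 hν0 he
    by_cases hsq : IsSquare (Q e)
    · have hnv : ¬ IsSquare (Q (s • e + t • f)) := by
        rw [hQv]
        intro h
        exact hν ((hiff.1 h).2 hsq)
      rw [hsu.1 hsq, hsv.2 hnv]
      simp
    · have hv' : IsSquare (Q (s • e + t • f)) := by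
        rw [hQv]
        exact hiff.2 ⟨fun h => absurd h hν, fun h => absurd h hsq⟩
      rw [hsu.2 hsq, hsv.1 hv']
      simp

end Cfsg.Agent.Lib.helper59.Sfk
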