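import Mathlib
import Cfsg.Agent.Lib.helper18.SylKill

/-!
The fixed-point rule for the Sylow sieve: an element `z` of prime order `s` centralizing a Sylow
`r`-subgroup of prime order fixes `f` Sylow `r`-subgroups, where `f ≡ 1 mod r`,
`f ≡ n_r mod s` (and mod `4` when `s = 2`) and `f < n_r`.
-/

set_option autoImplicit false

namespace Cfsg.Agent.Lib.helper18

open MulAction
open Cfsg.Agent.Lib.helper75

/-- the congruences on the number `f` of fixed points -/
def FixOK (r n s f : ℕ) : Prop := f % r = 1 ∧ f % s = n % s ∧ (s = 2 → f % 4 = n % 4)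

instance (r n s f : ℕ) : Decidable (FixOK r n s f) := by
  unfold FixOK; infer_instance

/-- the fixed-point constraints at the primes of `L` -/
def SylFix (L : List ℕ) (n c : ℕ → ℕ) : Prop :=
  ∀ r ∈ L, ∀ s, s.Prime → s ≠ r → s ∣ c r → ∃ f, f < n r ∧ FixOK r (n r) s f

/-- violation of the fixed-point rule -/
def sBadFix (t : List SEntry) : Prop :=
  ∃ x ∈ t, ∃ s ∈ List.range (x.2.2.2 + 1), s ∣ x.2.2.2 ∧ s ≠ x.1 ∧ sPrimeB s = true ∧
    ∀ f ∈ List.range x.2.1, ¬ FixOK x.1 x.2.1 s f

instance (t : List SEntry) : Decidable (sBadFix t) := by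
  unfold sBadFix; infer_instance

/-- the true tuple is not bad -/
theorem not_sBad_map (N : ℕ) (L : List ℕ) (hL : L.Nodup) (n e c : ℕ → ℕ)
    (hs : SylSpec N L n e c) : ¬ sBad N (L.map (fun r => ((r, n r, e r, c r) : SEntry))) := by
  intro hb
  rcases hb with hb | hb | hb
  · obtain ⟨x, hx, y, hy, hne, hdvd, hpos, hd, hnd⟩ := hb
    rw [List.mem_map] at hx hy
    obtain ⟨r, hr, rfl⟩ := hx
    obtain ⟨s, hs', rfl⟩ := hy
    apply hnd
    apply hs.normal r hr s hs' hne hdvd
    intro d hd1 hd2
    apply hd d _ hd1 hd2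
    rw [List.mem_range]
    have := Nat.le_of_dvd hpos hd1
    omega
  · obtain ⟨I, hI, hpair, hlt⟩ := hb
    rw [List.mem_sublists, List.sublist_map_iff] at hI
    obtain ⟨I0, hI0, rfl⟩ := hI
    have hc := hs.count I0 (hL.sublist hI0) (fun r hr => hI0.subset hr) (by
      intro r hr s hs' hne
      exact hpair _ (List.mem_map_of_mem hr) _ (List.mem_map_of_mem hs') hne)
    rw [List.map_map] at hlt
    have heq : ((fun x : SEntry => x.2.1 * ((x.1 - 1) * (x.2.2.2 / x.1))) ∘
        fun r => ((r, n r, e r, c r) : SEntry)) = fun r => n r * ((r - 1) * (c r / r)) := rfl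
    rw [heq] at hlt
    omega
  · obtain ⟨x, hx, h1, h2, h3⟩ := hb
    rw [List.mem_map] at hx
    obtain ⟨r, hr, rfl⟩ := hx
    exact hs.sign r hr h1 h2 h3

/-- soundness of the sieve with the fixed-point rule -/
theorem sieve_sound_fix (N : ℕ) (hN : 0 < N) (L : List ℕ) (hL : L.Nodup) (hL2 : ∀ r ∈ L, 2 ≤ r)
    (h : ∀ t ∈ sCands N L, sBad N t ∨ sBadFix t) (n e c : ℕ → ℕ) (hs : SylSpec N L n e c)
    (hf : SylFix L n c) : False := by
  have hmem := mem_sCands N hN n e c L hL hL2 hs.basic hs.symm
  rcases h _ hmem with hb | hb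
  · exact not_sBad_map N L hL n e c hs hb
  · obtain ⟨x, hx, s, hs1, hs2, hs3, hs4, hs5⟩ := hb
    rw [List.mem_map] at hx
    obtain ⟨r, hr, rfl⟩ := hx
    obtain ⟨f, hf1, hf2⟩ := hf r hr s (sPrimeB_sound hs4) hs3 hs2
    exact hs5 f (List.mem_range.mpr hf1) hf2

variable {S : Type*} [Group S] [Finite S]

/-- the Sylow data of a simple group satisfy the fixed-point constraints -/
theorem sylFix_of_simple [IsSimpleGroup S] (N : ℕ) (hN : Nat.card S = N) (L : List ℕ)
    (hL : ∀ r ∈ L, r.Prime ∧ r ∣ N ∧ ¬ r ^ 2 ∣ N ∧ r ≠ N) :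
    SylFix L (sylN S) (sylC S) := by
  subst hN
  intro r hr s hs hsr hdvd
  obtain ⟨hrp, h1, h2, h3⟩ := hL r hr
  haveI := Fact.mk hrp
  haveI := Fact.mk hs
  obtain ⟨hn1, -, -, -, -, -⟩ := syl_basic (S := S) r h1 h2 h3
  set R : Sylow r S := Classical.arbitrary (Sylow r S) with hR
  have hn : Nat.card (Sylow r S) ≠ 1 := hn1
  obtain ⟨z, hz⟩ := exists_prime_orderOf_dvd_card'
    (G := Subgroup.centralizer ((R : Subgroup S) : Set S)) s hdvd
  have hzo : orderOf (z : S) = s := by rw [Subgroup.orderOf_coe]; exact hz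
  have hz1 : (z : S) ≠ 1 := by
    intro h
    rw [h, orderOf_one] at hzo
    exact hs.one_lt.ne hzo
  have hlt := sylow_fixed_lt (p := r) hn (z : S) hz1
  have hmod := card_fixed_centralizer_modEq R (z : S) z.2
  refine ⟨Nat.card {ω : Sylow r S // (z : S) • ω = ω}, hlt, ?_, ?_, ?_⟩
  · unfold Nat.ModEq at hmod
    rw [hmod]
    exact Nat.mod_eq_of_lt hrp.one_lt
  · -- the cyclic group generated by `z` is an `s`-group
    have hpg : IsPGroup s (Subgroup.zpowers (z : S)) :=
      IsPGroup.of_card (n := 1) (by rw [Nat.card_zpowers, hzo, pow_one])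
    have hfp := hpg.card_modEq_card_fixedPoints (Sylow r S)
    have hset : (fixedPoints (Subgroup.zpowers (z : S)) (Sylow r S)) =
        {ω : Sylow r S | (z : S) • ω = ω} := by
      ext ω
      constructor
      · intro h
        exact h ⟨(z : S), Subgroup.mem_zpowers _⟩
      · intro h g
        have hle : Subgroup.zpowers (z : S) ≤ stabilizer S ω :=
          (Subgroup.zpowers_le).mpr h
        exact hle g.2
    have hcard : Nat.card (fixedPoints (Subgroup.zpowers (z : S)) (Sylow r S)) =
        Nat.card {ω : Sylow r S // (z : S) • ω = ω} := by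
      rw [hset]; rfl
    rw [hcard] at hfp
    unfold sylN
    exact hfp.symm
  · intro hs2
    rw [hs2] at hzo
    have h4 : 2 < Nat.card S := by
      obtain ⟨k, hk⟩ := h1
      have hr2 := hrp.two_le
      have hk0 : k ≠ 0 := by
        rintro rfl
        rw [mul_zero] at hk
        exact Nat.card_pos.ne' hk
      have hk1 : k ≠ 1 := by
        rintro rfl
        rw [mul_one] at hk
        exact h3 hk.symm
      have : r * 2 ≤ r * k := Nat.mul_le_mul_left r (by omega)
      omega
    exact involution_fixed_modEq_four (p := r) hn h4 (z : S) hzo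

/-- the boolean test with the fixed-point rule -/
def h18KillF (N : ℕ) : Bool :=
  decide (0 < N) && decide (∀ t ∈ sCands N (sExact N), sBad N t ∨ sBadFix t)

/-- no finite simple group has an order passing the test -/
theorem card_ne_of_h18KillF {G : Type*} [Group G] [Finite G] [IsSimpleGroup G] (N : ℕ)
    (h : h18KillF N = true) : Nat.card G ≠ N := by
  intro hG
  unfold h18KillF at h
  rw [Bool.and_eq_true, decide_eq_true_eq, decide_eq_true_eq] at h
  obtain ⟨hN, hc⟩ := h
  have hspec := sExact_spec N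
  exact sieve_sound_fix N hN (sExact N) (sExact_nodup N) (fun r hr => (hspec r hr).1.two_le) hc
    _ _ _ (sylSpec_of_simple N hG (sExact N) hspec) (sylFix_of_simple N hG (sExact N) hspec)

set_option maxRecDepth 100000 in
theorem h18KillF_list : ∀ N ∈ [3780, 4368, 5220, 5700, 6160], h18KillF N = true := by
  decide +kernel

variable {G : Type*} [Group G] [Finite G] [IsSimpleGroup G]

theorem no_simple_3780 : Nat.card G ≠ 3780 :=
  card_ne_of_h18KillF 3780 (h18KillF_list 3780 (by simp))

theorem no_simple_4368 : Nat.card G ≠ 4368 :=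
  card_ne_of_h18KillF 4368 (h18KillF_list 4368 (by simp))

theorem no_simple_5220 : Nat.card G ≠ 5220 :=
  card_ne_of_h18KillF 5220 (h18KillF_list 5220 (by simp))

theorem no_simple_5700 : Nat.card G ≠ 5700 :=
  card_ne_of_h18KillF 5700 (h18KillF_list 5700 (by simp))

theorem no_simple_6160 : Nat.card G ≠ 6160 :=
  card_ne_of_h18KillF 6160 (h18KillF_list 6160 (by simp))

end Cfsg.Agent.Lib.helper18
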