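import Mathlib
import Cfsg.Agent.S0985
import Cfsg.Agent.Lib.helper67.Ord756
import Cfsg.Agent.Lib.helper21.SylowTest

/-!
The Sylow intersection rule for finite simple groups: when the number of Sylow `p`-subgroups is
not `1` modulo `p ^ 2`, two of them meet in a subgroup of index `p`, whose normalizer is a proper
subgroup with several Sylow `p`-subgroups.  A boolean test built on it.
-/

set_option autoImplicit false

namespace Cfsg.Agent.Lib.helper18

open Subgroup

/-- two distinct subgroups of order `p ^ k` meeting in index at most `p`: the intersection has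
index `p` and is normalized by both -/
theorem inter_normalizer {G : Type*} [Group G] [Finite G] {p : ℕ} [hp : Fact p.Prime] (k : ℕ)
    (P R : Subgroup G) (hP : Nat.card P = p ^ k) (hR : Nat.card R = p ^ k) (hne : P ≠ R)
    (hidx : (R.subgroupOf P).index ≤ p) :
    Nat.card (P ⊓ R : Subgroup G) * p = p ^ k ∧ P ≤ normalizer ((P ⊓ R : Subgroup G) : Set G) ∧
      R ≤ normalizer ((P ⊓ R : Subgroup G) : Set G) := by
  have hpp := hp.out
  have hc1 : Nat.card ((P ⊓ R : Subgroup G).subgroupOf P) = Nat.card (P ⊓ R : Subgroup G) :=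
    Nat.card_congr (Subgroup.subgroupOfEquivOfLe inf_le_left).toEquiv
  have hc2 : Nat.card ((P ⊓ R : Subgroup G).subgroupOf R) = Nat.card (P ⊓ R : Subgroup G) :=
    Nat.card_congr (Subgroup.subgroupOfEquivOfLe inf_le_right).toEquiv
  have he1 : (P ⊓ R : Subgroup G).subgroupOf P = R.subgroupOf P := inf_subgroupOf_left R P
  have h1 := ((P ⊓ R : Subgroup G).subgroupOf P).card_mul_index
  rw [hc1, hP, he1] at h1
  -- the index is a power of `p`, at most `p`, and not `1`
  have hi : (R.subgroupOf P).index = p := by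
    have hdvd : (R.subgroupOf P).index ∣ p ^ k := ⟨_, by rw [← h1, mul_comm]⟩
    obtain ⟨j, hj, hij⟩ := (Nat.dvd_prime_pow hpp).mp hdvd
    rcases Nat.lt_or_ge j 2 with hj2 | hj2
    · interval_cases j
      · exfalso
        rw [pow_zero] at hij
        rw [hij, mul_one] at h1
        have hD : (P ⊓ R : Subgroup G) = P :=
          Subgroup.eq_of_le_of_card_ge inf_le_left (by rw [h1, hP])
        have hPR : P ≤ R := by rw [← hD]; exact inf_le_right
        exact hne (Subgroup.eq_of_le_of_card_ge hPR (by rw [hP, hR]))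
      · rw [hij, pow_one]
    · exfalso
      have : p ^ 2 ≤ p ^ j := Nat.pow_le_pow_right hpp.pos hj2
      rw [hij] at hidx
      have h3 : p * 2 ≤ p * p := Nat.mul_le_mul_left p hpp.two_le
      have h4 : p ^ 2 = p * p := pow_two p
      have := hpp.pos
      omega
  rw [hi] at h1
  have hk0 : k ≠ 0 := by
    rintro rfl
    rw [pow_zero] at h1
    have := hpp.two_le
    have h5 : p ∣ 1 := ⟨_, h1.symm.trans (mul_comm _ _)⟩
    have := Nat.le_of_dvd one_pos h5
    omega
  have hmin : (p ^ k).minFac = p := by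
    rw [Nat.pow_minFac hk0, hpp.minFac_eq]
  refine ⟨h1, ?_, ?_⟩
  · rw [← normal_subgroupOf_iff_le_normalizer inf_le_left]
    apply normal_of_index_eq_minFac_card
    rw [hP, hmin, he1, hi]
  · rw [← normal_subgroupOf_iff_le_normalizer inf_le_right]
    apply normal_of_index_eq_minFac_card
    rw [hR, hmin]
    have h2 := ((P ⊓ R : Subgroup G).subgroupOf R).card_mul_index
    rw [hc2, hR, ← h1] at h2
    have hpos : 0 < Nat.card (P ⊓ R : Subgroup G) := Nat.card_pos
    exact Nat.eq_of_mul_eq_mul_left hpos h2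

/-- **Sylow intersection rule** for a finite simple group of order `p ^ k * m`, `p ∤ m`, `2 ≤ k`,
`m ≠ 1`. -/
theorem sylow_inter_rule {G : Type*} [Group G] [Finite G] [IsSimpleGroup G] (p k m : ℕ)
    (hp : p.Prime) (hk : 2 ≤ k) (hcard : Nat.card G = p ^ k * m) (hpm : ¬ p ∣ m) (hm : m ≠ 1) :
    ∃ n : ℕ, n ∣ m ∧ n % p = 1 ∧ n ≠ 1 ∧ 2 * (p ^ k * m) ∣ n.factorial ∧
      (∃ H : Subgroup G, H.index = n) ∧
      (n % (p ^ 2) ≠ 1 → ∃ t d : ℕ, t ∣ m ∧ t ≠ m ∧ 2 * (p ^ k * m) ∣ (m / t).factorial ∧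
        (∃ H : Subgroup G, H.index = m / t) ∧ d ∣ t ∧ d % p = 1 ∧ d ≠ 1) := by
  have := Fact.mk hp
  obtain ⟨P0⟩ : Nonempty (Sylow p G) := inferInstance
  have hk1 : 1 ≤ k := by omega
  have hbasic := fun P : Sylow p G =>
    Cfsg.Agent.Lib.helper21.simple_sylow_basic k m hk1 hcard hpm hm P
  obtain ⟨hPcard, hidx, hPbot, hPtop, hnc⟩ := hbasic P0
  have hpk : 0 < p ^ k := pow_pos hp.pos k
  have hm0 : 0 < m := Nat.pos_of_ne_zero (by rintro rfl; exact hpm (dvd_zero p))
  refine ⟨Nat.card (Sylow p G), ?_, ?_,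
    Cfsg.Agent.Lib.helper21.card_sylow_ne_one_of_simple P0 hPbot hPtop, ?_, ?_, ?_⟩
  · rw [← hidx]; exact Sylow.card_dvd_index P0
  · have h1 : Nat.card (Sylow p G) ≡ 1 [MOD p] := card_sylow_modEq_one p G
    unfold Nat.ModEq at h1
    rw [h1]
    exact Nat.mod_eq_of_lt hp.one_lt
  · rw [← hcard]
    exact Cfsg.Agent.Lib.helper21.two_mul_card_dvd_factorial_card_sylow_of_simple hnc P0 hPbot
      hPtop
  · exact ⟨normalizer ((P0 : Subgroup G) : Set G), (Sylow.card_eq_index_normalizer P0).symm⟩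
  · intro hn
    have hp2 : 1 < p ^ 2 := Nat.one_lt_pow (by norm_num) hp.one_lt
    have hmod : ¬ Nat.card (Sylow p G) ≡ 1 [MOD p ^ 2] := by
      intro h
      unfold Nat.ModEq at h
      rw [Nat.mod_eq_of_lt hp2] at h
      exact hn h
    obtain ⟨P, R, hPR, hle⟩ := Cfsg.Agent.S0985.result p 2 hmod
    have hle' : ((R : Subgroup G).subgroupOf (P : Subgroup G)).index ≤ p := by simpa using hle
    obtain ⟨hPc, -, -, hPt, -⟩ := hbasic P
    obtain ⟨hRc, -, -, -, -⟩ := hbasic R
    have hPR' : (P : Subgroup G) ≠ (R : Subgroup G) := fun h => hPR (Sylow.ext h)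
    obtain ⟨hD, hPN, hRN⟩ := inter_normalizer k (P : Subgroup G) (R : Subgroup G) hPc hRc hPR' hle'
    set D : Subgroup G := (P : Subgroup G) ⊓ (R : Subgroup G) with hDdef
    set M : Subgroup G := normalizer (D : Set G) with hMdef
    -- `D` is neither trivial nor the whole group
    have hDbot : D ≠ ⊥ := by
      intro h
      rw [h, Subgroup.card_bot, one_mul] at hD
      have h2 : p ^ 2 ≤ p ^ k := Nat.pow_le_pow_right hp.pos hk
      have h3 : p ^ 2 = p * p := pow_two p
      have h4 : p * 2 ≤ p * p := Nat.mul_le_mul_left p hp.two_le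
      have := hp.pos
      omega
    have hDtop : D ≠ ⊤ := by
      intro h
      apply hPt
      rw [eq_top_iff, ← h]
      exact inf_le_left
    have hMtop : M ≠ ⊤ := by
      intro h
      have hDn : D.Normal := normalizer_eq_top_iff.mp h
      rcases hDn.eq_bot_or_eq_top with h3 | h3
      · exact hDbot h3
      · exact hDtop h3
    have hMdvd : Nat.card M ∣ p ^ k * m := by
      rw [← hcard]; exact Subgroup.card_subgroup_dvd_card M
    have hMk : ¬ p ^ (k + 1) ∣ Nat.card M := by
      intro h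
      have h2 : p ^ (k + 1) ∣ p ^ k * m := h.trans hMdvd
      rw [pow_succ] at h2
      exact hpm ((Nat.mul_dvd_mul_iff_left hpk).mp h2)
    obtain ⟨d, hd1, hd2, hd3⟩ :=
      Cfsg.Agent.Lib.helper67.Ord756.two_sylow_card M (P : Subgroup G) (R : Subgroup G) k hPN hRN
        hPR' hPc hRc hMk
    have hPM : p ^ k ∣ Nat.card M := by
      rw [← hPc]; exact Subgroup.card_dvd_of_le hPN
    obtain ⟨t, ht⟩ := hPM
    have htm : t ∣ m := by
      rw [ht] at hMdvd
      exact (Nat.mul_dvd_mul_iff_left hpk).mp hMdvd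
    have ht0 : 0 < t := Nat.pos_of_ne_zero (by
      rintro rfl
      rw [mul_zero] at ht
      exact Nat.card_pos.ne' ht)
    have hMidx : M.index = m / t := by
      have h1 := M.card_mul_index
      rw [ht, hcard] at h1
      obtain ⟨c, rfl⟩ := htm
      rw [Nat.mul_div_cancel_left c ht0]
      have h2 : p ^ k * t * M.index = p ^ k * t * c := by rw [h1]; ring
      exact Nat.eq_of_mul_eq_mul_left (Nat.mul_pos hpk ht0) h2
    refine ⟨t, d, htm, ?_, ?_, ⟨M, hMidx⟩, ?_, hd1, hd2⟩
    · rintro rfl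
      apply hMtop
      apply Subgroup.eq_top_of_card_eq
      rw [ht, hcard]
    · rw [← hcard, ← hMidx]
      exact Cfsg.Agent.Lib.helper21.two_mul_card_dvd_factorial_index_of_simple hnc M hMtop
    · rw [ht, mul_comm] at hd3
      exact (Nat.mul_dvd_mul_iff_left hpk).mp hd3

end Cfsg.Agent.Lib.helper18
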