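import Mathlib
import Cfsg.Agent.Lib.helper18.SylInter
import Cfsg.Agent.Lib.helper18.SylKill
import Cfsg.Agent.Lib.helper73.PrimeIdx

/-!
The Sylow intersection test, strengthened by Burnside's theorem on groups of prime degree:
a subgroup of prime index `i` in a non-abelian simple group forces `i * (i - 1) ∣ |G|`.
-/

set_option autoImplicit false

namespace Cfsg.Agent.Lib.helper18

/-- `i` is an admissible index of a proper subgroup of a simple group of order `N` -/
def IdxOK (N i : ℕ) : Prop := 2 * N ∣ i.factorial ∧ (sPrimeB i = true → i * (i - 1) ∣ N)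

instance (N i : ℕ) : Decidable (IdxOK N i) := by
  unfold IdxOK; infer_instance

/-- `n` is an admissible number of Sylow `p`-subgroups for the order `p ^ k * m` -/
def InterOKB (p k m n : ℕ) : Prop :=
  n ∣ m ∧ n % p = 1 ∧ n ≠ 1 ∧ IdxOK (p ^ k * m) n ∧
    (n % (p ^ 2) ≠ 1 → ∃ t ∈ List.range (m + 1), t ∣ m ∧ t ≠ m ∧ IdxOK (p ^ k * m) (m / t) ∧
      ∃ d ∈ List.range (t + 1), d ∣ t ∧ d % p = 1 ∧ d ≠ 1)

instance (p k m n : ℕ) : Decidable (InterOKB p k m n) := by
  unfold InterOKB; infer_instance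

/-- no admissible number of Sylow `p`-subgroups -/
def InterKillAtB (p k m : ℕ) : Prop := ∀ n ∈ List.range (m + 1), ¬ InterOKB p k m n

instance (p k m : ℕ) : Decidable (InterKillAtB p k m) := by
  unfold InterKillAtB; infer_instance

theorem card_ne_of_interKillAtB {G : Type*} [Group G] [Finite G] [IsSimpleGroup G] (p k m : ℕ)
    (hp : p.Prime) (hk : 2 ≤ k) (hpm : ¬ p ∣ m) (hm : m ≠ 1) (h : InterKillAtB p k m) :
    Nat.card G ≠ p ^ k * m := by
  intro hcard
  have := Fact.mk hp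
  have hm0 : 0 < m := Nat.pos_of_ne_zero (by rintro rfl; exact hpm (dvd_zero p))
  obtain ⟨P0⟩ : Nonempty (Sylow p G) := inferInstance
  obtain ⟨-, -, -, -, hnc⟩ :=
    Cfsg.Agent.Lib.helper21.simple_sylow_basic k m (by omega) hcard hpm hm P0
  have hG : ¬ IsMulCommutative G := fun hc => hnc (fun a b => hc.is_comm.comm a b)
  have hidx : ∀ i : ℕ, (∃ H : Subgroup G, H.index = i) → 2 * (p ^ k * m) ∣ i.factorial →
      IdxOK (p ^ k * m) i := by
    rintro i ⟨H, rfl⟩ h2
    refine ⟨h2, fun hpr => ?_⟩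
    rw [← hcard]
    exact Cfsg.Agent.Lib.helper73.PrimeIdx.prime_index_dvd hG H (sPrimeB_sound hpr)
  obtain ⟨n, hn1, hn2, hn3, hn4, hnH, hn5⟩ := sylow_inter_rule p k m hp hk hcard hpm hm
  have hnm : n ≤ m := Nat.le_of_dvd hm0 hn1
  apply h n (List.mem_range.mpr (by omega))
  refine ⟨hn1, hn2, hn3, hidx n hnH hn4, ?_⟩
  intro hn6
  obtain ⟨t, d, ht1, ht2, ht3, htH, hd1, hd2, hd3⟩ := hn5 hn6
  have htm : t ≤ m := Nat.le_of_dvd hm0 ht1
  have ht0 : 0 < t := Nat.pos_of_ne_zero (by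
    rintro rfl
    rw [zero_dvd_iff] at ht1
    omega)
  have hdt : d ≤ t := Nat.le_of_dvd ht0 hd1
  exact ⟨t, List.mem_range.mpr (by omega), ht1, ht2, hidx _ htH ht3, d,
    List.mem_range.mpr (by omega), hd1, hd2, hd3⟩

variable {G : Type*} [Group G] [Finite G] [IsSimpleGroup G]

set_option maxRecDepth 100000 in
theorem no_simple_5104 : Nat.card G ≠ 5104 :=
  card_ne_of_interKillAtB 2 4 319 (by norm_num) (by norm_num) (by norm_num) (by norm_num)
    (by decide +kernel)

end Cfsg.Agent.Lib.helper18
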