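import Mathlib
import Cfsg.Agent.Lib.helper18.SylInter

/-!
A decidable test built on the Sylow intersection rule, and the orders it excludes.
-/

set_option autoImplicit false

namespace Cfsg.Agent.Lib.helper18

/-- `n` is an admissible number of Sylow `p`-subgroups for the order `p ^ k * m` -/
def InterOK (p k m n : ℕ) : Prop :=
  n ∣ m ∧ n % p = 1 ∧ n ≠ 1 ∧ 2 * (p ^ k * m) ∣ n.factorial ∧
    (n % (p ^ 2) ≠ 1 → ∃ t ∈ List.range (m + 1), t ∣ m ∧ t ≠ m ∧
      2 * (p ^ k * m) ∣ (m / t).factorial ∧ ∃ d ∈ List.range (t + 1), d ∣ t ∧ d % p = 1 ∧ d ≠ 1)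

instance (p k m n : ℕ) : Decidable (InterOK p k m n) := by
  unfold InterOK; infer_instance

/-- no admissible number of Sylow `p`-subgroups -/
def InterKillAt (p k m : ℕ) : Prop := ∀ n ∈ List.range (m + 1), ¬ InterOK p k m n

instance (p k m : ℕ) : Decidable (InterKillAt p k m) := by
  unfold InterKillAt; infer_instance

theorem card_ne_of_interKillAt {G : Type*} [Group G] [Finite G] [IsSimpleGroup G] (p k m : ℕ)
    (hp : p.Prime) (hk : 2 ≤ k) (hpm : ¬ p ∣ m) (hm : m ≠ 1) (h : InterKillAt p k m) :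
    Nat.card G ≠ p ^ k * m := by
  intro hcard
  have hm0 : 0 < m := Nat.pos_of_ne_zero (by rintro rfl; exact hpm (dvd_zero p))
  obtain ⟨n, hn1, hn2, hn3, hn4, -, hn5⟩ := sylow_inter_rule p k m hp hk hcard hpm hm
  have hnm : n ≤ m := Nat.le_of_dvd hm0 hn1
  apply h n (List.mem_range.mpr (by omega))
  refine ⟨hn1, hn2, hn3, hn4, ?_⟩
  intro hn6
  obtain ⟨t, d, ht1, ht2, ht3, -, hd1, hd2, hd3⟩ := hn5 hn6
  have htm : t ≤ m := Nat.le_of_dvd hm0 ht1
  have ht0 : 0 < t := Nat.pos_of_ne_zero (by
    rintro rfl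
    rw [zero_dvd_iff] at ht1
    omega)
  have hdt : d ≤ t := Nat.le_of_dvd ht0 hd1
  exact ⟨t, List.mem_range.mpr (by omega), ht1, ht2, ht3, d, List.mem_range.mpr (by omega), hd1,
    hd2, hd3⟩

variable {G : Type*} [Group G] [Finite G] [IsSimpleGroup G]

set_option maxRecDepth 100000 in
theorem no_simple_4500 : Nat.card G ≠ 4500 :=
  card_ne_of_interKillAt 5 3 36 (by norm_num) (by norm_num) (by norm_num) (by norm_num)
    (by decide +kernel)

set_option maxRecDepth 100000 in
theorem no_simple_4725 : Nat.card G ≠ 4725 :=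
  card_ne_of_interKillAt 5 2 189 (by norm_num) (by norm_num) (by norm_num) (by norm_num)
    (by decide +kernel)

set_option maxRecDepth 100000 in
theorem no_simple_4900 : Nat.card G ≠ 4900 :=
  card_ne_of_interKillAt 5 2 196 (by norm_num) (by norm_num) (by norm_num) (by norm_num)
    (by decide +kernel)

set_option maxRecDepth 100000 in
theorem no_simple_5292 : Nat.card G ≠ 5292 :=
  card_ne_of_interKillAt 7 2 108 (by norm_num) (by norm_num) (by norm_num) (by norm_num)
    (by decide +kernel)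

set_option maxRecDepth 100000 in
theorem no_simple_6000 : Nat.card G ≠ 6000 :=
  card_ne_of_interKillAt 5 3 48 (by norm_num) (by norm_num) (by norm_num) (by norm_num)
    (by decide +kernel)

end Cfsg.Agent.Lib.helper18
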