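import Cfsg.Agent.Lib.helper18.TB_MKCore
import Cfsg.Agent.Lib.helper17.TB_MK2

/-!
# Piece MK of sub-project SP-B of S4441 / S0960 (Mackey), exact statement of the skeleton
-/

set_option autoImplicit false

namespace Cfsg.Agent.Lib.helper18

/-- Marker of the module (all declarations of piece MK live in `helper74.TB` by protocol). -/
theorem tb_mk_marker : True := trivial

end Cfsg.Agent.Lib.helper18

namespace Cfsg.Agent.Lib.helper74.TB

open Cfsg.Agent.Lib.helper84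

section setting

variable {G : Type*} [Group G] [Fintype G] (p : ℕ) [Fact p.Prime] (P : Sylow p G)
  (hP : Nat.card P = p) {L : Type*} [AddCommGroup L] (ρ : Representation ℤ G L)

include hP

/-- PIECE MK (Mackey). -/
theorem tb_mackey :
    ∃ R : Finset G, (∀ n ∈ R, n ∈ Subgroup.normalizer ((P : Subgroup G) : Set G)) ∧
      ¬ p ∣ R.card ∧
      ∀ F : L →ₗ[ℤ] L,
        (∀ c ∈ Subgroup.centralizer ((P : Subgroup G) : Set G), F ∘ₗ ρ c = ρ c ∘ₗ F) →
        ∃ δ : L →ₗ[ℤ] L, (∀ g : G, δ ∘ₗ ρ g = ρ g ∘ₗ δ) ∧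
          (∀ v ∈ d1FixC ρ (P : Subgroup G),
            δ v - ∑ n ∈ R, ρ n (F (ρ n⁻¹ v)) ∈ tbSA p ρ (P : Subgroup G)) ∧
          (∀ v ∈ tbB p ρ (P : Subgroup G),
            δ v - ∑ n ∈ R, ρ n (F (ρ n⁻¹ v)) ∈ d1Aug p ρ (P : Subgroup G)) :=
  Cfsg.Agent.Lib.helper18.tb_mackey_of p P hP ρ
    (fun _ H hH Fix hFix => tb_equivariant_family p P hP ρ H hH Fix hFix)

end setting

end Cfsg.Agent.Lib.helper74.TB
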