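import Mathlib
import Cfsg.Prelude.Def_ClassicalGeometry

set_option autoImplicit false

namespace Cfsg.Agent.Lib.helper18

open Matrix

section General

variable {F : Type*} [Field F] {m : Type*} [Fintype m]

/-- For a rank one matrix `u wᵀ` of square zero, `w ⬝ u = 0`. -/
lemma dotProduct_eq_zero_of_vecMulVec_sq (u w : m → F) (h0 : vecMulVec u w ≠ 0)
    (hsq : vecMulVec u w * vecMulVec u w = 0) : w ⬝ᵥ u = 0 := by
  rw [vecMulVec_mul_vecMulVec] at hsq
  have h2 : (w ⬝ᵥ u) • vecMulVec u w = 0 := by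
    rw [← hsq]
    ext i j
    simp only [Matrix.smul_apply, vecMulVec_apply, Pi.smul_apply, smul_eq_mul]
    ring
  rcases smul_eq_zero.mp h2 with h | h
  · exact h
  · exact absurd h h0

variable [DecidableEq m]

/-- Matrix determinant lemma for a rank one update of the identity. -/
lemma det_one_add_vecMulVec (u v : m → F) : (1 + vecMulVec u v).det = 1 + v ⬝ᵥ u := by
  rw [vecMulVec_eq Unit, det_one_add_replicateCol_mul_replicateRow]

/-- A matrix of rank one is a column times a row. -/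
lemma exists_vecMulVec_of_rank_eq_one (N : Matrix m m F) (h : N.rank = 1) :
    ∃ u w : m → F, N = vecMulVec u w := by
  have h1 : Module.finrank F (LinearMap.range N.mulVecLin) = 1 := h
  obtain ⟨⟨u, hu⟩, _, hspan⟩ := finrank_eq_one_iff'.mp h1
  have : ∀ j : m, ∃ c : F, c • u = N *ᵥ Pi.single j 1 := by
    intro j
    obtain ⟨c, hc⟩ := hspan ⟨N *ᵥ Pi.single j 1, ⟨Pi.single j 1, rfl⟩⟩
    exact ⟨c, congrArg Subtype.val hc⟩
  choose c hc using this
  refine ⟨u, c, ?_⟩
  ext i j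
  have := congrFun (hc j) i
  rw [Matrix.mulVec_single_one] at this
  simp only [Pi.smul_apply, smul_eq_mul, col_apply] at this
  rw [vecMulVec_apply, ← this, mul_comm]

end General

section SL

variable {F : Type*} [Field F]

/-- If the first entry of a row vector is nonzero, some element of `SL` maps it to a multiple
of the first basis row. -/
lemma exists_sl_vecMul_of_ne (n : ℕ) (c : Fin (n + 1) → F) (hc : c 0 ≠ 0) :
    ∃ (g : SpecialLinearGroup (Fin (n + 1)) F) (l : F),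
      c ᵥ* (g : Matrix (Fin (n + 1)) (Fin (n + 1)) F) = l • Pi.single 0 1 := by
  let z : Fin (n + 1) → F := fun j => if j = 0 then 0 else -(c j) / c 0
  have hdet : (1 + vecMulVec (Pi.single (0 : Fin (n + 1)) (1 : F)) z).det = 1 := by
    rw [det_one_add_vecMulVec, dotProduct_single_one]
    simp [z]
  refine ⟨⟨_, hdet⟩, c 0, ?_⟩
  show c ᵥ* (1 + vecMulVec (Pi.single (0 : Fin (n + 1)) (1 : F)) z) = c 0 • Pi.single 0 1
  rw [vecMul_add, vecMul_one, vecMul_vecMulVec, dotProduct_single_one]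
  ext j
  by_cases hj : j = 0
  · subst hj; simp [z]
  · simp only [Pi.add_apply, Pi.smul_apply, smul_eq_mul, z, if_neg hj, Pi.single_eq_of_ne hj,
      mul_zero]
    field_simp
    ring

/-- Some element of `SL` maps a given row vector to a multiple of the first basis row. -/
lemma exists_sl_vecMul (n : ℕ) (c : Fin (n + 1) → F) (hc : c ≠ 0) :
    ∃ (g : SpecialLinearGroup (Fin (n + 1)) F) (l : F),
      c ᵥ* (g : Matrix (Fin (n + 1)) (Fin (n + 1)) F) = l • Pi.single 0 1 := by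
  by_cases h0 : c 0 = 0
  · obtain ⟨k, hk⟩ : ∃ k, c k ≠ 0 := by
      by_contra hcon
      push Not at hcon
      exact hc (funext hcon)
    have hk0 : k ≠ 0 := by rintro rfl; exact hk h0
    have hdet : (1 + vecMulVec (Pi.single k (1 : F)) (Pi.single (0 : Fin (n + 1)) (1 : F))).det
        = 1 := by
      rw [det_one_add_vecMulVec, dotProduct_single_one]
      simp [Pi.single_eq_of_ne hk0]
    let g₁ : SpecialLinearGroup (Fin (n + 1)) F := ⟨_, hdet⟩
    have hc' : (c ᵥ* (g₁ : Matrix (Fin (n + 1)) (Fin (n + 1)) F)) 0 ≠ 0 := by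
      show (c ᵥ* (1 + vecMulVec (Pi.single k (1 : F)) (Pi.single (0 : Fin (n + 1)) (1 : F)))) 0 ≠ 0
      rw [vecMul_add, vecMul_one, vecMul_vecMulVec, dotProduct_single_one]
      simpa [h0] using hk
    obtain ⟨g₂, l, hg₂⟩ := exists_sl_vecMul_of_ne n _ hc'
    refine ⟨g₁ * g₂, l, ?_⟩
    have : ((g₁ * g₂ : SpecialLinearGroup (Fin (n + 1)) F) : Matrix (Fin (n + 1)) (Fin (n + 1)) F)
        = (g₁ : Matrix (Fin (n + 1)) (Fin (n + 1)) F) * (g₂ : Matrix (Fin (n + 1)) (Fin (n + 1)) F) :=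
      Matrix.SpecialLinearGroup.coe_mul g₁ g₂
    rw [this, ← vecMul_vecMul, hg₂]
  · exact exists_sl_vecMul_of_ne n c h0

/-- Every transvection in `SL_(n+1)(F)` is conjugate in `SL_(n+1)(F)` to `1 + v e₀ᵀ` with `v₀ = 0`.
Moreover `v ≠ 0`. -/
theorem transvection_conj (n : ℕ) (t : SpecialLinearGroup (Fin (n + 1)) F)
    (ht : Cfsg.IsTransvection (t : Matrix (Fin (n + 1)) (Fin (n + 1)) F)) :
    ∃ (g : SpecialLinearGroup (Fin (n + 1)) F) (v : Fin (n + 1) → F), v 0 = 0 ∧ v ≠ 0 ∧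
      ((g⁻¹ * t * g : SpecialLinearGroup (Fin (n + 1)) F) : Matrix (Fin (n + 1)) (Fin (n + 1)) F)
        = 1 + vecMulVec v (Pi.single 0 1) := by
  obtain ⟨hrank, hsq⟩ := ht
  obtain ⟨u, c, hN⟩ := exists_vecMulVec_of_rank_eq_one _ hrank
  have hN0 : vecMulVec u c ≠ 0 := by
    intro h
    rw [hN, h, Matrix.rank_zero] at hrank
    exact zero_ne_one hrank
  have hc0 : c ≠ 0 := by
    rintro rfl
    apply hN0
    ext i j
    simp [vecMulVec_apply]
  rw [hN] at hsq
  have hcu : c ⬝ᵥ u = 0 := dotProduct_eq_zero_of_vecMulVec_sq u c hN0 hsq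
  obtain ⟨g, l, hg⟩ := exists_sl_vecMul n c hc0
  have hinv : ((g⁻¹ : SpecialLinearGroup (Fin (n + 1)) F) : Matrix (Fin (n + 1)) (Fin (n + 1)) F)
      * (g : Matrix (Fin (n + 1)) (Fin (n + 1)) F) = 1 := by
    have := Matrix.SpecialLinearGroup.coe_mul g⁻¹ g
    rw [inv_mul_cancel] at this
    exact this.symm.trans Matrix.SpecialLinearGroup.coe_one
  have hinv' : (g : Matrix (Fin (n + 1)) (Fin (n + 1)) F)
      * ((g⁻¹ : SpecialLinearGroup (Fin (n + 1)) F) : Matrix (Fin (n + 1)) (Fin (n + 1)) F) = 1 := by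
    have := Matrix.SpecialLinearGroup.coe_mul g g⁻¹
    rw [mul_inv_cancel] at this
    exact this.symm.trans Matrix.SpecialLinearGroup.coe_one
  have ht' : (t : Matrix (Fin (n + 1)) (Fin (n + 1)) F) = 1 + vecMulVec u c := by
    rw [← hN]; abel
  set w : Fin (n + 1) → F :=
    ((g⁻¹ : SpecialLinearGroup (Fin (n + 1)) F) : Matrix (Fin (n + 1)) (Fin (n + 1)) F) *ᵥ u with hw
  have hmat : ((g⁻¹ * t * g : SpecialLinearGroup (Fin (n + 1)) F) :
      Matrix (Fin (n + 1)) (Fin (n + 1)) F) = 1 + vecMulVec (l • w) (Pi.single 0 1) := by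
    have e1 : ((g⁻¹ * t * g : SpecialLinearGroup (Fin (n + 1)) F) :
        Matrix (Fin (n + 1)) (Fin (n + 1)) F) =
        ((g⁻¹ : SpecialLinearGroup (Fin (n + 1)) F) : Matrix (Fin (n + 1)) (Fin (n + 1)) F)
          * (t : Matrix (Fin (n + 1)) (Fin (n + 1)) F) * (g : Matrix (Fin (n + 1)) (Fin (n + 1)) F) := by
      rw [Matrix.SpecialLinearGroup.coe_mul (g⁻¹ * t) g, Matrix.SpecialLinearGroup.coe_mul g⁻¹ t]
    rw [e1, ht', mul_add, mul_one, add_mul,
      hinv, mul_vecMulVec, vecMulVec_mul, hg]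
    congr 1
    ext i j
    simp only [vecMulVec_apply, Pi.smul_apply, smul_eq_mul]
    ring
  refine ⟨g, l • w, ?_, ?_, hmat⟩
  · have h1 : (l • (Pi.single 0 1 : Fin (n + 1) → F)) ᵥ*
        ((g⁻¹ : SpecialLinearGroup (Fin (n + 1)) F) : Matrix (Fin (n + 1)) (Fin (n + 1)) F) = c := by
      rw [← hg, vecMul_vecMul, hinv', vecMul_one]
    have h2 : (l • (Pi.single 0 1 : Fin (n + 1) → F)) ⬝ᵥ w = c ⬝ᵥ u := by
      rw [hw, dotProduct_mulVec, h1]
    rw [smul_dotProduct, single_one_dotProduct, hcu] at h2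
    simpa using h2
  · intro hv
    have hne : ((g⁻¹ * t * g : SpecialLinearGroup (Fin (n + 1)) F) :
      Matrix (Fin (n + 1)) (Fin (n + 1)) F) = 1 := by
      rw [hmat, hv]
      ext i j
      simp
    have h3 : g⁻¹ * t * g = 1 := by
      apply Subtype.ext
      exact hne.trans Matrix.SpecialLinearGroup.coe_one.symm
    have h4 : t = 1 := by
      have : t = g * (g⁻¹ * t * g) * g⁻¹ := by group
      rw [this, h3]; group
    apply hN0
    rw [← hN, h4]
    have : ((1 : SpecialLinearGroup (Fin (n + 1)) F) : Matrix (Fin (n + 1)) (Fin (n + 1)) F) = 1 :=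
      Matrix.SpecialLinearGroup.coe_one
    rw [this, sub_self]

end SL

end Cfsg.Agent.Lib.helper18
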