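import Mathlib
import Cfsg.Agent.Lib.helper16.U34CDefs

/-!
# S1903 split (architect helper16), piece B2 (racing copy by helper18): `helper18_card_le_of_gens`

A group generated by `u0..u3, a, b, x` subject to `Gens` has order at most `320 = 4 * 16 * 5`.
-/

set_option autoImplicit false

namespace Cfsg.Agent.Lib.helper16.U34C

open Cfsg

/-- a group generated by `n` pairwise commuting elements of order at most two. -/
theorem helper18_card_dvd_two_pow {G : Type*} [Group G] (n : ℕ) (f : Fin n → G)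
    (hgen : Subgroup.closure (Set.range f) = ⊤)
    (hcomm : ∀ i j, f i * f j = f j * f i) (hsq : ∀ i, f i ^ 2 = 1) :
    Nat.card G ∣ 2 ^ n := by
  classical
  have hcen : Subgroup.closure (Set.range f) ≤ Subgroup.center G := by
    rw [Subgroup.closure_le]
    rintro _ ⟨i, rfl⟩
    rw [SetLike.mem_coe, Subgroup.mem_center_iff]
    intro g
    have hle : Subgroup.closure (Set.range f) ≤ Subgroup.centralizer {f i} := by
      rw [Subgroup.closure_le]
      rintro _ ⟨j, rfl⟩
      rw [SetLike.mem_coe, Subgroup.mem_centralizer_iff]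
      intro z hz
      rw [Set.mem_singleton_iff] at hz
      rw [hz]; exact hcomm i j
    have hg : g ∈ Subgroup.centralizer {f i} := hle (by rw [hgen]; trivial)
    rw [Subgroup.mem_centralizer_iff] at hg
    exact (hg (f i) rfl).symm
  have hall : ∀ g h : G, g * h = h * g := by
    intro g h
    have hg : g ∈ Subgroup.center G := hcen (by rw [hgen]; trivial)
    exact ((Subgroup.mem_center_iff.mp hg) h).symm
  let _ : CommGroup G := { (inferInstance : Group G) with mul_comm := hall }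
  have hS : Subgroup.closure ((Finset.univ.image f : Finset G) : Set G) = ⊤ := by
    rw [Finset.coe_image, Finset.coe_univ, Set.image_univ]; exact hgen
  have _ : Group.FG G := ⟨⟨Finset.univ.image f, hS⟩⟩
  have hexp : ∀ g : G, g ^ 2 = 1 := by
    intro g
    have hg : g ∈ Subgroup.closure (Set.range f) := by rw [hgen]; trivial
    refine Subgroup.closure_induction (p := fun g _ => g ^ 2 = 1) ?_ ?_ ?_ ?_ hg
    · rintro _ ⟨j, rfl⟩; exact hsq j
    · exact one_pow 2
    · intro x y _ _ hx hy; rw [mul_pow, hx, hy, one_mul]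
    · intro x _ hx; rw [inv_pow, hx, inv_one]
  have h1 := card_dvd_exponent_pow_rank' G hexp
  have h2 : Group.rank G ≤ n := by
    have h3 := Group.rank_le (G := G) hS
    refine h3.trans (Finset.card_image_le.trans ?_)
    simp
  exact h1.trans (pow_dvd_pow 2 h2)

/-- closure version. -/
theorem helper18_card_closure_dvd_two_pow {G : Type*} [Group G] (n : ℕ) (f : Fin n → G)
    (hcomm : ∀ i j, f i * f j = f j * f i) (hsq : ∀ i, f i ^ 2 = 1) :
    Nat.card (Subgroup.closure (Set.range f)) ∣ 2 ^ n := by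
  apply helper18_card_dvd_two_pow n
    (fun i => (⟨f i, Subgroup.subset_closure ⟨i, rfl⟩⟩ : Subgroup.closure (Set.range f)))
  · have h := Subgroup.closure_closure_coe_preimage (k := Set.range f)
    convert h using 2
    ext ⟨z, hz⟩
    constructor
    · rintro ⟨i, hi⟩
      exact ⟨i, congrArg Subtype.val hi⟩
    · rintro ⟨i, hi⟩
      exact ⟨i, Subtype.ext hi⟩
  · intro i j; exact Subtype.ext (hcomm i j)
  · intro i; exact Subtype.ext (hsq i)

/-- PIECE B2 -/
theorem helper18_card_le_of_gens {H : Type*} [Group H] (u0 u1 u2 u3 a b x : H)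
    (h : Gens u0 u1 u2 u3 a b x)
    (hgen : Subgroup.closure {u0, u1, u2, u3, a, b, x} = ⊤) :
    Finite H ∧ Nat.card H ≤ 320 := by
  classical
  -- the central subgroup A = ⟨a, b⟩
  have hAcard : Nat.card (Subgroup.closure (Set.range ![a, b])) ∣ 2 ^ 2 := by
    apply helper18_card_closure_dvd_two_pow 2 ![a, b]
    · intro i j
      fin_cases i <;> fin_cases j <;> simp [(h.ac b).eq]
    · intro i
      fin_cases i <;> simp [h.a2, h.b2]
  generalize hA : Subgroup.closure (Set.range ![a, b]) = A at hAcard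
  have haA : a ∈ A := by rw [← hA]; exact Subgroup.subset_closure ⟨0, rfl⟩
  have hbA : b ∈ A := by rw [← hA]; exact Subgroup.subset_closure ⟨1, rfl⟩
  have hAcen : A ≤ Subgroup.center H := by
    rw [← hA, Subgroup.closure_le]
    rintro _ ⟨i, rfl⟩
    rw [SetLike.mem_coe, Subgroup.mem_center_iff]
    intro g
    fin_cases i
    · exact ((h.ac g).eq).symm
    · exact ((h.bc g).eq).symm
  have hAn : A.Normal := ⟨fun z hz g => by
    rw [(Subgroup.mem_center_iff.mp (hAcen hz)) g, mul_inv_cancel_right]; exact hz⟩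
  let π : H →* H ⧸ A := QuotientGroup.mk' A
  have hπa : π a = 1 := (QuotientGroup.eq_one_iff a).mpr haA
  have hπb : π b = 1 := (QuotientGroup.eq_one_iff b).mpr hbA
  have hv0 : π u0 ^ 2 = 1 := by rw [← map_pow, h.sq0, map_mul, hπa, hπb, one_mul]
  have hv1 : π u1 ^ 2 = 1 := by rw [← map_pow, h.sq1, map_mul, hπa, hπb, one_mul]
  have hv2 : π u2 ^ 2 = 1 := by rw [← map_pow, h.sq2, map_mul, hπa, hπb, one_mul]
  have hv3 : π u3 ^ 2 = 1 := by rw [← map_pow, h.sq3, map_mul, hπa, hπb, one_mul]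
  have c01 : π u1 * π u0 = π u0 * π u1 := by
    rw [← map_mul, h.c01, map_mul, map_mul, hπa, mul_one]
  have c02 : π u2 * π u0 = π u0 * π u2 := by
    rw [← map_mul, h.c02, map_mul, map_mul, hπb, mul_one]
  have c03 : π u3 * π u0 = π u0 * π u3 := by
    rw [← map_mul, h.c03, map_mul, map_mul, hπb, mul_one]
  have c12 : π u2 * π u1 = π u1 * π u2 := by
    rw [← map_mul, h.c12, map_mul, map_mul, hπa, mul_one]
  have c13 : π u3 * π u1 = π u1 * π u3 := by
    rw [← map_mul, h.c13, map_mul, map_mul, hπb, mul_one]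
  have c23 : π u3 * π u2 = π u2 * π u3 := by
    rw [← map_mul, h.c23, map_mul, map_mul, hπa, mul_one]
  have hMcard : Nat.card (Subgroup.closure (Set.range ![π u0, π u1, π u2, π u3])) ∣ 2 ^ 4 := by
    apply helper18_card_closure_dvd_two_pow 4 ![π u0, π u1, π u2, π u3]
    · intro i j
      fin_cases i <;> fin_cases j <;> simp [c01, c02, c03, c12, c13, c23]
    · intro i
      fin_cases i <;> simp [hv0, hv1, hv2, hv3]
  generalize hM : Subgroup.closure (Set.range ![π u0, π u1, π u2, π u3]) = M at hMcard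
  have hv0M : π u0 ∈ M := by rw [← hM]; exact Subgroup.subset_closure ⟨0, rfl⟩
  have hv1M : π u1 ∈ M := by rw [← hM]; exact Subgroup.subset_closure ⟨1, rfl⟩
  have hv2M : π u2 ∈ M := by rw [← hM]; exact Subgroup.subset_closure ⟨2, rfl⟩
  have hv3M : π u3 ∈ M := by rw [← hM]; exact Subgroup.subset_closure ⟨3, rfl⟩
  have hy5 : π x ^ 5 = 1 := by rw [← map_pow, h.x5, map_one]
  have hx0 : π x * π u0 * (π x)⁻¹ = π u1 := by rw [← map_inv, ← map_mul, ← map_mul, h.x0]
  have hx1 : π x * π u1 * (π x)⁻¹ = π u2 := by rw [← map_inv, ← map_mul, ← map_mul, h.x1]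
  have hx2 : π x * π u2 * (π x)⁻¹ = π u3 := by rw [← map_inv, ← map_mul, ← map_mul, h.x2]
  have hx3 : π x * π u3 * (π x)⁻¹ = (π u0 * π u1 * π u2 * π u3)⁻¹ := by
    rw [← map_inv, ← map_mul, ← map_mul, h.x3, map_inv, map_mul, map_mul, map_mul]
  have hconjM : ∀ m ∈ M, π x * m * (π x)⁻¹ ∈ M := by
    intro m hm
    rw [← hM] at hm
    refine Subgroup.closure_induction (p := fun m _ => π x * m * (π x)⁻¹ ∈ M) ?_ ?_ ?_ ?_ hm
    · rintro _ ⟨i, rfl⟩
      fin_cases i
      · show π x * π u0 * (π x)⁻¹ ∈ M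
        rw [hx0]; exact hv1M
      · show π x * π u1 * (π x)⁻¹ ∈ M
        rw [hx1]; exact hv2M
      · show π x * π u2 * (π x)⁻¹ ∈ M
        rw [hx2]; exact hv3M
      · show π x * π u3 * (π x)⁻¹ ∈ M
        rw [hx3]
        exact M.inv_mem (M.mul_mem (M.mul_mem (M.mul_mem hv0M hv1M) hv2M) hv3M)
    · rw [mul_one, mul_inv_cancel]; exact M.one_mem
    · intro m m' _ _ h1 h2
      have e : π x * (m * m') * (π x)⁻¹ = (π x * m * (π x)⁻¹) * (π x * m' * (π x)⁻¹) := by group
      rw [e]; exact M.mul_mem h1 h2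
    · intro m _ h1
      have e : π x * m⁻¹ * (π x)⁻¹ = (π x * m * (π x)⁻¹)⁻¹ := by group
      rw [e]; exact M.inv_mem h1
  have hconjMk : ∀ k : ℕ, ∀ m ∈ M, (π x) ^ k * m * ((π x) ^ k)⁻¹ ∈ M := by
    intro k
    induction k with
    | zero => intro m hm; simpa using hm
    | succ k ih =>
      intro m hm
      have e : (π x) ^ (k + 1) * m * ((π x) ^ (k + 1))⁻¹ =
          π x * ((π x) ^ k * m * ((π x) ^ k)⁻¹) * (π x)⁻¹ := by
        rw [pow_succ']; group
      rw [e]; exact hconjM _ (ih m hm)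
  have hdecomp : ∀ g : H, ∃ m ∈ M, ∃ i : ℕ, π g = m * (π x) ^ i := by
    intro g
    have hg : g ∈ Subgroup.closure ({u0, u1, u2, u3, a, b, x} : Set H) := by rw [hgen]; trivial
    refine Subgroup.closure_induction (p := fun g _ => ∃ m ∈ M, ∃ i : ℕ, π g = m * (π x) ^ i)
      ?_ ?_ ?_ ?_ hg
    · intro g hg
      simp only [Set.mem_insert_iff, Set.mem_singleton_iff] at hg
      rcases hg with hg | hg | hg | hg | hg | hg | hg <;> rw [hg]
      · exact ⟨π u0, hv0M, 0, by rw [pow_zero, mul_one]⟩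
      · exact ⟨π u1, hv1M, 0, by rw [pow_zero, mul_one]⟩
      · exact ⟨π u2, hv2M, 0, by rw [pow_zero, mul_one]⟩
      · exact ⟨π u3, hv3M, 0, by rw [pow_zero, mul_one]⟩
      · exact ⟨1, M.one_mem, 0, by rw [hπa, pow_zero, mul_one]⟩
      · exact ⟨1, M.one_mem, 0, by rw [hπb, pow_zero, mul_one]⟩
      · exact ⟨1, M.one_mem, 1, by rw [pow_one, one_mul]⟩
    · exact ⟨1, M.one_mem, 0, by rw [map_one, pow_zero, mul_one]⟩
    · rintro g g' _ _ ⟨m, hm, i, hgi⟩ ⟨m', hm', j, hgj⟩
      refine ⟨m * ((π x) ^ i * m' * ((π x) ^ i)⁻¹), M.mul_mem hm (hconjMk i m' hm'), i + j, ?_⟩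
      rw [map_mul, hgi, hgj, pow_add]; group
    · rintro g _ ⟨m, hm, i, hgi⟩
      have h4 : ((π x) ^ i)⁻¹ = (π x) ^ (4 * i) := by
        apply inv_eq_of_mul_eq_one_right
        rw [← pow_add]
        have e5 : i + 4 * i = 5 * i := by ring
        rw [e5, pow_mul, hy5, one_pow]
      refine ⟨(π x) ^ (4 * i) * m⁻¹ * ((π x) ^ (4 * i))⁻¹,
        hconjMk (4 * i) m⁻¹ (M.inv_mem hm), 4 * i, ?_⟩
      rw [map_inv, hgi, mul_inv_rev, h4]; group
  have hMfin : Finite M := Nat.finite_of_card_ne_zero (fun h0 => by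
    rw [h0] at hMcard; simp at hMcard)
  have hMle : Nat.card M ≤ 16 := Nat.le_of_dvd (by norm_num) hMcard
  have hsurj : Function.Surjective (fun p : M × Fin 5 => (p.1 : H ⧸ A) * (π x) ^ (p.2 : ℕ)) := by
    intro q
    obtain ⟨g, rfl⟩ := QuotientGroup.mk'_surjective A q
    obtain ⟨m, hm, i, hgi⟩ := hdecomp g
    refine ⟨(⟨m, hm⟩, ⟨i % 5, Nat.mod_lt _ (by norm_num)⟩), ?_⟩
    show m * (π x) ^ (i % 5) = π g
    rw [hgi, ← pow_eq_pow_mod i hy5]
  have hQfin : Finite (H ⧸ A) := Finite.of_surjective _ hsurj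
  have hQle : Nat.card (H ⧸ A) ≤ 80 := by
    have h1 := Nat.card_le_card_of_surjective _ hsurj
    rw [Nat.card_prod, Nat.card_fin] at h1
    omega
  have hAfin : Finite A := Nat.finite_of_card_ne_zero (fun h0 => by
    rw [h0] at hAcard; simp at hAcard)
  have hAle : Nat.card A ≤ 4 := Nat.le_of_dvd (by norm_num) hAcard
  have hcard : Nat.card H = Nat.card (H ⧸ A) * Nat.card A :=
    Subgroup.card_eq_card_quotient_mul_card_subgroup A
  have hpos : Nat.card H ≠ 0 := by
    rw [hcard]; exact Nat.mul_ne_zero Nat.card_pos.ne' Nat.card_pos.ne'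
  refine ⟨Nat.finite_of_card_ne_zero hpos, ?_⟩
  rw [hcard]
  calc Nat.card (H ⧸ A) * Nat.card A ≤ 80 * 4 := Nat.mul_le_mul hQle hAle
    _ = 320 := by norm_num

end Cfsg.Agent.Lib.helper16.U34C
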